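import Cfsg.Agent.AschCrit.ThreeGeo

/-!
# Aschbacher's criterion, commutative case, unital type: `W` transitive on the points `≠ a`

`W = C_{G_a}(V)` transitive on `Ω \ {a}`.  Then `G_a` induces on `V` a group of odd order (its Sylow 2-subgroups
are cyclic, and `G_a` has no quotient of order 2), so a Sylow 2-subgroup `S` of `G_a` centralises `V`, and
`ThreeCore.Core` applies: `G` has a subgroup of index 2.
-/

set_option autoImplicit false

universe u

namespace Cfsg.Agent.AschCrit.ThreeFull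

open Subgroup ThreeGeo

section

variable {G Ω : Type*} [Group G] [MulAction G Ω] [Finite G] {a b : Ω} {V H : Subgroup G} {q : ℕ}

/-- every element induced by `G_a` on `V` is induced by an element of `G_{ab}` -/
theorem exists_ab (hG : Geo a V q) (hb : b ≠ a) (htr : ∀ c : Ω, c ≠ a → ∃ w ∈ hG.W, w • b = c)
    (g : MulAction.stabilizer G a) :
    ∃ g' : MulAction.stabilizer G a, (g' : G) • b = b ∧ hG.actV g' = hG.actV g := by
  have hga : (g : G) • a = a := g.2
  obtain ⟨w, hw, hwb⟩ := htr ((g : G) • b) (Geo.smul_ne hga hb)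
  let w' : MulAction.stabilizer G a := ⟨w, hw.1⟩
  refine ⟨w'⁻¹ * g, ?_, ?_⟩
  · show (w⁻¹ * (g : G)) • b = b
    rw [mul_smul, ← hwb, inv_smul_smul]
  · have h1 : hG.actV w' = 1 := (hG.actV_eq_one_iff).mpr hw
    rw [map_mul, map_inv, h1, inv_one, one_mul]

/-- the group induced by `H` on `V` -/
def XX (hG : Geo a V q) (H : Subgroup G) : Subgroup (MulAut V) :=
  (H.subgroupOf (MulAction.stabilizer G a)).map hG.actV

theorem mem_XX (hG : Geo a V q) {r : MulAut V} :
    r ∈ XX hG H ↔ ∃ h : MulAction.stabilizer G a, (h : G) ∈ H ∧ hG.actV h = r := by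
  constructor
  · rintro ⟨h, hh, rfl⟩
    exact ⟨h, hh, rfl⟩
  · rintro ⟨h, hh, rfl⟩
    exact ⟨h, hh, rfl⟩

theorem odd_XX (hG : Geo a V q) (hT : Tor a b V H) : Odd (Nat.card (XX hG H)) := by
  have hle : H ≤ MulAction.stabilizer G a := fun h hh => hT.H_a h hh
  have h1 : Nat.card (H.subgroupOf (MulAction.stabilizer G a)) = Nat.card H :=
    Nat.card_congr (subgroupOfEquivOfLe hle).toEquiv
  refine hT.H_odd.of_dvd_nat ?_
  rw [← h1]
  exact Subgroup.card_map_dvd (H := H.subgroupOf (MulAction.stabilizer G a)) hG.actV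

theorem trans_XX (hG : Geo a V q) (hT : Tor a b V H) (x y : V) (hx : x ≠ 1) (hy : y ≠ 1) :
    ∃ g ∈ XX hG H, g x = y := by
  obtain ⟨h, hh, hxy⟩ := hT.H_trans x x.2 (fun hh => hx (Subtype.ext hh)) y y.2
    (fun hh => hy (Subtype.ext hh))
  exact ⟨hG.actV ⟨h, hT.H_a h hh⟩, (mem_XX hG).mpr ⟨⟨h, hT.H_a h hh⟩, hh, rfl⟩, Subtype.ext hxy⟩

theorem conj_XX (hG : Geo a V q) (hT : Tor a b V H)
    (htr : ∀ c : Ω, c ≠ a → ∃ w ∈ hG.W, w • b = c) (r : MulAut V) (hr : r ∈ hG.actV.range)
    (g : MulAut V) (hg : g ∈ XX hG H) : r * g * r⁻¹ ∈ XX hG H := by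
  obtain ⟨m, rfl⟩ := hr
  obtain ⟨m', hm'b, hm'⟩ := exists_ab hG hT.ne htr m
  rw [← hm']
  obtain ⟨h, hh, rfl⟩ := (mem_XX hG).mp hg
  obtain ⟨h', hh', hx⟩ := hT.H_norm m' m'.2 hm'b h hh
  refine (mem_XX hG).mpr ⟨⟨h', hT.H_a h' hh'⟩, hh', ?_⟩
  rw [← map_inv, ← map_mul, ← map_mul]
  ext x
  exact (hx x x.2).symm

end

section

variable {G Ω : Type u} [Group G] [MulAction G Ω] [Finite G] {a b : Ω} {V H : Subgroup G} {q : ℕ}

theorem finite_V (V : Subgroup G) : Finite V := inferInstance

/-- `G_a` induces a group of odd order on `V` -/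
theorem odd_range (hG : Geo a V q) (hT : Tor a b V H)
    (htr : ∀ c : Ω, c ≠ a → ∃ w ∈ hG.W, w • b = c)
    (hhom : ∀ (P : Type u) [CommGroup P], IsPGroup 2 P →
      ∀ φ : MulAction.stabilizer G a →* P, φ = 1) : ¬ 2 ∣ Nat.card hG.actV.range := by
  intro h2Q
  have hf2 : Fact (Nat.Prime 2) := ⟨Nat.prime_two⟩
  obtain ⟨P⟩ : Nonempty (Sylow 2 hG.actV.range) := inferInstance
  have hVsq : ∀ x : V, x * x = 1 := fun x => Subtype.ext (hG.V_sq x x.2)
  have hPc : IsCyclic P := by
    have h1 : IsCyclic ((P : Subgroup hG.actV.range).map hG.actV.range.subtype) := by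
      refine TransCyclic.isCyclic hVsq (odd_XX hG hT) (trans_XX hG hT) (P.2.map _) ?_
      rintro _ ⟨r, hr, rfl⟩ g hg
      exact conj_XX hG hT htr r.1 r.2 g hg
    exact isCyclic_of_surjective
      ((P : Subgroup hG.actV.range).equivMapOfInjective hG.actV.range.subtype
        hG.actV.range.subtype_injective).symm
      ((P : Subgroup hG.actV.range).equivMapOfInjective hG.actV.range.subtype
        hG.actV.range.subtype_injective).symm.surjective
  have hmin : (Nat.card hG.actV.range).minFac = 2 := (Nat.minFac_eq_two_iff _).mpr h2Q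
  have hN := hPc.normalizer_le_centralizer hmin
  have hcomm : ∀ x y : P, x * y = y * x := fun x y =>
    (IsCyclic.commGroup (α := P)).mul_comm x y
  let _ : CommGroup P := { (inferInstance : Group P) with mul_comm := hcomm }
  let φ : MulAction.stabilizer G a →* P :=
    (MonoidHom.transferSylow P hN).comp hG.actV.rangeRestrict
  have hφ : φ = 1 := hhom P P.2 φ
  have h2P : 2 ∣ Nat.card P := P.dvd_card_of_dvd_card h2Q
  obtain ⟨x, hx⟩ := exists_prime_orderOf_dvd_card' 2 h2P
  have h1 : MonoidHom.transferSylow P hN (x : hG.actV.range) = 1 := by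
    obtain ⟨g, hg⟩ := hG.actV.rangeRestrict_surjective (x : hG.actV.range)
    rw [← hg]
    exact DFunLike.congr_fun hφ g
  rw [MonoidHom.transferSylow_eq_pow P hN (x : hG.actV.range) x.2] at h1
  have h3 : (x : hG.actV.range) ^ (P : Subgroup hG.actV.range).index = 1 := congrArg Subtype.val h1
  have h4 : orderOf x ∣ (P : Subgroup hG.actV.range).index := by
    apply orderOf_dvd_of_pow_eq_one
    exact Subtype.ext h3
  rw [hx] at h4
  exact P.not_dvd_index h4

theorem two_le_W (hG : Geo a V q) (hT : Tor a b V H)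
    (htr : ∀ c : Ω, c ≠ a → ∃ w ∈ hG.W, w • b = c)
    (hhom : ∀ (P : Type u) [CommGroup P], IsPGroup 2 P →
      ∀ φ : MulAction.stabilizer G a →* P, φ = 1) {S : Subgroup G} (hS2 : IsPGroup 2 S)
    (hS : ∀ s ∈ S, s • a = a) : S ≤ hG.W := by
  intro s hs
  have hodd := odd_range hG hT htr hhom
  have h1 : hG.actV ⟨s, hS s hs⟩ = 1 := by
    obtain ⟨n, hn⟩ := (IsPGroup.iff_orderOf.mp hS2) ⟨s, hs⟩
    have h2 : (⟨s, hS s hs⟩ : MulAction.stabilizer G a) ^ 2 ^ n = 1 := by
      have h3 : (⟨s, hs⟩ : S) ^ 2 ^ n = 1 := by rw [← hn]; exact pow_orderOf_eq_one _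
      have h4 : s ^ 2 ^ n = 1 := congrArg Subtype.val h3
      exact Subtype.ext h4
    have h3 : orderOf (hG.actV ⟨s, hS s hs⟩) ∣ 2 ^ n := by
      apply orderOf_dvd_of_pow_eq_one
      rw [← map_pow, h2, map_one]
    obtain ⟨j, -, hj⟩ := (Nat.dvd_prime_pow Nat.prime_two).mp h3
    rcases Nat.eq_zero_or_pos j with rfl | hj0
    · rw [pow_zero] at hj
      exact orderOf_eq_one_iff.mp hj
    · exfalso
      apply hodd
      have h4 : orderOf (⟨hG.actV ⟨s, hS s hs⟩, ⟨_, rfl⟩⟩ : hG.actV.range) =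
          orderOf (hG.actV ⟨s, hS s hs⟩) :=
        (orderOf_injective hG.actV.range.subtype hG.actV.range.subtype_injective _).symm
      have h5 := orderOf_dvd_natCard (⟨hG.actV ⟨s, hS s hs⟩, ⟨_, rfl⟩⟩ : hG.actV.range)
      rw [h4, hj] at h5
      exact (dvd_pow_self 2 hj0.ne').trans h5
  exact (hG.actV_eq_one_iff).mp h1

theorem full_false {k : ℕ} (hG : Geo a V (2 ^ k)) (hT : Tor a b V H) (S : Sylow 2 G)
    (hS : ∀ s ∈ S, s • a = a) (htr : ∀ c : Ω, c ≠ a → ∃ w ∈ hG.W, w • b = c)
    (hhom : ∀ (P : Type u) [CommGroup P], IsPGroup 2 P →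
      ∀ φ : MulAction.stabilizer G a →* P, φ = 1)
    (hidx : ¬ ∃ M : Subgroup G, M.Normal ∧ M.index = 2) : False := by
  have hf2 : Fact (Nat.Prime 2) := ⟨Nat.prime_two⟩
  have hSW : (S : Subgroup G) ≤ hG.W := two_le_W hG hT htr hhom S.2 hS
  have hSa : (S : Subgroup G) ≤ MulAction.stabilizer G a := hS
  -- `V ≤ S`
  have hV2 : IsPGroup 2 V := by
    intro x
    exact ⟨1, by rw [pow_one, pow_two]; exact Subtype.ext (hG.V_sq x x.2)⟩
  have hVS : V ≤ (S : Subgroup G) := by
    have h1 : (S : Subgroup G) ≤ normalizer (V : Set G) := by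
      rw [le_normalizer_iff]
      intro g hg x hx
      exact hG.V_conj g (hS g hg) x hx
    have h2 : IsPGroup 2 ((S : Subgroup G) ⊔ V : Subgroup G) := S.2.to_sup_of_normal_right' hV2 h1
    have h3 := S.3 h2 le_sup_left
    exact le_sup_right.trans h3.le
  -- odd index
  have hoddS : Odd ((S : Subgroup G).relIndex (MulAction.stabilizer G a)) := by
    have h1 := relIndex_mul_index hSa
    rw [← Nat.not_even_iff_odd, even_iff_two_dvd]
    intro h2
    exact S.not_dvd_index (h1 ▸ h2.mul_right _)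
  have hrel : (MulAction.stabilizer G b).relIndex (MulAction.stabilizer G a) = 2 ^ (k * 3) := by
    rw [hG.relIndex_stab_a hT.ne, pow_mul]
  have htrans : ∀ c : Ω, c ≠ a → ∃ s ∈ (S : Subgroup G), s • b = c := by
    intro c hc
    obtain ⟨g, hg, hgc⟩ := hG.trans b c hT.ne hc
    obtain ⟨s, hs, hsb⟩ := trans_of_odd (S : Subgroup G) _ hSa hoddS b _ hrel g hg
    exact ⟨s, hs, by rw [hsb, hgc]⟩
  have hoddT : Odd (((S : Subgroup G) ⊓ MulAction.stabilizer G b).relIndex
      (MulAction.stabilizer G a ⊓ MulAction.stabilizer G b)) :=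
    odd_stab (S : Subgroup G) _ hSa hoddS b _ hrel
  -- a 2-subgroup of `G_{ab}` containing `T` is contained in `T`
  have hmax : ∀ R : Subgroup G, IsPGroup 2 R → (S : Subgroup G) ⊓ MulAction.stabilizer G b ≤ R →
      R ≤ MulAction.stabilizer G a ⊓ MulAction.stabilizer G b →
      R ≤ (S : Subgroup G) ⊓ MulAction.stabilizer G b := by
    intro R hR hTR hRab
    have h1 := relIndex_mul_relIndex _ _ _ hTR hRab
    have h2 : Odd (((S : Subgroup G) ⊓ MulAction.stabilizer G b).relIndex R) := by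
      refine hoddT.of_dvd_nat ?_
      rw [← h1]
      exact dvd_mul_right _ _
    obtain ⟨n, hn⟩ := hR.index (((S : Subgroup G) ⊓ MulAction.stabilizer G b).subgroupOf R)
    have h3 : (((S : Subgroup G) ⊓ MulAction.stabilizer G b).relIndex R) = 2 ^ n := hn
    have h4 : n = 0 := by
      by_contra h0
      rw [h3] at h2
      exact (Nat.not_odd_iff_even.mpr ((Nat.even_pow' h0).mpr even_two)) h2
    rw [h4, pow_zero] at h3
    exact relIndex_eq_one.mp h3
  have hC : ThreeCore.Core a b V H ((S : Subgroup G) ⊓ MulAction.stabilizer G b)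
      (S : Subgroup G) (2 ^ k) := by
    refine ⟨hT.ne, hG.four_le, hG.card_V, hG.V_sq, hG.V_a, hG.V_free, hG.V_conj, hVS,
      inf_le_left, S.2, hS, fun s hs => (hSW hs).2, fun s hs hsb => ⟨hs, hsb⟩,
      fun t ht => ht.2, ?_, htrans, ?_, ?_, ?_, ?_, hT.H_a, hT.H_b, hT.H_comm, hT.H_trans,
      hT.H_odd, ?_⟩
    · -- `T ≠ 1`
      obtain ⟨u, hu, hu1, hua, hub⟩ := hG.pair b hT.ne
      by_contra hno
      push Not at hno
      have hbot : (S : Subgroup G) ⊓ MulAction.stabilizer G b = ⊥ := by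
        rw [eq_bot_iff]
        intro t ht
        exact mem_bot.mpr (hno t ht)
      have hR : IsPGroup 2 (zpowers u) := by
        rw [IsPGroup.iff_card]
        refine ⟨1, ?_⟩
        rw [Nat.card_zpowers, pow_one]
        exact orderOf_eq_prime (by rw [pow_two]; exact hu) hu1
      have h1 := hmax (zpowers u) hR (by rw [hbot]; exact bot_le)
        (by rw [zpowers_le]; exact ⟨hua, hub⟩)
      rw [hbot, zpowers_le, mem_bot] at h1
      exact hu1 h1
    · -- `|S| = q ^ 3 |T|`
      have h1 : (MulAction.stabilizer G b).relIndex (S : Subgroup G) = (2 ^ k) ^ 3 := by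
        rw [relIndex_stab, ← hG.card_pts]
        congr 1
        ext c
        constructor
        · rintro ⟨g, hg, rfl⟩
          exact Geo.smul_ne (hS g hg) hT.ne
        · intro hc
          obtain ⟨s, hs, hsc⟩ := htrans c hc
          exact ⟨s, hs, hsc⟩
      have h2 := card_mul_index (((S : Subgroup G) ⊓ MulAction.stabilizer G b).subgroupOf
        (S : Subgroup G))
      have h3 : (((S : Subgroup G) ⊓ MulAction.stabilizer G b).subgroupOf
          (S : Subgroup G)).index = (2 ^ k) ^ 3 := by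
        rw [← h1, ← inf_relIndex_left]
        rfl
      have h4 : Nat.card (((S : Subgroup G) ⊓ MulAction.stabilizer G b).subgroupOf
          (S : Subgroup G)) = Nat.card ((S : Subgroup G) ⊓ MulAction.stabilizer G b : Subgroup G) :=
        Nat.card_congr (subgroupOfEquivOfLe inf_le_left).toEquiv
      rw [h3, h4, mul_comm] at h2
      exact h2.symm
    · -- `T_max`
      rintro y hya hyb ⟨n, hn⟩ hyt
      have hy2 : IsPGroup 2 (zpowers y) := by
        rw [IsPGroup.iff_card]
        obtain ⟨j, -, hj⟩ := (Nat.dvd_prime_pow Nat.prime_two).mp (orderOf_dvd_of_pow_eq_one hn)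
        exact ⟨j, by rw [Nat.card_zpowers, hj]⟩
      have hT2 : IsPGroup 2 ((S : Subgroup G) ⊓ MulAction.stabilizer G b : Subgroup G) :=
        S.2.to_le inf_le_left
      have h1 : zpowers y ≤ normalizer
          (((S : Subgroup G) ⊓ MulAction.stabilizer G b : Subgroup G) : Set G) := by
        rw [zpowers_le, mem_normalizer_iff]
        intro t
        constructor
        · intro ht
          have : y * t * y⁻¹ = t := by rw [hyt t ht, mul_inv_cancel_right]
          rw [this]; exact ht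
        · intro ht
          have h2 := hyt _ ht
          have h3 : y * t * y⁻¹ = t := by
            have h4 : y * (y * t * y⁻¹) * y⁻¹ = y * t * y⁻¹ := by
              rw [h2, mul_inv_cancel_right]
            have h5 := mul_right_cancel h4
            exact mul_left_cancel h5
          rwa [h3] at ht
      have h2 := hy2.to_sup_of_normal_right' hT2 h1
      have h3 := hmax _ h2 le_sup_right (by
        rw [sup_le_iff]
        refine ⟨?_, inf_le_inf_right _ hSa⟩
        rw [zpowers_le]
        exact ⟨hya, hyb⟩)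
      exact h3 (mem_sup_left (mem_zpowers y))
    · -- `invol`
      intro t ht htt htV
      exact hG.ex_fix t htt (hS t ht) htV
    · -- `fix`
      intro t ht ht1 c d hc hd htc htd
      obtain ⟨n, hn⟩ := (IsPGroup.iff_orderOf.mp S.2) ⟨t, ht⟩
      have h2 : t ^ 2 ^ n = 1 := by
        have h3 : (⟨t, ht⟩ : (S : Subgroup G)) ^ 2 ^ n = 1 := by rw [← hn]; exact pow_orderOf_eq_one _
        exact congrArg Subtype.val h3
      obtain ⟨m, hm, hm1⟩ := exists_pow_invol ⟨n, h2⟩ ht1
      exact hG.orb _ hm hm1 (pow_smul_eq (hS t ht) m) c d hc hd (pow_smul_eq htc m)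
        (pow_smul_eq htd m)
    · -- `H_ex`
      obtain ⟨⟨g, hg⟩, hgen⟩ := hT.H_cyc.exists_generator
      refine ⟨g, hg, fun x hx hx1 hfix => ?_⟩
      have hcomm : ∀ h ∈ H, h * x * h⁻¹ = x := by
        intro h hh
        obtain ⟨n, hn⟩ := mem_zpowers_iff.mp (hgen ⟨h, hh⟩)
        have h1 : g ^ n = h := congrArg Subtype.val hn
        have h2 : Commute g x := mul_inv_eq_iff_eq_mul.mp hfix
        have h3 : Commute (g ^ n) x := h2.zpow_left n
        rw [← h1, h3.eq, mul_inv_cancel_right]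
      -- another element of `V`
      have hex : ∃ y ∈ V, y ≠ 1 ∧ y ≠ x := by
        by_contra hno
        push Not at hno
        have h1 : (V : Set G) ⊆ {1, x} := by
          intro y hy
          by_cases h2 : y = 1
          · exact Or.inl h2
          · exact Or.inr (hno y hy h2)
        have h2 := Set.ncard_le_ncard h1 (Set.toFinite _)
        have h3 : (V : Set G).ncard = 2 ^ k := by
          rw [← hG.card_V, ← Nat.card_coe_set_eq]
          rfl
        have h4 := Set.ncard_insert_le (1 : G) {x}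
        rw [Set.ncard_singleton] at h4
        have h5 := hG.four_le
        omega
      obtain ⟨y, hy, hy1, hyx⟩ := hex
      obtain ⟨h, hh, hxy⟩ := hT.H_trans x hx hx1 y hy hy1
      exact hyx (by rw [← hxy, hcomm h hh])
  exact hidx (hC.exists_index_two S rfl)

end

end Cfsg.Agent.AschCrit.ThreeFull
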