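import Mathlib
import Cfsg.Agent.Transfer.ThompsonTransfer

/-!
# Aschbacher's criterion, commutative case, unital type: the core argument

`G` acts on `Ω`, `V` is the elementary abelian group `D_a ∪ 1` of order `q ≥ 4`, normal in `G_a`,
`|Ω| = q ^ 3 + 1`, `S` is a Sylow 2-subgroup of `G_a`, `T = S_b ≠ 1`, every involution of `S` outside `V` fixes
exactly one `V`-orbit of points `≠ a` pointwise, `H ≤ G_{ab}` acts regularly on `V ∖ 1` and commutes with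
`C_{G_{ab}}(V)`.  Then `|T| = 2`, `S` has a normal abelian subgroup `Q₁` of order `q ^ 2` inverted by `T`, the
involutions of `S` outside `V` are the elements of `T# Q₁`, and `G` has a subgroup of index 2.
-/

set_option autoImplicit false

namespace Cfsg.Agent.AschCrit.ThreeCore

open Subgroup

variable {G Ω : Type*} [Group G] [MulAction G Ω]

structure Core (a b : Ω) (V H T S : Subgroup G) (q : ℕ) : Prop where
  ne : b ≠ a
  four_le : 4 ≤ q
  card_V : Nat.card V = q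
  V_sq : ∀ x ∈ V, x * x = 1
  V_a : ∀ x ∈ V, x • a = a
  V_free : ∀ x ∈ V, x ≠ 1 → ∀ c : Ω, x • c = c → c = a
  V_conj : ∀ g : G, g • a = a → ∀ x ∈ V, g * x * g⁻¹ ∈ V
  V_le : V ≤ S
  T_le : T ≤ S
  S_two : IsPGroup 2 S
  S_a : ∀ s ∈ S, s • a = a
  S_V : ∀ s ∈ S, ∀ x ∈ V, s * x = x * s
  S_b : ∀ s ∈ S, s • b = b → s ∈ T
  T_b : ∀ t ∈ T, t • b = b
  T_ne : ∃ t ∈ T, t ≠ 1
  trans : ∀ c : Ω, c ≠ a → ∃ s ∈ S, s • b = c
  card_S : Nat.card S = q ^ 3 * Nat.card T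
  T_max : ∀ y : G, y • a = a → y • b = b → (∃ k : ℕ, y ^ (2 ^ k) = 1) →
    (∀ t ∈ T, y * t = t * y) → y ∈ T
  invol : ∀ t ∈ S, t * t = 1 → t ∉ V → ∃ c : Ω, c ≠ a ∧ t • c = c
  fix : ∀ t ∈ S, t ≠ 1 → ∀ c d : Ω, c ≠ a → d ≠ a → t • c = c → t • d = d → ∃ x ∈ V, x • c = d
  H_a : ∀ h ∈ H, h • a = a
  H_b : ∀ h ∈ H, h • b = b
  H_comm : ∀ h ∈ H, ∀ w : G, w • a = a → w • b = b → (∀ x ∈ V, w * x = x * w) → h * w = w * h
  H_trans : ∀ x ∈ V, x ≠ 1 → ∀ y ∈ V, y ≠ 1 → ∃ h ∈ H, h * x * h⁻¹ = y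
  H_odd : Odd (Nat.card H)
  H_ex : ∃ h ∈ H, ∀ x ∈ V, x ≠ 1 → h * x * h⁻¹ ≠ x

namespace Core

variable {a b : Ω} {V H T S : Subgroup G} {q : ℕ}

theorem inv_V (h : Core a b V H T S q) {x : G} (hx : x ∈ V) : x⁻¹ = x :=
  inv_eq_of_mul_eq_one_right (h.V_sq x hx)

theorem T_a (h : Core a b V H T S q) {t : G} (ht : t ∈ T) : t • a = a := h.S_a t (h.T_le ht)

theorem T_V (h : Core a b V H T S q) {t x : G} (ht : t ∈ T) (hx : x ∈ V) : t * x = x * t :=
  h.S_V t (h.T_le ht) x hx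

theorem smul_ne (h : Core a b V H T S q) {g : G} (hg : g • a = a) {c : Ω} (hc : c ≠ a) :
    g • c ≠ a := by
  intro hcon
  apply hc
  have : g⁻¹ • g • c = g⁻¹ • g • a := by rw [hcon, hg]
  simpa using this

theorem eq_one_of_fix (h : Core a b V H T S q) {x : G} (hx : x ∈ V) {c : Ω} (hc : c ≠ a)
    (hxc : x • c = c) : x = 1 := by
  by_contra hne
  exact hc (h.V_free x hx hne c hxc)

theorem eq_of_smul (h : Core a b V H T S q) {x y : G} (hx : x ∈ V) (hy : y ∈ V) {c : Ω}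
    (hc : c ≠ a) (hxy : x • c = y • c) : x = y := by
  have h1 : (y⁻¹ * x) • c = c := by rw [mul_smul, hxy, inv_smul_smul]
  have h2 := h.eq_one_of_fix (V.mul_mem (V.inv_mem hy) hx) hc h1
  rwa [inv_mul_eq_one, eq_comm] at h2

theorem not_mem_V (h : Core a b V H T S q) {t : G} (ht : t ∈ T) (hne : t ≠ 1) : t ∉ V := by
  intro hV
  exact hne (h.eq_one_of_fix hV h.ne (h.T_b t ht))

theorem T_inj (h : Core a b V H T S q) {t t' x x' : G} (ht : t ∈ T) (ht' : t' ∈ T) (hx : x ∈ V)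
    (hx' : x' ∈ V) (he : t * x = t' * x') : t = t' ∧ x = x' := by
  have h1 : t'⁻¹ * t = x' * x⁻¹ := by
    rw [inv_mul_eq_iff_eq_mul, ← mul_assoc, ← he, mul_assoc, mul_inv_cancel, mul_one]
  have h2 : t'⁻¹ * t ∈ V := by rw [h1]; exact V.mul_mem hx' (V.inv_mem hx)
  have h3 : t'⁻¹ * t = 1 := by
    by_contra hne
    exact h.not_mem_V (T.mul_mem (T.inv_mem ht') ht) hne h2
  have h4 : t = t' := by rw [inv_mul_eq_one] at h3; exact h3.symm
  refine ⟨h4, ?_⟩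
  subst h4
  exact mul_left_cancel he

/-- the stabiliser in `S` of the `V`-orbit of `b`: the product `T V` -/
def A (h : Core a b V H T S q) : Subgroup G where
  carrier := {s | s ∈ S ∧ ∃ x ∈ V, s • b = x • b}
  mul_mem' := by
    rintro s s' ⟨hs, x, hx, hsx⟩ ⟨hs', x', hx', hsx'⟩
    refine ⟨S.mul_mem hs hs', x' * x, V.mul_mem hx' hx, ?_⟩
    rw [mul_smul, hsx', ← mul_smul, h.S_V s hs x' hx', mul_smul, hsx, mul_smul]
  one_mem' := ⟨S.one_mem, 1, V.one_mem, rfl⟩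
  inv_mem' := by
    rintro s ⟨hs, x, hx, hsx⟩
    refine ⟨S.inv_mem hs, x⁻¹, V.inv_mem hx, ?_⟩
    have h1 : s⁻¹ * x = x * s⁻¹ := h.S_V s⁻¹ (S.inv_mem hs) x hx
    have h2 : b = s⁻¹ • x • b := by rw [← hsx, inv_smul_smul]
    rw [← mul_smul, h1, mul_smul] at h2
    nth_rewrite 2 [h2]
    rw [inv_smul_smul]

theorem mem_A (h : Core a b V H T S q) {s : G} :
    s ∈ h.A ↔ s ∈ S ∧ ∃ x ∈ V, s • b = x • b := Iff.rfl

theorem mem_A_iff (h : Core a b V H T S q) {s : G} : s ∈ h.A ↔ ∃ t ∈ T, ∃ x ∈ V, s = t * x := by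
  constructor
  · rintro ⟨hs, x, hx, hsx⟩
    refine ⟨s * x⁻¹, h.S_b _ (S.mul_mem hs (S.inv_mem (h.V_le hx))) ?_, x, hx, by group⟩
    have h1 : s * x⁻¹ = x⁻¹ * s := h.S_V s hs _ (V.inv_mem hx)
    rw [h1, mul_smul, hsx, inv_smul_smul]
  · rintro ⟨t, ht, x, hx, rfl⟩
    refine ⟨S.mul_mem (h.T_le ht) (h.V_le hx), x, hx, ?_⟩
    rw [h.T_V ht hx, mul_smul, h.T_b t ht]

theorem A_le (h : Core a b V H T S q) : h.A ≤ S := fun _ hs => hs.1

theorem T_le_A (h : Core a b V H T S q) : T ≤ h.A := fun t ht =>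
  h.mem_A_iff.mpr ⟨t, ht, 1, V.one_mem, (mul_one t).symm⟩

theorem V_le_A (h : Core a b V H T S q) : V ≤ h.A := fun x hx =>
  h.mem_A_iff.mpr ⟨1, T.one_mem, x, hx, (one_mul x).symm⟩

/-- `T` is TI in `S` modulo `A` -/
theorem ti (h : Core a b V H T S q) {s t : G} (hs : s ∈ S) (ht : t ∈ T) (hne : t ≠ 1)
    (hst : s⁻¹ * t * s ∈ T) : s ∈ h.A := by
  have h1 : t • s • b = s • b := by
    have := h.T_b _ hst
    rw [mul_smul, mul_smul, inv_smul_eq_iff] at this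
    exact this
  obtain ⟨x, hx, hxb⟩ := h.fix t (h.T_le ht) hne b (s • b) h.ne
    (h.smul_ne (h.S_a s hs) h.ne) (h.T_b t ht) h1
  exact ⟨hs, x, hx, hxb.symm⟩

theorem mem_A_of_commute (h : Core a b V H T S q) {s t : G} (hs : s ∈ S) (ht : t ∈ T)
    (hne : t ≠ 1) (hst : s * t = t * s) : s ∈ h.A := by
  apply h.ti hs ht hne
  rw [mul_assoc, ← hst, inv_mul_cancel_left]
  exact ht

/-- the product map `T × V → A` -/
noncomputable def equivA (h : Core a b V H T S q) : T × V ≃ h.A := by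
  refine Equiv.ofBijective (fun p => ⟨p.1 * p.2, h.mem_A_iff.mpr ⟨p.1, p.1.2, p.2, p.2.2, rfl⟩⟩)
    ⟨?_, ?_⟩
  · rintro ⟨t, x⟩ ⟨t', x'⟩ he
    have := h.T_inj t.2 t'.2 x.2 x'.2 (Subtype.ext_iff.mp he)
    exact Prod.ext (Subtype.ext this.1) (Subtype.ext this.2)
  · rintro ⟨s, hs⟩
    obtain ⟨t, ht, x, hx, he⟩ := h.mem_A_iff.mp hs
    exact ⟨(⟨t, ht⟩, ⟨x, hx⟩), Subtype.ext he.symm⟩

theorem card_A (h : Core a b V H T S q) : Nat.card h.A = Nat.card T * q := by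
  rw [← Nat.card_congr h.equivA, Nat.card_prod, h.card_V]

theorem card_T_pos [Finite G] : 0 < Nat.card T := Nat.card_pos

theorem card_T_gt [Finite G] (h : Core a b V H T S q) : 1 < Nat.card T := by
  obtain ⟨t, ht, hne⟩ := h.T_ne
  rw [Subgroup.one_lt_card_iff_ne_bot]
  intro hb
  rw [hb] at ht
  exact hne (Subgroup.mem_bot.mp ht)

/-- the points `≠ a` whose `V`-orbit is fixed by `T` -/
def Th (_ : Core a b V H T S q) : Set Ω := {c | c ≠ a ∧ ∀ t ∈ T, ∃ x ∈ V, t • c = x • c}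

theorem mem_Th (h : Core a b V H T S q) {c : Ω} :
    c ∈ h.Th ↔ c ≠ a ∧ ∀ t ∈ T, ∃ x ∈ V, t • c = x • c := Iff.rfl

/-- the normaliser of `A = T V` in `S` -/
def C (h : Core a b V H T S q) : Subgroup G where
  carrier := {g | g ∈ S ∧ ∀ s, s ∈ h.A ↔ g * s * g⁻¹ ∈ h.A}
  mul_mem' := by
    rintro g g' ⟨hg, hgA⟩ ⟨hg', hgA'⟩
    refine ⟨S.mul_mem hg hg', fun s => ?_⟩
    rw [hgA' s, hgA (g' * s * g'⁻¹)]
    simp only [mul_assoc, mul_inv_rev]
  one_mem' := ⟨S.one_mem, fun s => by simp⟩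
  inv_mem' := by
    rintro g ⟨hg, hgA⟩
    refine ⟨S.inv_mem hg, fun s => ?_⟩
    rw [hgA (g⁻¹ * s * g⁻¹⁻¹)]
    simp [mul_assoc]

theorem C_le (h : Core a b V H T S q) : h.C ≤ S := fun _ hg => hg.1

theorem mem_C (h : Core a b V H T S q) {g : G} :
    g ∈ h.C ↔ g ∈ S ∧ ∀ s, s ∈ h.A ↔ g * s * g⁻¹ ∈ h.A := Iff.rfl

theorem A_le_C (h : Core a b V H T S q) : h.A ≤ h.C := by
  intro g hg
  refine ⟨h.A_le hg, fun s => ⟨fun hs => h.A.mul_mem (h.A.mul_mem hg hs) (h.A.inv_mem hg),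
    fun hs => ?_⟩⟩
  have := h.A.mul_mem (h.A.mul_mem (h.A.inv_mem hg) hs) hg
  simpa [mul_assoc] using this

theorem conj_iff_of_le [Finite G] {B : Subgroup G} {g : G} (hB : ∀ s ∈ B, g * s * g⁻¹ ∈ B) :
    ∀ s, s ∈ B ↔ g * s * g⁻¹ ∈ B := by
  intro s
  refine ⟨hB s, fun hs => ?_⟩
  let f : B → B := fun s => ⟨g * s * g⁻¹, hB s s.2⟩
  have hf : Function.Injective f := by
    intro s s' hss
    have := Subtype.ext_iff.mp hss
    simp only [f] at this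
    exact Subtype.ext (mul_left_cancel (mul_right_cancel this))
  obtain ⟨s', hs'⟩ := (Finite.injective_iff_surjective.mp hf) ⟨g * s * g⁻¹, hs⟩
  have := Subtype.ext_iff.mp hs'
  simp only [f] at this
  rw [← mul_left_cancel (mul_right_cancel this)]
  exact s'.2

theorem exists_normalizing [Finite G] {S A : Subgroup G} (hS : IsPGroup 2 S) (hA : A ≤ S)
    (hne : A ≠ S) : ∃ g ∈ S, g ∉ A ∧ ∀ s, s ∈ A ↔ g * s * g⁻¹ ∈ A := by
  haveI : Fact (Nat.Prime 2) := ⟨Nat.prime_two⟩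
  have hnil : Group.IsNilpotent S := hS.isNilpotent
  have h1 : A.subgroupOf S < ⊤ := by
    rw [lt_top_iff_ne_top]
    intro h
    rw [subgroupOf_eq_top] at h
    exact hne (le_antisymm hA h)
  have h2 := Group.normalizerCondition_of_isNilpotent (G := S) _ h1
  obtain ⟨g, hg, hgA⟩ := SetLike.exists_of_lt h2
  refine ⟨g, g.2, fun h => hgA (mem_subgroupOf.mpr h), ?_⟩
  apply conj_iff_of_le
  intro s hs
  rw [mem_normalizer_iff] at hg
  exact mem_subgroupOf.mp ((hg ⟨s, hA hs⟩).mp (mem_subgroupOf.mpr hs))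

theorem smul_Th (h : Core a b V H T S q) {g : G} (hg : g ∈ h.C) : g • b ∈ h.Th := by
  refine ⟨h.smul_ne (h.S_a g hg.1) h.ne, fun t ht => ?_⟩
  have h1 : g⁻¹ * t * g⁻¹⁻¹ ∈ h.A := ((h.C.inv_mem hg).2 t).mp (h.T_le_A ht)
  obtain ⟨t', ht', x, hx, he⟩ := h.mem_A_iff.mp h1
  refine ⟨x, hx, ?_⟩
  have h2 : t * g = g * (x * t') := by
    rw [← h.T_V ht' hx, ← he]
    group
  rw [← mul_smul, h2, mul_smul, mul_smul, h.T_b t' ht', ← mul_smul, h.S_V g hg.1 x hx, mul_smul]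

theorem mem_C_of_Th [Finite G] (h : Core a b V H T S q) {g : G} (hg : g ∈ S)
    (hgb : g • b ∈ h.Th) : g ∈ h.C := by
  refine ⟨hg, fun s => ?_⟩
  have key : ∀ s ∈ h.A, g⁻¹ * s * g⁻¹⁻¹ ∈ h.A := by
    intro s hs
    obtain ⟨t, ht, x, hx, rfl⟩ := h.mem_A_iff.mp hs
    obtain ⟨y, hy, hty⟩ := hgb.2 t ht
    refine ⟨S.mul_mem (S.mul_mem (S.inv_mem hg) (h.A_le hs)) (by simpa using hg), x * y,
      V.mul_mem hx hy, ?_⟩
    have h1 : (t * x) • g • b = g • (x * y) • b := by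
      rw [h.T_V ht hx, mul_smul, hty, ← mul_smul, ← mul_smul, ← mul_smul,
        h.S_V g hg (x * y) (V.mul_mem hx hy)]
    rw [inv_inv, mul_assoc, mul_smul, inv_smul_eq_iff, mul_smul, h1]
  have := (conj_iff_of_le key) (g * s * g⁻¹)
  rw [this]
  simp [mul_assoc]

theorem mem_C_iff [Finite G] (h : Core a b V H T S q) {g : G} :
    g ∈ h.C ↔ g ∈ S ∧ g • b ∈ h.Th :=
  ⟨fun hg => ⟨hg.1, h.smul_Th hg⟩, fun hg => h.mem_C_of_Th hg.1 hg.2⟩

/-- normalisers grow -/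
theorem exists_g0 [Finite G] (h : Core a b V H T S q) : ∃ g ∈ h.C, g ∉ h.A := by
  have hne : h.A ≠ S := by
    intro he
    have h1 := h.card_A
    rw [he, h.card_S] at h1
    have h2 := h.four_le
    have h3 : 0 < Nat.card T := Nat.card_pos
    have h4 : q * (q * q) = q := by
      apply Nat.eq_of_mul_eq_mul_left h3
      rw [← h1]
      ring
    nlinarith [Nat.mul_le_mul h2 h2]
  obtain ⟨g, hg, hgA, hn⟩ := exists_normalizing h.S_two h.A_le hne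
  exact ⟨g, ⟨hg, hn⟩, hgA⟩

theorem T_sq [Finite G] (h : Core a b V H T S q) {t : G} (ht : t ∈ T) : t * t = 1 := by
  obtain ⟨g, hg, hgA⟩ := h.exists_g0
  by_contra hne
  apply hgA
  apply h.ti hg.1 (T.mul_mem ht ht) hne
  have h1 : g⁻¹ * t * g⁻¹⁻¹ ∈ h.A := ((h.C.inv_mem hg).2 t).mp (h.T_le_A ht)
  obtain ⟨t', ht', x, hx, he⟩ := h.mem_A_iff.mp h1
  have h2 : g⁻¹ * (t * t) * g = t' * t' := by
    have h3 : g⁻¹ * (t * t) * g = (g⁻¹ * t * g⁻¹⁻¹) * (g⁻¹ * t * g⁻¹⁻¹) := by group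
    rw [h3, he, mul_assoc, ← mul_assoc x, ← h.T_V ht' hx, mul_assoc t', h.V_sq x hx, mul_one]
  rw [h2]
  exact T.mul_mem ht' ht'

theorem T_inv [Finite G] (h : Core a b V H T S q) {t : G} (ht : t ∈ T) : t⁻¹ = t :=
  inv_eq_of_mul_eq_one_right (h.T_sq ht)

theorem T_comm [Finite G] (h : Core a b V H T S q) {t t' : G} (ht : t ∈ T) (ht' : t' ∈ T) :
    t * t' = t' * t := by
  have h1 := h.T_inv (T.mul_mem ht ht')
  rw [mul_inv_rev, h.T_inv ht, h.T_inv ht'] at h1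
  exact h1.symm

theorem V_comm (h : Core a b V H T S q) {x y : G} (hx : x ∈ V) (hy : y ∈ V) :
    x * y = y * x := h.S_V x (h.V_le hx) y hy

theorem A_comm [Finite G] (h : Core a b V H T S q) {s s' : G} (hs : s ∈ h.A) (hs' : s' ∈ h.A) :
    s * s' = s' * s := by
  obtain ⟨t, ht, x, hx, rfl⟩ := h.mem_A_iff.mp hs
  obtain ⟨t', ht', x', hx', rfl⟩ := h.mem_A_iff.mp hs'
  calc t * x * (t' * x') = t * (x * t') * x' := by simp only [mul_assoc]
    _ = t * (t' * x) * x' := by rw [h.T_V ht' hx]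
    _ = (t * t') * (x * x') := by simp only [mul_assoc]
    _ = (t' * t) * (x' * x) := by rw [h.T_comm ht ht', h.V_comm hx hx']
    _ = t' * (t * x') * x := by simp only [mul_assoc]
    _ = t' * (x' * t) * x := by rw [h.T_V ht hx']
    _ = t' * x' * (t * x) := by simp only [mul_assoc]

theorem A_sq [Finite G] (h : Core a b V H T S q) {s : G} (hs : s ∈ h.A) : s * s = 1 := by
  obtain ⟨t, ht, x, hx, rfl⟩ := h.mem_A_iff.mp hs
  calc t * x * (t * x) = t * (x * t) * x := by simp only [mul_assoc]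
    _ = t * (t * x) * x := by rw [h.T_V ht hx]
    _ = (t * t) * (x * x) := by simp only [mul_assoc]
    _ = 1 := by rw [h.T_sq ht, h.V_sq x hx, mul_one]

theorem smul_V (h : Core a b V H T S q) {g x : G} (hg : g ∈ S) (hx : x ∈ V) (c : Ω) :
    g • x • c = x • g • c := by
  rw [← mul_smul, h.S_V g hg x hx, mul_smul]

theorem not_orbit (h : Core a b V H T S q) {g : G} (hg : g ∈ S) (hgA : g ∉ h.A) :
    ∀ x ∈ V, x • b ≠ g • b := fun x hx he => hgA ⟨hg, x, hx, he.symm⟩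

theorem ne_one_of_move (h : Core a b V H T S q) {t x : G} (ht : t ∈ T) (hne : t ≠ 1) {c : Ω}
    (hc : c ≠ a) (hcb : ∀ x ∈ V, x • b ≠ c) (hx : x • c = t • c) : x ≠ 1 := by
  rintro rfl
  rw [one_smul] at hx
  obtain ⟨y, hy, hyb⟩ := h.fix t (h.T_le ht) hne b c h.ne hc (h.T_b t ht) hx.symm
  exact hcb y hy hyb

/-- two points on which `t` acts as the same element of `V` are in the same `V`-orbit -/
theorem same_orbit (h : Core a b V H T S q) {t x : G} (ht : t ∈ T) (hne : t ≠ 1) (hx : x ∈ V)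
    {c c' : Ω} (hc : c ≠ a) (hc' : c' ≠ a) (h1 : t • c = x • c) (h2 : t • c' = x • c') :
    ∃ y ∈ V, y • c = c' := by
  have key : ∀ d : Ω, t • d = x • d → (x * t) • d = d := by
    intro d hd
    rw [mul_smul, hd, ← mul_smul, h.V_sq x hx, one_smul]
  refine h.fix (x * t) (S.mul_mem (h.V_le hx) (h.T_le ht)) ?_ c c' hc hc' (key c h1) (key c' h2)
  intro h3
  apply h.not_mem_V ht hne
  rw [mul_eq_one_iff_inv_eq] at h3
  rw [← h3]
  exact V.inv_mem hx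

theorem Th_V (h : Core a b V H T S q) {c : Ω} (hc : c ∈ h.Th) {y : G} (hy : y ∈ V) :
    y • c ∈ h.Th := by
  refine ⟨h.smul_ne (h.V_a y hy) hc.1, fun t ht => ?_⟩
  obtain ⟨x, hx, hxc⟩ := hc.2 t ht
  refine ⟨x, hx, ?_⟩
  rw [h.smul_V (h.T_le ht) hy, hxc, h.smul_V (h.V_le hy) hx]

theorem H_T (h : Core a b V H T S q) {k t : G} (hk : k ∈ H) (ht : t ∈ T) : k * t = t * k :=
  h.H_comm k hk t (h.T_a ht) (h.T_b t ht) (fun x hx => h.T_V ht hx)

theorem H_V (h : Core a b V H T S q) {k x : G} (hk : k ∈ H) (hx : x ∈ V) : k * x * k⁻¹ ∈ V :=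
  h.V_conj k (h.H_a k hk) x hx

theorem Th_H (h : Core a b V H T S q) {c : Ω} (hc : c ∈ h.Th) {k : G} (hk : k ∈ H) :
    k • c ∈ h.Th := by
  refine ⟨h.smul_ne (h.H_a k hk) hc.1, fun t ht => ?_⟩
  obtain ⟨x, hx, hxc⟩ := hc.2 t ht
  refine ⟨k * x * k⁻¹, h.H_V hk hx, ?_⟩
  rw [← mul_smul, ← h.H_T hk ht, mul_smul, hxc]
  simp [mul_smul]

theorem Th_b (h : Core a b V H T S q) : b ∈ h.Th :=
  ⟨h.ne, fun t ht => ⟨1, V.one_mem, by rw [one_smul, h.T_b t ht]⟩⟩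

theorem exists_C (h : Core a b V H T S q) [Finite G] {c : Ω} (hc : c ∈ h.Th) :
    ∃ g ∈ h.C, g • b = c := by
  obtain ⟨g, hg, hgc⟩ := h.trans c hc.1
  exact ⟨g, h.mem_C_of_Th hg (by rw [hgc]; exact hc), hgc⟩

/-- all elements of `t V` have fixed points in `Θ` -/
theorem exists_fix (h : Core a b V H T S q) [Finite G] {t x : G} (ht : t ∈ T) (hne : t ≠ 1)
    (hx : x ∈ V) : ∃ g ∈ h.C, (t * x) • g • b = g • b := by
  by_cases hx1 : x = 1
  · subst hx1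
    exact ⟨1, h.C.one_mem, by rw [mul_one, one_smul, h.T_b t ht]⟩
  obtain ⟨g0, hg0, hgA⟩ := h.exists_g0
  have hc0 := h.smul_Th hg0
  obtain ⟨x0, hx0, hxc⟩ := hc0.2 t ht
  have hx01 : x0 ≠ 1 := h.ne_one_of_move ht hne hc0.1 (h.not_orbit hg0.1 hgA) hxc.symm
  obtain ⟨k, hk, hkx⟩ := h.H_trans x0 hx0 hx01 x hx hx1
  obtain ⟨g, hg, hgc⟩ := h.exists_C (h.Th_H hc0 hk)
  refine ⟨g, hg, ?_⟩
  have h1 : t • k • g0 • b = x • k • g0 • b := by
    rw [← mul_smul, ← h.H_T hk ht, mul_smul, hxc, ← hkx]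
    simp [mul_smul]
  rw [hgc, mul_smul, h.smul_V (h.T_le ht) hx, h1, ← mul_smul, h.V_sq x hx, one_smul]

theorem H_orbit (h : Core a b V H T S q) {c c' : Ω} (hc : c ∈ h.Th) (hc' : c' ∈ h.Th)
    (hcb : ∀ x ∈ V, x • b ≠ c) (hcb' : ∀ x ∈ V, x • b ≠ c') :
    ∃ k ∈ H, ∃ y ∈ V, k • c = y • c' := by
  obtain ⟨t, ht, hne⟩ := h.T_ne
  obtain ⟨x, hx, hxc⟩ := hc.2 t ht
  obtain ⟨x', hx', hxc'⟩ := hc'.2 t ht
  have hx1 : x ≠ 1 := h.ne_one_of_move ht hne hc.1 hcb hxc.symm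
  have hx1' : x' ≠ 1 := h.ne_one_of_move ht hne hc'.1 hcb' hxc'.symm
  obtain ⟨k, hk, hkx⟩ := h.H_trans x hx hx1 x' hx' hx1'
  have h1 : t • k • c = x' • k • c := by
    rw [← mul_smul, ← h.H_T hk ht, mul_smul, hxc, ← hkx]
    simp [mul_smul]
  obtain ⟨y, hy, hyc⟩ := h.same_orbit ht hne hx' hc'.1 (h.Th_H hc hk).1 hxc' h1
  exact ⟨k, hk, y, hy, hyc.symm⟩

/-- the elements centralising `V` and `A / V` -/
def D (h : Core a b V H T S q) : Subgroup G where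
  carrier := {γ | γ • a = a ∧ (∀ x ∈ V, γ * x = x * γ) ∧ ∀ t ∈ T, ∃ x ∈ V, γ * t * γ⁻¹ = t * x}
  mul_mem' := by
    rintro γ γ' ⟨h1, h2, h3⟩ ⟨h1', h2', h3'⟩
    refine ⟨by rw [mul_smul, h1', h1], fun x hx => by rw [mul_assoc, h2' x hx, ← mul_assoc,
      h2 x hx, mul_assoc], fun t ht => ?_⟩
    obtain ⟨x, hx, hxt⟩ := h3 t ht
    obtain ⟨x', hx', hxt'⟩ := h3' t ht
    refine ⟨x * x', V.mul_mem hx hx', ?_⟩
    have : γ * γ' * t * (γ * γ')⁻¹ = γ * (γ' * t * γ'⁻¹) * γ⁻¹ := by group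
    rw [this, hxt']
    have : γ * (t * x') * γ⁻¹ = (γ * t * γ⁻¹) * (γ * x' * γ⁻¹) := by group
    rw [this, hxt, h2 x' hx']
    group
  one_mem' := ⟨one_smul _ _, fun x _ => by simp, fun t _ => ⟨1, V.one_mem, by simp⟩⟩
  inv_mem' := by
    rintro γ ⟨h1, h2, h3⟩
    have h2' : ∀ x ∈ V, γ⁻¹ * x = x * γ⁻¹ := by
      intro x hx
      rw [inv_mul_eq_iff_eq_mul, ← mul_assoc, h2 x hx]
      group
    refine ⟨by rw [inv_smul_eq_iff, h1], h2', fun t ht => ?_⟩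
    obtain ⟨x, hx, hxt⟩ := h3 t ht
    refine ⟨x⁻¹, V.inv_mem hx, ?_⟩
    have h4 : γ * t = t * x * γ := by rw [← hxt]; group
    have h5 : γ * (t * x⁻¹) * γ⁻¹ = t := by
      rw [← mul_assoc, h4, mul_assoc (t * x), h2 _ (V.inv_mem hx)]
      group
    rw [inv_inv]
    nth_rewrite 1 [← h5]
    group

theorem mem_D (h : Core a b V H T S q) {γ : G} : γ ∈ h.D ↔
    γ • a = a ∧ (∀ x ∈ V, γ * x = x * γ) ∧ ∀ t ∈ T, ∃ x ∈ V, γ * t * γ⁻¹ = t * x := Iff.rfl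

theorem D_A (h : Core a b V H T S q) {γ s : G} (hγ : γ ∈ h.D) (hs : s ∈ h.A) :
    ∃ y ∈ V, γ * s * γ⁻¹ = s * y := by
  obtain ⟨t, ht, x, hx, rfl⟩ := h.mem_A_iff.mp hs
  obtain ⟨y, hy, hyt⟩ := hγ.2.2 t ht
  refine ⟨y, hy, ?_⟩
  have : γ * (t * x) * γ⁻¹ = (γ * t * γ⁻¹) * (γ * x * γ⁻¹) := by group
  rw [this, hyt, hγ.2.1 x hx, mul_inv_cancel_right, mul_assoc, mul_assoc, h.V_comm hy hx]

theorem D_conj (h : Core a b V H T S q) {n γ : G} (hn : n • a = a)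
    (hnT : ∀ t ∈ T, n⁻¹ * t * n ∈ h.A) (hγ : γ ∈ h.D) : n * γ * n⁻¹ ∈ h.D := by
  have hn' : n⁻¹ • a = a := by rw [inv_smul_eq_iff, hn]
  refine ⟨by rw [mul_smul, mul_smul, hn', hγ.1, hn], fun x hx => ?_, fun t ht => ?_⟩
  · have h1 := hγ.2.1 _ (h.V_conj n⁻¹ hn' x hx)
    rw [inv_inv] at h1
    calc n * γ * n⁻¹ * x = n * (γ * (n⁻¹ * x * n)) * n⁻¹ := by group
      _ = n * ((n⁻¹ * x * n) * γ) * n⁻¹ := by rw [h1]
      _ = x * (n * γ * n⁻¹) := by group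
  · obtain ⟨y, hy, hys⟩ := h.D_A hγ (hnT t ht)
    refine ⟨n * y * n⁻¹, h.V_conj n hn y hy, ?_⟩
    calc n * γ * n⁻¹ * t * (n * γ * n⁻¹)⁻¹ = n * (γ * (n⁻¹ * t * n) * γ⁻¹) * n⁻¹ := by group
      _ = n * (n⁻¹ * t * n * y) * n⁻¹ := by rw [hys]
      _ = t * (n * y * n⁻¹) := by group

theorem A_le_D (h : Core a b V H T S q) [Finite G] : h.A ≤ h.D := by
  intro s hs
  refine ⟨h.S_a s (h.A_le hs), fun x hx => h.S_V s (h.A_le hs) x hx, fun t ht =>
    ⟨1, V.one_mem, ?_⟩⟩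
  rw [h.A_comm hs (h.T_le_A ht)]
  group

theorem C_T (h : Core a b V H T S q) {g t : G} (hg : g ∈ h.C) (ht : t ∈ T) :
    g⁻¹ * t * g ∈ h.A := by
  have := ((h.C.inv_mem hg).2 t).mp (h.T_le_A ht)
  rwa [inv_inv] at this

theorem gamma_mem (h : Core a b V H T S q) {g k : G} (hg : g ∈ h.C) (hk : k ∈ H) :
    g * k * g⁻¹ * k⁻¹ ∈ h.D := by
  have ha : g • a = a := h.S_a g hg.1
  have ha' : g⁻¹ • a = a := by rw [inv_smul_eq_iff, ha]
  have hka : k • a = a := h.H_a k hk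
  have hka' : k⁻¹ • a = a := by rw [inv_smul_eq_iff, hka]
  refine ⟨by rw [mul_smul, mul_smul, mul_smul, hka', ha', hka, ha], fun x hx => ?_,
    fun t ht => ?_⟩
  · have h1 : k⁻¹ * x * k⁻¹⁻¹ ∈ V := h.H_V (H.inv_mem hk) hx
    rw [inv_inv] at h1
    have h2 := h.S_V _ (S.inv_mem hg.1) _ h1
    have h3 := h.S_V _ hg.1 _ hx
    calc g * k * g⁻¹ * k⁻¹ * x = g * k * (g⁻¹ * (k⁻¹ * x * k)) * k⁻¹ := by group
      _ = g * k * (k⁻¹ * x * k * g⁻¹) * k⁻¹ := by rw [h2]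
      _ = (g * x) * k * g⁻¹ * k⁻¹ := by group
      _ = (x * g) * k * g⁻¹ * k⁻¹ := by rw [h3]
      _ = x * (g * k * g⁻¹ * k⁻¹) := by group
  · obtain ⟨t1, ht1, x1, hx1, he⟩ := h.mem_A_iff.mp (h.C_T hg ht)
    refine ⟨x1⁻¹ * (k * x1 * k⁻¹), V.mul_mem (V.inv_mem hx1) (h.H_V hk hx1), ?_⟩
    have h1 : k⁻¹ * t * k = t := by
      rw [mul_assoc, ← h.H_T hk ht, inv_mul_cancel_left]
    have h2 := h.H_T hk ht1
    have h3 : g * t1 * g⁻¹ = t * x1⁻¹ := by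
      have h4 : t1 = g⁻¹ * t * g * x1⁻¹ := by rw [he]; group
      have h5 := h.S_V g hg.1 _ (V.inv_mem hx1)
      rw [h4]
      calc g * (g⁻¹ * t * g * x1⁻¹) * g⁻¹ = t * (g * x1⁻¹) * g⁻¹ := by group
        _ = t * (x1⁻¹ * g) * g⁻¹ := by rw [h5]
        _ = t * x1⁻¹ := by group
    have h6 := h.S_V g hg.1 _ (h.H_V hk hx1)
    calc g * k * g⁻¹ * k⁻¹ * t * (g * k * g⁻¹ * k⁻¹)⁻¹
        = g * k * (g⁻¹ * (k⁻¹ * t * k) * g) * k⁻¹ * g⁻¹ := by group
      _ = g * k * (t1 * x1) * k⁻¹ * g⁻¹ := by rw [h1, he]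
      _ = g * (k * t1) * x1 * k⁻¹ * g⁻¹ := by group
      _ = g * (t1 * k) * x1 * k⁻¹ * g⁻¹ := by rw [h2]
      _ = g * t1 * (k * x1 * k⁻¹) * g⁻¹ := by group
      _ = g * t1 * g⁻¹ * (g * (k * x1 * k⁻¹)) * g⁻¹ := by group
      _ = t * x1⁻¹ * ((k * x1 * k⁻¹) * g) * g⁻¹ := by rw [h3, h6]
      _ = t * (x1⁻¹ * (k * x1 * k⁻¹)) := by group

theorem gamma_move (h : Core a b V H T S q) {g k : G} (hg : g ∈ h.C) (hgA : g ∉ h.A)
    (hk : k ∈ H) (hk1 : ∀ x ∈ V, x ≠ 1 → k * x * k⁻¹ ≠ x) :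
    ∀ x ∈ V, x • b ≠ (g * k * g⁻¹ * k⁻¹) • b := by
  intro y hy he
  obtain ⟨t, ht, hne⟩ := h.T_ne
  have hg' := h.C.inv_mem hg
  have hgA' : g⁻¹ ∉ h.A := fun h1 => hgA (by simpa using h.A.inv_mem h1)
  have hc := h.smul_Th hg'
  obtain ⟨x, hx, hxc⟩ := hc.2 t ht
  have hx1 : x ≠ 1 := h.ne_one_of_move ht hne hc.1 (h.not_orbit hg'.1 hgA') hxc.symm
  set c := g⁻¹ • b with hcdef
  have hkb : k⁻¹ • b = b := by rw [inv_smul_eq_iff, h.H_b k hk]
  -- `k • c = y • c`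
  have h1 : k • c = y • c := by
    rw [mul_smul, mul_smul, mul_smul, hkb, ← hcdef] at he
    have h2 : g⁻¹ • y • b = k • c := by rw [he, inv_smul_smul]
    rw [← h2, h.smul_V hg'.1 hy]
  have h2 : t • k • c = (k * x * k⁻¹) • k • c := by
    rw [← mul_smul, ← h.H_T hk ht, mul_smul, hxc]
    simp [mul_smul]
  have h3 : t • k • c = x • k • c := by
    rw [h1, h.smul_V (h.T_le ht) hy, hxc, h.smul_V (h.V_le hy) hx]
  have h4 := h.eq_of_smul (h.H_V hk hx) hx (h.smul_ne (h.H_a k hk) hc.1) (h2.symm.trans h3)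
  exact hk1 x hx hx1 h4

theorem exists_V_ne_ne (h : Core a b V H T S q) [Finite G] (x : G) :
    ∃ y ∈ V, y ≠ 1 ∧ y ≠ x := by
  have h1 : (({1, x} : Set G)).ncard < (V : Set G).ncard := by
    have h2 : (V : Set G).ncard = q := h.card_V
    rw [h2]
    have h3 : ({1, x} : Set G).ncard ≤ 2 := by
      have := Set.ncard_insert_le (1 : G) {x}
      rwa [Set.ncard_singleton] at this
    have := h.four_le
    omega
  obtain ⟨y, hy, hyn⟩ := Set.exists_mem_notMem_of_ncard_lt_ncard h1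
  refine ⟨y, hy, ?_, ?_⟩
  · rintro rfl; exact hyn (by simp)
  · rintro rfl; exact hyn (by simp)

theorem exists_V_ne (h : Core a b V H T S q) [Finite G] : ∃ x ∈ V, x ≠ 1 := by
  obtain ⟨y, hy, hy1, _⟩ := h.exists_V_ne_ne 1
  exact ⟨y, hy, hy1⟩

theorem two_dvd (h : Core a b V H T S q) [Finite G] : 2 ∣ q := by
  obtain ⟨x, hx, hx1⟩ := h.exists_V_ne
  have h1 : orderOf (⟨x, hx⟩ : V) = 2 := by
    apply orderOf_eq_prime
    · rw [pow_two]; exact Subtype.ext (h.V_sq x hx)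
    · intro he; exact hx1 (Subtype.ext_iff.mp he)
  rw [← h.card_V, ← h1]
  exact orderOf_dvd_natCard _

theorem odd_H (h : Core a b V H T S q) : Odd (Nat.card H) := h.H_odd

theorem C_le_D (h : Core a b V H T S q) [Finite G] : h.C ≤ h.D := by
  intro g hg
  by_cases hgA : g ∈ h.A
  · exact h.A_le_D hgA
  obtain ⟨k, hk, hk1⟩ := h.H_ex
  have hga : g • a = a := h.S_a g hg.1
  have hγ1 := h.gamma_mem hg hk
  set γ1 := g * k * g⁻¹ * k⁻¹ with hγ1def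
  have hmove := h.gamma_move hg hgA hk hk1
  rw [← hγ1def] at hmove
  -- elements of `D` move `b` into `Θ`
  have hDTh : ∀ γ ∈ h.D, γ • b ∈ h.Th := by
    intro γ hγ
    refine ⟨h.smul_ne hγ.1 h.ne, fun t ht => ?_⟩
    obtain ⟨x, hx, hxt⟩ := (h.D.inv_mem hγ).2.2 t ht
    refine ⟨x, hx, ?_⟩
    rw [inv_inv] at hxt
    have h1 : t * γ = γ * (t * x) := by rw [← hxt]; group
    rw [← mul_smul, h1, h.T_V ht hx, mul_smul, mul_smul, h.T_b t ht, ← mul_smul, hγ.2.1 x hx,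
      mul_smul]
  have hgTh := h.smul_Th hg
  obtain ⟨k0, hk0, y, hy, hky⟩ := h.H_orbit (hDTh _ hγ1) hgTh hmove (h.not_orbit hg.1 hgA)
  -- `γ ∈ D` with `γ • b = g • b`
  have hk0a : k0⁻¹ • a = a := by rw [inv_smul_eq_iff, h.H_a k0 hk0]
  have hk0b : k0⁻¹ • b = b := by rw [inv_smul_eq_iff, h.H_b k0 hk0]
  have hγ : y⁻¹ * (k0 * γ1 * k0⁻¹) ∈ h.D := by
    refine h.D.mul_mem (h.D.inv_mem (h.A_le_D (h.V_le_A hy))) (h.D_conj (h.H_a k0 hk0) ?_ hγ1)
    intro t ht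
    rw [mul_assoc, ← h.H_T hk0 ht, inv_mul_cancel_left]
    exact h.T_le_A ht
  have hγb : (y⁻¹ * (k0 * γ1 * k0⁻¹)) • b = g • b := by
    rw [mul_smul, mul_smul, mul_smul, hk0b, hky, inv_smul_smul]
  set γ := y⁻¹ * (k0 * γ1 * k0⁻¹) with hγdef
  -- `w = γ⁻¹ g`
  have hwb : (γ⁻¹ * g) • b = b := by rw [mul_smul, ← hγb, inv_smul_smul]
  have hwa : (γ⁻¹ * g) • a = a := by rw [mul_smul, hga]; exact (h.D.inv_mem hγ).1
  have hwV : ∀ x ∈ V, γ⁻¹ * g * x = x * (γ⁻¹ * g) := by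
    intro x hx
    rw [mul_assoc, h.S_V g hg.1 x hx, ← mul_assoc, (h.D.inv_mem hγ).2.1 x hx, mul_assoc]
  have hwT : ∀ t ∈ T, (γ⁻¹ * g)⁻¹ * t * (γ⁻¹ * g) ∈ T := by
    intro t ht
    have h1 : (γ⁻¹ * g)⁻¹ * t * (γ⁻¹ * g) ∈ h.A := by
      obtain ⟨x, hx, hxt⟩ := hγ.2.2 t ht
      have h2 : (γ⁻¹ * g)⁻¹ * t * (γ⁻¹ * g) = (g⁻¹ * t * g) * (g⁻¹ * x * g) := by
        have : (γ⁻¹ * g)⁻¹ * t * (γ⁻¹ * g) = g⁻¹ * (γ * t * γ⁻¹) * g := by group
        rw [this, hxt]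
        group
      rw [h2]
      refine h.A.mul_mem (h.C_T hg ht) (h.V_le_A ?_)
      rw [mul_assoc, ← h.S_V g hg.1 x hx, inv_mul_cancel_left]
      exact hx
    apply h.S_b _ (h.A_le h1)
    rw [mul_smul, mul_smul, hwb, h.T_b t ht, inv_smul_eq_iff, hwb]
  have hgw : g = γ * (γ⁻¹ * g) := by group
  set w := γ⁻¹ * g with hwdef
  clear_value w
  have hwT' : ∀ j : ℕ, ∀ t ∈ T, (w ^ j)⁻¹ * t * w ^ j ∈ T := by
    intro j
    induction j with
    | zero => intro t ht; simpa using ht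
    | succ j ih =>
      intro t ht
      have := hwT _ (ih t ht)
      have h2 : (w ^ (j + 1))⁻¹ * t * w ^ (j + 1) = w⁻¹ * ((w ^ j)⁻¹ * t * w ^ j) * w := by
        rw [pow_succ]; group
      rw [h2]; exact this
  have hwV' : ∀ j : ℕ, ∀ x ∈ V, w ^ j * x = x * w ^ j := by
    intro j x hx
    exact (Commute.pow_left (show Commute w x from hwV x hx) j).eq
  have hwa' : ∀ j : ℕ, w ^ j • a = a := by
    intro j
    induction j with
    | zero => simp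
    | succ j ih => rw [pow_succ, mul_smul, hwa, ih]
  have hwH : ∀ k ∈ H, k * w = w * k := fun k hk => h.H_comm k hk w hwa hwb hwV
  -- the point `c`
  have hwc : w • g • b ∈ h.Th := by
    refine ⟨h.smul_ne hwa hgTh.1, fun t ht => ?_⟩
    obtain ⟨x, hx, hxc⟩ := hgTh.2 _ (hwT t ht)
    refine ⟨x, hx, ?_⟩
    have h1 : t * w = w * (w⁻¹ * t * w) := by group
    rw [← mul_smul, h1, mul_smul, hxc, ← mul_smul, hwV x hx, mul_smul]
  have hwcb : ∀ x ∈ V, x • b ≠ w • g • b := by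
    intro x hx he
    apply h.not_orbit hg.1 hgA x hx
    have h1 : w⁻¹ • x • b = g • b := by rw [he, inv_smul_smul]
    rw [← h1]
    have h2 : w⁻¹ * x = x * w⁻¹ := by
      rw [inv_mul_eq_iff_eq_mul, ← mul_assoc, hwV x hx]; group
    rw [← mul_smul, h2, mul_smul]
    congr 1
    rw [eq_comm, inv_smul_eq_iff, hwb]
  obtain ⟨k1, hk1, z, hz, hkz⟩ := h.H_orbit hgTh hwc (h.not_orbit hg.1 hgA) hwcb
  have hnot := h.not_orbit hg.1 hgA
  set c := g • b with hcdef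
  clear_value c
  have hwc1 : w • c = z⁻¹ • k1 • c := by rw [hkz, inv_smul_smul]
  have hpow : ∀ j : ℕ, ∃ z ∈ V, w ^ j • c = z • k1 ^ j • c := by
    intro j
    induction j with
    | zero => exact ⟨1, V.one_mem, by simp⟩
    | succ j ih =>
      obtain ⟨z', hz', hzj⟩ := ih
      have hkj : k1 ^ j ∈ H := H.pow_mem hk1 j
      refine ⟨z' * (k1 ^ j * z⁻¹ * (k1 ^ j)⁻¹), V.mul_mem hz' (h.H_V hkj (V.inv_mem hz)), ?_⟩
      have h1 : w * (z' * k1 ^ j) = z' * k1 ^ j * w := by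
        rw [← mul_assoc, hwV z' hz', mul_assoc, ← hwH _ hkj, mul_assoc]
      calc w ^ (j + 1) • c = w • w ^ j • c := by rw [pow_succ', mul_smul]
        _ = (w * (z' * k1 ^ j)) • c := by rw [hzj, mul_smul, mul_smul]
        _ = (z' * k1 ^ j) • w • c := by rw [h1, mul_smul]
        _ = (z' * k1 ^ j) • z⁻¹ • k1 • c := by rw [hwc1]
        _ = (z' * (k1 ^ j * z⁻¹ * (k1 ^ j)⁻¹)) • k1 ^ (j + 1) • c := by
          rw [← mul_smul, ← mul_smul, ← mul_smul]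
          congr 1
          rw [pow_succ]
          group
  obtain ⟨z', hz', hzm⟩ := hpow (Nat.card H)
  have hk1m : k1 ^ Nat.card H = 1 := by
    have h2 := Subtype.ext_iff.mp (pow_card_eq_one' (x := (⟨k1, hk1⟩ : H)))
    rw [Subgroup.coe_pow] at h2
    exact h2
  rw [hk1m, one_smul] at hzm
  set m := Nat.card H with hm
  -- `w ^ m` centralises `T`
  have hcomm : ∀ t ∈ T, w ^ m * t * (w ^ m)⁻¹ = t := by
    intro t ht
    have ht2 := hwT' m t ht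
    obtain ⟨x, hx, hxc⟩ := hgTh.2 t ht
    obtain ⟨x2, hx2, hxc2⟩ := hgTh.2 _ ht2
    have e1 : t • w ^ m • c = (z' * x) • c := by
      rw [hzm, h.smul_V (h.T_le ht) hz', hxc, ← mul_smul]
    have e2 : t • w ^ m • c = (z' * x2) • c := by
      have : t * w ^ m = w ^ m * ((w ^ m)⁻¹ * t * w ^ m) := by group
      rw [← mul_smul, this, mul_smul, hxc2, ← mul_smul, hwV' m x2 hx2, mul_smul, hzm,
        ← mul_smul, h.V_comm hx2 hz']
    have e3 : x = x2 := by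
      have := h.eq_of_smul (V.mul_mem hz' hx) (V.mul_mem hz' hx2) hgTh.1 (e1.symm.trans e2)
      exact mul_left_cancel this
    have e4 : (t * ((w ^ m)⁻¹ * t * w ^ m)) • c = c := by
      rw [mul_smul, hxc2, ← e3, h.smul_V (h.T_le ht) hx, hxc, ← mul_smul, h.V_sq x hx, one_smul]
    have e5 : t * ((w ^ m)⁻¹ * t * w ^ m) = 1 := by
      by_contra hne
      have h5 := T.mul_mem ht ht2
      obtain ⟨y, hy, hyb⟩ := h.fix _ (h.T_le h5) hne b c h.ne hgTh.1 (h.T_b _ h5) e4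
      exact hnot y hy hyb
    rw [mul_eq_one_iff_inv_eq, h.T_inv ht] at e5
    nth_rewrite 1 [e5]
    group
  have hwm : w ^ m ∈ h.D := ⟨hwa' m, hwV' m, fun t ht => ⟨1, V.one_mem, by
    rw [hcomm t ht, mul_one]⟩⟩
  have hwD : ∀ δ ∈ h.D, w * δ * w⁻¹ ∈ h.D := fun δ hδ =>
    h.D_conj hwa (fun t ht => h.T_le_A (hwT t ht)) hδ
  have hgj : ∀ j : ℕ, ∃ δ ∈ h.D, g ^ j = δ * w ^ j := by
    intro j
    induction j with
    | zero => exact ⟨1, h.D.one_mem, by simp⟩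
    | succ j ih =>
      obtain ⟨δ, hδ, hj⟩ := ih
      refine ⟨γ * (w * δ * w⁻¹), h.D.mul_mem hγ (hwD δ hδ), ?_⟩
      rw [pow_succ', hj]
      nth_rewrite 1 [hgw]
      rw [pow_succ']
      group
  obtain ⟨δ, hδ, hgm⟩ := hgj m
  have hgmD : g ^ m ∈ h.D := by rw [hgm]; exact h.D.mul_mem hδ hwm
  obtain ⟨n, hn⟩ := h.S_two ⟨g, hg.1⟩
  have hn' : g ^ 2 ^ n = 1 := by simpa using Subtype.ext_iff.mp hn
  have hcop : m.Coprime (orderOf g) := by
    apply Nat.Coprime.coprime_dvd_right (orderOf_dvd_of_pow_eq_one hn')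
    exact Nat.Coprime.pow_right n (Nat.coprime_two_right.mpr h.odd_H)
  obtain ⟨j, hj⟩ := exists_pow_eq_self_of_coprime hcop
  rw [← hj]
  exact h.D.pow_mem hgmD j

/-- the homomorphism `g ↦ t⁻¹ g t g⁻¹` from `C` to `V` -/
def delta (h : Core a b V H T S q) {t : G}
    (hV : ∀ g ∈ h.C, t⁻¹ * g * t * g⁻¹ ∈ V) : h.C →* V where
  toFun g := ⟨t⁻¹ * g * t * (g : G)⁻¹, hV g g.2⟩
  map_one' := Subtype.ext (by simp)
  map_mul' := by
    rintro ⟨g, hg⟩ ⟨g', hg'⟩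
    apply Subtype.ext
    have h1 := h.S_V g hg.1 _ (hV g' hg')
    simp only [Subgroup.coe_mul]
    calc t⁻¹ * (g * g') * t * (g * g')⁻¹
        = t⁻¹ * g * t * (t⁻¹ * g' * t * g'⁻¹) * g⁻¹ := by group
      _ = t⁻¹ * g * t * (g⁻¹ * (g * (t⁻¹ * g' * t * g'⁻¹))) * g⁻¹ := by group
      _ = t⁻¹ * g * t * (g⁻¹ * ((t⁻¹ * g' * t * g'⁻¹) * g)) * g⁻¹ := by rw [h1]
      _ = t⁻¹ * g * t * g⁻¹ * (t⁻¹ * g' * t * g'⁻¹) := by group

theorem delta_mem (h : Core a b V H T S q) [Finite G] {t : G} (ht : t ∈ T) :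
    ∀ g ∈ h.C, t⁻¹ * g * t * g⁻¹ ∈ V := by
  intro g hg
  obtain ⟨x, hx, hxt⟩ := (h.C_le_D hg).2.2 t ht
  have : t⁻¹ * g * t * g⁻¹ = x := by
    calc t⁻¹ * g * t * g⁻¹ = t⁻¹ * (g * t * g⁻¹) := by group
      _ = x := by rw [hxt]; group
  rw [this]
  exact hx

theorem mem_A_of_comm (h : Core a b V H T S q) {g t : G} (hg : g ∈ S) (ht : t ∈ T) (hne : t ≠ 1)
    (hgt : t⁻¹ * g * t * g⁻¹ = 1) : g ∈ h.A := by
  apply h.mem_A_of_commute hg ht hne
  rw [mul_inv_eq_one] at hgt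
  calc g * t = t * (t⁻¹ * g * t) := by group
    _ = t * g := by rw [hgt]

/-- all elements of `t V` are conjugate in `C` -/
theorem exists_conj (h : Core a b V H T S q) [Finite G] {t x : G} (ht : t ∈ T) (hne : t ≠ 1)
    (hx : x ∈ V) : ∃ g ∈ h.C, g * t * g⁻¹ = t * x := by
  obtain ⟨g, hg, hgb⟩ := h.exists_fix ht hne hx
  have h1 : g⁻¹ * (t * x) * g ∈ T := by
    apply h.S_b
    · exact S.mul_mem (S.mul_mem (S.inv_mem hg.1) (S.mul_mem (h.T_le ht) (h.V_le hx))) hg.1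
    · rw [mul_assoc, mul_smul, inv_smul_eq_iff, mul_smul, hgb]
  obtain ⟨x', hx', hxt⟩ := (h.C_le_D hg).2.2 _ h1
  have h2 : g * (g⁻¹ * (t * x) * g) * g⁻¹ = t * x := by group
  rw [h2] at hxt
  obtain ⟨h3, h4⟩ := h.T_inj ht h1 hx hx' hxt
  refine ⟨g, hg, ?_⟩
  nth_rewrite 1 [h3]
  exact h2

theorem card_C (h : Core a b V H T S q) [Finite G] : Nat.card h.C = Nat.card h.A * q := by
  obtain ⟨t, ht, hne⟩ := h.T_ne
  set f := h.delta (h.delta_mem ht) with hf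
  have h1 : f.ker = h.A.subgroupOf h.C := by
    ext ⟨g, hg⟩
    rw [MonoidHom.mem_ker, mem_subgroupOf]
    constructor
    · intro h2
      have h3 : t⁻¹ * g * t * g⁻¹ = 1 := Subtype.ext_iff.mp h2
      exact h.mem_A_of_comm hg.1 ht hne h3
    · intro h2
      apply Subtype.ext
      show t⁻¹ * g * t * g⁻¹ = 1
      have h3 : g * t = t * g := h.A_comm h2 (h.T_le_A ht)
      rw [mul_assoc t⁻¹, h3]
      group
  have h2 : f.range = ⊤ := by
    rw [MonoidHom.range_eq_top]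
    rintro ⟨x, hx⟩
    obtain ⟨g, hg, hgt⟩ := h.exists_conj ht hne hx
    refine ⟨⟨g, hg⟩, Subtype.ext ?_⟩
    show t⁻¹ * g * t * g⁻¹ = x
    calc t⁻¹ * g * t * g⁻¹ = t⁻¹ * (g * t * g⁻¹) := by group
      _ = x := by rw [hgt]; group
  have h3 := Subgroup.card_mul_index f.ker
  rw [Subgroup.index_ker, h2, h1, Nat.card_congr (Subgroup.subgroupOfEquivOfLe h.A_le_C).toEquiv,
    Subgroup.card_top, h.card_V] at h3
  exact h3.symm

theorem C_sq (h : Core a b V H T S q) [Finite G] {g : G} (hg : g ∈ h.C) : g * g ∈ V := by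
  obtain ⟨t, ht, hne⟩ := h.T_ne
  have h1 : g * g ∈ h.A := by
    apply h.mem_A_of_comm (S.mul_mem hg.1 hg.1) ht hne
    have h2 := h.delta_mem ht g hg
    have h3 := (h.delta (h.delta_mem ht)).map_mul ⟨g, hg⟩ ⟨g, hg⟩
    have h4 := Subtype.ext_iff.mp h3
    have h5 : t⁻¹ * (g * g) * t * (g * g)⁻¹ = (t⁻¹ * g * t * g⁻¹) * (t⁻¹ * g * t * g⁻¹) := h4
    rw [h5, h.V_sq _ h2]
  obtain ⟨t', ht', x, hx, he⟩ := h.mem_A_iff.mp h1
  by_cases ht1 : t' = 1
  · rw [he, ht1, one_mul]; exact hx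
  exfalso
  have h2 : g * t' = t' * g := by
    have h3 : t' = g * g * x⁻¹ := by rw [he]; group
    have h4 := h.S_V g hg.1 _ (V.inv_mem hx)
    rw [h3]
    calc g * (g * g * x⁻¹) = g * g * (g * x⁻¹) := by group
      _ = g * g * (x⁻¹ * g) := by rw [h4]
      _ = g * g * x⁻¹ * g := by group
  have h3 := h.mem_A_of_commute hg.1 ht' ht1 h2
  rw [h.A_sq h3] at he
  have h4 := h.T_inj T.one_mem ht' V.one_mem hx (by rw [one_mul]; exact he)
  exact ht1 h4.1.symm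

theorem conj_V (h : Core a b V H T S q) {g x : G} (hg : g ∈ S) (hx : x ∈ V) :
    g * x * g⁻¹ = x := by
  rw [h.S_V g hg x hx, mul_inv_cancel_right]

theorem C_comm (h : Core a b V H T S q) [Finite G] {g g' : G} (hg : g ∈ h.C) (hg' : g' ∈ h.C) :
    g * g' * g⁻¹ * g'⁻¹ ∈ V := by
  have h1 : g * g' * g⁻¹ * g'⁻¹ =
      (g * g') * (g * g') * (g'⁻¹ * (g * g)⁻¹ * g'⁻¹⁻¹) * (g' * g')⁻¹ := by group
  rw [h1, h.conj_V (S.inv_mem hg'.1) (V.inv_mem (h.C_sq hg))]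
  exact V.mul_mem (V.mul_mem (h.C_sq (h.C.mul_mem hg hg')) (V.inv_mem (h.C_sq hg)))
    (V.inv_mem (h.C_sq hg'))

/-- `F5`: involutions of `C` can be moved by `H` -/
theorem exists_invol (h : Core a b V H T S q) [Finite G] {k0 k : G} (hk0 : k0 ∈ h.C)
    (hk02 : k0 * k0 = 1) (hk : k ∈ H) : ∃ k1 ∈ h.C, k1 * k1 = 1 ∧ k1 • b = k • k0 • b := by
  obtain ⟨g, hg, hgb⟩ := h.exists_C (h.Th_H (h.smul_Th hk0) hk)
  have hka : k • a = a := h.H_a k hk
  have hkb : k⁻¹ • b = b := by rw [inv_smul_eq_iff, h.H_b k hk]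
  set y := g⁻¹ * (k * k0 * k⁻¹) with hy
  have hyD : y ∈ h.D := by
    refine h.D.mul_mem (h.D.inv_mem (h.C_le_D hg)) (h.D_conj hka ?_ (h.C_le_D hk0))
    intro t ht
    rw [mul_assoc, ← h.H_T hk ht, inv_mul_cancel_left]
    exact h.T_le_A ht
  have hyb : y • b = b := by
    rw [hy, mul_smul, mul_smul, mul_smul, hkb, ← hgb, inv_smul_smul]
  have hya : y • a = a := hyD.1
  have hyV : ∀ x ∈ V, y * x = x * y := hyD.2.1
  have hyT : ∀ t ∈ T, y * t = t * y := by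
    intro t ht
    obtain ⟨x, hx, hxt⟩ := hyD.2.2 t ht
    have h1 : x • b = b := by
      have h2 : (y * t * y⁻¹) • b = b := by
        have : y⁻¹ • b = b := by rw [inv_smul_eq_iff, hyb]
        rw [mul_smul, mul_smul, this, h.T_b t ht, hyb]
      rw [hxt, h.T_V ht hx, mul_smul, h.T_b t ht] at h2
      exact h2
    have h3 := h.eq_one_of_fix hx h.ne h1
    rw [h3, mul_one, mul_inv_eq_iff_eq_mul] at hxt
    exact hxt
  clear_value y
  have hgy : g * y * (g * y) = 1 := by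
    have : g * y = k * k0 * k⁻¹ := by rw [hy]; group
    rw [this]
    calc k * k0 * k⁻¹ * (k * k0 * k⁻¹) = k * (k0 * k0) * k⁻¹ := by group
      _ = 1 := by rw [hk02]; group
  -- `m` the odd part of the order of `y`
  obtain ⟨e, m, hm, hem⟩ := Nat.exists_eq_two_pow_mul_odd (orderOf_pos y).ne'
  have hpow : ∀ j : ℕ, y ^ j • a = a ∧ y ^ j • b = b ∧ (∀ t ∈ T, y ^ j * t = t * y ^ j) ∧
      ∀ x ∈ V, y ^ j * x = x * y ^ j := by
    intro j
    refine ⟨?_, ?_, fun t ht => (Commute.pow_left (show Commute y t from hyT t ht) j).eq,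
      fun x hx => (Commute.pow_left (show Commute y x from hyV x hx) j).eq⟩
    · induction j with
      | zero => simp
      | succ j ih => rw [pow_succ, mul_smul, hya, ih]
    · induction j with
      | zero => simp
      | succ j ih => rw [pow_succ, mul_smul, hyb, ih]
  have hymT : y ^ m ∈ T := by
    apply h.T_max _ (hpow m).1 (hpow m).2.1 ⟨e, ?_⟩ (hpow m).2.2.1
    rw [← pow_mul, mul_comm, ← hem, pow_orderOf_eq_one]
  refine ⟨g * y ^ m, h.C.mul_mem hg (h.A_le_C (h.T_le_A hymT)), ?_, ?_⟩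
  · have hv := h.C_sq hg
    set v := g * g with hvdef
    -- `g y g⁻¹ = (y v)⁻¹`
    have h1 : g * y * g⁻¹ = (y * v)⁻¹ := by
      rw [eq_inv_iff_mul_eq_one]
      calc g * y * g⁻¹ * (y * v) = g * y * g⁻¹ * (v * y) := by rw [hyV v hv]
        _ = g * y * (g * y) := by rw [hvdef]; group
        _ = 1 := hgy
    have h2 : g * y ^ m * g⁻¹ = (y ^ m * v)⁻¹ := by
      have h3 : (g * y * g⁻¹) ^ m = g * y ^ m * g⁻¹ := by rw [conj_pow]
      rw [← h3, h1, inv_pow]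
      congr 1
      rw [(show Commute y v from hyV v hv).mul_pow]
      congr 1
      obtain ⟨n, hn⟩ := hm
      rw [hn, pow_succ, pow_mul, pow_two, h.V_sq v hv, one_pow, one_mul]
    calc g * y ^ m * (g * y ^ m) = g * y ^ m * g⁻¹ * (g * g * y ^ m) := by group
      _ = (y ^ m * v)⁻¹ * (v * y ^ m) := by rw [h2, ← hvdef]
      _ = 1 := by rw [(hpow m).2.2.2 v hv, inv_mul_cancel]
  · rw [mul_smul, (hpow m).2.1, hgb]

theorem invol_conj (h : Core a b V H T S q) {k : G} (hk : k ∈ S) (hkk : k * k = 1)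
    (hkV : k ∉ V) : ∃ s ∈ S, ∃ t ∈ T, t ≠ 1 ∧ k = s * t * s⁻¹ := by
  obtain ⟨c, hc, hkc⟩ := h.invol k hk hkk hkV
  obtain ⟨s, hs, hsc⟩ := h.trans c hc
  refine ⟨s, hs, s⁻¹ * k * s, ?_, ?_, by group⟩
  · apply h.S_b _ (S.mul_mem (S.mul_mem (S.inv_mem hs) hk) hs)
    rw [mul_smul, mul_smul, hsc, hkc, inv_smul_eq_iff, hsc]
  · intro h1
    apply hkV
    have : k = 1 := by
      have h2 : k = s * (s⁻¹ * k * s) * s⁻¹ := by group
      rw [h2, h1]; group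
    rw [this]; exact V.one_mem

/-- `L11` -/
theorem norm_C (h : Core a b V H T S q) [Finite G] {s t : G} (hs : s ∈ S) (ht : t ∈ T)
    (hne : t ≠ 1) (hk : s * t * s⁻¹ ∈ h.C) : ∀ g, g ∈ h.C ↔ s * g * s⁻¹ ∈ h.C := by
  set k := s * t * s⁻¹ with hkdef
  have hkV : ∀ g ∈ h.C, k⁻¹ * g * k * g⁻¹ ∈ V := by
    intro g hg
    have := h.C_comm (h.C.inv_mem hk) hg
    simpa using this
  set f := h.delta hkV with hf
  -- the kernel is contained in `s A s⁻¹`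
  set B : Subgroup G := f.ker.map h.C.subtype with hB
  have hBA : ∀ g ∈ B, s⁻¹ * g * s⁻¹⁻¹ ∈ h.A := by
    rintro g hg
    obtain ⟨⟨g', hg'⟩, hgk, rfl⟩ := Subgroup.mem_map.mp hg
    have h1 : k⁻¹ * g' * k * g'⁻¹ = 1 := Subtype.ext_iff.mp hgk
    show s⁻¹ * g' * s⁻¹⁻¹ ∈ h.A
    rw [inv_inv]
    apply h.mem_A_of_comm (S.mul_mem (S.mul_mem (S.inv_mem hs) hg'.1) hs) ht hne
    calc t⁻¹ * (s⁻¹ * g' * s) * t * (s⁻¹ * g' * s)⁻¹
        = s⁻¹ * (s * t⁻¹ * s⁻¹ * g' * (s * t * s⁻¹) * g'⁻¹) * s := by group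
      _ = s⁻¹ * (k⁻¹ * g' * k * g'⁻¹) * s := by rw [hkdef]; group
      _ = 1 := by rw [h1]; group
  have hBcard : Nat.card h.A ≤ Nat.card B := by
    have h1 : Nat.card B = Nat.card f.ker :=
      (Nat.card_congr (f.ker.equivMapOfInjective h.C.subtype h.C.subtype_injective).toEquiv).symm
    rw [h1]
    have h3 := Subgroup.card_mul_index f.ker
    rw [Subgroup.index_ker, h.card_C] at h3
    have h4 : Nat.card f.range ≤ q :=
      (Nat.card_le_card_of_injective _ (Subgroup.subtype_injective f.range)).trans h.card_V.le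
    have h5 : 0 < q := by have := h.four_le; omega
    by_contra hlt
    push Not at hlt
    have h6 : Nat.card f.ker * Nat.card f.range < Nat.card h.A * q :=
      calc Nat.card f.ker * Nat.card f.range ≤ Nat.card f.ker * q := Nat.mul_le_mul_left _ h4
        _ < Nat.card h.A * q := Nat.mul_lt_mul_of_pos_right hlt h5
    omega
  have hBC : B ≤ h.C := by
    rintro g hg
    obtain ⟨⟨g', hg'⟩, hgk, rfl⟩ := Subgroup.mem_map.mp hg
    exact hg'
  -- so `s A s⁻¹ ≤ C`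
  have hAC : ∀ g ∈ h.A, s * g * s⁻¹ ∈ h.C := by
    let F : B → h.A := fun g => ⟨s⁻¹ * (g : G) * s⁻¹⁻¹, hBA g g.2⟩
    have hF : Function.Injective F := by
      intro x y hxy
      have := Subtype.ext_iff.mp hxy
      simp only [F] at this
      exact Subtype.ext (mul_left_cancel (mul_right_cancel this))
    have hF' : Function.Surjective F := (hF.bijective_of_nat_card_le hBcard).2
    intro g hg
    obtain ⟨g', hg'⟩ := hF' ⟨g, hg⟩
    have h1 := Subtype.ext_iff.mp hg'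
    simp only [F] at h1
    rw [← h1]
    have : s * (s⁻¹ * (g' : G) * s⁻¹⁻¹) * s⁻¹ = g' := by group
    rw [this]
    exact hBC g'.2
  have key : ∀ g ∈ h.C, s⁻¹ * g * s⁻¹⁻¹ ∈ h.C := by
    intro g hg
    rw [inv_inv]
    have hgS : s⁻¹ * g * s ∈ S := S.mul_mem (S.mul_mem (S.inv_mem hs) hg.1) hs
    refine ⟨hgS, conj_iff_of_le fun r hr => ?_⟩
    have h1 := h.C_comm hg (hAC r hr)
    have h2 : s⁻¹ * g * s * r * (s⁻¹ * g * s)⁻¹ =
        (s⁻¹ * (g * (s * r * s⁻¹) * g⁻¹ * (s * r * s⁻¹)⁻¹) * s⁻¹⁻¹) * r := by group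
    rw [h2, h.conj_V (S.inv_mem hs) h1]
    exact h.A.mul_mem (h.V_le_A h1) hr
  intro g
  have := conj_iff_of_le key (s * g * s⁻¹)
  rw [this]
  simp [mul_assoc]

/-- the normaliser of `C` in `S` -/
def N2 (h : Core a b V H T S q) : Subgroup G where
  carrier := {g | g ∈ S ∧ ∀ s, s ∈ h.C ↔ g * s * g⁻¹ ∈ h.C}
  mul_mem' := by
    rintro g g' ⟨hg, hgA⟩ ⟨hg', hgA'⟩
    refine ⟨S.mul_mem hg hg', fun s => ?_⟩
    rw [hgA' s, hgA (g' * s * g'⁻¹)]
    simp only [mul_assoc, mul_inv_rev]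
  one_mem' := ⟨S.one_mem, fun s => by simp⟩
  inv_mem' := by
    rintro g ⟨hg, hgA⟩
    refine ⟨S.inv_mem hg, fun s => ?_⟩
    rw [hgA (g⁻¹ * s * g⁻¹⁻¹)]
    simp [mul_assoc]

theorem C_le_N2 (h : Core a b V H T S q) [Finite G] : h.C ≤ h.N2 := fun g hg =>
  ⟨hg.1, conj_iff_of_le fun s hs => h.C.mul_mem (h.C.mul_mem hg hs) (h.C.inv_mem hg)⟩

theorem N2_le (h : Core a b V H T S q) : h.N2 ≤ S := fun _ hg => hg.1

/-- the involutions of `C` outside `V` -/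
def KC (h : Core a b V H T S q) : Set G := {k | k ∈ h.C ∧ k * k = 1 ∧ k ∉ V}

/-- the involutions of `C` outside `A` -/
def KA (h : Core a b V H T S q) : Set G := {k | k ∈ h.C ∧ k * k = 1 ∧ k ∉ h.A}

theorem exists_rep (h : Core a b V H T S q) [Finite G] {k : G} (hk : k ∈ h.KC) :
    ∃ s ∈ h.N2, ∃ t ∈ T, t ≠ 1 ∧ k = s * t * s⁻¹ := by
  obtain ⟨hkC, hk2, hkV⟩ := hk
  obtain ⟨s, hs, t, ht, hne, rfl⟩ := h.invol_conj hkC.1 hk2 hkV
  exact ⟨s, ⟨hs, h.norm_C hs ht hne hkC⟩, t, ht, hne, rfl⟩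

theorem conj_mem_KC (h : Core a b V H T S q) [Finite G] {k s : G} (hk : k ∈ h.KC)
    (hs : s ∈ h.N2) : s * k * s⁻¹ ∈ h.KC := by
  refine ⟨(hs.2 k).mp hk.1, ?_, fun hV => hk.2.2 ?_⟩
  · calc s * k * s⁻¹ * (s * k * s⁻¹) = s * (k * k) * s⁻¹ := by group
      _ = 1 := by rw [hk.2.1]; group
  · have := h.conj_V (S.inv_mem hs.1) hV
    have h2 : s⁻¹ * (s * k * s⁻¹) * s⁻¹⁻¹ = k := by group
    rw [h2] at this
    rw [this]; exact hV

theorem T_mem_KC (h : Core a b V H T S q) [Finite G] {t : G} (ht : t ∈ T) (hne : t ≠ 1) :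
    t ∈ h.KC :=
  ⟨h.A_le_C (h.T_le_A ht), h.T_sq ht, h.not_mem_V ht hne⟩

theorem card_KC (h : Core a b V H T S q) [Finite G] :
    Nat.card h.KC * Nat.card h.A = Nat.card h.N2 * Nat.card {t : T // t ≠ 1} := by
  have hch : ∀ k : h.KC, ∃ p : h.N2 × {t : T // t ≠ 1},
      (k : G) = (p.1 : G) * ((p.2 : T) : G) * (p.1 : G)⁻¹ := by
    rintro ⟨k, hk⟩
    obtain ⟨s, hs, t, ht, hne, he⟩ := h.exists_rep hk
    exact ⟨(⟨s, hs⟩, ⟨⟨t, ht⟩, fun h1 => hne (Subtype.ext_iff.mp h1)⟩), he⟩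
  choose p hp using hch
  let F : h.KC × h.A → h.N2 × {t : T // t ≠ 1} := fun x =>
    (⟨(p x.1).1 * x.2, h.N2.mul_mem (p x.1).1.2 (h.C_le_N2 (h.A_le_C x.2.2))⟩, (p x.1).2)
  have hF : Function.Bijective F := by
    constructor
    · rintro ⟨k, c⟩ ⟨k', c'⟩ he
      have h1 := Subtype.ext_iff.mp (Prod.ext_iff.mp he).1
      have h2 := (Prod.ext_iff.mp he).2
      simp only [F] at h1 h2
      have h3 : ∀ (k : h.KC) (c : h.A), (k : G) =
          ((p k).1 * (c : G)) * (((p k).2 : T) : G) * ((p k).1 * (c : G))⁻¹ := by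
        intro k c
        have h4 := h.A_comm c.2 (h.T_le_A ((p k).2 : T).2)
        calc (k : G) = ((p k).1 : G) * (((p k).2 : T) : G) * ((p k).1 : G)⁻¹ := hp k
          _ = ((p k).1 : G) * ((((p k).2 : T) : G) * c) * (c : G)⁻¹ * ((p k).1 : G)⁻¹ := by group
          _ = ((p k).1 : G) * (c * (((p k).2 : T) : G)) * (c : G)⁻¹ * ((p k).1 : G)⁻¹ := by
            rw [h4]
          _ = _ := by group
      have h5 : (k : G) = k' := by rw [h3 k c, h1, h2, ← h3 k' c']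
      have h6 : k = k' := Subtype.ext h5
      subst h6
      exact Prod.ext rfl (Subtype.ext (mul_left_cancel h1))
    · rintro ⟨⟨s, hs⟩, ⟨⟨t, ht⟩, hne⟩⟩
      have hne' : t ≠ 1 := fun h1 => hne (Subtype.ext h1)
      have hk := h.conj_mem_KC (h.T_mem_KC ht hne') hs
      set k : h.KC := ⟨s * t * s⁻¹, hk⟩ with hkdef
      obtain ⟨⟨⟨sk, hsk⟩, ⟨⟨tk, htk⟩, hnek⟩⟩, hpk⟩ : ∃ x, x = p k := ⟨_, rfl⟩
      have h1 := hp k
      rw [← hpk] at h1
      have h2 : s * t * s⁻¹ = sk * tk * sk⁻¹ := h1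
      have h3 : (sk⁻¹ * s)⁻¹ * tk * (sk⁻¹ * s) = t := by
        calc (sk⁻¹ * s)⁻¹ * tk * (sk⁻¹ * s) = s⁻¹ * (sk * tk * sk⁻¹) * s := by group
          _ = t := by rw [← h2]; group
      have hnek' : tk ≠ 1 := fun h1 => hnek (Subtype.ext h1)
      have h4 : sk⁻¹ * s ∈ h.A := by
        apply h.ti (S.mul_mem (S.inv_mem hsk.1) hs.1) htk hnek'
        rw [h3]; exact ht
      have h5 : tk = t := by
        rw [← h3, mul_assoc, ← h.A_comm h4 (h.T_le_A htk), inv_mul_cancel_left]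
      refine ⟨(k, ⟨sk⁻¹ * s, h4⟩), ?_⟩
      simp only [F]
      rw [← hpk]
      refine Prod.ext (Subtype.ext ?_) (Subtype.ext (Subtype.ext h5))
      show sk * (sk⁻¹ * s) = s
      group
  have := Nat.card_congr (Equiv.ofBijective F hF)
  rwa [Nat.card_prod, Nat.card_prod] at this

/-- every coset of `T` in `C ∖ A` contains an involution if there is one involution in
`C ∖ A` -/
theorem exists_mul (h : Core a b V H T S q) [Finite G] (hne : h.KA.Nonempty) {g : G}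
    (hg : g ∈ h.C) (hgA : g ∉ h.A) : ∃ k ∈ h.KA, ∃ t ∈ T, g = k * t := by
  obtain ⟨k0, hk0, hk02, hk0A⟩ := hne
  obtain ⟨k, hk, y, hy, hky⟩ := h.H_orbit (h.smul_Th hk0) (h.smul_Th hg)
    (h.not_orbit hk0.1 hk0A) (h.not_orbit hg.1 hgA)
  obtain ⟨k1, hk1, hk12, hk1b⟩ := h.exists_invol hk0 hk02 hk
  have h1 : (y⁻¹ * k1) • b = g • b := by rw [mul_smul, hk1b, hky, inv_smul_smul]
  have hyk : y⁻¹ * k1 ∈ h.C := h.C.mul_mem (h.A_le_C (h.V_le_A (V.inv_mem hy))) hk1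
  refine ⟨y⁻¹ * k1, ⟨hyk, ?_, ?_⟩, (y⁻¹ * k1)⁻¹ * g, ?_, by group⟩
  · have h2 := h.S_V k1 hk1.1 _ (V.inv_mem hy)
    calc y⁻¹ * k1 * (y⁻¹ * k1) = y⁻¹ * (k1 * y⁻¹) * k1 := by group
      _ = y⁻¹ * (y⁻¹ * k1) * k1 := by rw [h2]
      _ = (y⁻¹ * y⁻¹) * (k1 * k1) := by group
      _ = 1 := by rw [h.V_sq _ (V.inv_mem hy), hk12, mul_one]
  · intro h3
    obtain ⟨_, x, hx, hxb⟩ := h3
    exact h.not_orbit hg.1 hgA x hx (by rw [← hxb, h1])
  · apply h.S_b _ (S.mul_mem (S.inv_mem hyk.1) hg.1)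
    rw [mul_smul, ← h1, inv_smul_smul]

theorem KA_unique (h : Core a b V H T S q) [Finite G] {k k' t t' : G} (hk : k ∈ h.KA)
    (hk' : k' ∈ h.KA) (ht : t ∈ T) (ht' : t' ∈ T) (he : k * t = k' * t') : k = k' ∧ t = t' := by
  have h1 : k = k' * (t' * t⁻¹) := by rw [← mul_assoc, ← he]; group
  set τ := t' * t⁻¹ with hτ
  have hτT : τ ∈ T := T.mul_mem ht' (T.inv_mem ht)
  have h2 : k' * τ * (k' * τ) = 1 := by rw [← h1]; exact hk.2.1
  have h3 : k' * τ = τ * k' := by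
    have h4 : k'⁻¹ = k' := inv_eq_of_mul_eq_one_right hk'.2.1
    have h5 := inv_eq_of_mul_eq_one_right h2
    rw [mul_inv_rev, h4, h.T_inv hτT] at h5
    exact h5.symm
  have h4 : τ = 1 := by
    by_contra hne
    exact hk'.2.2 (h.mem_A_of_commute hk'.1.1 hτT hne h3)
  rw [h4, mul_one] at h1
  refine ⟨h1, ?_⟩
  rw [hτ, mul_inv_eq_one] at h4
  exact h4.symm

theorem card_KA (h : Core a b V H T S q) [Finite G] (hne : h.KA.Nonempty) :
    Nat.card h.KA * Nat.card T + Nat.card h.A = Nat.card h.C := by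
  classical
  let F : h.KA × T → {g : h.C // (g : G) ∉ h.A} := fun x =>
    ⟨⟨x.1 * x.2, h.C.mul_mem x.1.2.1 (h.A_le_C (h.T_le_A x.2.2))⟩, fun h1 => x.1.2.2.2 (by
      have := h.A.mul_mem h1 (h.A.inv_mem (h.T_le_A x.2.2))
      simpa using this)⟩
  have hF : Function.Bijective F := by
    constructor
    · rintro ⟨⟨k, hk⟩, ⟨t, ht⟩⟩ ⟨⟨k', hk'⟩, ⟨t', ht'⟩⟩ he
      have h1 : k * t = k' * t' := Subtype.ext_iff.mp (Subtype.ext_iff.mp he)
      obtain ⟨h2, h3⟩ := h.KA_unique hk hk' ht ht' h1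
      exact Prod.ext (Subtype.ext h2) (Subtype.ext h3)
    · rintro ⟨⟨g, hg⟩, hgA⟩
      obtain ⟨k, hk, t, ht, he⟩ := h.exists_mul hne hg hgA
      exact ⟨(⟨k, hk⟩, ⟨t, ht⟩), Subtype.ext (Subtype.ext he.symm)⟩
  have h1 := Nat.card_congr (Equiv.ofBijective F hF)
  rw [Nat.card_prod] at h1
  rw [h1]
  have h2 : Nat.card h.A = Nat.card {g : h.C // (g : G) ∈ h.A} := by
    refine Nat.card_congr ⟨fun x => ⟨⟨x, h.A_le_C x.2⟩, x.2⟩, fun x => ⟨x.1, x.2⟩, fun x => rfl,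
      fun x => rfl⟩
  rw [h2, add_comm]
  have h3 := Nat.card_congr (Equiv.sumCompl (fun g : h.C => (g : G) ∈ h.A))
  rw [Nat.card_sum] at h3
  exact h3

theorem card_KC' (h : Core a b V H T S q) [Finite G] :
    Nat.card h.KC + q = Nat.card h.KA + Nat.card h.A := by
  have h1 : h.KC = h.KA ∪ ((h.A : Set G) \ (V : Set G)) := by
    ext k
    constructor
    · rintro ⟨hk, hk2, hkV⟩
      by_cases hkA : k ∈ h.A
      · exact Or.inr ⟨hkA, hkV⟩
      · exact Or.inl ⟨hk, hk2, hkA⟩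
    · rintro (⟨hk, hk2, hkA⟩ | ⟨hkA, hkV⟩)
      · exact ⟨hk, hk2, fun hV => hkA (h.V_le_A hV)⟩
      · exact ⟨h.A_le_C hkA, h.A_sq hkA, hkV⟩
  have h2 : Disjoint h.KA ((h.A : Set G) \ (V : Set G)) := by
    rw [Set.disjoint_left]
    rintro k hk ⟨hkA, _⟩
    exact hk.2.2 hkA
  have h3 := Set.ncard_union_eq h2 (Set.toFinite _) (Set.toFinite _)
  have h4 := Set.ncard_sdiff_add_ncard_of_subset (s := (V : Set G)) (t := (h.A : Set G))
    h.V_le_A (Set.toFinite _)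
  have h5 : (V : Set G).ncard = q := h.card_V
  have h6 : (h.A : Set G).ncard = Nat.card h.A := rfl
  rw [Nat.card_coe_set_eq, Nat.card_coe_set_eq, h1, h3, add_assoc, ← h6, ← h4, h5]

theorem card_T' (_h : Core a b V H T S q) [Finite G] :
    Nat.card {t : T // t ≠ 1} + 1 = Nat.card T := by
  classical
  have h3 := Nat.card_congr (Equiv.optionSubtypeNe (1 : T))
  rw [Finite.card_option] at h3
  exact h3

theorem card_mul_relIndex {B N : Subgroup G} (hBN : B ≤ N) :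
    Nat.card B * B.relIndex N = Nat.card N := by
  rw [← relIndex_bot_left, ← relIndex_bot_left, relIndex_mul_relIndex _ _ _ bot_le hBN]

/-- `L14`: the numerical consequences -/
theorem numbers (h : Core a b V H T S q) [Finite G] : ∃ j : ℕ, h.KA.Nonempty ∧
    Nat.card h.N2 = Nat.card h.C * 2 ^ j ∧ (2 ^ j - 1) * (Nat.card T - 1) = q - 1 ∧
    Nat.card h.KA + q = q * q := by
  haveI : Fact (Nat.Prime 2) := ⟨Nat.prime_two⟩
  have h4 := h.four_le
  have hT1 := h.card_T_gt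
  have hN2 : IsPGroup 2 h.N2 := h.S_two.to_le h.N2_le
  obtain ⟨n, hn⟩ := (IsPGroup.iff_card).mp hN2
  have hdiv := card_mul_relIndex h.C_le_N2
  have hrel : h.C.relIndex h.N2 ∣ 2 ^ n := ⟨Nat.card h.C, by rw [← hn, ← hdiv, mul_comm]⟩
  obtain ⟨j, -, hj⟩ := (Nat.dvd_prime_pow Nat.prime_two).mp hrel
  rw [hj] at hdiv
  have e1 := h.card_KC
  have e2 := h.card_KC'
  have e3 := h.card_T'
  have e4 := h.card_A
  have e5 := h.card_C
  set τ := Nat.card T with hτ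
  set κ := Nat.card h.KC with hκ
  set α := Nat.card h.KA with hα
  obtain ⟨σ, hσ⟩ : ∃ σ, σ = Nat.card {t : T // t ≠ 1} := ⟨_, rfl⟩
  rw [← hσ] at e1 e3
  have hpos : 0 < τ * q := Nat.mul_pos (by omega) (by omega)
  -- `κ = 2 ^ j * q * σ`
  have e6 : κ = 2 ^ j * q * σ := by
    apply Nat.eq_of_mul_eq_mul_right hpos
    rw [← e4, e1, ← hdiv, e5]
    ring
  have hne : h.KA.Nonempty := by
    by_contra hemp
    rw [Set.not_nonempty_iff_eq_empty] at hemp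
    have h7 : α = 0 := by rw [hα, hemp]; simp
    rw [h7, e4, ← e3, e6] at e2
    have h8 : q * σ * (2 ^ j) = q * σ * 1 := by linarith
    have h9 : (2 : ℕ) ^ j = 1 := Nat.eq_of_mul_eq_mul_left (Nat.mul_pos (by omega) (by omega)) h8
    rw [h9, mul_one] at hdiv
    have h10 : h.C = h.N2 := Subgroup.eq_of_le_of_card_ge h.C_le_N2 hdiv.ge
    have h11 : h.C = S := by
      by_contra hCS
      obtain ⟨g, hg, hgC, hgn⟩ := exists_normalizing h.S_two h.C_le hCS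
      apply hgC
      rw [h10]
      exact ⟨hg, hgn⟩
    have h12 := h.card_S
    rw [← h11, e5, e4, ← hτ] at h12
    have h13 : q * (q * τ) * 1 = q * (q * τ) * q := by linarith
    have h14 := Nat.eq_of_mul_eq_mul_left (Nat.mul_pos (by omega) (Nat.mul_pos (by omega)
      (by omega))) h13
    omega
  have e7 := h.card_KA hne
  rw [← hα, ← hτ, e4, e5, e4] at e7
  have e8 : α + q = q * q := by
    apply Nat.eq_of_mul_eq_mul_right (show 0 < τ by omega)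
    linarith
  refine ⟨j, hne, hdiv.symm, ?_, e8⟩
  rw [e6, e4, ← e3] at e2
  have e9 : 2 ^ j * σ = σ + (q - 1) := by
    apply Nat.eq_of_mul_eq_mul_left (show 0 < q by omega)
    obtain ⟨q', hq'⟩ : ∃ q', q = q' + 1 := ⟨q - 1, by omega⟩
    have : q - 1 = q' := by omega
    rw [this]
    clear_value τ κ α
    subst hq'
    linarith
  have e10 : τ - 1 = σ := by omega
  rw [e10, Nat.sub_mul, e9]
  omega

/-- `L15` -/
theorem case_one (h : Core a b V H T S q) [Finite G] (hT : Nat.card T = q)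
    (hN : Nat.card h.N2 = Nat.card h.C * 2) : False := by
  have h4 := h.four_le
  have hne : h.N2 ≠ S := by
    intro he
    rw [he, h.card_S, h.card_C, h.card_A, hT] at hN
    have h1 : q * (q * q) * q = q * (q * q) * 2 := by linarith
    have h2 := Nat.eq_of_mul_eq_mul_left (by positivity) h1
    omega
  obtain ⟨r, hr, hrN, hrn⟩ := exists_normalizing h.S_two h.N2_le hne
  -- an element `w = r g r⁻¹` of `r C r⁻¹ ∖ C`
  obtain ⟨g, hg, hgC⟩ : ∃ g ∈ h.C, r * g * r⁻¹ ∉ h.C := by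
    by_contra hcon
    push Not at hcon
    exact hrN ⟨hr, conj_iff_of_le hcon⟩
  set w := r * g * r⁻¹ with hw
  have hwN : w ∈ h.N2 := (hrn g).mp (h.C_le_N2 hg)
  set C' := h.C.map (MulAut.conj r).toMonoidHom with hC'
  have hmem : ∀ s, s ∈ C' → r⁻¹ * s * r ∈ h.C := by
    rintro s hs
    obtain ⟨s', hs', rfl⟩ := Subgroup.mem_map.mp hs
    have : r⁻¹ * ((MulAut.conj r).toMonoidHom s') * r = s' := by
      simp [mul_assoc]
    rw [this]
    exact hs'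
  have hC'N : C' ≤ h.N2 := by
    intro s hs
    have h1 := (hrn _).mp (h.C_le_N2 (hmem s hs))
    have h2 : r * (r⁻¹ * s * r) * r⁻¹ = s := by group
    rwa [h2] at h1
  have hC'card : Nat.card C' = Nat.card h.C :=
    (Nat.card_congr (h.C.equivMapOfInjective _ (MulAut.conj r).injective).toEquiv).symm
  have hrel : C'.relIndex h.N2 = 2 := by
    have h1 := card_mul_relIndex hC'N
    rw [hC'card, hN] at h1
    exact Nat.eq_of_mul_eq_mul_left Nat.card_pos h1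
  have hAN : h.A ≤ h.N2 := h.A_le_C.trans h.C_le_N2
  have hrelA : C'.relIndex h.A ≤ 2 := by
    rw [← hrel]
    exact relIndex_le_of_le_right hAN (by rw [hrel]; norm_num)
  have hCAV : C' ⊓ h.A ≤ V := by
    rintro s ⟨hs, hsA⟩
    obtain ⟨t, ht, x, hx, rfl⟩ := h.mem_A_iff.mp hsA
    by_cases ht1 : t = 1
    · rw [ht1, one_mul]; exact hx
    exfalso
    apply hgC
    -- the commutator of `t x` and `w`
    have h1 := h.C_comm (hmem _ hs) hg
    have h2 := h.V_conj r (h.S_a r hr) _ h1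
    have h3 : r * (r⁻¹ * (t * x) * r * g * (r⁻¹ * (t * x) * r)⁻¹ * g⁻¹) * r⁻¹ =
        (t * x) * w * (t * x)⁻¹ * w⁻¹ := by rw [hw]; group
    rw [h3] at h2
    set v := (t * x) * w * (t * x)⁻¹ * w⁻¹ with hv
    have hwx := h.S_V w hwN.1 x hx
    have hwx' := h.S_V w hwN.1 _ (V.inv_mem hx)
    have h4 : w * t * w⁻¹ = t * v⁻¹ := by
      have h5 : v = t * w * t⁻¹ * w⁻¹ := by
        calc v = t * (x * w) * (t * x)⁻¹ * w⁻¹ := by rw [hv]; group
          _ = t * (w * x) * (t * x)⁻¹ * w⁻¹ := by rw [hwx]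
          _ = t * w * t⁻¹ * w⁻¹ := by group
      have h6 : t⁻¹ = t := h.T_inv ht
      have h7 : v⁻¹ = w * t * w⁻¹ * t⁻¹ := by rw [h5]; group
      have h8 : t * v⁻¹ = v⁻¹ * t := h.T_V ht (V.inv_mem h2)
      rw [h8, h7]; group
    obtain ⟨g', hg', hgt⟩ := h.exists_conj ht ht1 (V.inv_mem h2)
    have h5 : g'⁻¹ * w ∈ h.A := by
      apply h.mem_A_of_commute (S.mul_mem (S.inv_mem hg'.1) hwN.1) ht ht1
      have h6 : w * t * w⁻¹ = g' * t * g'⁻¹ := by rw [h4, hgt]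
      calc g'⁻¹ * w * t = g'⁻¹ * (w * t * w⁻¹) * w := by group
        _ = t * (g'⁻¹ * w) := by rw [h6]; group
    have h6 : w = g' * (g'⁻¹ * w) := by group
    rw [h6]
    exact h.C.mul_mem hg' (h.A_le_C h5)
  have h5 : Nat.card (C' ⊓ h.A : Subgroup G) ≤ q := by
    refine le_trans ?_ h.card_V.le
    exact Nat.card_le_card_of_injective _ (Subgroup.inclusion_injective hCAV)
  have h6 := card_mul_relIndex (B := C' ⊓ h.A) (N := h.A) inf_le_right
  rw [inf_relIndex_right, h.card_A, hT] at h6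
  have h7 : q * q ≤ q * 2 := by
    rw [← h6]
    exact Nat.mul_le_mul h5 hrelA
  have h8 := Nat.le_of_mul_le_mul_left h7 (by omega)
  omega

/-- `L14`, `L15` -/
theorem card_T_two (h : Core a b V H T S q) [Finite G] : Nat.card T = 2 ∧ h.N2 = S := by
  haveI : Fact (Nat.Prime 2) := ⟨Nat.prime_two⟩
  obtain ⟨j, hne, hN2, hnum, hKA⟩ := h.numbers
  have h4 := h.four_le
  have hT1 := h.card_T_gt
  obtain ⟨f, hf⟩ := (IsPGroup.iff_card).mp (h.S_two.to_le h.V_le)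
  obtain ⟨r, hr⟩ := (IsPGroup.iff_card).mp (h.S_two.to_le h.T_le)
  rw [h.card_V] at hf
  have hT2 : Nat.card T = 2 := by
    rcases Nat.lt_or_ge j 2 with hj | hj
    · interval_cases j
      · simp at hnum; omega
      · exfalso
        apply h.case_one _ hN2
        simp at hnum
        omega
    · rcases Nat.lt_or_ge r 2 with hr2 | hr2
      · interval_cases r
        · rw [pow_zero] at hr; omega
        · rw [pow_one] at hr; exact hr
      · exfalso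
        have hf2 : 2 ≤ f := by
          by_contra hlt
          have : f = 0 ∨ f = 1 := by omega
          rcases this with rfl | rfl <;> simp at hf <;> omega
        obtain ⟨j', rfl⟩ := Nat.exists_eq_add_of_le hj
        obtain ⟨r', rfl⟩ := Nat.exists_eq_add_of_le hr2
        obtain ⟨f', rfl⟩ := Nat.exists_eq_add_of_le hf2
        rw [hr, hf] at hnum
        have hx : ∀ n : ℕ, ∃ m, (2 : ℕ) ^ (2 + n) = 4 * m + 4 := by
          intro n
          refine ⟨2 ^ n - 1, ?_⟩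
          have : 0 < 2 ^ n := by positivity
          rw [pow_add]
          omega
        obtain ⟨x, hx1⟩ := hx j'
        obtain ⟨y, hy1⟩ := hx r'
        obtain ⟨z, hz1⟩ := hx f'
        rw [hx1, hy1, hz1] at hnum
        have e1 : 4 * x + 4 - 1 = 4 * x + 3 := by omega
        have e2 : 4 * y + 4 - 1 = 4 * y + 3 := by omega
        rw [e1, e2] at hnum
        have e3 : (4 * x + 3) * (4 * y + 3) = 16 * (x * y) + 12 * x + 12 * y + 9 := by ring
        rw [e3] at hnum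
        omega
  refine ⟨hT2, ?_⟩
  apply Subgroup.eq_of_le_of_card_ge h.N2_le
  rw [hT2] at hnum
  have h5 : 2 ^ j = q := by
    have : 0 < 2 ^ j := by positivity
    omega
  rw [hN2, h5, h.card_S, h.card_C, h.card_A, hT2]
  apply le_of_eq
  ring

theorem exists_u (h : Core a b V H T S q) [Finite G] :
    ∃ u ∈ T, u ≠ 1 ∧ ∀ t ∈ T, t = 1 ∨ t = u := by
  obtain ⟨u, hu, hu1⟩ := h.T_ne
  refine ⟨u, hu, hu1, fun t ht => ?_⟩
  by_contra hcon
  push Not at hcon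
  have h1 : ({1, u, t} : Set G) ⊆ (T : Set G) := by
    rintro x (rfl | rfl | rfl)
    · exact T.one_mem
    · exact hu
    · exact ht
  have h2 := Set.ncard_le_ncard h1 (Set.toFinite _)
  have h3 : (T : Set G).ncard = 2 := h.card_T_two.1
  have h4 : ({1, u, t} : Set G).ncard = 3 :=
    Set.ncard_eq_three.mpr ⟨1, u, t, hu1.symm, hcon.1.symm, hcon.2.symm, rfl⟩
  omega

theorem mem_KC_iff (h : Core a b V H T S q) [Finite G] {k : G} :
    k ∈ h.KC ↔ k ∈ S ∧ k * k = 1 ∧ k ∉ V := by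
  refine ⟨fun hk => ⟨hk.1.1, hk.2⟩, fun ⟨hk, hk2, hkV⟩ => ⟨?_, hk2, hkV⟩⟩
  obtain ⟨s, hs, t, ht, hne, rfl⟩ := h.invol_conj hk hk2 hkV
  rw [← h.card_T_two.2] at hs
  exact (hs.2 t).mp (h.A_le_C (h.T_le_A ht))

theorem conj_mem_KC' (h : Core a b V H T S q) [Finite G] {k s : G} (hk : k ∈ h.KC)
    (hs : s ∈ S) : s * k * s⁻¹ ∈ h.KC := by
  rw [← h.card_T_two.2] at hs
  exact h.conj_mem_KC hk hs

theorem exactly_u (h : Core a b V H T S q) [Finite G] {u : G} (hu : u ∈ T) (hu1 : u ≠ 1)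
    (hT : ∀ t ∈ T, t = 1 ∨ t = u) {g : G} (hg : g ∈ h.C) :
    (g ∈ h.KC ∨ g * u ∈ h.KC) ∧ ¬ (g ∈ h.KC ∧ g * u ∈ h.KC) := by
  have huu := h.T_sq hu
  by_cases hgA : g ∈ h.A
  · obtain ⟨t, ht, x, hx, rfl⟩ := h.mem_A_iff.mp hgA
    have h1 : t * x * u = t * u * x := by rw [mul_assoc, ← h.T_V hu hx, mul_assoc]
    rw [h1]
    rcases hT t ht with rfl | rfl
    · rw [one_mul, one_mul]
      refine ⟨Or.inr ?_, fun h2 => h2.1.2.2 hx⟩
      have h2 : u * x ∈ h.A := h.A.mul_mem (h.T_le_A hu) (h.V_le_A hx)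
      refine ⟨h.A_le_C h2, h.A_sq h2, fun h3 => h.not_mem_V hu hu1 ?_⟩
      have := V.mul_mem h3 (V.inv_mem hx)
      simpa using this
    · rw [huu, one_mul]
      refine ⟨Or.inl ?_, fun h2 => h2.2.2.2 hx⟩
      refine ⟨hg, h.A_sq hgA, fun h3 => h.not_mem_V hu hu1 ?_⟩
      have := V.mul_mem h3 (V.inv_mem hx)
      simpa using this
  · obtain ⟨j, hne, -⟩ := h.numbers
    have hmem : ∀ k ∈ h.KA, k ∈ h.KC := fun k hk => ⟨hk.1, hk.2.1, fun h1 => hk.2.2 (h.V_le_A h1)⟩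
    have hmem' : ∀ k ∈ h.KC, k ∉ h.A → k ∈ h.KA := fun k hk h1 => ⟨hk.1, hk.2.1, h1⟩
    constructor
    · obtain ⟨k, hk, t, ht, he⟩ := h.exists_mul hne hg hgA
      rcases hT t ht with rfl | rfl
      · left; rw [he, mul_one]; exact hmem k hk
      · right; rw [he, mul_assoc, huu, mul_one]; exact hmem k hk
    · rintro ⟨h1, h2⟩
      have h3 : g * u ∉ h.A := fun h4 => hgA (by
        have := h.A.mul_mem h4 (h.A.inv_mem (h.T_le_A hu))
        simpa using this)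
      have h4 := h.KA_unique (hmem' _ h1 hgA) (hmem' _ h2 h3) T.one_mem hu (by
        rw [mul_one, mul_assoc, huu, mul_one])
      exact hu1 h4.2.symm

theorem exactly (h : Core a b V H T S q) [Finite G] {k : G} (hk : k ∈ h.KC) {g : G}
    (hg : g ∈ h.C) : (g ∈ h.KC ∨ g * k ∈ h.KC) ∧ ¬ (g ∈ h.KC ∧ g * k ∈ h.KC) := by
  obtain ⟨u, hu, hu1, hT⟩ := h.exists_u
  obtain ⟨s, hs, t, ht, hne, rfl⟩ := h.exists_rep hk
  have h1 : t = u := (hT t ht).resolve_left hne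
  subst h1
  have hs' := h.N2.inv_mem hs
  have h2 := h.exactly_u hu hu1 hT ((hs'.2 g).mp hg)
  have h3 : ∀ x, s⁻¹ * x * s⁻¹⁻¹ ∈ h.KC ↔ x ∈ h.KC := by
    intro x
    constructor
    · intro hx
      have := h.conj_mem_KC hx hs
      have h4 : s * (s⁻¹ * x * s⁻¹⁻¹) * s⁻¹ = x := by group
      rwa [h4] at this
    · intro hx
      exact h.conj_mem_KC hx hs'
  have h4 : s⁻¹ * g * s⁻¹⁻¹ * t = s⁻¹ * (g * (s * t * s⁻¹)) * s⁻¹⁻¹ := by group
  rw [h4, h3, h3] at h2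
  exact h2

/-- the subgroup `Q₁` of the elements of `C` which are not involutions outside `V` -/
def Q1 (h : Core a b V H T S q) [Finite G] : Subgroup G where
  carrier := {g | g ∈ h.C ∧ g ∉ h.KC}
  mul_mem' := by
    rintro g g' ⟨hg, hgK⟩ ⟨hg', hgK'⟩
    refine ⟨h.C.mul_mem hg hg', fun h1 => ?_⟩
    obtain ⟨u, hu, hu1, hT⟩ := h.exists_u
    have huK := h.T_mem_KC hu hu1
    have h2 : g' * u ∈ h.KC := (h.exactly huK hg').1.resolve_left hgK'
    have h3 : g * (g' * u) ∈ h.KC := (h.exactly h2 hg).1.resolve_left hgK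
    rw [← mul_assoc] at h3
    exact (h.exactly huK (h.C.mul_mem hg hg')).2 ⟨h1, h3⟩
  one_mem' := ⟨h.C.one_mem, fun h1 => h1.2.2 V.one_mem⟩
  inv_mem' := by
    rintro g ⟨hg, hgK⟩
    refine ⟨h.C.inv_mem hg, fun h1 => hgK ?_⟩
    have h2 : g = g⁻¹ := by
      have := inv_eq_of_mul_eq_one_right h1.2.1
      rwa [inv_inv] at this
    rw [h2]
    exact h1

theorem mem_Q1 (h : Core a b V H T S q) [Finite G] {g : G} :
    g ∈ h.Q1 ↔ g ∈ h.C ∧ g ∉ h.KC := Iff.rfl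

theorem V_le_Q1 (h : Core a b V H T S q) [Finite G] : V ≤ h.Q1 := fun _ hx =>
  ⟨h.A_le_C (h.V_le_A hx), fun h1 => h1.2.2 hx⟩

theorem Q1_le (h : Core a b V H T S q) [Finite G] : h.Q1 ≤ S := fun _ hg => hg.1.1

theorem Q1_mul (h : Core a b V H T S q) [Finite G] {g k : G} (hg : g ∈ h.Q1) (hk : k ∈ h.KC) :
    g * k ∈ h.KC := (h.exactly hk hg.1).1.resolve_left hg.2

theorem Q1_inv (h : Core a b V H T S q) [Finite G] {g k : G} (hg : g ∈ h.Q1) (hk : k ∈ h.KC) :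
    k * g * k⁻¹ = g⁻¹ := by
  have h1 := (h.Q1_mul hg hk).2.1
  have h2 : k⁻¹ = k := inv_eq_of_mul_eq_one_right hk.2.1
  rw [eq_inv_iff_mul_eq_one, h2]
  have h3 : g * (k * g * k * g) * g⁻¹ = 1 := by
    calc g * (k * g * k * g) * g⁻¹ = g * k * (g * k) := by group
      _ = 1 := h1
  calc k * g * k * g = g⁻¹ * (g * (k * g * k * g) * g⁻¹) * g := by group
    _ = 1 := by rw [h3]; group

theorem Q1_comm (h : Core a b V H T S q) [Finite G] {g g' : G} (hg : g ∈ h.Q1)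
    (hg' : g' ∈ h.Q1) : g * g' = g' * g := by
  obtain ⟨u, hu, hu1, hT⟩ := h.exists_u
  have huK := h.T_mem_KC hu hu1
  have h1 := h.Q1_inv (h.Q1.mul_mem hg hg') huK
  have h2 : u * (g * g') * u⁻¹ = (u * g * u⁻¹) * (u * g' * u⁻¹) := by group
  rw [h2, h.Q1_inv hg huK, h.Q1_inv hg' huK, ← mul_inv_rev, inv_inj] at h1
  exact h1.symm

theorem Q1_sq (h : Core a b V H T S q) [Finite G] {g : G} (hg : g ∈ h.Q1) (hgg : g * g = 1) :
    g ∈ V := by
  by_contra hV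
  exact hg.2 ⟨hg.1, hgg, hV⟩

theorem Q1_conj (h : Core a b V H T S q) [Finite G] {g s : G} (hg : g ∈ h.Q1) (hs : s ∈ S) :
    s * g * s⁻¹ ∈ h.Q1 := by
  have hsN := hs
  rw [← h.card_T_two.2] at hsN
  refine ⟨(hsN.2 g).mp hg.1, fun h1 => hg.2 ?_⟩
  have := h.conj_mem_KC' h1 (S.inv_mem hs)
  have h2 : s⁻¹ * (s * g * s⁻¹) * s⁻¹⁻¹ = g := by group
  rwa [h2] at this

theorem card_Q1 (h : Core a b V H T S q) [Finite G] : Nat.card h.Q1 = q * q := by
  obtain ⟨u, hu, hu1, hT⟩ := h.exists_u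
  have huK := h.T_mem_KC hu hu1
  have h1 : h.Q1.relIndex h.C = 2 := by
    rw [relIndex_eq_two_iff]
    refine ⟨u, h.A_le_C (h.T_le_A hu), fun g hg => ?_⟩
    have h2 := h.exactly huK hg
    have h3 := h.C.mul_mem hg (h.A_le_C (h.T_le_A hu))
    by_cases hgK : g ∈ h.KC
    · left
      refine ⟨⟨h3, fun h4 => h2.2 ⟨hgK, h4⟩⟩, fun h4 => h4.2 hgK⟩
    · right
      exact ⟨⟨hg, hgK⟩, fun h4 => h4.2 (h2.1.resolve_left hgK)⟩
  have h2 := card_mul_relIndex (B := h.Q1) (N := h.C) (fun g hg => hg.1)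
  rw [h1, h.card_C, h.card_A, h.card_T_two.1] at h2
  have h3 : Nat.card h.Q1 * 2 = q * q * 2 := by rw [h2]; ring
  exact Nat.eq_of_mul_eq_mul_right (by norm_num) h3

theorem exists_q0 (h : Core a b V H T S q) [Finite G] : ∃ g ∈ h.Q1, g * g ≠ 1 := by
  by_contra hcon
  push Not at hcon
  have h1 : h.Q1 ≤ V := fun g hg => h.Q1_sq hg (hcon g hg)
  have h2 : Nat.card h.Q1 ≤ q := le_trans
    (Nat.card_le_card_of_injective _ (Subgroup.inclusion_injective h1)) h.card_V.le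
  rw [h.card_Q1] at h2
  have := h.four_le
  nlinarith

/-- a maximal subgroup of an elementary abelian group avoiding an element -/
theorem exists_hyperplane [Finite G] {V : Subgroup G} (hV : ∀ x ∈ V, x * x = 1) {v : G}
    (hv : v ∈ V) (hv1 : v ≠ 1) : ∃ W : Subgroup G, W ≤ V ∧ v ∉ W ∧
      ∀ y ∈ V, y ∉ W → y * v ∈ W := by
  have hcomm : ∀ x ∈ V, ∀ y ∈ V, x * y = y * x := by
    intro x hx y hy
    have h1 : ∀ z ∈ V, z⁻¹ = z := fun z hz => inv_eq_of_mul_eq_one_right (hV z hz)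
    have h2 := h1 _ (V.mul_mem hx hy)
    rw [mul_inv_rev, h1 x hx, h1 y hy] at h2
    exact h2.symm
  obtain ⟨W, hW⟩ := Set.Finite.exists_maximal (s := {W : Subgroup G | W ≤ V ∧ v ∉ W})
    (Set.toFinite _) ⟨⊥, bot_le, fun h => hv1 (Subgroup.mem_bot.mp h)⟩
  obtain ⟨⟨hWV, hvW⟩, hmax⟩ := hW
  refine ⟨W, hWV, hvW, fun y hy hyW => ?_⟩
  let W' : Subgroup G :=
    { carrier := {z | z ∈ W ∨ z * y ∈ W}
      mul_mem' := by
        rintro z z' (hz | hz) (hz' | hz')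
        · exact Or.inl (W.mul_mem hz hz')
        · right; rw [mul_assoc]; exact W.mul_mem hz hz'
        · right
          have h1 : z * z' * y = z * y * z' := by
            rw [mul_assoc, hcomm z' (hWV hz') y hy, mul_assoc]
          rw [h1]; exact W.mul_mem hz hz'
        · left
          have hz'V : z' ∈ V := by
            have := V.mul_mem (hWV hz') (V.inv_mem hy)
            simpa using this
          have h1 : z * y * (z' * y) = z * z' := by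
            rw [hcomm z' hz'V y hy]
            calc z * y * (y * z') = z * (y * y) * z' := by group
              _ = z * z' := by rw [hV y hy, mul_one]
          rw [← h1]
          exact W.mul_mem hz hz'
      one_mem' := Or.inl W.one_mem
      inv_mem' := by
        rintro z (hz | hz)
        · exact Or.inl (W.inv_mem hz)
        · right
          have hzV : z ∈ V := by
            have := V.mul_mem (hWV hz) (V.inv_mem hy)
            simpa using this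
          have h1 : z⁻¹ = z := inv_eq_of_mul_eq_one_right (hV z hzV)
          rw [h1]; exact hz }
  have hWW' : W ≤ W' := fun z hz => Or.inl hz
  have hyW' : y ∈ W' := Or.inr (by rw [hV y hy]; exact W.one_mem)
  have hvW' : v ∈ W' := by
    by_contra hcon
    have hW'V : W' ≤ V := by
      rintro z (hz | hz)
      · exact hWV hz
      · have := V.mul_mem (hWV hz) (V.inv_mem hy)
        simpa using this
    exact hyW (hmax ⟨hW'V, hcon⟩ hWW' hyW')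
  rcases hvW' with h1 | h1
  · exact absurd h1 hvW
  · rwa [hcomm y hy v hv]

/-- **The main result**: `G` has a normal subgroup of index 2. -/
theorem exists_index_two (h : Core a b V H T S q) [Finite G] (P : Sylow 2 G)
    (hP : (P : Subgroup G) = S) : ∃ M : Subgroup G, M.Normal ∧ M.index = 2 := by
  obtain ⟨u, hu, hu1, hT⟩ := h.exists_u
  have huK := h.T_mem_KC hu hu1
  obtain ⟨q0, hq0, hq02⟩ := h.exists_q0
  have hv : q0 * q0 ∈ V := h.C_sq hq0.1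
  obtain ⟨W, hWV, hvW, hW⟩ := exists_hyperplane h.V_sq hv hq02
  -- the homomorphism `s ↦ [s, q0]`
  have hφV : ∀ s ∈ S, s * q0 * s⁻¹ * q0⁻¹ ∈ V := by
    intro s hs
    have h1 := h.Q1_conj hq0 hs
    apply h.Q1_sq (h.Q1.mul_mem h1 (h.Q1.inv_mem hq0))
    have h2 := h.Q1_comm (h.Q1.inv_mem hq0) h1
    have h3 : s * q0 * s⁻¹ * (s * q0 * s⁻¹) = q0 * q0 := by
      calc s * q0 * s⁻¹ * (s * q0 * s⁻¹) = s * (q0 * q0) * s⁻¹ := by group
        _ = q0 * q0 := h.conj_V hs hv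
    calc s * q0 * s⁻¹ * q0⁻¹ * (s * q0 * s⁻¹ * q0⁻¹)
        = s * q0 * s⁻¹ * (q0⁻¹ * (s * q0 * s⁻¹)) * q0⁻¹ := by group
      _ = s * q0 * s⁻¹ * (s * q0 * s⁻¹ * q0⁻¹) * q0⁻¹ := by rw [h2]
      _ = s * q0 * s⁻¹ * (s * q0 * s⁻¹) * q0⁻¹ * q0⁻¹ := by group
      _ = 1 := by rw [h3]; group
  have hφ : ∀ s ∈ S, ∀ s' ∈ S, s * s' * q0 * (s * s')⁻¹ * q0⁻¹ =
      (s * q0 * s⁻¹ * q0⁻¹) * (s' * q0 * s'⁻¹ * q0⁻¹) := by
    intro s hs s' hs'
    have h1 := h.conj_V hs (hφV s' hs')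
    have h2 := h.V_comm (hφV s hs) (hφV s' hs')
    calc s * s' * q0 * (s * s')⁻¹ * q0⁻¹
        = (s * (s' * q0 * s'⁻¹ * q0⁻¹) * s⁻¹) * (s * q0 * s⁻¹ * q0⁻¹) := by group
      _ = _ := by rw [h1, h2]
  let S0 : Subgroup G :=
    { carrier := {s | s ∈ S ∧ s * q0 * s⁻¹ * q0⁻¹ ∈ W}
      mul_mem' := by
        rintro s s' ⟨hs, hsW⟩ ⟨hs', hsW'⟩
        refine ⟨S.mul_mem hs hs', ?_⟩
        rw [hφ s hs s' hs']
        exact W.mul_mem hsW hsW'
      one_mem' := ⟨S.one_mem, by simp⟩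
      inv_mem' := by
        rintro s ⟨hs, hsW⟩
        refine ⟨S.inv_mem hs, ?_⟩
        have h1 := hφ s hs s⁻¹ (S.inv_mem hs)
        have h2 : s * s⁻¹ * q0 * (s * s⁻¹)⁻¹ * q0⁻¹ = 1 := by group
        rw [h2] at h1
        have h3 : s⁻¹ * q0 * s⁻¹⁻¹ * q0⁻¹ = (s * q0 * s⁻¹ * q0⁻¹)⁻¹ :=
          (inv_eq_of_mul_eq_one_right h1.symm).symm
        rw [h3]
        exact W.inv_mem hsW }
  -- the involutions outside `V` are not in `S0`
  have hK : ∀ k ∈ h.KC, k * q0 * k⁻¹ * q0⁻¹ = q0 * q0 := by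
    intro k hk
    rw [h.Q1_inv hq0 hk, ← mul_inv_rev, h.inv_V hv]
  have hKS : ∀ k ∈ h.KC, k ∉ S0 := by
    intro k hk hkS
    apply hvW
    rw [← hK k hk]
    exact hkS.2
  have hidx : S0.relIndex (P : Subgroup G) = 2 := by
    rw [hP, relIndex_eq_two_iff]
    refine ⟨u, h.T_le hu, fun s hs => ?_⟩
    have h1 : s * u * q0 * (s * u)⁻¹ * q0⁻¹ = (s * q0 * s⁻¹ * q0⁻¹) * (q0 * q0) := by
      rw [hφ s hs u (h.T_le hu), hK u huK]
    by_cases hsW : s * q0 * s⁻¹ * q0⁻¹ ∈ W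
    · right
      refine ⟨⟨hs, hsW⟩, fun h2 => hvW ?_⟩
      have h3 := h2.2
      rw [h1] at h3
      have h4 := W.mul_mem (W.inv_mem hsW) h3
      rwa [inv_mul_cancel_left] at h4
    · left
      refine ⟨⟨S.mul_mem hs (h.T_le hu), ?_⟩, fun h2 => hsW h2.2⟩
      rw [h1]
      exact hW _ (hφV s hs) hsW
  have hS0P : S0 ≤ (P : Subgroup G) := by
    rw [hP]
    exact fun s hs => hs.1
  rcases Cfsg.Agent.Transfer.ThompsonTransfer.thompson_transfer P S0 hS0P hidx u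
    (by rw [pow_two]; exact h.T_sq hu) with ⟨M, hM, hM2, -⟩ | ⟨g, hg⟩
  · exact ⟨M, hM, hM2⟩
  · exfalso
    have h1 : g * u * g⁻¹ ∈ S := hg.1
    have h2 : g * u * g⁻¹ * (g * u * g⁻¹) = 1 := by
      calc g * u * g⁻¹ * (g * u * g⁻¹) = g * (u * u) * g⁻¹ := by group
        _ = 1 := by rw [h.T_sq hu]; group
    by_cases h3 : g * u * g⁻¹ ∈ V
    · have h4 : g * u * g⁻¹ ≠ 1 := by
        intro h5
        apply hu1
        calc u = g⁻¹ * (g * u * g⁻¹) * g := by group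
          _ = 1 := by rw [h5]; group
      have h5 : (g * u * g⁻¹) • g • a = g • a := by
        rw [mul_smul, inv_smul_smul, mul_smul, h.T_a hu]
      have h6 : (g * u * g⁻¹) • g • b = g • b := by
        rw [mul_smul, inv_smul_smul, mul_smul, h.T_b u hu]
      have h7 := h.V_free _ h3 h4 _ h5
      have h8 := h.V_free _ h3 h4 _ h6
      exact h.ne (smul_left_cancel g (h8.trans h7.symm))
    · exact hKS _ (h.mem_KC_iff.mpr ⟨h1, h2, h3⟩) hg

end Core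

end Cfsg.Agent.AschCrit.ThreeCore
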