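import Mathlib

/-!
# The determinant on a homocyclic group of exponent four

`Q` is a homocyclic group of exponent 4 and odd rank `k`, normalised by `N`.  The determinant is a
homomorphism from `N` to `(ZMod 4)ˣ` with value `-1` at every element of `N` inverting `Q`.
-/

set_option autoImplicit false

namespace Cfsg.Agent.AschCrit.ThreeDet

open Subgroup

section Module

variable {A : Type*} [AddCommGroup A] [Finite A] [Module (ZMod 4) A]

theorem free_finrank {k : ℕ} (hcard : Nat.card A = 2 ^ k * 2 ^ k) (V : AddSubgroup A)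
    (hVcard : Nat.card V = 2 ^ k) (hV : ∀ x : A, x + x = 0 → x ∈ V) (hV0 : ∀ x ∈ V, x + x = 0)
    (hsq : ∀ x : A, x + x ∈ V) :
    Module.Free (ZMod 4) A ∧ Module.finrank (ZMod 4) A = k := by
  classical
  haveI : Fact (Nat.Prime 2) := ⟨Nat.prime_two⟩
  haveI : Fact (1 < 4) := ⟨by norm_num⟩
  letI : Module (ZMod 2) V := AddCommGroup.zmodModule (n := 2) (fun x => by
    rw [two_nsmul]
    exact Subtype.ext (hV0 x x.2))
  haveI : Module.Finite (ZMod 2) V := Module.Finite.of_finite
  have hfr : Module.finrank (ZMod 2) V = k := by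
    have h1 := Module.natCard_eq_pow_finrank (K := ZMod 2) (V := V)
    rw [hVcard, Nat.card_zmod] at h1
    exact (Nat.pow_right_injective (le_refl 2) h1).symm
  let b : Module.Basis (Fin k) (ZMod 2) V :=
    (Module.finBasis (ZMod 2) V).reindex (finCongr hfr)
  -- doubling is onto `V`
  let dbl : A →+ V :=
    { toFun := fun x => ⟨x + x, hsq x⟩
      map_zero' := Subtype.ext (by simp)
      map_add' := fun x y => Subtype.ext (by
        show x + y + (x + y) = x + x + (y + y)
        abel) }
  have hker : dbl.ker = V := by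
    ext x
    rw [AddMonoidHom.mem_ker]
    constructor
    · intro h1
      exact hV x (Subtype.ext_iff.mp h1)
    · intro h1
      exact Subtype.ext (hV0 x h1)
  have hsurj : Function.Surjective dbl := by
    rw [← AddMonoidHom.range_eq_top]
    apply AddSubgroup.eq_top_of_card_eq
    have h1 := AddSubgroup.card_mul_index dbl.ker
    rw [AddSubgroup.index_ker, hker, hVcard, hcard] at h1
    rw [hVcard]
    exact Nat.eq_of_mul_eq_mul_left (by positivity) h1
  choose g hg using fun i => hsurj (b i)
  have hg' : ∀ i, g i + g i = (b i : A) := fun i => Subtype.ext_iff.mp (hg i)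
  have key : ∀ n : Fin k → ℕ, (∑ i, n i • (b i : A)) = 0 → ∀ i, 2 ∣ n i := by
    intro n hn i
    have h1 : (∑ i, ((n i : ℕ) : ZMod 2) • b i) = 0 := by
      apply Subtype.ext
      rw [AddSubgroup.val_finsetSum]
      rw [AddSubgroup.coe_zero, ← hn]
      refine Finset.sum_congr rfl fun i _ => ?_
      rw [Nat.cast_smul_eq_nsmul, AddSubgroup.coe_nsmul]
    have h2 := (Fintype.linearIndependent_iff.mp b.linearIndependent) _ h1 i
    exact (ZMod.natCast_eq_zero_iff _ _).mp h2
  let f : (Fin k → ZMod 4) →ₗ[ZMod 4] A := Fintype.linearCombination (ZMod 4) g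
  have hf : Function.Injective f := by
    rw [← LinearMap.ker_eq_bot, LinearMap.ker_eq_bot']
    intro c hc
    have h1 : (∑ i, (c i).val • g i) = 0 := by
      rw [← hc]
      show _ = Fintype.linearCombination (ZMod 4) g c
      rw [Fintype.linearCombination_apply]
      refine Finset.sum_congr rfl fun i _ => ?_
      rw [← Nat.cast_smul_eq_nsmul (ZMod 4), ZMod.natCast_zmod_val]
    have h2 : ∀ i, 2 ∣ (c i).val := by
      apply key
      have h3 : (∑ i, (c i).val • (b i : A)) = (∑ i, (c i).val • g i) + ∑ i, (c i).val • g i := by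
        rw [← Finset.sum_add_distrib]
        refine Finset.sum_congr rfl fun i _ => ?_
        rw [← hg', nsmul_add]
      rw [h3, h1, add_zero]
    choose m hm using h2
    have h3 : ∀ i, 2 ∣ m i := by
      apply key
      rw [← h1]
      refine Finset.sum_congr rfl fun i _ => ?_
      rw [← hg', hm i, mul_comm, mul_nsmul, two_nsmul, nsmul_add]
    funext i
    have h4 : (c i).val < 4 := ZMod.val_lt _
    obtain ⟨l, hl⟩ := h3 i
    have h5 := hm i
    have h6 : (c i).val = 0 := by omega
    exact (ZMod.val_eq_zero _).mp h6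
  have hcardf : Nat.card A ≤ Nat.card (Fin k → ZMod 4) := by
    rw [hcard, Nat.card_fun, Nat.card_zmod, Nat.card_fin, ← mul_pow]
    norm_num
  have hbij : Function.Bijective f := hf.bijective_of_nat_card_le hcardf
  let e := LinearEquiv.ofBijective f hbij
  refine ⟨Module.Free.of_equiv e, ?_⟩
  rw [← e.finrank_eq, Module.finrank_fin_fun]

end Module

variable {G : Type*} [Group G] [Finite G]

/-- the determinant character -/
theorem exists_hom (N Q V : Subgroup G) {k : ℕ} (hk : Odd k)
    (hconj : ∀ s ∈ N, ∀ g ∈ Q, s * g * s⁻¹ ∈ Q) (hcomm : ∀ g ∈ Q, ∀ g' ∈ Q, g * g' = g' * g)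
    (hcard : Nat.card Q = 2 ^ k * 2 ^ k) (hVQ : V ≤ Q) (hVcard : Nat.card V = 2 ^ k)
    (hV : ∀ x ∈ Q, x * x = 1 → x ∈ V) (hV1 : ∀ x ∈ V, x * x = 1) (hsq : ∀ x ∈ Q, x * x ∈ V) :
    ∃ χ : N →* (ZMod 4)ˣ, ∀ u : N, (∀ g ∈ Q, (u : G) * g * (u : G)⁻¹ = g⁻¹) → χ u = -1 := by
  letI : CommGroup Q := { (inferInstance : Group Q) with
    mul_comm := fun a b => Subtype.ext (hcomm a a.2 b b.2) }
  have h4 : ∀ x : Additive Q, 4 • x = 0 := by
    intro x
    have h1 : (Additive.toMul x : Q) ^ 4 = 1 := by
      apply Subtype.ext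
      have h2 := hV1 _ (hsq _ (Additive.toMul x).2)
      rw [Subgroup.coe_pow, Subgroup.coe_one, show (4 : ℕ) = 2 + 2 from rfl, pow_add, pow_two]
      exact h2
    exact h1
  letI : Module (ZMod 4) (Additive Q) := AddCommGroup.zmodModule h4
  obtain ⟨hfree, hfin⟩ := free_finrank (A := Additive Q) (k := k) hcard
    (Subgroup.toAddSubgroup (V.subgroupOf Q))
    (by
      have h1 : Nat.card (V.subgroupOf Q) = 2 ^ k := by
        rw [Nat.card_congr (Subgroup.subgroupOfEquivOfLe hVQ).toEquiv, hVcard]
      exact h1)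
    (fun x hx => hV _ (Additive.toMul x).2 (Subtype.ext_iff.mp hx))
    (fun x hx => Subtype.ext (hV1 _ hx))
    (fun x => hsq _ (Additive.toMul x).2)
  -- the action of `N`
  let φ : N → (Q →* Q) := fun s =>
    { toFun := fun g => ⟨(s : G) * g * (s : G)⁻¹, hconj s s.2 g g.2⟩
      map_one' := Subtype.ext (by simp)
      map_mul' := fun g g' => Subtype.ext (by
        show (s : G) * (g * g') * (s : G)⁻¹ = (s : G) * g * (s : G)⁻¹ * ((s : G) * g' * (s : G)⁻¹)
        group) }
  let ψ : N →* Module.End (ZMod 4) (Additive Q) :=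
    { toFun := fun s => (MonoidHom.toAdditive (φ s)).toZModLinearMap 4
      map_one' := LinearMap.ext fun x => by
        apply Additive.toMul.injective
        apply Subtype.ext
        show ((1 : N) : G) * (Additive.toMul x : Q) * ((1 : N) : G)⁻¹ = (Additive.toMul x : Q)
        simp
      map_mul' := fun s t => LinearMap.ext fun x => by
        apply Additive.toMul.injective
        apply Subtype.ext
        show ((s * t : N) : G) * (Additive.toMul x : Q) * ((s * t : N) : G)⁻¹ =
            (s : G) * ((t : G) * (Additive.toMul x : Q) * (t : G)⁻¹) * (s : G)⁻¹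
        rw [Subgroup.coe_mul]
        group }
  let χ : N →* ZMod 4 := LinearMap.det.comp ψ
  refine ⟨χ.toHomUnits, fun u hu => ?_⟩
  apply Units.ext
  show LinearMap.det (ψ u) = -1
  have h1 : ψ u = (-1 : ZMod 4) • (LinearMap.id : Additive Q →ₗ[ZMod 4] Additive Q) := by
    refine LinearMap.ext fun x => ?_
    rw [LinearMap.smul_apply, LinearMap.id_apply, neg_smul, one_smul]
    apply Additive.toMul.injective
    apply Subtype.ext
    exact hu _ (Additive.toMul x).2
  rw [h1, LinearMap.det_smul, LinearMap.det_id, mul_one, hfin, hk.neg_one_pow]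

end Cfsg.Agent.AschCrit.ThreeDet
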