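import Mathlib
import Cfsg.Agent.Involutions.BaerSuzuki

/-!
# A 2-transitive group with a torus: the even case

`M` is a finite group without nontrivial normal 2-subgroups, `Γ` a subgroup of index `2 ^ k`, `H ≤ Γ` a
cyclic subgroup of order `2 ^ k - 1` normalised by `Γ`, containing its centraliser and acting semiregularly
on the cosets of `Γ` other than `Γ`.  Then `3` does not divide `|H|` (i.e. `k` is odd).
-/

set_option autoImplicit false

namespace Cfsg.Agent.AschCrit.ThreeEven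

open Subgroup

variable {M : Type*} [Group M]

/-- conjugation by `x` acts on the cyclic group `H` as a power map -/
theorem exists_pow {H : Subgroup M} [Finite M] (hcyc : IsCyclic H) {x : M}
    (hx : ∀ h ∈ H, x * h * x⁻¹ ∈ H) : ∃ m : ℕ, ∀ h ∈ H, x * h * x⁻¹ = h ^ m := by
  obtain ⟨⟨h0, hh0⟩, hgen⟩ := hcyc.exists_generator
  have h1 : x * h0 * x⁻¹ ∈ H := hx h0 hh0
  have h2 := hgen ⟨_, h1⟩
  rw [← mem_powers_iff_mem_zpowers] at h2
  obtain ⟨m, hm⟩ := h2
  have hm' : h0 ^ m = x * h0 * x⁻¹ := by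
    have := Subtype.ext_iff.mp hm
    simpa using this
  refine ⟨m, fun h hh => ?_⟩
  have h3 := hgen ⟨h, hh⟩
  rw [← mem_powers_iff_mem_zpowers] at h3
  obtain ⟨j, hj⟩ := h3
  have hj' : h0 ^ j = h := by
    have := Subtype.ext_iff.mp hj
    simpa using this
  rw [← hj', ← conj_pow, ← hm', ← pow_mul, ← pow_mul, mul_comm]

/-- two elements normalising the cyclic group `H` commute modulo `C(H)` -/
theorem commute_on {H : Subgroup M} [Finite M] (hcyc : IsCyclic H) {x y : M}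
    (hx : ∀ h ∈ H, x * h * x⁻¹ ∈ H) (hy : ∀ h ∈ H, y * h * y⁻¹ ∈ H) :
    ∀ h ∈ H, (x * y) * h * (x * y)⁻¹ = (y * x) * h * (y * x)⁻¹ := by
  obtain ⟨m, hm⟩ := exists_pow hcyc hx
  obtain ⟨n, hn⟩ := exists_pow hcyc hy
  intro h hh
  have e1 : (x * y) * h * (x * y)⁻¹ = x * (y * h * y⁻¹) * x⁻¹ := by group
  have e2 : (y * x) * h * (y * x)⁻¹ = y * (x * h * x⁻¹) * y⁻¹ := by group
  rw [e1, e2, hn h hh, hm h hh, hm _ (H.pow_mem hh n), hn _ (H.pow_mem hh m), ← pow_mul, ← pow_mul,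
    mul_comm]

/-- an element of odd order normalising the cyclic group `H` centralises its elements of order 3 -/
theorem commute_three {H : Subgroup M} [Finite M] (hcyc : IsCyclic H) {x : M}
    (hx : ∀ h ∈ H, x * h * x⁻¹ ∈ H) (hodd : Odd (orderOf x)) {w : M} (hw : w ∈ H)
    (hw3 : orderOf w = 3) : x * w = w * x := by
  obtain ⟨m, hm⟩ := exists_pow hcyc hx
  have h3 : w ^ 3 = 1 := by rw [← hw3]; exact pow_orderOf_eq_one w
  have hne : w ≠ 1 := by
    rintro rfl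
    rw [orderOf_one] at hw3
    omega
  have hwm : w ^ m = w ^ (m % 3) := by
    rw [← hw3, pow_mod_orderOf]
  have h1 := hm w hw
  rw [hwm] at h1
  have hlt : m % 3 < 3 := Nat.mod_lt _ (by norm_num)
  interval_cases h : m % 3
  · rw [pow_zero, mul_inv_eq_one, mul_eq_left] at h1
    exact absurd h1 hne
  · rw [pow_one, mul_inv_eq_iff_eq_mul] at h1
    exact h1
  · exfalso
    have hinv : w ^ 2 = w⁻¹ := by
      rw [eq_inv_iff_mul_eq_one, ← pow_succ]
      exact h3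
    rw [hinv] at h1
    have key : ∀ j : ℕ, x ^ (2 * j + 1) * w * (x ^ (2 * j + 1))⁻¹ = w⁻¹ := by
      intro j
      induction j with
      | zero => simpa using h1
      | succ j ih =>
        have e : x ^ (2 * (j + 1) + 1) = x * (x * x ^ (2 * j + 1)) := by
          rw [← pow_succ', ← pow_succ']
          rfl
        have h2 : x * w⁻¹ * x⁻¹ = w := by
          rw [← inv_inj]
          calc (x * w⁻¹ * x⁻¹)⁻¹ = x * w * x⁻¹ := by group
            _ = w⁻¹ := h1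
        rw [e]
        calc x * (x * x ^ (2 * j + 1)) * w * (x * (x * x ^ (2 * j + 1)))⁻¹
            = x * (x * (x ^ (2 * j + 1) * w * (x ^ (2 * j + 1))⁻¹) * x⁻¹) * x⁻¹ := by group
          _ = w⁻¹ := by rw [ih, h2, h1]
    obtain ⟨j, hj⟩ := hodd
    have h4 := key j
    rw [← hj, pow_orderOf_eq_one] at h4
    have h5 : w = w⁻¹ := by simpa using h4
    have h6 : w * w = 1 := by
      nth_rewrite 2 [h5]
      exact mul_inv_cancel w
    apply hne
    calc w = w ^ 3 * (w * w)⁻¹ := by group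
      _ = 1 := by rw [h3, h6]; group

section

variable [Finite M] {Γ H : Subgroup M} {k : ℕ}

omit [Finite M] in
/-- `H` acts semiregularly on the cosets other than `Γ` -/
theorem semireg (hstr : ∀ h ∈ H, h ≠ 1 → ∀ g, g⁻¹ * h * g ∈ Γ → g ∈ Γ) {h : M} (hh : h ∈ H)
    {α : M ⧸ Γ} (hα : α ≠ (1 : M)) (hfix : h • α = α) : h = 1 := by
  by_contra hne
  obtain ⟨g, rfl⟩ := QuotientGroup.mk_surjective α
  apply hα
  have h1 : g⁻¹ * h * g ∈ Γ := by
    have h2 : ((h * g : M) : M ⧸ Γ) = (g : M ⧸ Γ) := hfix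
    have h3 := QuotientGroup.eq.mp h2.symm
    rwa [← mul_assoc] at h3
  have h4 := hstr h hh hne g h1
  rw [eq_comm, QuotientGroup.eq]
  simpa using h4

/-- `H` is transitive on the cosets other than `Γ` -/
theorem trans (hidx : Γ.index = 2 ^ k) (hcard : Nat.card H + 1 = 2 ^ k) (hHΓ : H ≤ Γ)
    (hstr : ∀ h ∈ H, h ≠ 1 → ∀ g, g⁻¹ * h * g ∈ Γ → g ∈ Γ) {α β : M ⧸ Γ} (hα : α ≠ (1 : M))
    (hβ : β ≠ (1 : M)) : ∃ h ∈ H, h • α = β := by
  classical
  have hone : ∀ h ∈ H, h • ((1 : M) : M ⧸ Γ) = ((1 : M) : M ⧸ Γ) := by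
    intro h hh
    show ((h * 1 : M) : M ⧸ Γ) = _
    rw [eq_comm, QuotientGroup.eq]
    simpa using hHΓ hh
  let F : H → {γ : M ⧸ Γ // γ ≠ (1 : M)} := fun h => ⟨(h : M) • α, fun he => hα (by
    have h1 : (h : M)⁻¹ • (h : M) • α = (h : M)⁻¹ • ((1 : M) : M ⧸ Γ) := by rw [he]
    rw [inv_smul_smul, hone _ (H.inv_mem h.2)] at h1
    exact h1)⟩
  have hF : Function.Injective F := by
    intro h h' he
    have h1 : (h : M) • α = (h' : M) • α := Subtype.ext_iff.mp he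
    have h2 : ((h' : M)⁻¹ * h) • α = α := by rw [mul_smul, h1, inv_smul_smul]
    have h3 := semireg hstr (H.mul_mem (H.inv_mem h'.2) h.2) hα h2
    exact Subtype.ext (inv_mul_eq_one.mp h3).symm
  have h1 := Nat.card_congr (Equiv.optionSubtypeNe ((1 : M) : M ⧸ Γ))
  rw [Finite.card_option] at h1
  have h2 : Nat.card (M ⧸ Γ) = Γ.index := rfl
  rw [h2, hidx, ← hcard] at h1
  have h3 : Nat.card {γ : M ⧸ Γ // γ ≠ (1 : M)} ≤ Nat.card H := by omega
  obtain ⟨h, hh⟩ := (hF.bijective_of_nat_card_le h3).2 ⟨β, hβ⟩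
  exact ⟨h, h.2, Subtype.ext_iff.mp hh⟩

/-- a central involution of a Sylow 2-subgroup has no fixed points -/
theorem exists_invol (hk : 1 ≤ k) (hidx : Γ.index = 2 ^ k) (hcard : Nat.card H + 1 = 2 ^ k)
    (hHΓ : H ≤ Γ) (hnorm : ∀ g ∈ Γ, ∀ h ∈ H, g * h * g⁻¹ ∈ H)
    (hstr : ∀ h ∈ H, h ≠ 1 → ∀ g, g⁻¹ * h * g ∈ Γ → g ∈ Γ)
    (hcent : ∀ g, (∀ h ∈ H, g * h = h * g) → g ∈ H) :
    ∃ s : M, s ≠ 1 ∧ s * s = 1 ∧ ∀ α : M ⧸ Γ, s • α ≠ α := by
  haveI : Fact (Nat.Prime 2) := ⟨Nat.prime_two⟩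
  obtain ⟨P⟩ : Nonempty (Sylow 2 M) := inferInstance
  have hPidx : ∀ α : M ⧸ Γ, ∃ p ∈ (P : Subgroup M), p • ((1 : M) : M ⧸ Γ) = α := by
    -- order argument
    have h1 : Nat.card (MulAction.orbit P ((1 : M) : M ⧸ Γ)) *
        Nat.card (MulAction.stabilizer P ((1 : M) : M ⧸ Γ)) = Nat.card P := by
      rw [← Nat.card_prod]
      exact Nat.card_congr (MulAction.orbitProdStabilizerEquivGroup P ((1 : M) : M ⧸ Γ))
    have h2 : Nat.card (MulAction.stabilizer P ((1 : M) : M ⧸ Γ)) ∣ Nat.card Γ := by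
      let ι : MulAction.stabilizer P ((1 : M) : M ⧸ Γ) →* Γ :=
        { toFun := fun p => ⟨((p : P) : M), by
            have h3 : (p : P) • ((1 : M) : M ⧸ Γ) = ((1 : M) : M ⧸ Γ) := p.2
            have h4 : ((((p : P) : M) * 1 : M) : M ⧸ Γ) = ((1 : M) : M ⧸ Γ) := h3
            rw [eq_comm, QuotientGroup.eq] at h4
            simpa using h4⟩
          map_one' := rfl
          map_mul' := fun _ _ => rfl }
      have hι : Function.Injective ι := by
        intro p p' hpp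
        have := Subtype.ext_iff.mp hpp
        exact Subtype.ext (Subtype.ext this)
      exact Subgroup.card_dvd_of_injective ι hι
    obtain ⟨n, hn⟩ := (IsPGroup.iff_card).mp P.isPGroup'
    have h3 : Nat.card (MulAction.stabilizer P ((1 : M) : M ⧸ Γ)) ∣ 2 ^ n := by
      rw [← hn]; exact Subgroup.card_subgroup_dvd_card _
    obtain ⟨j, hjn, hj⟩ := (Nat.dvd_prime_pow Nat.prime_two).mp h3
    have h4 := Γ.card_mul_index
    rw [hidx] at h4
    have h5 : 2 ^ (j + k) ∣ Nat.card M := by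
      rw [pow_add, ← hj, ← h4]
      exact Nat.mul_dvd_mul_right h2 _
    have h6 : 2 ^ (j + k) ∣ Nat.card P := by
      rw [Sylow.card_eq_multiplicity]
      exact pow_dvd_pow 2 ((Nat.Prime.pow_dvd_iff_le_factorization Nat.prime_two
        Nat.card_pos.ne').mp h5)
    have h7 : 2 ^ k ≤ Nat.card (MulAction.orbit P ((1 : M) : M ⧸ Γ)) := by
      rw [← h1, hj, pow_add, mul_comm] at h6
      have h8 := Nat.dvd_of_mul_dvd_mul_right (by positivity) h6
      haveI : Nonempty (MulAction.orbit P ((1 : M) : M ⧸ Γ)) :=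
        ⟨⟨_, MulAction.mem_orbit_self _⟩⟩
      exact Nat.le_of_dvd Nat.card_pos h8
    have h8 : MulAction.orbit P ((1 : M) : M ⧸ Γ) = Set.univ := by
      apply Set.eq_of_subset_of_ncard_le (Set.subset_univ _) _ (Set.toFinite _)
      rw [Set.ncard_univ]
      have h9 : Nat.card (M ⧸ Γ) = 2 ^ k := hidx
      rw [h9]
      exact h7
    intro α
    have h9 : α ∈ MulAction.orbit P ((1 : M) : M ⧸ Γ) := by rw [h8]; trivial
    obtain ⟨p, hp⟩ := h9
    exact ⟨p, p.2, hp⟩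
  -- a central involution
  have hP2 : 2 ∣ Nat.card P := by
    have h4 := Γ.card_mul_index
    rw [hidx] at h4
    have h5 : 2 ^ 1 ∣ Nat.card M := by
      rw [← h4]
      exact Dvd.dvd.mul_left (pow_dvd_pow 2 hk) _
    rw [Sylow.card_eq_multiplicity]
    have h6 := (Nat.Prime.pow_dvd_iff_le_factorization Nat.prime_two
        Nat.card_pos.ne').mp h5
    exact dvd_pow_self 2 (by omega)
  haveI : Nontrivial P := by
    rw [← Finite.one_lt_card_iff_nontrivial]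
    exact Nat.lt_of_lt_of_le (by norm_num) (Nat.le_of_dvd Nat.card_pos hP2)
  haveI := P.isPGroup'.center_nontrivial
  have hcz : 2 ∣ Nat.card (Subgroup.center P) := by
    obtain ⟨n, hn⟩ := (IsPGroup.iff_card).mp (P.isPGroup'.to_subgroup (Subgroup.center P))
    have h1 : 1 < Nat.card (Subgroup.center P) := Finite.one_lt_card
    rw [hn] at h1 ⊢
    apply dvd_pow_self
    rintro rfl
    simp at h1
  obtain ⟨s, hs⟩ := exists_prime_orderOf_dvd_card' 2 hcz
  have hsM : orderOf (((s : P) : M)) = 2 := by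
    rw [orderOf_coe, orderOf_coe, hs]
  refine ⟨((s : P) : M), ?_, ?_, ?_⟩
  · intro h1
    rw [h1, orderOf_one] at hsM
    omega
  · have h1 := pow_orderOf_eq_one (((s : P) : M))
    rwa [hsM, pow_two] at h1
  intro α hfix
  set s' : M := ((s : P) : M) with hs'
  have hcomm : ∀ p ∈ (P : Subgroup M), s' * p = p * s' := by
    intro p hp
    have := (Subgroup.mem_center_iff.mp s.2) ⟨p, hp⟩
    exact (Subtype.ext_iff.mp this).symm
  -- fixes every point
  have hall : ∀ β : M ⧸ Γ, s' • β = β := by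
    intro β
    obtain ⟨p, hp, rfl⟩ := hPidx α
    obtain ⟨p', hp', rfl⟩ := hPidx β
    have h1 : s' • ((1 : M) : M ⧸ Γ) = ((1 : M) : M ⧸ Γ) := by
      rw [← mul_smul, hcomm p hp, mul_smul] at hfix
      exact smul_left_cancel p hfix
    rw [← mul_smul, hcomm p' hp', mul_smul, h1]
  have hcore : s' ∈ Γ.normalCore := by
    intro g
    have h1 := hall ((g⁻¹ : M) : M ⧸ Γ)
    have h2 : ((s' * g⁻¹ : M) : M ⧸ Γ) = ((g⁻¹ : M) : M ⧸ Γ) := h1
    have h3 := QuotientGroup.eq.mp h2.symm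
    simpa [mul_assoc] using h3
  have hKH : ∀ h ∈ H, h ∈ Γ.normalCore → h = 1 := by
    intro h hh hhK
    by_contra hne
    have h1 : Γ = ⊤ := by
      rw [eq_top_iff]
      intro g _
      apply hstr h hh hne g
      have := hhK g⁻¹
      simpa using this
    rw [h1, Subgroup.index_top] at hidx
    have : 2 ^ 1 ≤ 2 ^ k := Nat.pow_le_pow_right (by norm_num) hk
    omega
  have hsH : s' ∈ H := by
    apply hcent
    intro h hh
    have h1 : s' * h * s'⁻¹ * h⁻¹ ∈ Γ.normalCore := by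
      have h2 : h * s'⁻¹ * h⁻¹ ∈ Γ.normalCore :=
        (Subgroup.normalCore_normal Γ).conj_mem _ (Subgroup.inv_mem _ hcore) h
      have h3 := Subgroup.mul_mem _ hcore h2
      simpa [mul_assoc] using h3
    have h2 : s' * h * s'⁻¹ * h⁻¹ ∈ H :=
      H.mul_mem (hnorm s' (Subgroup.normalCore_le Γ hcore) h hh) (H.inv_mem hh)
    have h3 := hKH _ h2 h1
    rw [mul_inv_eq_one, mul_inv_eq_iff_eq_mul] at h3
    exact h3
  have h1 := hKH s' hsH hcore
  rw [h1, orderOf_one] at hsM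
  omega

/-- **The even case.** -/
theorem false_of_three (hk : 1 ≤ k) (hidx : Γ.index = 2 ^ k) (hcard : Nat.card H + 1 = 2 ^ k)
    (hHΓ : H ≤ Γ) (hcyc : IsCyclic H) (h3 : 3 ∣ Nat.card H)
    (hnorm : ∀ g ∈ Γ, ∀ h ∈ H, g * h * g⁻¹ ∈ H)
    (hstr : ∀ h ∈ H, h ≠ 1 → ∀ g, g⁻¹ * h * g ∈ Γ → g ∈ Γ)
    (hcent : ∀ g, (∀ h ∈ H, g * h = h * g) → g ∈ H)
    (hO2 : ∀ N : Subgroup M, N.Normal → IsPGroup 2 N → N = ⊥) : False := by
  obtain ⟨s0, hs01, hs0s0, hs0fix⟩ := exists_invol hk hidx hcard hHΓ hnorm hstr hcent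
  obtain ⟨x0, hx01, hx0odd, hx0inv⟩ :=
    Cfsg.Agent.Involutions.BaerSuzuki.exists_odd_inverted s0 hs0s0 (by
      intro hp
      have h1 := hO2 _ Subgroup.normalClosure_normal hp
      have h2 : s0 ∈ Subgroup.normalClosure ({s0} : Set M) :=
        Subgroup.subset_normalClosure (by simp)
      rw [h1, Subgroup.mem_bot] at h2
      exact hs01 h2)
  -- an element of prime order
  obtain ⟨r, hr, hrd⟩ := Nat.exists_prime_and_dvd (n := orderOf x0) (by
    intro h1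
    rw [orderOf_eq_one_iff] at h1
    exact hx01 h1)
  haveI : Fact r.Prime := ⟨hr⟩
  obtain ⟨m, hm⟩ := hrd
  have hmpos : 0 < m := by
    rcases Nat.eq_zero_or_pos m with h1 | h1
    · rw [h1, mul_zero] at hm
      exact absurd hm (orderOf_pos x0).ne'
    · exact h1
  have hx1r : orderOf (x0 ^ m) = r := by
    rw [orderOf_pow_of_dvd hmpos.ne' ⟨r, by rw [hm, mul_comm]⟩, hm]
    exact Nat.mul_div_cancel _ hmpos
  have hrodd : Odd r := hx0odd.of_dvd_nat ⟨m, hm⟩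
  have hx1inv : s0 * x0 ^ m * s0⁻¹ = (x0 ^ m)⁻¹ := by
    rw [← conj_pow, hx0inv, inv_pow]
  set x1 := x0 ^ m with hx1
  clear_value x1
  -- a fixed point
  have hfp : ∃ α : M ⧸ Γ, x1 • α = α := by
    have hrp : IsPGroup r (zpowers x1) := by
      rw [IsPGroup.iff_card]
      exact ⟨1, by rw [Nat.card_zpowers, hx1r, pow_one]⟩
    have h1 : ¬ r ∣ Nat.card (M ⧸ Γ) := by
      have h2 : Nat.card (M ⧸ Γ) = 2 ^ k := hidx
      rw [h2]
      intro h4
      have h5 := (Nat.prime_dvd_prime_iff_eq hr Nat.prime_two).mp (hr.dvd_of_dvd_pow h4)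
      rw [h5] at hrodd
      exact absurd hrodd (by decide)
    obtain ⟨α, hα⟩ := hrp.nonempty_fixed_point_of_prime_not_dvd_card (M ⧸ Γ) h1
    exact ⟨α, hα ⟨x1, mem_zpowers x1⟩⟩
  obtain ⟨α, hα⟩ := hfp
  obtain ⟨g, rfl⟩ := QuotientGroup.mk_surjective α
  -- conjugate
  obtain ⟨s, hs⟩ : ∃ s, s = g⁻¹ * s0 * g := ⟨_, rfl⟩
  obtain ⟨x, hx⟩ : ∃ x, x = g⁻¹ * x1 * g := ⟨_, rfl⟩
  have hss : s * s = 1 := by
    rw [hs]
    calc g⁻¹ * s0 * g * (g⁻¹ * s0 * g) = g⁻¹ * (s0 * s0) * g := by group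
      _ = 1 := by rw [hs0s0]; group
  have hsinv : s⁻¹ = s := inv_eq_of_mul_eq_one_right hss
  have hsfix : ∀ α : M ⧸ Γ, s • α ≠ α := by
    intro α he
    apply hs0fix (g • α)
    have h1 : s0 * g = g * s := by rw [hs]; group
    rw [← mul_smul, h1, mul_smul, he]
  have hsx : s * x * s⁻¹ = x⁻¹ := by
    rw [hs, hx]
    calc g⁻¹ * s0 * g * (g⁻¹ * x1 * g) * (g⁻¹ * s0 * g)⁻¹ = g⁻¹ * (s0 * x1 * s0⁻¹) * g := by group
      _ = (g⁻¹ * x1 * g)⁻¹ := by rw [hx1inv]; group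
  have hxr : orderOf x = r := by
    have h1 : x = g⁻¹ * x1 * g⁻¹⁻¹ := by rw [inv_inv]; exact hx
    rw [← hx1r, h1]
    exact (MulAut.conj g⁻¹).orderOf_eq x1
  have hxodd : Odd (orderOf x) := by rw [hxr]; exact hrodd
  have hx1' : x ≠ 1 := by
    intro h1
    rw [h1, orderOf_one] at hxr
    exact hr.one_lt.ne hxr
  set o : M ⧸ Γ := ((1 : M) : M ⧸ Γ) with ho
  have hxo : x • o = o := by
    have h1 : ((x1 * g : M) : M ⧸ Γ) = (g : M ⧸ Γ) := hα
    have h2 := QuotientGroup.eq.mp h1.symm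
    show ((x * 1 : M) : M ⧸ Γ) = _
    rw [eq_comm, QuotientGroup.eq]
    rw [hx]
    simpa [mul_assoc] using h2
  have hΓ : ∀ y : M, y • o = o → y ∈ Γ := by
    intro y hy
    have h1 : ((y * 1 : M) : M ⧸ Γ) = ((1 : M) : M ⧸ Γ) := hy
    rw [eq_comm, QuotientGroup.eq] at h1
    simpa using h1
  have hΓ' : ∀ y ∈ Γ, y • o = o := by
    intro y hy
    show ((y * 1 : M) : M ⧸ Γ) = ((1 : M) : M ⧸ Γ)
    rw [eq_comm, QuotientGroup.eq]
    simpa using hy
  have hxΓ := hΓ x hxo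
  clear_value o
  set β := s • o with hβ
  have hβo : β ≠ o := hsfix o
  have hsβ : s • β = o := by rw [hβ, ← mul_smul, hss, one_smul]
  have hxs : x * s = s * x⁻¹ := by
    rw [← hsx]
    calc x * s = (s * s) * x * s := by rw [hss, one_mul]
      _ = s * (s * x * s⁻¹) := by rw [hsinv]; group
  have hxio : x⁻¹ • o = o := by rw [inv_smul_eq_iff, hxo]
  have hxβ : x • β = β := by rw [hβ, ← mul_smul, hxs, mul_smul, hxio]
  have hxiβ : x⁻¹ • β = β := by rw [inv_smul_eq_iff, hxβ]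
  -- `ω`
  obtain ⟨⟨w, hw⟩, hw3⟩ := exists_prime_orderOf_dvd_card' 3 h3
  have hw3' : orderOf w = 3 := by rw [← hw3]; exact (orderOf_mk w hw).symm
  have hw1 : w ≠ 1 := by
    rintro rfl
    rw [orderOf_one] at hw3'
    omega
  have hxw : x * w = w * x := commute_three hcyc (hnorm x hxΓ) hxodd hw hw3'
  have hHo : ∀ h ∈ H, h • o = o := fun h hh => hΓ' h (hHΓ hh)
  have hsemi : ∀ h ∈ H, ∀ α, α ≠ o → h • α = α → h = 1 := by
    intro h hh α hα hfix
    rw [ho] at hα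
    exact semireg hstr hh hα hfix
  have htr : ∀ α α', α ≠ o → α' ≠ o → ∃ h ∈ H, h • α = α' := by
    intro α α' h1 h2
    rw [ho] at h1 h2
    exact trans hidx hcard hHΓ hstr h1 h2
  -- `C_H(x)` is transitive on the fixed points of `x` other than `o`
  have hX1 : ∀ γ, x • γ = γ → γ ≠ o → ∃ h ∈ H, x * h = h * x ∧ h • β = γ := by
    intro γ hγ hγo
    obtain ⟨h, hh, hhβ⟩ := htr β γ hβo hγo
    refine ⟨h, hh, ?_, hhβ⟩
    have h1 : (h⁻¹ * (x * h * x⁻¹)) • β = β := by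
      rw [mul_smul, mul_smul, mul_smul, hxiβ, hhβ, hγ, ← hhβ, inv_smul_smul]
    have h2 := hsemi _ (H.mul_mem (H.inv_mem hh) (hnorm x hxΓ h hh)) β hβo h1
    rw [inv_mul_eq_one, eq_comm, mul_inv_eq_iff_eq_mul] at h2
    exact h2
  -- the conjugate under `s`
  have hX2 : ∀ δ, x • δ = δ → δ ≠ β → ∃ c : M, x * c = c * x ∧ c • β = β ∧ c • o = δ := by
    intro δ hδ hδβ
    have h1 : s • δ ≠ o := by
      intro he
      apply hδβ
      rw [hβ, ← he, ← mul_smul, hss, one_smul]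
    have h2 : x • s • δ = s • δ := by
      have : x⁻¹ • δ = δ := by rw [inv_smul_eq_iff, hδ]
      rw [← mul_smul, hxs, mul_smul, this]
    obtain ⟨h, hh, hxh, hhβ⟩ := hX1 _ h2 h1
    refine ⟨s * h * s, ?_, ?_, ?_⟩
    · have hxh' : x⁻¹ * h = h * x⁻¹ := by
        rw [inv_mul_eq_iff_eq_mul, ← mul_assoc, hxh]; group
      have hsx' : x⁻¹ * s = s * x := by
        rw [inv_mul_eq_iff_eq_mul, ← mul_assoc, hxs]
        group
      calc x * (s * h * s) = (x * s) * h * s := by group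
        _ = s * (x⁻¹ * h) * s := by rw [hxs]; group
        _ = s * h * (x⁻¹ * s) := by rw [hxh']; group
        _ = s * h * s * x := by rw [hsx']; group
    · rw [mul_smul, mul_smul, hsβ, hHo h hh]
    · rw [mul_smul, mul_smul, ← hβ, hhβ, ← mul_smul, hss, one_smul]
  -- the point `γ = ω β`
  have hγ : x • w • β = w • β := by rw [← mul_smul, hxw, mul_smul, hxβ]
  have hγβ : w • β ≠ β := fun he => hw1 (hsemi w hw β hβo he)
  have hwne : ∀ α, α ≠ o → w⁻¹ • α ≠ o := by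
    intro α hα he
    apply hα
    have h1 : w • w⁻¹ • α = w • o := by rw [he]
    rw [smul_inv_smul, hHo w hw] at h1
    exact h1
  obtain ⟨c1, hc1x, hc1β, hc1o⟩ := hX2 _ hγ hγβ
  have hδβ : w⁻¹ • β ≠ β := by
    intro he
    apply hγβ
    have h1 : w • w⁻¹ • β = w • β := by rw [he]
    rw [smul_inv_smul] at h1
    exact h1.symm
  have hwx' : x * w⁻¹ = w⁻¹ * x := by
    rw [eq_inv_mul_iff_mul_eq, ← mul_assoc, ← hxw]
    group
  have hδ : x • w⁻¹ • β = w⁻¹ • β := by rw [← mul_smul, hwx', mul_smul, hxβ]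
  obtain ⟨c3, hc3x, hc3β, hc3o⟩ := hX2 _ hδ hδβ
  -- `c` swaps `o` and `β` and commutes with `x`
  set c := c3⁻¹ * w⁻¹ * c1 with hc
  have hc3x' : x * c3⁻¹ = c3⁻¹ * x := by
    rw [eq_inv_mul_iff_mul_eq, ← mul_assoc, ← hc3x]
    group
  have hcx : x * c = c * x := by
    rw [hc]
    calc x * (c3⁻¹ * w⁻¹ * c1) = (x * c3⁻¹) * w⁻¹ * c1 := by group
      _ = c3⁻¹ * (x * w⁻¹) * c1 := by rw [hc3x']; group
      _ = c3⁻¹ * w⁻¹ * (x * c1) := by rw [hwx']; group
      _ = c3⁻¹ * w⁻¹ * c1 * x := by rw [hc1x]; group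
  have hco : c • o = β := by
    rw [hc, mul_smul, mul_smul, hc1o, inv_smul_smul, inv_smul_eq_iff, hc3β]
  have hcβ : c • β = o := by
    rw [hc, mul_smul, mul_smul, hc1β, inv_smul_eq_iff, hc3o]
  -- `c⁻¹ s` fixes `o` and `β`
  have hd1 : (c⁻¹ * s) • o = o := by rw [mul_smul, ← hβ, inv_smul_eq_iff, hco]
  have hd2 : (c⁻¹ * s) • β = β := by rw [mul_smul, hsβ, inv_smul_eq_iff, hcβ]
  have hdΓ := hΓ _ hd1
  set d := c⁻¹ * s with hd
  clear_value d
  -- `d` and `x` commute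
  have hdx : d * x * (x * d)⁻¹ ∈ H := by
    apply hcent
    intro h hh
    have h1 := commute_on hcyc (hnorm d hdΓ) (hnorm x hxΓ)
    have hmem : (x * d)⁻¹ * h * (x * d)⁻¹⁻¹ ∈ H := by
      have e : (x * d)⁻¹ * h * (x * d)⁻¹⁻¹ = d⁻¹ * (x⁻¹ * h * x⁻¹⁻¹) * d⁻¹⁻¹ := by group
      rw [e]
      exact hnorm _ (Γ.inv_mem hdΓ) _ (hnorm _ (Γ.inv_mem hxΓ) h hh)
    have h2 := h1 _ hmem
    have h3 : x * d * ((x * d)⁻¹ * h * (x * d)⁻¹⁻¹) * (x * d)⁻¹ = h := by group
    rw [h3] at h2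
    calc d * x * (x * d)⁻¹ * h = (d * x * ((x * d)⁻¹ * h * (x * d)⁻¹⁻¹) * (d * x)⁻¹) *
          (d * x * (x * d)⁻¹) := by group
      _ = h * (d * x * (x * d)⁻¹) := by rw [h2]
  have hdx2 : (d * x * (x * d)⁻¹) • β = β := by
    have h1 : (x * d)⁻¹ • β = β := by
      rw [inv_smul_eq_iff, mul_smul, hd2, hxβ]
    rw [mul_smul, h1, mul_smul, hxβ, hd2]
  have hdx3 := hsemi _ hdx β hβo hdx2
  rw [mul_inv_eq_one] at hdx3
  -- so `s` commutes with `x`
  have hsc : s = c * d := by rw [hd]; group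
  have hsx2 : s * x = x * s := by
    rw [hsc, mul_assoc, hdx3, ← mul_assoc, ← hcx, mul_assoc]
  have h5 : x⁻¹ = x := by
    rw [← hsx, hsx2]; group
  have h6 : x ^ 2 = 1 := by
    rw [pow_two]
    nth_rewrite 2 [← h5]
    exact mul_inv_cancel x
  have h7 := orderOf_dvd_of_pow_eq_one h6
  rw [hxr] at h7
  have h8 := (Nat.prime_dvd_prime_iff_eq hr Nat.prime_two).mp h7
  rw [h8] at hrodd
  exact absurd hrodd (by decide)

end

end Cfsg.Agent.AschCrit.ThreeEven
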