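import Cfsg.Agent.AschCrit.Closed

/-!
# Aschbacher's criterion: the counting formula

`u` is a bad involution such that `u ∼ u y` for every `y ∈ D ∩ C(u)` (hypothesis `hR1`, proved
elsewhere).  Write `n = |Ω|`, `m = |D_a|`, `f = |Fix u|`, `c = |D_a ∩ C(u)|` (`a ∈ Fix u`).

* `card_fix_of_isConj` : conjugate elements have the same number of fixed points
* `card_at_eq_mul` : `m = r c`, where `r = |{x ∈ D ∩ C(u) : x e = u e}|`, for every `e ∉ Fix u`
* `card_swC_eq` : `r` does not depend on `e`
* `card_classC` : `|D ∩ C(u)| = f c`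
* `count_r` : `(n - f) r = f (f - 1) c`
* `count` : `(n - f) m = f (f - 1) c²`
* `odd_card_fix`, `odd_card_atC`, `odd_card_swC` : `f`, `c`, `r` are odd
-/

set_option autoImplicit false

namespace Cfsg.Agent.AschCrit.Count

open Cfsg.Agent.TwoFusion.StronglyEmbeddedBasic Cfsg.Agent.AschCrit.Basic
open Cfsg.Agent.AschCrit.Basic.Setup Cfsg.Agent.AschCrit.Closed

/-- the number of fixed points of an involutive map has the parity of the cardinality -/
theorem odd_card_of_involutive {α : Type*} [Finite α] {F : α → α} (hF : Function.Involutive F)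
    (hα : Odd (Nat.card α)) : Odd (Nat.card {x : α // F x = x}) := by
  classical
  have : Fintype α := Fintype.ofFinite α
  have hp : (show Function.End α from F) ^ 2 ^ 1 = 1 := by
    rw [pow_one, pow_two]
    funext x
    exact hF x
  have h1 := Equiv.Perm.card_fixedPoints_modEq hp
  have h2 : Nat.card {x : α // F x = x} =
      Fintype.card (Function.fixedPoints (show Function.End α from F)) := by
    rw [← Nat.card_eq_fintype_card]
    rfl
  rw [h2, Nat.odd_iff]
  rw [Nat.card_eq_fintype_card, Nat.odd_iff] at hα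
  rw [← hα]
  exact h1.symm

variable {G Ω : Type*} [Group G] [MulAction G Ω] {z : G}

/-- conjugate elements have the same number of fixed points -/
theorem card_fix_of_isConj {u v : G} (huv : IsConj u v) :
    Nat.card {a : Ω // v • a = a} = Nat.card {a : Ω // u • a = a} := by
  obtain ⟨g, rfl⟩ := isConj_iff.mp huv
  refine Nat.card_congr
    { toFun := fun a => ⟨g⁻¹ • a.1, ?_⟩
      invFun := fun a => ⟨g • a.1, ?_⟩
      left_inv := fun a => by ext; simp
      right_inv := fun a => by ext; simp }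
  · have := a.2
    rw [mul_smul, mul_smul] at this
    exact smul_left_cancel g (by rw [this, smul_inv_smul])
  · rw [mul_smul, mul_smul, inv_smul_smul, a.2]

/-- conjugate elements: the numbers `|D_a ∩ C(w)|`, `a ∈ Fix w`, coincide -/
theorem card_atC_of_isConj [Finite G] (h : Setup G Ω z) {u v : G} (hu : u * u = 1)
    (huv : IsConj u v) {a b : Ω} (ha : u • a = a) (hb : v • b = b) :
    Nat.card (AtC z v b) = Nat.card (AtC z u a) := by
  obtain ⟨g, rfl⟩ := isConj_iff.mp huv
  have h1 : u • (g⁻¹ • b) = g⁻¹ • b := by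
    rw [mul_smul, mul_smul] at hb
    exact smul_left_cancel g (by rw [hb, smul_inv_smul])
  have h2 := card_atC_conj (z := z) (w := u) (a := g⁻¹ • b) g
  rw [smul_inv_smul] at h2
  rw [h2, card_atC_eq h hu h1 ha]

/-- `c = |D_a ∩ C(u)|` is odd -/
theorem odd_card_atC [Finite G] (h : Setup G Ω z) {u : G} (hu : u * u = 1) {a : Ω}
    (ha : u • a = a) : Odd (Nat.card (AtC z u a)) := by
  have hui : u⁻¹ = u := inv_eq_of_mul_eq_one_right hu
  let F : At z a → At z a := fun d => ⟨u * d.1 * u⁻¹, by
    have := conj_mem_At u d.2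
    rwa [ha] at this⟩
  have hF : Function.Involutive F := by
    rintro ⟨d, hd⟩
    apply Subtype.ext
    show u * (u * d * u⁻¹) * u⁻¹ = d
    rw [hui]
    calc u * (u * d * u) * u = (u * u) * d * (u * u) := by group
      _ = d := by rw [hu]; group
  have h1 := odd_card_of_involutive hF (h.odd_card_at a)
  have hfix : Nat.card (AtC z u a) = Nat.card {x : At z a // F x = x} := by
    refine Nat.card_congr
      { toFun := fun d => ⟨⟨d.1, d.2.1⟩, ?_⟩
        invFun := fun d => ⟨d.1.1, d.1.2, ?_⟩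
        left_inv := fun d => rfl
        right_inv := fun d => rfl }
    · apply Subtype.ext
      show u * d.1 * u⁻¹ = d.1
      have := d.2.2.eq
      rw [← this]; group
    · have h1 : u * d.1.1 * u⁻¹ = d.1.1 := congrArg Subtype.val d.2
      show d.1.1 * u = u * d.1.1
      conv_lhs => rw [← h1]
      group
  rwa [hfix]

/-- `f = |Fix u|` is odd -/
theorem odd_card_fix [Finite G] (h : Setup G Ω z) {u : G} (hu : u * u = 1) :
    Odd (Nat.card {a : Ω // u • a = a}) := by
  have := h.finite_points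
  refine odd_card_of_involutive (F := fun a : Ω => u • a) ?_ h.odd_card_points
  intro a
  show u • u • a = a
  rw [smul_smul, hu, one_smul]

/-- `m = r c` -/
theorem card_at_eq_mul [Finite G] (h : Setup G Ω z) {u : G} (hu : u * u = 1)
    (hR1 : ∀ y : G, IsConj z y → Commute y u → IsConj u (u * y)) {a e : Ω}
    (ha : u • a = a) (he : u • e ≠ e) :
    Nat.card (At z e) = Nat.card (SwC z u e) * Nat.card (AtC z u a) := by
  classical
  have : Fintype (SwC z u e) := Fintype.ofFinite _
  rw [card_at_eq_sum h hu he]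
  have hc : ∀ x : SwC z u e, Nat.card (AtC z (u * x.1) e) = Nat.card (AtC z u a) := by
    rintro ⟨x, hx, hxu⟩
    refine card_atC_of_isConj h hu (hR1 x hx.1 hxu) ha ?_
    rw [mul_smul, hx.2, smul_smul, hu, one_smul]
  rw [Finset.sum_congr rfl (fun x _ => hc x), Finset.sum_const, Finset.card_univ,
    Nat.card_eq_fintype_card (α := SwC z u e), smul_eq_mul]

/-- `r` is odd -/
theorem odd_card_swC [Finite G] (h : Setup G Ω z) {u : G} (hu : u * u = 1)
    (hR1 : ∀ y : G, IsConj z y → Commute y u → IsConj u (u * y)) {a e : Ω}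
    (ha : u • a = a) (he : u • e ≠ e) : Odd (Nat.card (SwC z u e)) := by
  have := h.odd_card_at e
  rw [card_at_eq_mul h hu hR1 ha he] at this
  exact (Nat.odd_mul.mp this).1

/-- `r` does not depend on `e` -/
theorem card_swC_eq [Finite G] (h : Setup G Ω z) {u : G} (hu : u * u = 1)
    (hR1 : ∀ y : G, IsConj z y → Commute y u → IsConj u (u * y)) {a e e' : Ω}
    (ha : u • a = a) (he : u • e ≠ e) (he' : u • e' ≠ e') :
    Nat.card (SwC z u e) = Nat.card (SwC z u e') := by
  have h1 := card_at_eq_mul h hu hR1 ha he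
  have h2 := card_at_eq_mul h hu hR1 ha he'
  rw [h.card_at_eq e e', h2] at h1
  exact (Nat.eq_of_mul_eq_mul_right (odd_card_atC h hu ha).pos h1).symm

/-- the pairs `(x, e)`, `x ∈ D ∩ C(u)`, `e ∉ Fix u`, `x e = u e` -/
def Pairs (Ω : Type*) [MulAction G Ω] (z u : G) : Type _ :=
  {p : G × Ω // IsConj z p.1 ∧ Commute p.1 u ∧ u • p.2 ≠ p.2 ∧ p.1 • p.2 = u • p.2}

/-- pairs counted by the point -/
def pairsByPoint (u : G) : Pairs Ω z u ≃ Σ e : {e : Ω // u • e ≠ e}, SwC z u e.1 where
  toFun p := ⟨⟨p.1.2, p.2.2.2.1⟩, ⟨p.1.1, ⟨p.2.1, p.2.2.2.2⟩, p.2.2.1⟩⟩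
  invFun q := ⟨(q.2.1, q.1.1), q.2.2.1.1, q.2.2.2, q.1.2, q.2.2.1.2⟩
  left_inv _ := rfl
  right_inv _ := rfl

/-- pairs counted by the element of `D ∩ C(u)` -/
def pairsByElement {u : G} (hu : u * u = 1) : Pairs Ω z u ≃
    Σ x : {x : G // IsConj z x ∧ Commute x u}, {e : Ω // (u * x.1) • e = e ∧ u • e ≠ e} where
  toFun p := ⟨⟨p.1.1, p.2.1, p.2.2.1⟩, ⟨p.1.2, by
    rw [mul_smul, p.2.2.2.2, smul_smul, hu, one_smul], p.2.2.2.1⟩⟩
  invFun q := ⟨(q.1.1, q.2.1), q.1.2.1, q.1.2.2, q.2.2.2, by
    have h1 := q.2.2.1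
    rw [mul_smul] at h1
    show q.1.1 • q.2.1 = u • q.2.1
    conv_rhs => rw [← h1]
    rw [smul_smul u u, hu, one_smul]⟩
  left_inv _ := rfl
  right_inv _ := rfl

/-- `D ∩ C(u)` is the disjoint union of the `D_a ∩ C(u)`, `a ∈ Fix u` -/
noncomputable def classCEquiv (h : Setup G Ω z) (u : G) :
    {x : G // IsConj z x ∧ Commute x u} ≃ Σ a : {a : Ω // u • a = a}, AtC z u a.1 where
  toFun x := ⟨⟨(h.ex x.2.1).choose, h.fix_of_commute x.2.1 x.2.2.symm (h.ex x.2.1).choose_spec⟩,
    ⟨x.1, ⟨x.2.1, (h.ex x.2.1).choose_spec⟩, x.2.2⟩⟩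
  invFun q := ⟨q.2.1, q.2.2.1.1, q.2.2.2⟩
  left_inv x := rfl
  right_inv q := by
    obtain ⟨⟨a, ha⟩, ⟨x, ⟨hx, hxa⟩, hxu⟩⟩ := q
    have : (h.ex hx).choose = a := h.uniq hx (h.ex hx).choose_spec hxa
    subst this
    rfl

/-- `|D ∩ C(u)| = f c` -/
theorem card_classC [Finite G] (h : Setup G Ω z) {u : G} (hu : u * u = 1) {a : Ω}
    (ha : u • a = a) : Nat.card {x : G // IsConj z x ∧ Commute x u} =
      Nat.card {a : Ω // u • a = a} * Nat.card (AtC z u a) := by
  classical
  have := h.finite_points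
  have : Fintype {a : Ω // u • a = a} := Fintype.ofFinite _
  rw [Nat.card_congr (classCEquiv h u), Nat.card_sigma,
    Finset.sum_congr rfl (fun b _ => card_atC_eq h hu b.2 ha), Finset.sum_const,
    Finset.card_univ, Nat.card_eq_fintype_card (α := {a : Ω // u • a = a}), smul_eq_mul]

/-- the number of points fixed by `u x` but not by `u` is `f - 1` -/
theorem card_moved [Finite G] (h : Setup G Ω z) {u : G}
    (hR1 : ∀ y : G, IsConj z y → Commute y u → IsConj u (u * y)) {x : G} (hx : IsConj z x)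
    (hxu : Commute x u) :
    Nat.card {e : Ω // (u * x) • e = e ∧ u • e ≠ e} + 1 = Nat.card {a : Ω // u • a = a} := by
  classical
  have := h.finite_points
  have : Fintype Ω := Fintype.ofFinite Ω
  obtain ⟨p, hp⟩ := h.ex hx
  have hup : u • p = p := h.fix_of_commute hx hxu.symm hp
  rw [← card_fix_of_isConj (hR1 x hx hxu)]
  have h1 : ∀ e : Ω, (u * x) • e = e → (u • e = e ↔ e = p) := by
    intro e he
    constructor
    · intro hue
      refine h.uniq hx ?_ hp
      rw [mul_smul] at he
      exact smul_left_cancel u (by rw [he, hue])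
    · rintro rfl; exact hup
  rw [Nat.card_eq_fintype_card, Nat.card_eq_fintype_card, Fintype.card_subtype,
    Fintype.card_subtype]
  have h2 : (Finset.univ.filter fun e : Ω => (u * x) • e = e) =
      insert p (Finset.univ.filter fun e : Ω => (u * x) • e = e ∧ u • e ≠ e) := by
    ext e
    simp only [Finset.mem_filter, Finset.mem_univ, true_and, Finset.mem_insert]
    constructor
    · intro he
      by_cases hep : e = p
      · exact Or.inl hep
      · exact Or.inr ⟨he, fun hue => hep ((h1 e he).mp hue)⟩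
    · rintro (rfl | ⟨he, -⟩)
      · rw [mul_smul, hp, hup]
      · exact he
  rw [h2, Finset.card_insert_of_notMem]
  simp [hup]

/-- `(n - f) r = f (f - 1) c` -/
theorem count_r [Finite G] (h : Setup G Ω z) {u : G} (hu : u * u = 1)
    (hR1 : ∀ y : G, IsConj z y → Commute y u → IsConj u (u * y)) {a e : Ω}
    (ha : u • a = a) (he : u • e ≠ e) :
    (Nat.card Ω - Nat.card {a : Ω // u • a = a}) * Nat.card (SwC z u e) =
      Nat.card {a : Ω // u • a = a} * (Nat.card {a : Ω // u • a = a} - 1) *
        Nat.card (AtC z u a) := by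
  classical
  have := h.finite_points
  have : Fintype Ω := Fintype.ofFinite Ω
  have h1 : Nat.card (Pairs Ω z u) =
      (Nat.card Ω - Nat.card {a : Ω // u • a = a}) * Nat.card (SwC z u e) := by
    have : Fintype {e : Ω // u • e ≠ e} := Fintype.ofFinite _
    rw [Nat.card_congr (pairsByPoint (Ω := Ω) (z := z) u), Nat.card_sigma,
      Finset.sum_congr rfl (fun b _ => card_swC_eq h hu hR1 ha b.2 he), Finset.sum_const,
      Finset.card_univ, smul_eq_mul]
    congr 1
    rw [Nat.card_eq_fintype_card, Nat.card_eq_fintype_card]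
    exact Fintype.card_subtype_compl _
  have h2 : Nat.card (Pairs Ω z u) =
      Nat.card {a : Ω // u • a = a} * Nat.card (AtC z u a) *
        (Nat.card {a : Ω // u • a = a} - 1) := by
    have : Fintype {x : G // IsConj z x ∧ Commute x u} := Fintype.ofFinite _
    rw [Nat.card_congr (pairsByElement (Ω := Ω) (z := z) hu), Nat.card_sigma,
      Finset.sum_congr rfl (fun x _ => (Nat.eq_sub_of_add_eq (card_moved h hR1 x.2.1 x.2.2))),
      Finset.sum_const, Finset.card_univ, smul_eq_mul, ← Nat.card_eq_fintype_card,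
      card_classC h hu ha]
  rw [← h1, h2]
  ring

/-- `(n - f) m = f (f - 1) c²` -/
theorem count [Finite G] (h : Setup G Ω z) {u : G} (hu : u * u = 1)
    (hR1 : ∀ y : G, IsConj z y → Commute y u → IsConj u (u * y)) {a e : Ω}
    (ha : u • a = a) (he : u • e ≠ e) (b : Ω) :
    (Nat.card Ω - Nat.card {a : Ω // u • a = a}) * Nat.card (At z b) =
      Nat.card {a : Ω // u • a = a} * (Nat.card {a : Ω // u • a = a} - 1) *
        Nat.card (AtC z u a) ^ 2 := by
  rw [h.card_at_eq b e, card_at_eq_mul h hu hR1 ha he, ← mul_assoc, count_r h hu hR1 ha he]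
  ring

end Cfsg.Agent.AschCrit.Count
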