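import Mathlib
import Cfsg.Agent.AschCrit.Count
import Cfsg.Agent.Lib.KleinOrder

/-!
# 2-groups normalising a transitive linear group of odd order are cyclic

`B` is a finite group of exponent two, `X`, `R` subgroups of `MulAut B`, `X` of odd order and transitive
on `B \ {1}`, `R` a 2-subgroup normalising `X`.

* `exists_commute_map` : `C_X(u)` is transitive on `C_B(u) \ {1}` for an involution `u` normalising `X`
* `card_sq` : `|B| = |C_B(u)|²` and `[B, u] = C_B(u)`
* `no_four` : no four-group normalises `X`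
* `isCyclic` : `R` is cyclic
-/

set_option autoImplicit false

open Subgroup

namespace Cfsg.Agent.AschCrit.TransCyclic

section Basics

variable {B : Type*} [Group B]

theorem comm_of_exp (hB : ∀ x : B, x * x = 1) (x y : B) : x * y = y * x := by
  have hi : ∀ t : B, t⁻¹ = t := fun t => inv_eq_of_mul_eq_one_right (hB t)
  have h1 : (x * y)⁻¹ = x * y := hi _
  rw [mul_inv_rev, hi, hi] at h1
  exact h1.symm

/-- the fixed points of an automorphism -/
def fixSub (u : MulAut B) : Subgroup B where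
  carrier := {x | u x = x}
  one_mem' := map_one u
  mul_mem' := by
    intro x y hx hy
    show u (x * y) = x * y
    rw [map_mul, show u x = x from hx, show u y = y from hy]
  inv_mem' := by
    intro x hx
    show u x⁻¹ = x⁻¹
    rw [map_inv, show u x = x from hx]

theorem mem_fixSub {u : MulAut B} {x : B} : x ∈ fixSub u ↔ u x = x := Iff.rfl

/-- the map `x ↦ u x * x` for a group of exponent two -/
def delta (hB : ∀ x : B, x * x = 1) (u : MulAut B) : B →* B where
  toFun x := u x * x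
  map_one' := by rw [map_one, one_mul]
  map_mul' x y := by
    rw [map_mul]
    calc u x * u y * (x * y) = u x * (u y * x) * y := by group
      _ = u x * (x * u y) * y := by rw [comm_of_exp hB (u y) x]
      _ = u x * x * (u y * y) := by group

theorem delta_apply (hB : ∀ x : B, x * x = 1) (u : MulAut B) (x : B) :
    delta hB u x = u x * x := rfl

theorem ker_delta (hB : ∀ x : B, x * x = 1) (u : MulAut B) : (delta hB u).ker = fixSub u := by
  ext x
  rw [MonoidHom.mem_ker, delta_apply, mem_fixSub]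
  constructor
  · intro h
    have h1 : u x = x⁻¹ := eq_inv_of_mul_eq_one_left h
    rwa [inv_eq_of_mul_eq_one_right (hB x)] at h1
  · intro h
    rw [h]; exact hB x

theorem card_delta [Finite B] (hB : ∀ x : B, x * x = 1) (u : MulAut B) :
    Nat.card B = Nat.card (fixSub u) * Nat.card (delta hB u).range := by
  rw [← ker_delta hB u, ← Subgroup.index_ker, mul_comm, Subgroup.index_mul_card]

theorem range_delta_le (hB : ∀ x : B, x * x = 1) {u : MulAut B} (hu : u * u = 1) :
    (delta hB u).range ≤ fixSub u := by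
  rintro _ ⟨x, rfl⟩
  have h1 : u (u x) = x := by
    rw [← MulAut.mul_apply, hu, MulAut.one_apply]
  rw [mem_fixSub, delta_apply, map_mul, h1]
  exact comm_of_exp hB _ _

/-- if the centraliser of the involution `u` is transitive on the nontrivial fixed points of `u`, then
`[B, u] = C_B(u)` -/
theorem range_eq_fix (hB : ∀ x : B, x * x = 1) {u : MulAut B} (hu : u * u = 1) (hu1 : u ≠ 1)
    (hT : ∀ x y : B, x ≠ 1 → y ≠ 1 → u x = x → u y = y → ∃ g : MulAut B, g * u = u * g ∧ g x = y) :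
    (delta hB u).range = fixSub u := by
  refine le_antisymm (range_delta_le hB hu) ?_
  obtain ⟨x, hx⟩ : ∃ x, u x ≠ x := by
    by_contra hcon
    push Not at hcon
    exact hu1 (MulEquiv.ext hcon)
  have hd : delta hB u x ≠ 1 := by
    intro h
    have : x ∈ fixSub u := by rw [← ker_delta hB u]; exact h
    exact hx this
  intro y hy
  by_cases hy1 : y = 1
  · rw [hy1]; exact one_mem _
  · obtain ⟨g, hgu, hg⟩ := hT _ y hd hy1 (range_delta_le hB hu ⟨x, rfl⟩) hy
    refine ⟨g x, ?_⟩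
    rw [← hg, delta_apply, delta_apply, map_mul]
    congr 1
    rw [← MulAut.mul_apply, ← hgu, MulAut.mul_apply]

theorem card_sq_of_trans [Finite B] (hB : ∀ x : B, x * x = 1) {u : MulAut B} (hu : u * u = 1)
    (hu1 : u ≠ 1)
    (hT : ∀ x y : B, x ≠ 1 → y ≠ 1 → u x = x → u y = y → ∃ g : MulAut B, g * u = u * g ∧ g x = y) :
    Nat.card B = Nat.card (fixSub u) ^ 2 := by
  rw [card_delta hB u, range_eq_fix hB hu hu1 hT, pow_two]

end Basics

section Main

variable {B : Type*} [Group B] [Finite B]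

/-- a set of odd size closed under conjugation by an involution contains an element commuting
with it -/
theorem exists_commute {A : Type*} [Group A] [Finite A] {u : A} (hu : u * u = 1) (T : Set A)
    (hT : ∀ g ∈ T, u * g * u⁻¹ ∈ T) (hodd : Odd (Nat.card T)) : ∃ g ∈ T, g * u = u * g := by
  have hui : u⁻¹ = u := inv_eq_of_mul_eq_one_right hu
  let F : T → T := fun g => ⟨u * g.1 * u⁻¹, hT _ g.2⟩
  have hF : Function.Involutive F := by
    rintro ⟨g, hg⟩
    apply Subtype.ext
    show u * (u * g * u⁻¹) * u⁻¹ = g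
    rw [hui]
    calc u * (u * g * u) * u = (u * u) * g * (u * u) := by group
      _ = g := by rw [hu]; group
  have h1 := Cfsg.Agent.AschCrit.Count.odd_card_of_involutive hF hodd
  have h2 : 0 < Nat.card {x : T // F x = x} := h1.pos
  obtain ⟨⟨g, hg⟩⟩ := (Nat.card_pos_iff.mp h2).1
  refine ⟨g.1, g.2, ?_⟩
  have h3 : u * g.1 * u⁻¹ = g.1 := congrArg Subtype.val hg
  conv_lhs => rw [← h3]
  group

omit [Finite B] in
/-- the transporter `{g ∈ Y | g x = y}` has the size of the stabiliser of `x` in `Y` -/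
theorem card_transporter (Y : Subgroup (MulAut B)) {x y : B} (h : ∃ g ∈ Y, g x = y) :
    Nat.card {g : MulAut B | g ∈ Y ∧ g x = y} = Nat.card {g : MulAut B | g ∈ Y ∧ g x = x} := by
  obtain ⟨g₀, hg₀, hgx⟩ := h
  refine Nat.card_congr
    { toFun := fun g => ⟨g₀⁻¹ * g.1, mul_mem (inv_mem hg₀) g.2.1, ?_⟩
      invFun := fun g => ⟨g₀ * g.1, mul_mem hg₀ g.2.1, ?_⟩
      left_inv := fun g => by ext; simp
      right_inv := fun g => by ext; simp }
  · have h1 : g.1 x = y := g.2.2
    rw [MulAut.mul_apply, h1, ← hgx, ← MulAut.mul_apply, inv_mul_cancel, MulAut.one_apply]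
  · have h1 : g.1 x = x := g.2.2
    rw [MulAut.mul_apply, h1, hgx]

/-- the stabiliser of `x` in `Y` as a subgroup -/
def stab (Y : Subgroup (MulAut B)) (x : B) : Subgroup (MulAut B) where
  carrier := {g | g ∈ Y ∧ g x = x}
  one_mem' := ⟨one_mem _, rfl⟩
  mul_mem' := by
    rintro g k ⟨hg, hgx⟩ ⟨hk, hkx⟩
    exact ⟨mul_mem hg hk, by rw [MulAut.mul_apply, hkx, hgx]⟩
  inv_mem' := by
    rintro g ⟨hg, hgx⟩
    refine ⟨inv_mem hg, ?_⟩
    conv_lhs => rw [← hgx]
    rw [← MulAut.mul_apply, inv_mul_cancel, MulAut.one_apply]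

omit [Finite B] in
theorem mem_stab {Y : Subgroup (MulAut B)} {x : B} {g : MulAut B} :
    g ∈ stab Y x ↔ g ∈ Y ∧ g x = x := Iff.rfl

omit [Finite B] in
theorem stab_le (Y : Subgroup (MulAut B)) (x : B) : stab Y x ≤ Y := fun _ hg => hg.1

omit [Finite B] in
theorem odd_stab {Y : Subgroup (MulAut B)} (hY : Odd (Nat.card Y)) (x : B) :
    Odd (Nat.card (stab Y x)) := hY.of_dvd_nat (card_dvd_of_le (stab_le Y x))

/-- orbit-stabiliser -/
theorem card_mul_stab (Y : Subgroup (MulAut B)) (S : Set B) {x : B}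
    (hS : ∀ g ∈ Y, ∀ y ∈ S, g y ∈ S) (hx : x ∈ S) (hT : ∀ y ∈ S, ∃ g ∈ Y, g x = y) :
    Nat.card Y = Nat.card S * Nat.card (stab Y x) := by
  classical
  have hf : Fintype S := Fintype.ofFinite S
  have h1 : Nat.card Y = Nat.card (Σ y : S, {g : MulAut B | g ∈ Y ∧ g x = y.1}) := by
    refine Nat.card_congr
      { toFun := fun g => ⟨⟨g.1 x, hS g.1 g.2 x hx⟩, ⟨g.1, g.2, rfl⟩⟩
        invFun := fun p => ⟨p.2.1, p.2.2.1⟩
        left_inv := fun g => rfl
        right_inv := ?_ }
    rintro ⟨⟨y, hy⟩, ⟨g, hg, hgx⟩⟩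
    have : g x = y := hgx
    subst this
    rfl
  rw [h1, Nat.card_sigma, Finset.sum_congr rfl (fun y _ => card_transporter Y (hT y.1 y.2)),
    Finset.sum_const, Finset.card_univ, Nat.card_eq_fintype_card (α := S), smul_eq_mul]
  rfl

/-- `C_Y(u)` is transitive on the fixed points of `u` if `Y`, of odd order, is transitive -/
theorem exists_commute_map {Y : Subgroup (MulAut B)} (hY : Odd (Nat.card Y)) {u : MulAut B}
    (hu : u * u = 1) (huY : ∀ g ∈ Y, u * g * u⁻¹ ∈ Y) {x y : B} (hux : u x = x) (huy : u y = y)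
    (h : ∃ g ∈ Y, g x = y) : ∃ g ∈ Y, g * u = u * g ∧ g x = y := by
  have hui : u⁻¹ = u := inv_eq_of_mul_eq_one_right hu
  obtain ⟨g, hg, hgu⟩ := exists_commute hu {g : MulAut B | g ∈ Y ∧ g x = y} (by
    rintro g ⟨hg, hgx⟩
    refine ⟨huY g hg, ?_⟩
    rw [hui, MulAut.mul_apply, MulAut.mul_apply, hux, hgx, huy]) (by
    rw [card_transporter Y h]
    exact odd_stab hY x)
  exact ⟨g, hg.1, hgu, hg.2⟩

/-- `|C_Y(u)| = |C_S(u)| |C_Y(u)_x|` for `Y` of odd order transitive on `S ∋ x` -/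
theorem card_cent {Y : Subgroup (MulAut B)} (hY : Odd (Nat.card Y)) {u : MulAut B}
    (hu : u * u = 1) (huY : ∀ g ∈ Y, u * g * u⁻¹ ∈ Y) (S : Set B)
    (hS : ∀ g ∈ Y, ∀ y ∈ S, g y ∈ S) {x : B} (hx : x ∈ S) (hux : u x = x)
    (hT : ∀ y ∈ S, ∃ g ∈ Y, g x = y) :
    Nat.card (Y ⊓ centralizer {u} : Subgroup (MulAut B)) =
      Nat.card {y : B | y ∈ S ∧ u y = y} *
        Nat.card (stab Y x ⊓ centralizer {u} : Subgroup (MulAut B)) := by
  have h1 := card_mul_stab (Y ⊓ centralizer {u}) {y : B | y ∈ S ∧ u y = y} (x := x) (by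
    rintro g ⟨hgY, hg⟩ y ⟨hy, huy⟩
    have hg' := mem_centralizer_singleton_iff.mp hg
    refine ⟨hS g hgY y hy, ?_⟩
    rw [← MulAut.mul_apply, ← hg', MulAut.mul_apply, huy]) ⟨hx, hux⟩ (by
    rintro y ⟨hy, huy⟩
    obtain ⟨g, hg, hgu, hgx⟩ := exists_commute_map hY hu huY hux huy (hT y hy)
    exact ⟨g, ⟨hg, mem_centralizer_singleton_iff.mpr hgu⟩, hgx⟩)
  have e : stab (Y ⊓ centralizer {u}) x = stab Y x ⊓ centralizer {u} := by
    ext g
    simp only [mem_stab, mem_inf]
    tauto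
  rw [h1, e]

/-- `|C_B(u)| = |C_B(u) \ 1| + 1` -/
theorem card_fixSub (H : Subgroup B) : Nat.card H = Nat.card {y : B | y ≠ 1 ∧ y ∈ H} + 1 := by
  have e : (H : Set B) = insert 1 {y : B | y ≠ 1 ∧ y ∈ H} := by
    ext y
    constructor
    · intro hy
      by_cases hy1 : y = 1
      · exact Or.inl hy1
      · exact Or.inr ⟨hy1, hy⟩
    · rintro (rfl | ⟨-, hy⟩)
      · exact H.one_mem
      · exact hy
  have e2 : Nat.card H = Nat.card (insert 1 {y : B | y ≠ 1 ∧ y ∈ H} : Set B) := by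
    rw [← e]; rfl
  rw [e2, Nat.card_coe_set_eq, Nat.card_coe_set_eq,
    Set.ncard_insert_of_notMem (fun hh => hh.1 rfl) (Set.toFinite _)]

variable (hB : ∀ x : B, x * x = 1) {X : Subgroup (MulAut B)} (hX : Odd (Nat.card X))
  (hXt : ∀ x y : B, x ≠ 1 → y ≠ 1 → ∃ g ∈ X, g x = y)

include hX hXt

/-- `[B, u] = C_B(u)` -/
theorem range_delta {u : MulAut B} (hu : u * u = 1) (hu1 : u ≠ 1)
    (huX : ∀ g ∈ X, u * g * u⁻¹ ∈ X) : (delta hB u).range = fixSub u := by
  refine range_eq_fix hB hu hu1 ?_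
  intro x y hx hy hux huy
  obtain ⟨g, -, h1, h2⟩ := exists_commute_map hX hu huX hux huy (hXt x y hx hy)
  exact ⟨g, h1, h2⟩

include hB in
/-- `|B| = |C_B(u)|²` -/
theorem card_sq {u : MulAut B} (hu : u * u = 1) (hu1 : u ≠ 1)
    (huX : ∀ g ∈ X, u * g * u⁻¹ ∈ X) : Nat.card B = Nat.card (fixSub u) ^ 2 := by
  rw [card_delta hB u, range_delta hB hX hXt hu hu1 huX, pow_two]

omit hX hXt [Finite B] in
include hB in
theorem even_card (hB1 : ∃ x : B, x ≠ 1) : Even (Nat.card B) := by
  obtain ⟨x, hx⟩ := hB1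
  have h1 : orderOf x = 2 := orderOf_eq_prime (by rw [pow_two, hB]) hx
  rw [even_iff_two_dvd, ← h1]
  exact orderOf_dvd_natCard x

include hB in
/-- no four-group normalises `X` -/
theorem no_four {v w : MulAut B} (hv : v * v = 1) (hw : w * w = 1) (hvw : v * w = w * v)
    (hv1 : v ≠ 1) (hw1 : w ≠ 1) (hne : v ≠ w) (hvX : ∀ g ∈ X, v * g * v⁻¹ ∈ X)
    (hwX : ∀ g ∈ X, w * g * w⁻¹ ∈ X) : False := by
  have hvwX : ∀ g ∈ X, (v * w) * g * (v * w)⁻¹ ∈ X := by
    intro g hg
    have := hvX _ (hwX g hg)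
    have e1 : (v * w) * g * (v * w)⁻¹ = v * (w * g * w⁻¹) * v⁻¹ := by group
    rwa [e1]
  have hvwvw : (v * w) * (v * w) = 1 := by
    calc (v * w) * (v * w) = v * (w * v) * w := by group
      _ = (v * v) * (w * w) := by rw [← hvw]; group
      _ = 1 := by rw [hv, hw, one_mul]
  have hvi : v⁻¹ = v := inv_eq_of_mul_eq_one_right hv
  have hwi : w⁻¹ = w := inv_eq_of_mul_eq_one_right hw
  have hvw1 : v * w ≠ 1 := by
    intro h
    apply hne
    rw [← hwi]
    exact eq_inv_of_mul_eq_one_left h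
  obtain ⟨b, hb⟩ : ∃ x, v x ≠ x := by
    by_contra hcon
    push Not at hcon
    exact hv1 (MulEquiv.ext hcon)
  have hb1 : b ≠ 1 := by
    rintro rfl
    exact hb (map_one v)
  -- sizes
  have c1 := card_sq hB hX hXt hv hv1 hvX
  have c2 := card_sq hB hX hXt hw hw1 hwX
  have c3 := card_sq hB hX hXt hvwvw hvw1 hvwX
  have e2 : Nat.card (fixSub w) = Nat.card (fixSub v) :=
    Nat.pow_left_injective (n := 2) (by norm_num) (c2.symm.trans c1)
  have e3 : Nat.card (fixSub (v * w)) = Nat.card (fixSub v) :=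
    Nat.pow_left_injective (n := 2) (by norm_num) (c3.symm.trans c1)
  set r := Nat.card (fixSub v) with hr
  have hBeven := even_card hB ⟨b, hb1⟩
  have hreven : Even r := by
    rw [c1] at hBeven
    exact (Nat.even_pow.mp hBeven).1
  have hrpos : 0 < r := Nat.card_pos
  have hr2 : 2 ≤ r := by
    obtain ⟨k, hk⟩ := hreven
    omega
  -- a common fixed point
  obtain ⟨x, hx1, hvx, hwx⟩ : ∃ x : B, x ≠ 1 ∧ v x = x ∧ w x = x := by
    let T : Set B := {y : B | y ≠ 1 ∧ y ∈ fixSub v}
    have hTc : Nat.card T + 1 = r := (card_fixSub (fixSub v)).symm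
    have hTodd : Odd (Nat.card T) := by
      obtain ⟨k, hk⟩ := hreven
      exact ⟨k - 1, by omega⟩
    let F : T → T := fun y => ⟨w y.1, by
      refine ⟨fun h => y.2.1 (by simpa using h), ?_⟩
      show v (w y.1) = w y.1
      rw [← MulAut.mul_apply, hvw, MulAut.mul_apply, show v y.1 = y.1 from y.2.2]⟩
    have hF : Function.Involutive F := by
      rintro ⟨y, hy⟩
      apply Subtype.ext
      show w (w y) = y
      rw [← MulAut.mul_apply, hw, MulAut.one_apply]
    have h1 := Cfsg.Agent.AschCrit.Count.odd_card_of_involutive hF hTodd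
    obtain ⟨⟨y, hy⟩⟩ := (Nat.card_pos_iff.mp h1.pos).1
    exact ⟨y.1, y.2.1, y.2.2, congrArg Subtype.val hy⟩
  -- the Klein formulas for `X` and `X_x`
  have hstab : ∀ {s : MulAut B}, (∀ g ∈ X, s * g * s⁻¹ ∈ X) → s x = x →
      ∀ g ∈ stab X x, s * g * s⁻¹ ∈ stab X x := by
    rintro s hs hsx g ⟨hg, hgx⟩
    refine ⟨hs g hg, ?_⟩
    have h1 : s⁻¹ x = x := by
      conv_lhs => rw [← hsx]
      rw [← MulAut.mul_apply, inv_mul_cancel, MulAut.one_apply]
    rw [MulAut.mul_apply, MulAut.mul_apply, h1, hgx, hsx]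
  have k1 := Cfsg.Agent.Lib.KleinOrder.card_klein X hX hv hw hvw hvX hwX
  have k2 := Cfsg.Agent.Lib.KleinOrder.card_klein (stab X x) (odd_stab hX x) hv hw hvw
    (hstab hvX hvx) (hstab hwX hwx)
  have hvwx : (v * w) x = x := by rw [MulAut.mul_apply, hwx, hvx]
  have hne1 : ∀ {g : MulAut B} {y : B}, y ≠ 1 → g y ≠ 1 := fun hy h => hy (by simpa using h)
  have n0 := card_mul_stab X {y : B | y ≠ 1} (x := x) (fun g _ y hy => hne1 hy) hx1
    (fun y hy => hXt x y hx1 hy)
  have n1 := card_cent hX hv hvX {y : B | y ≠ 1} (x := x) (fun g _ y hy => hne1 hy) hx1 hvx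
    (fun y hy => hXt x y hx1 hy)
  have n2 := card_cent hX hw hwX {y : B | y ≠ 1} (x := x) (fun g _ y hy => hne1 hy) hx1 hwx
    (fun y hy => hXt x y hx1 hy)
  have n3 := card_cent hX hvwvw hvwX {y : B | y ≠ 1} (x := x) (fun g _ y hy => hne1 hy) hx1 hvwx
    (fun y hy => hXt x y hx1 hy)
  have hcodd : Odd (Nat.card (X ⊓ centralizer {v} : Subgroup (MulAut B))) :=
    hX.of_dvd_nat (card_dvd_of_le inf_le_left)
  have n4 := card_cent hcodd hw (u := w) (by
    rintro g ⟨hg, hgv⟩
    refine ⟨hwX g hg, ?_⟩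
    have hg' := mem_centralizer_singleton_iff.mp hgv
    refine mem_centralizer_singleton_iff.mpr ?_
    calc w * g * w⁻¹ * v = w * g * (w * v) := by rw [hwi]; group
      _ = w * (g * v) * w := by rw [← hvw]; group
      _ = (w * v) * g * w := by rw [hg']; group
      _ = v * (w * g * w⁻¹) := by rw [← hvw, hwi]; group) {y : B | y ≠ 1 ∧ v y = y} (x := x) (by
    rintro g ⟨-, hg⟩ y ⟨hy, hvy⟩
    have hg' := mem_centralizer_singleton_iff.mp hg
    refine ⟨hne1 hy, ?_⟩
    rw [← MulAut.mul_apply, ← hg', MulAut.mul_apply, hvy]) ⟨hx1, hvx⟩ hwx (by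
    rintro y ⟨hy, hvy⟩
    obtain ⟨g, hg, hgu, hgx⟩ := exists_commute_map hX hv hvX hvx hvy (hXt x y hx1 hy)
    exact ⟨g, ⟨hg, mem_centralizer_singleton_iff.mpr hgu⟩, hgx⟩)
  have s1 : stab (X ⊓ centralizer {v}) x = stab X x ⊓ centralizer {v} := by
    ext g
    simp only [mem_stab, mem_inf]
    tauto
  rw [s1] at n4
  have t0 := card_fixSub (⊤ : Subgroup B)
  have t1 := card_fixSub (fixSub v)
  have t2 := card_fixSub (fixSub w)
  have t3 := card_fixSub (fixSub (v * w))
  have t0' : Nat.card B = Nat.card {y : B | y ≠ 1} + 1 := by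
    have e : {y : B | y ≠ 1 ∧ y ∈ (⊤ : Subgroup B)} = {y : B | y ≠ 1} := by
      ext y; simp
    rw [e] at t0
    rw [← t0, Nat.card_congr (Subgroup.topEquiv (G := B)).toEquiv]
  have m1 : Nat.card {y : B | y ∈ {y : B | y ≠ 1} ∧ v y = y} + 1 = r := t1.symm
  have m2 : Nat.card {y : B | y ∈ {y : B | y ≠ 1} ∧ w y = y} + 1 = r := t2.symm.trans e2
  have m3 : Nat.card {y : B | y ∈ {y : B | y ≠ 1} ∧ (v * w) y = y} + 1 = r := t3.symm.trans e3
  set m0 := Nat.card {y : B | y ≠ 1} with hm0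
  set a1 := Nat.card {y : B | y ∈ {y : B | y ≠ 1} ∧ v y = y} with ha1
  set a2 := Nat.card {y : B | y ∈ {y : B | y ≠ 1} ∧ w y = y} with ha2
  set a3 := Nat.card {y : B | y ∈ {y : B | y ≠ 1} ∧ (v * w) y = y} with ha3
  set c := Nat.card {y : B | y ∈ {y : B | y ≠ 1 ∧ v y = y} ∧ w y = y} with hc
  have ea2 : a2 = a1 := by omega
  have ea3 : a3 = a1 := by omega
  rw [n0, n4, n1, n2, n3, ea2, ea3] at k1
  have hpos : 0 < Nat.card (stab X x) *
      Nat.card (stab X x ⊓ centralizer {v} ⊓ centralizer {w} : Subgroup (MulAut B)) ^ 2 :=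
    Nat.mul_pos Nat.card_pos (pow_pos Nat.card_pos 2)
  have key : m0 * c ^ 2 = a1 ^ 3 := by
    have h1 : (m0 * c ^ 2) * (Nat.card (stab X x) *
        Nat.card (stab X x ⊓ centralizer {v} ⊓ centralizer {w} : Subgroup (MulAut B)) ^ 2) =
        a1 ^ 3 * (Nat.card (stab X x) *
        Nat.card (stab X x ⊓ centralizer {v} ⊓ centralizer {w} : Subgroup (MulAut B)) ^ 2) := by
      conv_rhs => rw [k2]
      calc _ = m0 * Nat.card (stab X x) * (c *
          Nat.card (stab X x ⊓ centralizer {v} ⊓ centralizer {w} : Subgroup (MulAut B))) ^ 2 := by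
            ring
        _ = _ := by rw [k1]; ring
    exact Nat.eq_of_mul_eq_mul_right hpos h1
  -- arithmetic: `(r + 1) c² = (r - 1)²`
  have hm : m0 = a1 * (a1 + 2) := by
    have h1 : m0 + 1 = (a1 + 1) ^ 2 := by rw [← t0', c1, m1]
    have h2 : (a1 + 1) ^ 2 = a1 * (a1 + 2) + 1 := by ring
    omega
  have ha1pos : 0 < a1 := by omega
  have key2 : (a1 + 2) * c ^ 2 = a1 ^ 2 := by
    refine Nat.eq_of_mul_eq_mul_left ha1pos ?_
    calc a1 * ((a1 + 2) * c ^ 2) = m0 * c ^ 2 := by rw [hm]; ring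
      _ = a1 * a1 ^ 2 := by rw [key]; ring
  have ha1odd : Odd a1 := by
    obtain ⟨k, hk⟩ := hreven
    exact ⟨k - 1, by omega⟩
  have hcop : Nat.Coprime (a1 + 2) a1 := by
    rw [Nat.add_comm, Nat.coprime_add_self_left]
    exact Nat.coprime_two_left.mpr ha1odd
  have hdvd : (a1 + 2) ∣ a1 ^ 2 := ⟨_, key2.symm⟩
  have h1 := Nat.Coprime.eq_one_of_dvd (hcop.pow_right 2) hdvd
  omega

include hB in
/-- a 2-element normalising `X` and trivial on `C_B(u)` is an involution or trivial -/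
theorem mul_self_of_trivial {u w : MulAut B} (hu : u * u = 1) (hu1 : u ≠ 1)
    (huX : ∀ g ∈ X, u * g * u⁻¹ ∈ X) {k : ℕ} (hw : w ^ 2 ^ k = 1)
    (hwX : ∀ g ∈ X, w * g * w⁻¹ ∈ X) (hwu : ∀ x : B, u x = x → w x = x) : w * w = 1 := by
  induction k generalizing w with
  | zero =>
    rw [pow_zero, pow_one] at hw
    rw [hw, one_mul]
  | succ k ih =>
    -- `w²` satisfies the same hypotheses
    have h1 : (w * w) * (w * w) = 1 := by
      refine ih (w := w * w) ?_ ?_ ?_
      · rw [← pow_two, ← pow_mul, ← pow_succ']; exact hw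
      · intro g hg
        have := hwX _ (hwX g hg)
        have e1 : (w * w) * g * (w * w)⁻¹ = w * (w * g * w⁻¹) * w⁻¹ := by group
        rwa [e1]
      · intro x hx
        rw [MulAut.mul_apply, hwu x hx, hwu x hx]
    by_contra hne
    set t := w * w with ht
    have htX : ∀ g ∈ X, t * g * t⁻¹ ∈ X := by
      intro g hg
      have := hwX _ (hwX g hg)
      have e1 : t * g * t⁻¹ = w * (w * g * w⁻¹) * w⁻¹ := by rw [ht]; group
      rwa [e1]
    have htu : fixSub u ≤ fixSub t := by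
      intro x hx
      show t x = x
      rw [ht, MulAut.mul_apply, hwu x hx, hwu x hx]
    have c1 := card_sq hB hX hXt hu hu1 huX
    have c2 := card_sq hB hX hXt h1 hne htX
    have c3 : Nat.card (fixSub t) = Nat.card (fixSub u) :=
      Nat.pow_left_injective (n := 2) (by norm_num) (c2.symm.trans c1)
    have e1 : fixSub u = fixSub t := eq_of_le_of_card_ge htu c3.le
    have e2 := range_delta hB hX hXt h1 hne htX
    have hdd : ∀ x, delta hB w (delta hB w x) = delta hB t x := by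
      intro x
      rw [delta_apply, delta_apply, delta_apply, map_mul]
      calc w (w x) * w x * (w x * x) = w (w x) * (w x * w x) * x := by group
        _ = t x * x := by rw [hB, mul_one]; rfl
    have e3 : fixSub u ≤ fixSub w := fun x hx => hwu x hx
    have c4 := card_delta hB w
    have c5 : Nat.card (fixSub u) ≤ Nat.card (fixSub w) := card_le_of_le e3
    have e4 : fixSub u ≤ (delta hB w).range := by
      intro y hy
      rw [e1, ← e2] at hy
      obtain ⟨x, rfl⟩ := hy
      exact ⟨_, hdd x⟩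
    have c6 : Nat.card (delta hB w).range ≤ Nat.card (fixSub u) := by
      by_contra hlt
      push Not at hlt
      have h2 : Nat.card (fixSub u) ^ 2 < Nat.card (fixSub w) * Nat.card (delta hB w).range := by
        rw [pow_two]
        have hpos : 0 < Nat.card (fixSub u) := Nat.card_pos
        nlinarith
      rw [← c4, ← c1] at h2
      exact lt_irrefl _ h2
    have e5 : fixSub u = (delta hB w).range := eq_of_le_of_card_ge e4 c6
    apply hne
    ext x
    have h3 : delta hB w x ∈ fixSub u := by rw [e5]; exact ⟨x, rfl⟩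
    have h4 : delta hB w (delta hB w x) = 1 := by
      rw [delta_apply hB w (delta hB w x), hwu _ h3]
      exact hB _
    rw [hdd x] at h4
    have h5 : x ∈ fixSub t := by rw [← ker_delta hB t]; exact h4
    exact h5

end Main

section Restrict

variable {B : Type*} [Group B]

theorem map_mem_fixSub {u g : MulAut B} (hg : g * u = u * g) {x : B} (hx : u x = x) :
    u (g x) = g x := by
  rw [← MulAut.mul_apply, ← hg, MulAut.mul_apply, hx]

/-- restriction of `C(u)` to `C_B(u)` -/
def res (u : MulAut B) : centralizer ({u} : Set (MulAut B)) →* MulAut (fixSub u) where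
  toFun g :=
    { toFun := fun x => ⟨g.1 x.1, map_mem_fixSub (mem_centralizer_singleton_iff.mp g.2) x.2⟩
      invFun := fun x => ⟨g.1⁻¹ x.1,
        map_mem_fixSub (mem_centralizer_singleton_iff.mp (inv_mem g.2)) x.2⟩
      left_inv := fun x => by ext; simp
      right_inv := fun x => by ext; simp
      map_mul' := fun x y => by ext; simp }
  map_one' := by ext; rfl
  map_mul' g k := by ext; rfl

theorem res_apply {u : MulAut B} (g : centralizer ({u} : Set (MulAut B))) (x : fixSub u) :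
    ((res u g x : fixSub u) : B) = g.1 x.1 := rfl

end Restrict

theorem isCyclic_aux (n : ℕ) : ∀ (B : Type*) [Group B] [Finite B], Nat.card B = n →
    (∀ x : B, x * x = 1) → ∀ (X R : Subgroup (MulAut B)), Odd (Nat.card X) →
    (∀ x y : B, x ≠ 1 → y ≠ 1 → ∃ g ∈ X, g x = y) → IsPGroup 2 R →
    (∀ r ∈ R, ∀ g ∈ X, r * g * r⁻¹ ∈ X) → IsCyclic R := by
  induction n using Nat.strong_induction_on with
  | _ n ih =>
  intro B _ _ hn hB X R hX hXt hR hRX
  have hf2 : Fact (Nat.Prime 2) := ⟨Nat.prime_two⟩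
  by_cases hR1 : R = ⊥
  · rw [hR1]; infer_instance
  have hnt : Nontrivial R := (Subgroup.nontrivial_iff_ne_bot R).mpr hR1
  have hZ := hR.center_nontrivial
  obtain ⟨⟨⟨u, huR⟩, huZ⟩, hu2⟩ : ∃ u : Subgroup.center R, orderOf u = 2 := by
    have h1 : IsPGroup 2 (Subgroup.center R) := hR.to_subgroup _
    obtain ⟨k, hk⟩ := IsPGroup.iff_card.mp h1
    have h2 : 2 ∣ Nat.card (Subgroup.center R) := by
      rw [hk]
      refine dvd_pow_self 2 ?_
      rintro rfl
      rw [pow_zero] at hk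
      have := Finite.one_lt_card_iff_nontrivial.mpr hZ
      omega
    exact exists_prime_orderOf_dvd_card' 2 h2
  have hu1 : u ≠ 1 := by
    rintro rfl
    have : (⟨⟨1, huR⟩, huZ⟩ : Subgroup.center R) = 1 := rfl
    rw [this, orderOf_one] at hu2
    exact absurd hu2 (by norm_num)
  have huu : u * u = 1 := by
    have h1 := pow_orderOf_eq_one (⟨⟨u, huR⟩, huZ⟩ : Subgroup.center R)
    rw [hu2, pow_two] at h1
    exact congrArg (fun x : Subgroup.center R => ((x : R) : MulAut B)) h1
  have huc : ∀ r ∈ R, r * u = u * r := by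
    intro r hr
    have := Subgroup.mem_center_iff.mp huZ ⟨r, hr⟩
    exact congrArg Subtype.val this
  have huX := hRX u huR
  have c1 := card_sq hB hX hXt huu hu1 huX
  obtain ⟨b, hb⟩ : ∃ x, u x ≠ x := by
    by_contra hcon
    push Not at hcon
    exact hu1 (MulEquiv.ext hcon)
  have hlt : Nat.card (fixSub u) < n := by
    rw [← hn, c1]
    have h1 : 1 < Nat.card B := by
      have : Nontrivial B := ⟨u b, b, hb⟩
      exact Finite.one_lt_card
    have h2 : 0 < Nat.card (fixSub u) := Nat.card_pos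
    rw [c1] at h1
    nlinarith
  have hRC : R ≤ centralizer ({u} : Set (MulAut B)) := fun r hr =>
    mem_centralizer_singleton_iff.mpr (huc r hr)
  let f : R →* MulAut (fixSub u) := (res u).comp (Subgroup.inclusion hRC)
  have hf : ∀ (r : R) (x : fixSub u), ((f r x : fixSub u) : B) = r.1 x.1 := fun r x => rfl
  let X' : Subgroup (MulAut (fixSub u)) :=
    (X.subgroupOf (centralizer ({u} : Set (MulAut B)))).map (res u)
  have hX' : Odd (Nat.card X') := by
    have h1 : Nat.card (X.subgroupOf (centralizer ({u} : Set (MulAut B)))) ∣ Nat.card X := by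
      have := card_dvd_of_le (inf_le_left : X ⊓ centralizer ({u} : Set (MulAut B)) ≤ X)
      rwa [← Nat.card_congr (Subgroup.subgroupOfEquivOfLe
        (inf_le_right : X ⊓ centralizer ({u} : Set (MulAut B)) ≤ _)).toEquiv,
        Subgroup.inf_subgroupOf_right] at this
    exact hX.of_dvd_nat ((Subgroup.card_map_dvd (H := X.subgroupOf
      (centralizer ({u} : Set (MulAut B)))) (res u)).trans h1)
  have hcyc : IsCyclic f.range := by
    refine ih _ hlt (fixSub u) rfl (fun x => Subtype.ext (hB x.1)) X' f.range hX' ?_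
      (hR.of_surjective f.rangeRestrict f.rangeRestrict_surjective) ?_
    · rintro ⟨x, hx⟩ ⟨y, hy⟩ hx1 hy1
      have hx1' : x ≠ 1 := fun h => hx1 (Subtype.ext h)
      have hy1' : y ≠ 1 := fun h => hy1 (Subtype.ext h)
      obtain ⟨g, hg, hgu, hgx⟩ := exists_commute_map hX huu huX hx hy (hXt x y hx1' hy1')
      exact ⟨res u ⟨g, mem_centralizer_singleton_iff.mpr hgu⟩, ⟨_, hg, rfl⟩, Subtype.ext hgx⟩
    · rintro _ ⟨r, rfl⟩ _ ⟨g, hg, rfl⟩
      refine ⟨(Subgroup.inclusion hRC r) * g * (Subgroup.inclusion hRC r)⁻¹, ?_, ?_⟩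
      · exact hRX r.1 r.2 g.1 hg
      · rw [map_mul, map_mul, map_inv]; rfl
  obtain ⟨⟨_, ⟨r, rfl⟩⟩, hr⟩ := hcyc.exists_generator
  -- each `s ∈ R` is `r ^ k` or `r ^ k u` up to order
  have key : ∀ s : R, ∃ k : ℤ, s = r ^ k ∨ (s : MulAut B) = u * (r : MulAut B) ^ k := by
    intro s
    obtain ⟨k, hk⟩ := hr ⟨f s, ⟨s, rfl⟩⟩
    have hk' : f r ^ k = f s := by
      have := congrArg Subtype.val hk
      simpa using this
    refine ⟨k, ?_⟩
    set w : R := s * (r ^ k)⁻¹ with hw
    have hfw : f w = 1 := by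
      rw [hw, map_mul, map_inv, map_zpow, hk', mul_inv_cancel]
    have hwfix : ∀ x : B, u x = x → w.1 x = x := by
      intro x hx
      have h1 := congrArg (fun φ : MulAut (fixSub u) => ((φ ⟨x, hx⟩ : fixSub u) : B)) hfw
      exact h1
    obtain ⟨j, hj⟩ := hR w
    have hj' : (w.1) ^ 2 ^ j = 1 := by
      have := congrArg Subtype.val hj
      simpa using this
    have hww := mul_self_of_trivial hB hX hXt huu hu1 huX hj' (hRX w.1 w.2) hwfix
    by_cases hw1 : w.1 = 1
    · left
      have h2 : w = 1 := Subtype.ext hw1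
      rw [hw] at h2
      exact mul_inv_eq_one.mp h2
    · right
      have h2 : w.1 = u := by
        by_contra hne
        exact no_four hB hX hXt huu hww (huc w.1 w.2).symm hu1 hw1 (Ne.symm hne) huX
          (hRX w.1 w.2)
      have h3 : (s : MulAut B) = w.1 * (r : MulAut B) ^ k := by
        rw [hw]
        simp
      rw [h3, h2]
  by_cases hur : (⟨u, huR⟩ : R) ∈ zpowers r
  · obtain ⟨l, hl⟩ := hur
    refine ⟨⟨r, fun s => ?_⟩⟩
    obtain ⟨k, hk | hk⟩ := key s
    · exact ⟨k, hk.symm⟩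
    · refine ⟨l + k, ?_⟩
      apply Subtype.ext
      rw [hk]
      have h1 : (r : MulAut B) ^ l = u := congrArg Subtype.val hl
      show ((r ^ (l + k) : R) : MulAut B) = _
      rw [zpow_add, Subgroup.coe_mul, Subgroup.coe_zpow, Subgroup.coe_zpow, h1]
  · have hr1 : r = 1 := by
      by_contra hne
      -- an involution in `⟨r⟩`
      obtain ⟨j, hj⟩ := hR r
      obtain ⟨i, -, hi⟩ := (Nat.dvd_prime_pow Nat.prime_two).mp (orderOf_dvd_of_pow_eq_one hj)
      have hi0 : i ≠ 0 := by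
        rintro rfl
        rw [pow_zero, orderOf_eq_one_iff] at hi
        exact hne hi
      obtain ⟨i, rfl⟩ := Nat.exists_eq_succ_of_ne_zero hi0
      set v : R := r ^ 2 ^ i with hv
      have hvv : v * v = 1 := by
        rw [hv, ← pow_add, ← two_mul, ← pow_succ', ← Nat.succ_eq_add_one, ← hi]
        exact pow_orderOf_eq_one r
      have hv1 : v ≠ 1 := by
        intro h
        have h1 := orderOf_dvd_of_pow_eq_one h
        rw [hi] at h1
        have h2 := (Nat.pow_dvd_pow_iff_le_right (by norm_num : 1 < 2)).mp h1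
        omega
      have hvu : v.1 ≠ u := by
        intro h
        apply hur
        refine ⟨((2 ^ i : ℕ) : ℤ), ?_⟩
        show r ^ ((2 ^ i : ℕ) : ℤ) = _
        rw [zpow_natCast]
        exact Subtype.ext h
      exact no_four hB hX hXt huu (congrArg Subtype.val hvv) (huc v.1 v.2).symm hu1
        (fun h => hv1 (Subtype.ext h)) (Ne.symm hvu) huX (hRX v.1 v.2)
    refine ⟨⟨⟨u, huR⟩, fun s => ?_⟩⟩
    obtain ⟨k, hk | hk⟩ := key s
    · refine ⟨0, ?_⟩
      show (⟨u, huR⟩ : R) ^ (0 : ℤ) = s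
      rw [hk, hr1, zpow_zero, one_zpow]
    · refine ⟨1, ?_⟩
      show (⟨u, huR⟩ : R) ^ (1 : ℤ) = s
      rw [zpow_one]
      apply Subtype.ext
      rw [hk, hr1]
      simp

/-- a 2-group normalising a transitive linear group of odd order is cyclic -/
theorem isCyclic {B : Type*} [Group B] [Finite B] (hB : ∀ x : B, x * x = 1)
    {X R : Subgroup (MulAut B)} (hX : Odd (Nat.card X))
    (hXt : ∀ x y : B, x ≠ 1 → y ≠ 1 → ∃ g ∈ X, g x = y) (hR : IsPGroup 2 R)
    (hRX : ∀ r ∈ R, ∀ g ∈ X, r * g * r⁻¹ ∈ X) : IsCyclic R :=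
  isCyclic_aux _ B rfl hB X R hX hXt hR hRX

end Cfsg.Agent.AschCrit.TransCyclic
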