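import Mathlib
import Cfsg.Agent.AschCrit.ThreeCore
import Cfsg.Agent.AschCrit.ThreeEven
import Cfsg.Agent.AschCrit.ThreeDet
import Cfsg.Agent.AschCrit.TransCyclic

/-!
# Aschbacher's criterion, commutative case, unital type: geometry

`G` acts on `Ω`, `V` is an elementary abelian group of order `q = 2 ^ k` fixing `a`, normal in `G_a`,
semiregular on the other `q ^ 3` points; every involution of `G_a` centralises `V`, an involution of
`G_a ∖ V` fixes exactly one `V`-orbit of points `≠ a`.  `H ≤ G_{ab}` is cyclic of odd order, transitive on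
`V ∖ 1`, commutes with `C_{G_{ab}}(V)`.  `W = C_{G_a}(V)`.

The `W`-orbits on the points `≠ a` have length `q`, `q ^ 2` or `q ^ 3`.

* length `q` is impossible by counting;
* length `q ^ 2`, `k` even: contradiction by the Baer-Suzuki theorem (`ThreeEven`);
* length `q ^ 2`, `k` odd: `G` has a subgroup of index 2 (determinant on a homocyclic group, `ThreeDet`);
* length `q ^ 3`: a Sylow 2-subgroup of `G_a` centralises `V`, and `G` has a subgroup of index 2 by `ThreeCore`.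
-/

set_option autoImplicit false

namespace Cfsg.Agent.AschCrit.ThreeGeo

open Subgroup

variable {G Ω : Type*} [Group G] [MulAction G Ω]

/-! ### General lemmas -/

theorem relIndex_ne_zero [Finite G] (H K : Subgroup G) : H.relIndex K ≠ 0 :=
  Subgroup.index_ne_zero_of_finite (H := H.subgroupOf K)

/-- orbit-stabiliser -/
theorem relIndex_stab (K : Subgroup G) (c : Ω) :
    (MulAction.stabilizer G c).relIndex K = {d : Ω | ∃ k ∈ K, k • c = d}.ncard := by
  have h1 : (MulAction.stabilizer G c).subgroupOf K = MulAction.stabilizer K c := by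
    ext g
    rfl
  rw [relIndex, h1, MulAction.index_stabilizer]
  congr 1
  ext d
  constructor
  · rintro ⟨k, hk⟩
    exact ⟨k, k.2, hk⟩
  · rintro ⟨k, hk, hkd⟩
    exact ⟨⟨k, hk⟩, hkd⟩

/-- if all point stabilisers of `K` on `X` are contained in `K₀`, then `|K : K₀|` divides `|X|` -/
theorem index_dvd [Finite Ω] (K K₀ : Subgroup G) (n : ℕ) : ∀ X : Set Ω, X.ncard = n →
    (∀ k ∈ K, ∀ c ∈ X, k • c ∈ X) → (∀ c ∈ X, ∀ k ∈ K, k • c = c → k ∈ K₀) →
    K₀.relIndex K ∣ X.ncard := by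
  induction n using Nat.strong_induction_on with
  | _ n ih =>
  intro X hn hinv hst
  rcases X.eq_empty_or_nonempty with rfl | ⟨c, hc⟩
  · rw [Set.ncard_empty]; exact dvd_zero _
  set O : Set Ω := {d : Ω | ∃ k ∈ K, k • c = d} with hO
  have hOX : O ⊆ X := by
    rintro d ⟨k, hk, rfl⟩
    exact hinv k hk c hc
  have hcO : c ∈ O := ⟨1, K.one_mem, one_smul _ _⟩
  have h1 : (X \ O).ncard + O.ncard = X.ncard :=
    Set.ncard_sdiff_add_ncard_of_subset hOX (Set.toFinite _)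
  have hOpos : 0 < O.ncard := (Set.ncard_pos (Set.toFinite _)).mpr ⟨c, hcO⟩
  have h2 : K₀.relIndex K ∣ (X \ O).ncard := by
    refine ih (X \ O).ncard (by omega) (X \ O) rfl ?_ ?_
    · rintro k hk d ⟨hd, hdO⟩
      refine ⟨hinv k hk d hd, ?_⟩
      rintro ⟨k', hk', hkd⟩
      exact hdO ⟨k⁻¹ * k', K.mul_mem (K.inv_mem hk) hk', by rw [mul_smul, hkd, inv_smul_smul]⟩
    · rintro d ⟨hd, -⟩ k hk hkd
      exact hst d hd k hk hkd
  have h3 : K₀.relIndex K ∣ O.ncard := by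
    rw [hO, ← relIndex_stab, ← inf_relIndex_right (MulAction.stabilizer G c) K]
    apply relIndex_dvd_of_le_left
    intro k hk
    obtain ⟨hk1, hk2⟩ := Subgroup.mem_inf.mp hk
    exact hst c hc k hk2 hk1
  rw [← h1]
  exact dvd_add h2 h3

/-- a subgroup `S` of odd index of `K` is transitive on orbits of 2-power length -/
theorem trans_of_odd [Finite G] (S K : Subgroup G) (hSK : S ≤ K) (hodd : Odd (S.relIndex K))
    (c : Ω) (n : ℕ) (hn : (MulAction.stabilizer G c).relIndex K = 2 ^ n) :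
    ∀ k ∈ K, ∃ s ∈ S, s • c = k • c := by
  set B := MulAction.stabilizer G c with hB
  have h1 : (S ⊓ B).relIndex S * S.relIndex K = (S ⊓ B).relIndex K :=
    relIndex_mul_relIndex _ _ _ inf_le_left hSK
  have h2 : (S ⊓ B).relIndex (K ⊓ B) * (K ⊓ B).relIndex K = (S ⊓ B).relIndex K :=
    relIndex_mul_relIndex _ _ _ (inf_le_inf_right _ hSK) inf_le_left
  rw [inf_relIndex_left] at h1
  rw [inf_relIndex_left, hn] at h2
  have h3 : 2 ^ n ∣ B.relIndex S * S.relIndex K := ⟨_, by rw [h1, ← h2, mul_comm]⟩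
  have h4 : 2 ^ n ∣ B.relIndex S := by
    refine Nat.Coprime.dvd_of_dvd_mul_right ?_ h3
    exact Nat.Coprime.pow_left n (Nat.coprime_two_left.mpr hodd)
  have h5 : 0 < B.relIndex S := Nat.pos_of_ne_zero (relIndex_ne_zero _ _)
  have h6 := Nat.le_of_dvd h5 h4
  have hsub : {d : Ω | ∃ s ∈ S, s • c = d} ⊆ {d : Ω | ∃ k ∈ K, k • c = d} := by
    rintro d ⟨s, hs, hsd⟩
    exact ⟨s, hSK hs, hsd⟩
  have hfin : {d : Ω | ∃ k ∈ K, k • c = d}.Finite := by
    have : {d : Ω | ∃ k ∈ K, k • c = d} = Set.range (fun k : K => (k : G) • c) := by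
      ext d
      constructor
      · rintro ⟨k, hk, hkd⟩; exact ⟨⟨k, hk⟩, hkd⟩
      · rintro ⟨k, hkd⟩; exact ⟨k, k.2, hkd⟩
    rw [this]
    exact Set.finite_range _
  have h7 : {d : Ω | ∃ s ∈ S, s • c = d} = {d : Ω | ∃ k ∈ K, k • c = d} := by
    apply Set.eq_of_subset_of_ncard_le hsub _ hfin
    rw [← relIndex_stab, ← relIndex_stab, hn]
    exact h6
  intro k hk
  have h8 : k • c ∈ {d : Ω | ∃ k ∈ K, k • c = d} := ⟨k, hk, rfl⟩
  rw [← h7] at h8
  exact h8

/-- the stabiliser in `S` has odd index in the stabiliser in `K` -/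
theorem odd_stab [Finite G] (S K : Subgroup G) (hSK : S ≤ K) (hodd : Odd (S.relIndex K))
    (c : Ω) (n : ℕ) (hn : (MulAction.stabilizer G c).relIndex K = 2 ^ n) :
    Odd ((S ⊓ MulAction.stabilizer G c).relIndex (K ⊓ MulAction.stabilizer G c)) := by
  set B := MulAction.stabilizer G c with hB
  have h1 : (S ⊓ B).relIndex S * S.relIndex K = (S ⊓ B).relIndex K :=
    relIndex_mul_relIndex _ _ _ inf_le_left hSK
  have h2 : (S ⊓ B).relIndex (K ⊓ B) * (K ⊓ B).relIndex K = (S ⊓ B).relIndex K :=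
    relIndex_mul_relIndex _ _ _ (inf_le_inf_right _ hSK) inf_le_left
  rw [inf_relIndex_left] at h1
  rw [inf_relIndex_left, hn] at h2
  have h3 : B.relIndex S ≤ 2 ^ n := by
    rw [← hn]
    exact relIndex_le_of_le_right hSK (relIndex_ne_zero _ _)
  have h4 : 2 ^ n ∣ B.relIndex S * S.relIndex K := ⟨_, by rw [h1, ← h2, mul_comm]⟩
  have h5 : 2 ^ n ∣ B.relIndex S := by
    refine Nat.Coprime.dvd_of_dvd_mul_right ?_ h4
    exact Nat.Coprime.pow_left n (Nat.coprime_two_left.mpr hodd)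
  have h6 : 0 < B.relIndex S := Nat.pos_of_ne_zero (relIndex_ne_zero _ _)
  have h7 : B.relIndex S = 2 ^ n := le_antisymm h3 (Nat.le_of_dvd h6 h5)
  rw [← h1, h7, mul_comm] at h2
  have h8 := Nat.eq_of_mul_eq_mul_left (show 0 < 2 ^ n by positivity) h2
  rw [h8]
  exact hodd

/-- a nontrivial 2-element has a power which is an involution -/
theorem exists_pow_invol {t : G} (ht : ∃ n : ℕ, t ^ 2 ^ n = 1) (hne : t ≠ 1) :
    ∃ m : ℕ, t ^ m * t ^ m = 1 ∧ t ^ m ≠ 1 := by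
  classical
  have hex := ht
  set n := Nat.find hex with hn
  have h1 : t ^ 2 ^ n = 1 := Nat.find_spec hex
  have h2 : n ≠ 0 := by
    intro h0
    rw [h0, pow_zero, pow_one] at h1
    exact hne h1
  obtain ⟨m, hm⟩ := Nat.exists_eq_succ_of_ne_zero h2
  refine ⟨2 ^ m, ?_, Nat.find_min hex (by omega)⟩
  rw [← pow_add, ← two_mul, ← pow_succ']
  rw [hm] at h1
  exact h1

theorem pow_smul_eq {t : G} {c : Ω} (h : t • c = c) (m : ℕ) : t ^ m • c = c := by
  induction m with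
  | zero => simp
  | succ m ih => rw [pow_succ, mul_smul, h, ih]

/-! ### The geometry -/

structure Geo (a : Ω) (V : Subgroup G) (q : ℕ) : Prop where
  four_le : 4 ≤ q
  card_V : Nat.card V = q
  V_sq : ∀ x ∈ V, x * x = 1
  V_a : ∀ x ∈ V, x • a = a
  V_free : ∀ x ∈ V, x ≠ 1 → ∀ c : Ω, x • c = c → c = a
  V_conj : ∀ g : G, g • a = a → ∀ x ∈ V, g * x * g⁻¹ ∈ V
  card_pts : {c : Ω | c ≠ a}.ncard = q ^ 3
  trans : ∀ c d : Ω, c ≠ a → d ≠ a → ∃ g : G, g • a = a ∧ g • c = d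
  V_cent : ∀ u : G, u * u = 1 → u • a = a → ∀ x ∈ V, u * x = x * u
  orb : ∀ u : G, u * u = 1 → u ≠ 1 → u • a = a → ∀ c d : Ω, c ≠ a → d ≠ a → u • c = c →
    u • d = d → ∃ x ∈ V, x • c = d
  ex_fix : ∀ u : G, u * u = 1 → u • a = a → u ∉ V → ∃ c : Ω, c ≠ a ∧ u • c = c
  pair : ∀ c : Ω, c ≠ a → ∃ u : G, u * u = 1 ∧ u ≠ 1 ∧ u • a = a ∧ u • c = c

structure Tor (a b : Ω) (V H : Subgroup G) : Prop where
  ne : b ≠ a
  H_a : ∀ h ∈ H, h • a = a
  H_b : ∀ h ∈ H, h • b = b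
  H_odd : Odd (Nat.card H)
  H_cyc : IsCyclic H
  H_comm : ∀ h ∈ H, ∀ w : G, w • a = a → w • b = b → (∀ x ∈ V, w * x = x * w) → h * w = w * h
  H_trans : ∀ x ∈ V, x ≠ 1 → ∀ y ∈ V, y ≠ 1 → ∃ h ∈ H, h * x * h⁻¹ = y
  H_out : ∀ h ∈ H, ∀ c : Ω, c ≠ a → (∀ x ∈ V, x • b ≠ c) → h • c = c → ∀ x ∈ V, h * x = x * h
  H_norm : ∀ g : G, g • a = a → g • b = b → ∀ h ∈ H, ∃ h' ∈ H, ∀ x ∈ V,
    g * h * g⁻¹ * x * (g * h * g⁻¹)⁻¹ = h' * x * h'⁻¹

namespace Geo

variable {a : Ω} {V : Subgroup G} {q : ℕ}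

theorem inv_V (h : Geo a V q) {x : G} (hx : x ∈ V) : x⁻¹ = x :=
  inv_eq_of_mul_eq_one_right (h.V_sq x hx)

theorem finite (h : Geo a V q) : Finite Ω := by
  have h1 : {c : Ω | c ≠ a}.Finite := by
    apply Set.finite_of_ncard_ne_zero
    rw [h.card_pts]
    have := h.four_le
    positivity
  have h2 : (Set.univ : Set Ω).Finite := by
    have : (Set.univ : Set Ω) = insert a {c : Ω | c ≠ a} := by
      ext c
      simp only [Set.mem_univ, Set.mem_insert_iff, Set.mem_ofPred_eq, true_iff]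
      exact em _
    rw [this]
    exact h1.insert a
  exact Set.finite_univ_iff.mp h2

theorem smul_ne {g : G} (hg : g • a = a) {c : Ω} (hc : c ≠ a) : g • c ≠ a := by
  intro hcon
  apply hc
  have : g⁻¹ • g • c = g⁻¹ • g • a := by rw [hcon, hg]
  simpa using this

theorem inv_a {g : G} (hg : g • a = a) : g⁻¹ • a = a := by rw [inv_smul_eq_iff, hg]

theorem eq_one_of_fix (h : Geo a V q) {x : G} (hx : x ∈ V) {c : Ω} (hc : c ≠ a)
    (hxc : x • c = c) : x = 1 := by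
  by_contra hne
  exact hc (h.V_free x hx hne c hxc)

theorem eq_of_smul (h : Geo a V q) {x y : G} (hx : x ∈ V) (hy : y ∈ V) {c : Ω}
    (hc : c ≠ a) (hxy : x • c = y • c) : x = y := by
  have h1 : (y⁻¹ * x) • c = c := by rw [mul_smul, hxy, inv_smul_smul]
  have h2 := h.eq_one_of_fix (V.mul_mem (V.inv_mem hy) hx) hc h1
  rwa [inv_mul_eq_one, eq_comm] at h2

theorem V_comm (h : Geo a V q) {x y : G} (hx : x ∈ V) (hy : y ∈ V) : x * y = y * x :=
  h.V_cent x (h.V_sq x hx) (h.V_a x hx) y hy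

/-- the centraliser of `V` in the stabiliser of `a` -/
def W (_ : Geo a V q) : Subgroup G where
  carrier := {g | g • a = a ∧ ∀ x ∈ V, g * x = x * g}
  mul_mem' := by
    rintro g g' ⟨h1, h2⟩ ⟨h1', h2'⟩
    exact ⟨by rw [mul_smul, h1', h1], fun x hx => by
      rw [mul_assoc, h2' x hx, ← mul_assoc, h2 x hx, mul_assoc]⟩
  one_mem' := ⟨one_smul _ _, fun x _ => by simp⟩
  inv_mem' := by
    rintro g ⟨h1, h2⟩
    refine ⟨inv_a h1, fun x hx => ?_⟩
    rw [inv_mul_eq_iff_eq_mul, ← mul_assoc, h2 x hx]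
    group

theorem mem_W (h : Geo a V q) {g : G} : g ∈ h.W ↔ g • a = a ∧ ∀ x ∈ V, g * x = x * g := Iff.rfl

theorem V_le_W (h : Geo a V q) : V ≤ h.W := fun x hx => ⟨h.V_a x hx, fun _ hy => h.V_comm hx hy⟩

theorem invol_mem_W (h : Geo a V q) {u : G} (hu : u * u = 1) (hua : u • a = a) : u ∈ h.W :=
  ⟨hua, h.V_cent u hu hua⟩

theorem W_conj (h : Geo a V q) {g w : G} (hg : g • a = a) (hw : w ∈ h.W) :
    g * w * g⁻¹ ∈ h.W := by
  refine ⟨by rw [mul_smul, mul_smul, inv_a hg, hw.1, hg], fun x hx => ?_⟩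
  have h1 := hw.2 _ (h.V_conj g⁻¹ (inv_a hg) x hx)
  rw [inv_inv] at h1
  calc g * w * g⁻¹ * x = g * (w * (g⁻¹ * x * g)) * g⁻¹ := by group
    _ = g * ((g⁻¹ * x * g) * w) * g⁻¹ := by rw [h1]
    _ = x * (g * w * g⁻¹) := by group

theorem W_smul_V (h : Geo a V q) {w x : G} (hw : w ∈ h.W) (hx : x ∈ V) (c : Ω) :
    w • x • c = x • w • c := by
  rw [← mul_smul, hw.2 x hx, mul_smul]

/-- the points moved by `u` inside their `V`-orbit -/
def Th (_ : Geo a V q) (u : G) : Set Ω := {c | c ≠ a ∧ ∃ x ∈ V, u • c = x • c}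

theorem mem_Th (h : Geo a V q) {u : G} {c : Ω} :
    c ∈ h.Th u ↔ c ≠ a ∧ ∃ x ∈ V, u • c = x • c := Iff.rfl

theorem mul_sq (h : Geo a V q) {u x : G} (hu : u * u = 1) (hua : u • a = a) (hx : x ∈ V) :
    (x * u) * (x * u) = 1 := by
  have h1 := h.V_cent u hu hua x hx
  calc x * u * (x * u) = x * (u * x) * u := by group
    _ = x * (x * u) * u := by rw [h1]
    _ = (x * x) * (u * u) := by group
    _ = 1 := by rw [h.V_sq x hx, hu, mul_one]

theorem mul_not_mem (_ : Geo a V q) {u x : G} (huV : u ∉ V) (hx : x ∈ V) : x * u ∉ V := by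
  intro h1
  apply huV
  have := V.mul_mem (V.inv_mem hx) h1
  simpa using this

/-- `|Θ(u)| = q ^ 2` -/
theorem card_Th (h : Geo a V q) [Finite G] {u : G} (hu : u * u = 1) (hua : u • a = a)
    (huV : u ∉ V) : (h.Th u).ncard = q * q := by
  have hch : ∀ x : V, ∃ c : Ω, c ≠ a ∧ ((x : G) * u) • c = c := fun x =>
    h.ex_fix _ (h.mul_sq hu hua x.2) (by rw [mul_smul, hua, h.V_a x x.2])
      (h.mul_not_mem huV x.2)
  choose c hca hcx using hch
  have huc : ∀ x : V, u • c x = (x : G) • c x := by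
    intro x
    have h1 := hcx x
    rw [mul_smul] at h1
    have h2 : (x : G)⁻¹ • (x : G) • u • c x = (x : G)⁻¹ • c x := by rw [h1]
    rwa [inv_smul_smul, h.inv_V x.2] at h2
  let F : V × V → h.Th u := fun p => ⟨(p.2 : G) • c p.1, smul_ne (h.V_a _ p.2.2) (hca _), p.1,
    p.1.2, by
      rw [h.W_smul_V (h.invol_mem_W hu hua) p.2.2, huc, h.W_smul_V (h.V_le_W p.2.2) p.1.2]⟩
  have hF : Function.Bijective F := by
    constructor
    · rintro ⟨x, y⟩ ⟨x', y'⟩ he
      have h1 : (y : G) • c x = (y' : G) • c x' := Subtype.ext_iff.mp he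
      have e1 : u • (y : G) • c x = (x : G) • (y : G) • c x := by
        rw [h.W_smul_V (h.invol_mem_W hu hua) y.2, huc, h.W_smul_V (h.V_le_W y.2) x.2]
      have e2 : u • (y' : G) • c x' = (x' : G) • (y' : G) • c x' := by
        rw [h.W_smul_V (h.invol_mem_W hu hua) y'.2, huc, h.W_smul_V (h.V_le_W y'.2) x'.2]
      rw [← h1] at e2
      have h2 : x = x' := Subtype.ext (h.eq_of_smul x.2 x'.2
        (smul_ne (h.V_a _ y.2) (hca x)) (e1.symm.trans e2))
      subst h2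
      have h3 : y = y' := Subtype.ext (h.eq_of_smul y.2 y'.2 (hca x) h1)
      rw [h3]
    · rintro ⟨d, hd, x, hx, hxd⟩
      have h1 : ((x : G) * u) • d = d := by
        rw [mul_smul, hxd, ← mul_smul, h.V_sq x hx, one_smul]
      have hne : (x : G) * u ≠ 1 := by
        intro h2
        apply huV
        have : u = x⁻¹ := by rw [eq_inv_iff_mul_eq_one, ← h.V_cent u hu hua x hx] at *; exact h2
        rw [this]; exact V.inv_mem hx
      obtain ⟨y, hy, hyc⟩ := h.orb _ (h.mul_sq hu hua hx) hne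
        (by rw [mul_smul, hua, h.V_a x hx]) (c ⟨x, hx⟩) d (hca _) hd (hcx ⟨x, hx⟩) h1
      exact ⟨(⟨x, hx⟩, ⟨y, hy⟩), Subtype.ext hyc⟩
  have h1 := Nat.card_congr (Equiv.ofBijective F hF)
  rw [Nat.card_prod, h.card_V, Nat.card_coe_set_eq] at h1
  exact h1.symm

/-- the action of `G_a` on `V` -/
def actV (h : Geo a V q) : MulAction.stabilizer G a →* MulAut V where
  toFun g :=
    { toFun := fun x => ⟨(g : G) * x * (g : G)⁻¹, h.V_conj g g.2 x x.2⟩
      invFun := fun x => ⟨(g : G)⁻¹ * x * g, by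
        have := h.V_conj (g : G)⁻¹ (inv_a g.2) x x.2
        rwa [inv_inv] at this⟩
      left_inv := fun x => Subtype.ext (by
        show (g : G)⁻¹ * ((g : G) * x * (g : G)⁻¹) * g = x
        group)
      right_inv := fun x => Subtype.ext (by
        show (g : G) * ((g : G)⁻¹ * x * g) * (g : G)⁻¹ = x
        group)
      map_mul' := fun x y => Subtype.ext (by
        show (g : G) * (x * y) * (g : G)⁻¹ = (g : G) * x * (g : G)⁻¹ * ((g : G) * y * (g : G)⁻¹)
        group) }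
  map_one' := by
    ext x
    show ((1 : MulAction.stabilizer G a) : G) * x * ((1 : MulAction.stabilizer G a) : G)⁻¹ = x
    simp
  map_mul' g g' := by
    ext x
    show ((g * g' : MulAction.stabilizer G a) : G) * x * ((g * g' : MulAction.stabilizer G a) : G)⁻¹
      = (g : G) * ((g' : G) * x * (g' : G)⁻¹) * (g : G)⁻¹
    rw [Subgroup.coe_mul]
    group

theorem actV_apply (h : Geo a V q) (g : MulAction.stabilizer G a) (x : V) :
    ((h.actV g x : V) : G) = (g : G) * x * (g : G)⁻¹ := rfl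

theorem actV_eq_one_iff (h : Geo a V q) {g : MulAction.stabilizer G a} :
    h.actV g = 1 ↔ (g : G) ∈ h.W := by
  constructor
  · intro h1
    refine ⟨g.2, fun x hx => ?_⟩
    have h2 : h.actV g ⟨x, hx⟩ = ⟨x, hx⟩ := by rw [h1]; rfl
    have h3 := Subtype.ext_iff.mp h2
    rw [actV_apply] at h3
    exact mul_inv_eq_iff_eq_mul.mp h3
  · intro h1
    ext x
    show (g : G) * x * (g : G)⁻¹ = x
    rw [h1.2 x x.2, mul_inv_cancel_right]

theorem actV_eq_iff (h : Geo a V q) {g g' : MulAction.stabilizer G a} :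
    h.actV g = h.actV g' ↔ (g' : G)⁻¹ * (g : G) ∈ h.W := by
  rw [← inv_mul_eq_one, ← map_inv, ← map_mul, actV_eq_one_iff]
  constructor
  · intro h1
    have h2 := h.W.inv_mem h1
    simpa using h2
  · intro h1
    have h2 := h.W.inv_mem h1
    simpa using h2

/-- the `W`-orbit of `b` -/
def cl (h : Geo a V q) (b : Ω) : Set Ω := {c | ∃ w ∈ h.W, w • b = c}

theorem mem_cl (h : Geo a V q) {b c : Ω} : c ∈ h.cl b ↔ ∃ w ∈ h.W, w • b = c := Iff.rfl

/-- the stabiliser in `G_a` of the `W`-orbit of `b` -/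
def N1 (h : Geo a V q) (b : Ω) : Subgroup G where
  carrier := {m | m • a = a ∧ ∃ w ∈ h.W, w • b = m • b}
  mul_mem' := by
    rintro m m' ⟨h1, w, hw, h2⟩ ⟨h1', w', hw', h2'⟩
    refine ⟨by rw [mul_smul, h1', h1], m * w' * m⁻¹ * w, h.W.mul_mem (h.W_conj h1 hw') hw, ?_⟩
    rw [mul_smul, h2, mul_smul, mul_smul, inv_smul_smul, h2', mul_smul]
  one_mem' := ⟨one_smul _ _, 1, h.W.one_mem, rfl⟩
  inv_mem' := by
    rintro m ⟨h1, w, hw, h2⟩
    refine ⟨inv_a h1, m⁻¹ * w⁻¹ * m, ?_, ?_⟩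
    · have := h.W_conj (inv_a h1) (h.W.inv_mem hw)
      rwa [inv_inv] at this
    · rw [mul_smul, ← h2, mul_smul, inv_smul_smul]

theorem mem_N1 (h : Geo a V q) {b : Ω} {m : G} :
    m ∈ h.N1 b ↔ m • a = a ∧ ∃ w ∈ h.W, w • b = m • b := Iff.rfl

theorem W_le_N1 (h : Geo a V q) (b : Ω) : h.W ≤ h.N1 b := fun w hw => ⟨hw.1, w, hw, rfl⟩

theorem relIndex_stab_a (h : Geo a V q) {b : Ω} (hb : b ≠ a) :
    (MulAction.stabilizer G b).relIndex (MulAction.stabilizer G a) = q ^ 3 := by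
  rw [relIndex_stab, ← h.card_pts]
  congr 1
  ext c
  constructor
  · rintro ⟨g, hg, rfl⟩
    exact smul_ne hg hb
  · intro hc
    obtain ⟨g, hg, hgc⟩ := h.trans b c hb hc
    exact ⟨g, hg, hgc⟩

theorem relIndex_stab_N1 (h : Geo a V q) (b : Ω) :
    (MulAction.stabilizer G b).relIndex (h.N1 b) = (h.cl b).ncard := by
  rw [relIndex_stab]
  congr 1
  ext c
  constructor
  · rintro ⟨g, ⟨_, w, hw, hwb⟩, rfl⟩
    exact ⟨w, hw, hwb⟩
  · rintro ⟨w, hw, hwb⟩
    exact ⟨w, h.W_le_N1 b hw, hwb⟩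

/-- `|cl b| |G_a : N₁| = q ^ 3` -/
theorem card_cl_mul (h : Geo a V q) {b : Ω} (hb : b ≠ a) :
    (h.cl b).ncard * (h.N1 b).relIndex (MulAction.stabilizer G a) = q ^ 3 := by
  rw [← h.relIndex_stab_a hb, ← h.relIndex_stab_N1 b,
    ← inf_relIndex_right (MulAction.stabilizer G b) (MulAction.stabilizer G a),
    ← inf_relIndex_right (MulAction.stabilizer G b) (h.N1 b)]
  have h1 : MulAction.stabilizer G b ⊓ MulAction.stabilizer G a =
      MulAction.stabilizer G b ⊓ h.N1 b := by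
    ext g
    constructor
    · rintro ⟨h1, h2⟩
      exact ⟨h1, h2, 1, h.W.one_mem, by rw [one_smul]; exact h1.symm⟩
    · rintro ⟨h1, h2⟩
      exact ⟨h1, h2.1⟩
  rw [h1]
  exact relIndex_mul_relIndex _ _ _ inf_le_right (fun g hg => hg.1)

end Geo

end Cfsg.Agent.AschCrit.ThreeGeo
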