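import Cfsg.Agent.AschCrit.CommCase
import Cfsg.Agent.AschCrit.ThreeGeo

/-!
# Aschbacher's criterion, commutative case, unital type: the geometry from `CaseHyp`
-/

set_option autoImplicit false

universe u

open Subgroup

namespace Cfsg.Agent.AschCrit.ThreeHyp

open Cfsg.Agent.TwoFusion.StronglyEmbeddedBasic Cfsg.Agent.AschCrit.Basic
open Cfsg.Agent.AschCrit.Basic.Setup Cfsg.Agent.AschCrit.Closed Cfsg.Agent.AschCrit.Descent
open Cfsg.Agent.AschCrit.NonIso Cfsg.Agent.AschCrit.BGroup Cfsg.Agent.AschCrit.CommTypes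
open Cfsg.Agent.AschCrit.CommFrame Cfsg.Agent.AschCrit.CommCase

/-- the geometry of the unital type -/
theorem geo {G Ω : Type u} [Group G] [Finite G] [MulAction G Ω] {z : G} {k : ℕ}
    (hC : CaseHyp G Ω z k 1) (hat : ∀ a : Ω, Nat.card (At z a) + 1 = 2 ^ k)
    (hΩ : Nat.card Ω = (2 ^ k) ^ 3 + 1) (a : Ω) :
    ThreeGeo.Geo a (vGrp hC.setup hC.faithful hC.comm a) (2 ^ k) := by
  classical
  have hfinΩ : Finite Ω := hC.setup.finite_points
  set V := vGrp hC.setup hC.faithful hC.comm a with hVdef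
  have hV : ∀ x, x ∈ V ↔ x = 1 ∨ x ∈ At z a := fun x => mem_vGrp hC.setup hC.faithful hC.comm
  have hcard : Nat.card V = 2 ^ k := by rw [card_V hC.setup hV, hat]
  have hVa : ∀ x ∈ V, x • a = a := by
    intro x hx
    rcases (hV x).mp hx with rfl | hx
    · exact one_smul _ _
    · exact hx.2
  have hfree : ∀ x ∈ V, x ≠ 1 → ∀ c : Ω, x • c = c → c = a := by
    intro x hx h1 c hc
    have h2 := ((hV x).mp hx).resolve_left h1
    exact (hC.setup.uniq h2.1 h2.2 hc).symm
  have hbad : ∀ u : G, u * u = 1 → u ≠ 1 → ∀ c : Ω, c ≠ a → u • a = a → u • c = c → Bad Ω u :=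
    fun u hu h1 c hca hua huc =>
      ⟨orderOf_eq_two_of_mul_self hu h1, a, c, Ne.symm hca, hua, huc⟩
  have hcent : ∀ u : G, u * u = 1 → u • a = a → ∀ x ∈ V, u * x = x * u := by
    intro u hu hua x hx
    by_cases h1 : u = 1
    · rw [h1, one_mul, mul_one]
    rcases isConj_or_bad hC.setup hC.faithful (orderOf_eq_two_of_mul_self hu h1) with h2 | h2
    · exact commute_of_mem_V hC.comm hV ((hV u).mpr (Or.inr ⟨h2, hua⟩)) hx
    · exact (commute_of_card hC.setup hV hcard (hC.card_atC u h2 a hua) x hx).symm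
  refine ⟨?_, hcard, fun x hx => congrArg Subtype.val (mul_self_V hC.setup hV ⟨x, hx⟩), hVa, hfree, ?_, ?_,
    fun c d hc hd => hC.two_trans a c a d (Ne.symm hc) (Ne.symm hd), hcent, ?_, ?_, ?_⟩
  · calc 4 = 2 ^ 2 := by norm_num
      _ ≤ 2 ^ k := Nat.pow_le_pow_right (by norm_num) hC.two_le
  · intro g hg x hx
    rcases (hV x).mp hx with rfl | hx
    · simp [one_mem]
    · refine (hV _).mpr (Or.inr ?_)
      have h1 := conj_mem_At g hx
      rwa [hg] at h1
  · have h1 : ({a} : Set Ω).ncard + ({a} : Set Ω)ᶜ.ncard = Nat.card Ω :=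
      Set.ncard_add_ncard_compl _
    have h2 : {c : Ω | c ≠ a} = ({a} : Set Ω)ᶜ := by
      ext c
      rfl
    rw [h2]
    rw [Set.ncard_singleton, hΩ] at h1
    omega
  · intro u hu h1 hua c d hc hd huc hud
    have hb := hbad u hu h1 c hc hua huc
    have h2 := hC.card_fix u hb
    have h3 : Nat.card {e : Ω // u • e = e ∧ e ≠ a} = 2 ^ k := by
      have h4 : ({a} : Set Ω).ncard + {e : Ω | u • e = e ∧ e ≠ a}.ncard =
          {e : Ω | u • e = e}.ncard := by
        rw [← Set.ncard_union_eq (by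
          rw [Set.disjoint_left]
          rintro x hx ⟨-, h5⟩
          exact h5 hx)]
        congr 1
        ext e
        constructor
        · rintro (h5 | h5)
          · have h6 : e = a := h5
            rw [h6]; exact hua
          · exact h5.1
        · intro h5
          by_cases h6 : e = a
          · exact Or.inl h6
          · exact Or.inr ⟨h5, h6⟩
      have h5 : Nat.card {c : Ω // u • c = c} = {e : Ω | u • e = e}.ncard := rfl
      have h6 : Nat.card {e : Ω // u • e = e ∧ e ≠ a} = {e : Ω | u • e = e ∧ e ≠ a}.ncard := rfl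
      rw [Set.ncard_singleton, ← h5, ← h6, h2, pow_one] at h4
      omega
    let F : V → {e : Ω // u • e = e ∧ e ≠ a} := fun x => ⟨(x : G) • c, by
      rw [← mul_smul, hcent u hu hua x x.2, mul_smul, huc], fun h4 => hc (by
        have h5 : (x : G) • a = a := hVa x x.2
        exact smul_left_cancel (x : G) (h4.trans h5.symm))⟩
    have hF : Function.Injective F := by
      intro x y hxy
      have h4 : (x : G) • c = (y : G) • c := congrArg Subtype.val hxy
      have h5 : ((y : G)⁻¹ * x) • c = c := by rw [mul_smul, h4, inv_smul_smul]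
      by_contra hne
      have h6 : (y : G)⁻¹ * x ≠ 1 := by
        intro h7
        exact hne (Subtype.ext (inv_mul_eq_one.mp h7).symm)
      exact hc (hfree _ (V.mul_mem (V.inv_mem y.2) x.2) h6 c h5)
    have hF' := hF.bijective_of_nat_card_le (by rw [h3, hcard])
    obtain ⟨x, hx⟩ := hF'.2 ⟨d, hud, hd⟩
    exact ⟨x, x.2, congrArg Subtype.val hx⟩
  · intro u hu hua huV
    have h1 : u ≠ 1 := by
      rintro rfl
      exact huV V.one_mem
    rcases isConj_or_bad hC.setup hC.faithful (orderOf_eq_two_of_mul_self hu h1) with h2 | h2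
    · exact absurd ((hV u).mpr (Or.inr ⟨h2, hua⟩)) huV
    · obtain ⟨-, c, d, hcd, hc, hd⟩ := h2
      by_cases hca : c = a
      · exact ⟨d, fun h3 => hcd (hca.trans h3.symm), hd⟩
      · exact ⟨c, hca, hc⟩
  · intro c hc
    obtain ⟨v, hv, hva, hvc⟩ := hC.exists_bad_pair a c (Ne.symm hc)
    exact ⟨v, hv.mul_self, hv.ne_one, hva, hvc⟩

end Cfsg.Agent.AschCrit.ThreeHyp
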