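import Mathlib
import Cfsg.Agent.AschCrit.ThreeGeo

/-!
# The unital case: the centraliser of `V` has orbits of length `q ^ 2`, `k` even

The group `M` induced by `G_a` on `V` (of order `2 ^ k`) has a subgroup `Γ` of index `2 ^ k` (the image of the
stabiliser of the `C(V)`-orbit of `b`) containing a torus `H` which is regular on `V ∖ 1`; `ThreeEven` gives a
contradiction.
-/

set_option autoImplicit false

namespace Cfsg.Agent.AschCrit.ThreeMid

open Subgroup ThreeGeo

variable {G Ω : Type*} [Group G] [MulAction G Ω] {a b : Ω} {V H : Subgroup G} {k : ℕ}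

/-- elements commuting with a transitive group are determined by one image -/
theorem ext_of_comm (hG : Geo a V (2 ^ k)) {L : Subgroup (MulAut V)}
    (htr : ∀ x y : V, x ≠ 1 → y ≠ 1 → ∃ l ∈ L, l x = y) {g h : MulAut V}
    (hg : ∀ l ∈ L, g * l = l * g) (hh : ∀ l ∈ L, h * l = l * h) {x : V} (hx : x ≠ 1)
    (hgh : g x = h x) : g = h := by
  ext y
  by_cases hy : y = 1
  · rw [hy, map_one, map_one]
  obtain ⟨l, hl, rfl⟩ := htr x y hx hy
  have h1 : g (l x) = (g * l) x := rfl
  have h2 : h (l x) = (h * l) x := rfl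
  rw [h1, h2, hg l hl, hh l hl]
  show ((l (g x) : V) : G) = ((l (h x) : V) : G)
  rw [hgh]

theorem even_false [Finite G] (hG : Geo a V (2 ^ k)) (hT : Tor a b V H) (hk : Even k)
    (hcl : (hG.cl b).ncard = 2 ^ k * 2 ^ k) : False := by
  classical
  haveI : Finite Ω := hG.finite
  have hq4 := hG.four_le
  have hk2 : 2 ≤ k := by
    by_contra hcon
    have h1 : 2 ^ k ≤ 2 ^ 1 := Nat.pow_le_pow_right (by norm_num) (by omega)
    omega
  haveI : Finite (MulAut V) := by
    haveI : Finite V := inferInstance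
    exact Finite.of_injective (fun e : MulAut V => (e : V → V)) DFunLike.coe_injective
  set f := hG.actV.rangeRestrict with hf
  have hfs : Function.Surjective f := hG.actV.rangeRestrict_surjective
  have hfapp : ∀ (g : MulAction.stabilizer G a) (x : V), (((f g : MulAut V) x : V) : G) =
      (g : G) * x * (g : G)⁻¹ := fun _ _ => rfl
  have hfeq : ∀ g g' : MulAction.stabilizer G a, (∀ x ∈ V, (g : G) * x * (g : G)⁻¹ =
      (g' : G) * x * (g' : G)⁻¹) → f g = f g' := by
    intro g g' h
    apply Subtype.ext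
    ext x
    exact h x x.2
  have hker : ∀ g : MulAction.stabilizer G a, f g = 1 ↔ (g : G) ∈ hG.W := by
    intro g
    rw [← hG.actV_eq_one_iff, Subtype.ext_iff]
    rfl
  set N := (hG.N1 b).subgroupOf (MulAction.stabilizer G a) with hN
  set Γ := N.map f with hΓ
  set H' := (H.subgroupOf (MulAction.stabilizer G a)).map f with hH'
  have hkerN : f.ker ≤ N := by
    intro g hg
    rw [MonoidHom.mem_ker, hker] at hg
    exact hG.W_le_N1 b hg
  have memΓ : ∀ g : MulAction.stabilizer G a, f g ∈ Γ ↔ (g : G) ∈ hG.N1 b := by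
    intro g
    constructor
    · rintro ⟨g', hg', hgg⟩
      have h1 : g'⁻¹ * g ∈ f.ker := by
        rw [MonoidHom.mem_ker, map_mul, map_inv, hgg, inv_mul_cancel]
      have h2 := N.mul_mem hg' (hkerN h1)
      rw [mul_inv_cancel_left] at h2
      exact h2
    · intro h
      exact ⟨g, h, rfl⟩
  have memH : ∀ h (hh : h ∈ H), f ⟨h, hT.H_a h hh⟩ ∈ H' := fun h hh => ⟨_, hh, rfl⟩
  -- transitivity
  have htr : ∀ x y : V, x ≠ 1 → y ≠ 1 → ∃ l ∈ H', (l : MulAut V) x = y := by
    intro x y hx hy
    obtain ⟨h, hh, hxy⟩ := hT.H_trans x x.2 (by simpa using hx) y y.2 (by simpa using hy)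
    exact ⟨_, memH h hh, Subtype.ext hxy⟩
  -- cyclicity
  have := hT.H_cyc
  have hcyc0 : IsCyclic (H.subgroupOf (MulAction.stabilizer G a)) := by
    let ι : H.subgroupOf (MulAction.stabilizer G a) →* H :=
      { toFun := fun x => ⟨((x : MulAction.stabilizer G a) : G), x.2⟩
        map_one' := rfl
        map_mul' := fun _ _ => rfl }
    exact isCyclic_of_injective ι (fun x y hxy => by
      have h1 : (((x : MulAction.stabilizer G a) : G)) = ((y : MulAction.stabilizer G a) : G) :=
        congrArg (Subtype.val : H → G) hxy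
      exact Subtype.ext (Subtype.ext h1))
  have hcyc : IsCyclic H' := isCyclic_of_surjective (f.subgroupMap
    (H.subgroupOf (MulAction.stabilizer G a))) (f.subgroupMap_surjective _)
  have hcomm : ∀ h ∈ H', ∀ h' ∈ H', h * h' = h' * h := by
    intro h hh h' hh'
    letI := IsCyclic.commGroup (α := H')
    have := mul_comm (⟨h, hh⟩ : H') ⟨h', hh'⟩
    exact Subtype.ext_iff.mp this
  have hL : ∀ x y : V, x ≠ 1 → y ≠ 1 → ∃ l ∈ H'.map (Subgroup.subtype _), (l : MulAut V) x = y := by
    intro x y hx hy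
    obtain ⟨l, hl, hxy⟩ := htr x y hx hy
    exact ⟨l, ⟨l, hl, rfl⟩, hxy⟩
  have hdet : ∀ g h : hG.actV.range, (∀ l ∈ H', g * l = l * g) → (∀ l ∈ H', h * l = l * h) →
      ∀ x : V, x ≠ 1 → (g : MulAut V) x = (h : MulAut V) x → g = h := by
    intro g h hg hh x hx hgh
    apply Subtype.ext
    refine ext_of_comm hG hL ?_ ?_ hx hgh
    · rintro _ ⟨l, hl, rfl⟩
      exact congrArg Subtype.val (hg l hl)
    · rintro _ ⟨l, hl, rfl⟩
      exact congrArg Subtype.val (hh l hl)
  -- a nontrivial element of `V`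
  have hcardV : Nat.card V = 2 ^ k := hG.card_V
  have hVn : Nontrivial V := by
    rw [← Finite.one_lt_card_iff_nontrivial]
    omega
  obtain ⟨x0, hx0⟩ := exists_ne (1 : V)
  have hcardH : Nat.card H' + 1 = 2 ^ k := by
    let F : H' → {y : V // y ≠ 1} := fun h => ⟨((h : hG.actV.range) : MulAut V) x0, by
      intro h1
      exact hx0 ((MulEquiv.map_eq_one_iff _).mp h1)⟩
    have hF : Function.Bijective F := by
      constructor
      · intro h h' hh
        apply Subtype.ext
        exact hdet _ _ (fun l hl => hcomm _ h.2 _ hl) (fun l hl => hcomm _ h'.2 _ hl) x0 hx0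
          (Subtype.ext_iff.mp hh)
      · rintro ⟨y, hy⟩
        obtain ⟨l, hl, hxy⟩ := htr x0 y hx0 hy
        exact ⟨⟨l, hl⟩, Subtype.ext hxy⟩
    rw [Nat.card_congr (Equiv.ofBijective F hF), ← hcardV,
      ← Nat.card_congr (Equiv.optionSubtypeNe (1 : V)), Finite.card_option]
  refine ThreeEven.false_of_three (M := hG.actV.range) (Γ := Γ) (H := H') (k := k) (by omega) ?_
    hcardH ?_ hcyc ?_ ?_ ?_ ?_ ?_
  · -- index
    rw [hΓ, Subgroup.index_map_eq _ hfs hkerN]
    have h1 := hG.card_cl_mul hT.ne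
    rw [hcl] at h1
    have h2 : 0 < 2 ^ k * 2 ^ k := by positivity
    apply Nat.eq_of_mul_eq_mul_left h2
    show _ * (hG.N1 b).relIndex (MulAction.stabilizer G a) = _
    rw [h1]; ring
  · -- `H' ≤ Γ`
    rintro _ ⟨h, hh, rfl⟩
    rw [memΓ]
    exact ⟨h.2, 1, hG.W.one_mem, by rw [one_smul]; exact (hT.H_b h hh).symm⟩
  · -- `3 ∣ |H'|`
    obtain ⟨j, hj⟩ := hk
    have h1 : Nat.card H' = 4 ^ j - 1 := by
      have : (2 : ℕ) ^ k = 4 ^ j := by
        rw [hj, pow_add, ← mul_pow]
        norm_num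
      omega
    rw [h1]
    have := Nat.sub_dvd_pow_sub_pow 4 1 j
    simpa using this
  · -- normality
    rintro _ ⟨n, hn, rfl⟩ _ ⟨h, hh, rfl⟩
    obtain ⟨hna, w, hw, hwb⟩ := hn
    have hna' : (n : G) • a = a := hna
    have hwb' : w • b = (n : G) • b := hwb
    obtain ⟨n', hn'⟩ : ∃ n' : G, n' = w⁻¹ * n := ⟨_, rfl⟩
    have hn'a : n' • a = a := by
      rw [hn', mul_smul, hna', Geo.inv_a hw.1]
    have hn'b : n' • b = b := by
      rw [hn', mul_smul, ← hwb', inv_smul_smul]
    obtain ⟨h', hh', hhx⟩ := hT.H_norm n' hn'a hn'b h hh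
    have e1 : f n = f ⟨n', hn'a⟩ := by
      have : n = ⟨w, hw.1⟩ * ⟨n', hn'a⟩ := by
        apply Subtype.ext
        show (n : G) = w * n'
        rw [hn', mul_inv_cancel_left]
      rw [this, map_mul, (hker ⟨w, hw.1⟩).mpr hw, one_mul]
    have e2 : f n * f h * (f n)⁻¹ = f ⟨h', hT.H_a h' hh'⟩ := by
      rw [e1, ← map_inv, ← map_mul, ← map_mul]
      apply hfeq
      intro x hx
      exact hhx x hx
    rw [e2]
    exact memH h' hh'
  · -- strong normaliser condition
    rintro _ ⟨h, hh, rfl⟩ hne g hg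
    obtain ⟨m, rfl⟩ := hfs g
    rw [← map_inv, ← map_mul, ← map_mul, memΓ] at hg
    rw [memΓ]
    by_contra hm
    have hma : (m : G) • a = a := m.2
    obtain ⟨-, w, hw, hwb⟩ := hg
    have hwb' : w • b = ((m : G)⁻¹ * h * m) • b := hwb
    set X : Set Ω := {c | ∃ w ∈ hG.W, w • (m : G) • b = c} with hX
    have hXcard : X.ncard = 2 ^ k * 2 ^ k := by
      rw [← hcl]
      have : X = (fun c => (m : G) • c) '' (hG.cl b) := by
        ext c
        constructor
        · rintro ⟨w, hw, rfl⟩
          refine ⟨((m : G)⁻¹ * w * m) • b, ⟨_, ?_, rfl⟩, ?_⟩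
          · have := hG.W_conj (Geo.inv_a hma) hw
            rwa [inv_inv] at this
          · show (m : G) • ((m : G)⁻¹ * w * m) • b = w • (m : G) • b
            rw [← mul_smul, ← mul_smul]
            congr 1
            group
        · rintro ⟨_, ⟨w, hw, rfl⟩, rfl⟩
          refine ⟨(m : G) * w * (m : G)⁻¹, hG.W_conj hma hw, ?_⟩
          show ((m : G) * w * (m : G)⁻¹) • (m : G) • b = (m : G) • w • b
          rw [← mul_smul, ← mul_smul]
          congr 1
          group
      rw [this, Set.ncard_image_of_injective _ (MulAction.injective (m : G))]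
    have hXb : ∀ c ∈ X, ∀ w ∈ hG.W, w • b ≠ c := by
      rintro c ⟨w1, hw1, rfl⟩ w hw hc
      apply hm
      refine ⟨hma, w1⁻¹ * w, hG.W.mul_mem (hG.W.inv_mem hw1) hw, ?_⟩
      rw [mul_smul, hc, inv_smul_smul]
    have hXa : ∀ c ∈ X, c ≠ a := by
      rintro c ⟨w1, hw1, rfl⟩
      exact Geo.smul_ne hw1.1 (Geo.smul_ne hma hT.ne)
    have hhX : ∀ c ∈ X, (h : G) • c ∈ X := by
      rintro _ ⟨w1, hw1, rfl⟩
      have hha : (h : G) • a = a := h.2
      refine ⟨(h : G) * w1 * (h : G)⁻¹ * ((m : G) * w * (m : G)⁻¹),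
        hG.W.mul_mem (hG.W_conj hha hw1) (hG.W_conj hma hw), ?_⟩
      have e1 : ((m : G) * w * (m : G)⁻¹) • (m : G) • b = (h : G) • (m : G) • b := by
        rw [mul_smul, mul_smul, inv_smul_smul, hwb', mul_smul, mul_smul, smul_inv_smul]
      rw [mul_smul, e1, mul_smul, mul_smul, inv_smul_smul]
    have hKX : ∀ k' ∈ zpowers (h : G), ∀ c ∈ X, k' • c ∈ X := by
      intro k' hk'
      rw [← mem_powers_iff_mem_zpowers] at hk'
      obtain ⟨j, rfl⟩ := hk'
      show ∀ c ∈ X, (h : G) ^ j • c ∈ X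
      induction j with
      | zero => intro c hc; simpa using hc
      | succ j ih =>
        intro c hc
        rw [pow_succ, mul_smul]
        exact ih _ (hhX c hc)
    have hKH : zpowers (h : G) ≤ H := by
      rw [zpowers_le]; exact hh
    apply hne
    rw [hker]
    refine ⟨h.2, fun x hx => ?_⟩
    have hdvd := index_dvd (zpowers (h : G)) (MulAction.stabilizer G (x • b)) _ X rfl hKX (by
      intro c hc k' hk' hk'c
      have h1 := hT.H_out k' (hKH hk') c (hXa c hc)
        (fun y hy => hXb c hc y (hG.V_le_W hy)) hk'c x hx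
      show k' • x • b = x • b
      rw [← mul_smul, h1, mul_smul, hT.H_b k' (hKH hk')])
    rw [hXcard, ← pow_add] at hdvd
    have hodd : Odd ((MulAction.stabilizer G (x • b)).relIndex (zpowers (h : G))) := by
      apply hT.H_odd.of_dvd_nat
      exact (relIndex_dvd_card _ _).trans (card_dvd_of_le hKH)
    have h1 : (MulAction.stabilizer G (x • b)).relIndex (zpowers (h : G)) = 1 := by
      obtain ⟨j, -, hj⟩ := (Nat.dvd_prime_pow Nat.prime_two).mp hdvd
      rw [hj] at hodd ⊢
      rcases Nat.eq_zero_or_pos j with rfl | hj0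
      · rfl
      · exfalso
        rw [← Nat.not_even_iff_odd] at hodd
        exact hodd ((Nat.even_pow.mpr ⟨even_two, by omega⟩))
    rw [relIndex_eq_one] at h1
    have h2 : (h : G) • x • b = x • b := h1 (mem_zpowers _)
    have h3 : ((h : G) * x * (h : G)⁻¹) • b = x • b := by
      rw [mul_smul, mul_smul, inv_smul_eq_iff.mpr (hT.H_b h hh).symm, h2]
    have h4 := hG.eq_of_smul (hG.V_conj h h.2 x hx) hx hT.ne h3
    rw [mul_inv_eq_iff_eq_mul] at h4
    exact h4
  · -- self-centralising
    intro g hg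
    have hgx : (g : MulAut V) x0 ≠ 1 := fun h1 => hx0 ((MulEquiv.map_eq_one_iff _).mp h1)
    obtain ⟨h, hh, hhx⟩ := htr x0 _ hx0 hgx
    have := hdet g h (fun l hl => hg l hl) (fun l hl => hcomm h hh l hl) x0 hx0 hhx.symm
    rw [this]
    exact hh
  · -- no normal 2-subgroup
    intro K hK hK2
    haveI : Fact (Nat.Prime 2) := ⟨Nat.prime_two⟩
    letI : MulAction (K.map (Subgroup.subtype _)) V := inferInstance
    have hK2' : IsPGroup 2 (K.map (Subgroup.subtype hG.actV.range)) := hK2.map _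
    have h1 := hK2'.card_modEq_card_fixedPoints V
    rw [hcardV] at h1
    have h2 : 2 ∣ Nat.card (MulAction.fixedPoints (K.map (Subgroup.subtype hG.actV.range)) V) := by
      rw [← Nat.modEq_zero_iff_dvd]
      refine h1.symm.trans ?_
      rw [Nat.modEq_zero_iff_dvd]
      exact dvd_pow_self 2 (by omega)
    have h3 : ∃ y : V, y ≠ 1 ∧ ∀ l ∈ K, ((l : hG.actV.range) : MulAut V) y = y := by
      by_contra hcon
      push Not at hcon
      have h4 : MulAction.fixedPoints (K.map (Subgroup.subtype hG.actV.range)) V = {1} := by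
        ext y
        constructor
        · intro hy
          by_contra hy1
          obtain ⟨l, hl, hly⟩ := hcon y hy1
          exact hly (hy ⟨(l : MulAut V), ⟨l, hl, rfl⟩⟩)
        · rintro rfl
          rintro ⟨l, hl⟩
          exact map_one l
      rw [h4, Nat.card_unique] at h2
      omega
    obtain ⟨y, hy1, hy⟩ := h3
    rw [eq_bot_iff]
    intro l hl
    rw [mem_bot]
    apply Subtype.ext
    apply MulEquiv.ext
    intro z
    by_cases hz : z = 1
    · rw [hz, map_one, map_one]
    obtain ⟨g, -, hgz⟩ := htr y z hy1 hz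
    have h5 := hy _ (hK.conj_mem l hl g⁻¹)
    rw [inv_inv] at h5
    have h6 : ((g⁻¹ * l * g : hG.actV.range) : MulAut V) y =
        (g : MulAut V)⁻¹ ((l : MulAut V) ((g : MulAut V) y)) := rfl
    rw [h6, hgz] at h5
    have h7 := congrArg (g : MulAut V) h5
    rw [hgz] at h7
    have h8 : ((g : MulAut V) * (g : MulAut V)⁻¹) ((l : MulAut V) z) = z := h7
    rw [mul_inv_cancel] at h8
    exact h8

end Cfsg.Agent.AschCrit.ThreeMid
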