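import Mathlib
import Cfsg.Agent.AschCrit.ThreeGeo

/-!
# Aschbacher's criterion, commutative case, unital type: the length of the `W`-orbits

* `Th_sub`, `Th_eq_cl`
* `lam_cases` : the `W`-orbit `cl b` has length `q`, `q ^ 2` or `q ^ 3`
* `ne_q` : not `q`
-/

set_option autoImplicit false

namespace Cfsg.Agent.AschCrit.ThreeLam

open Subgroup Cfsg.Agent.AschCrit.ThreeGeo

variable {G Ω : Type*} [Group G] [MulAction G Ω]
variable {a b : Ω} {V H : Subgroup G} {q k : ℕ}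

theorem not_mem_V (h : Geo a V q) (hb : b ≠ a) {u : G} (hu1 : u ≠ 1) (hub : u • b = b) : u ∉ V :=
  fun hV => hu1 (h.eq_one_of_fix hV hb hub)

theorem H_orbit (h : Geo a V q) (hT : Tor a b V H) {u : G} (hu : u * u = 1) (hu1 : u ≠ 1)
    (hua : u • a = a) (hub : u • b = b) {c d : Ω} (hc : c ∈ h.Th u) (hd : d ∈ h.Th u)
    (hcb : ∀ x ∈ V, x • b ≠ c) (hdb : ∀ x ∈ V, x • b ≠ d) :
    ∃ k ∈ H, ∃ y ∈ V, k • c = y • d := by
  obtain ⟨hca, x, hx, hxc⟩ := hc
  obtain ⟨hda, x', hx', hxd⟩ := hd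
  have huV := not_mem_V h hT.ne hu1 hub
  have hne : ∀ (e : Ω) (y : G), e ≠ a → (∀ x ∈ V, x • b ≠ e) → y ∈ V → u • e = y • e → y ≠ 1 := by
    rintro e y he heb hy hue rfl
    rw [one_smul] at hue
    obtain ⟨y, hy, hyb⟩ := h.orb u hu hu1 hua b e hT.ne he hub hue
    exact heb y hy hyb
  obtain ⟨k, hk, hkx⟩ := hT.H_trans x hx (hne c x hca hcb hx hxc) x' hx' (hne d x' hda hdb hx' hxd)
  have hku := hT.H_comm k hk u hua hub (h.V_cent u hu hua)
  have h1 : u • k • c = x' • k • c := by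
    rw [← mul_smul, ← hku, mul_smul, hxc, ← hkx]
    simp [mul_smul]
  have key : ∀ e : Ω, u • e = x' • e → (x' * u) • e = e := by
    intro e he
    rw [mul_smul, he, ← mul_smul, h.V_sq x' hx', one_smul]
  have hne2 : x' * u ≠ 1 := by
    intro h2
    apply huV
    rw [mul_eq_one_iff_inv_eq] at h2
    rw [← h2]
    exact V.inv_mem hx'
  obtain ⟨y, hy, hyd⟩ := h.orb (x' * u) (h.mul_sq hu hua hx') hne2
    (by rw [mul_smul, hua, h.V_a x' hx']) d (k • c) hda (Geo.smul_ne (hT.H_a k hk) hca)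
    (key d hxd) (key _ h1)
  exact ⟨k, hk, y, hy, hyd.symm⟩

/-- the `V`-orbit of `b` -/
def vb (b : Ω) (V : Subgroup G) : Set Ω := {c | ∃ x ∈ V, x • b = c}

theorem vb_sub_cl (h : Geo a V q) (b : Ω) : vb b V ⊆ h.cl b := by
  rintro c ⟨x, hx, hxc⟩
  exact ⟨x, h.V_le_W hx, hxc⟩

theorem card_vb (h : Geo a V q) (hb : b ≠ a) : (vb b V).ncard = q := by
  have h1 : vb b V = Set.range (fun x : V => (x : G) • b) := by
    ext c
    constructor
    · rintro ⟨x, hx, hxc⟩; exact ⟨⟨x, hx⟩, hxc⟩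
    · rintro ⟨x, hxc⟩; exact ⟨x, x.2, hxc⟩
  have h2 : Function.Injective (fun x : V => (x : G) • b) := by
    intro x y hxy
    exact Subtype.ext (h.eq_of_smul x.2 y.2 hb hxy)
  rw [h1, ← Set.image_univ, Set.ncard_image_of_injective _ h2, Set.ncard_univ, h.card_V]

theorem W_smul_cl (h : Geo a V q) {w : G} (hw : w ∈ h.W) {c : Ω} (hc : c ∈ h.cl b) :
    w • c ∈ h.cl b := by
  obtain ⟨w', hw', rfl⟩ := hc
  exact ⟨w * w', h.W.mul_mem hw hw', mul_smul _ _ _⟩

theorem H_smul_cl (h : Geo a V q) (hT : Tor a b V H) {k : G} (hk : k ∈ H) {c : Ω}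
    (hc : c ∈ h.cl b) : k • c ∈ h.cl b := by
  obtain ⟨w', hw', rfl⟩ := hc
  refine ⟨k * w' * k⁻¹, h.W_conj (hT.H_a k hk) hw', ?_⟩
  have : k⁻¹ • b = b := by rw [inv_smul_eq_iff, hT.H_b k hk]
  rw [mul_smul, mul_smul, this]

theorem H_smul_vb (h : Geo a V q) (hT : Tor a b V H) {k : G} (hk : k ∈ H) {c : Ω}
    (hc : c ∈ vb b V) : k • c ∈ vb b V := by
  obtain ⟨x, hx, rfl⟩ := hc
  refine ⟨k * x * k⁻¹, h.V_conj k (hT.H_a k hk) x hx, ?_⟩
  have : k⁻¹ • b = b := by rw [inv_smul_eq_iff, hT.H_b k hk]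
  rw [mul_smul, mul_smul, this]

theorem Th_sub (h : Geo a V q) (hT : Tor a b V H) {u : G} (hu : u * u = 1) (hu1 : u ≠ 1)
    (hua : u • a = a) (hub : u • b = b) {c : Ω} (hc : c ∈ h.Th u) (hcb : c ∉ vb b V)
    (hccl : c ∈ h.cl b) : h.Th u ⊆ h.cl b := by
  intro d hd
  by_cases hdb : d ∈ vb b V
  · exact vb_sub_cl h b hdb
  obtain ⟨k, hk, y, hy, he⟩ := H_orbit h hT hu hu1 hua hub hc hd
    (fun x hx hxc => hcb ⟨x, hx, hxc⟩) (fun x hx hxd => hdb ⟨x, hx, hxd⟩)
  have h1 : d = y⁻¹ • k • c := by rw [he, inv_smul_smul]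
  rw [h1]
  exact W_smul_cl h (h.V_le_W (V.inv_mem hy)) (H_smul_cl h hT hk hccl)

theorem cl_ne_a (h : Geo a V q) (hb : b ≠ a) {c : Ω} (hc : c ∈ h.cl b) : c ≠ a := by
  obtain ⟨w, hw, rfl⟩ := hc
  exact Geo.smul_ne hw.1 hb

/-- a parity argument -/
theorem exists_mem (h : Geo a V (2 ^ k)) (hT : Tor a b V H) [Finite G] {u : G} (hu : u * u = 1)
    (hu1 : u ≠ 1) (hua : u • a = a) (hub : u • b = b) {n : ℕ} (hn : (h.cl b).ncard = 2 ^ n)
    (hkn : k < n) : ∃ c ∈ h.cl b, c ∉ vb b V ∧ c ∈ h.Th u := by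
  haveI := h.finite
  by_contra hcon
  push Not at hcon
  have huV := not_mem_V h hT.ne hu1 hub
  have huW := h.invol_mem_W hu hua
  let K : Subgroup G :=
    { carrier := {g | g ∈ V ∨ g * u ∈ V}
      mul_mem' := by
        rintro g g' (hg | hg) (hg' | hg')
        · exact Or.inl (V.mul_mem hg hg')
        · right; rw [mul_assoc]; exact V.mul_mem hg hg'
        · right
          have h1 : g * g' * u = g * u * g' := by
            rw [mul_assoc, ← huW.2 g' hg', mul_assoc]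
          rw [h1]; exact V.mul_mem hg hg'
        · left
          have h1 : g * g' = (g * u) * (g' * u) := by
            have h2 := huW.2 _ hg'
            calc g * g' = g * (u * u) * g' * (u * u) := by rw [hu]; group
              _ = g * u * (u * (g' * u)) * u := by group
              _ = g * u * ((g' * u) * u) * u := by rw [h2]
              _ = (g * u) * (g' * u) * (u * u) := by group
              _ = (g * u) * (g' * u) := by rw [hu, mul_one]
          rw [h1]; exact V.mul_mem hg hg'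
      one_mem' := Or.inl V.one_mem
      inv_mem' := by
        rintro g (hg | hg)
        · exact Or.inl (V.inv_mem hg)
        · right
          have h1 : g⁻¹ * u = (g * u)⁻¹ := by
            have h2 := huW.2 _ hg
            have h3 : u⁻¹ = u := inv_eq_of_mul_eq_one_right hu
            rw [mul_inv_rev, h3]
            have h4 : u * g = g * u := by
              calc u * g = u * (g * u) * u⁻¹ := by group
                _ = (g * u) * u * u⁻¹ := by rw [h2]
                _ = g * u := by group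
            rw [inv_mul_eq_iff_eq_mul, ← mul_assoc, ← h4]
            group
          rw [h1]; exact V.inv_mem hg }
  have hVK : V ≤ K := fun x hx => Or.inl hx
  have huK : u ∈ K := Or.inr (by rw [hu]; exact V.one_mem)
  have hrel : V.relIndex K = 2 := by
    rw [relIndex_eq_two_iff]
    refine ⟨u, huK, fun g hg => ?_⟩
    by_cases hgV : g ∈ V
    · right
      refine ⟨hgV, fun h1 => huV ?_⟩
      have := V.mul_mem (V.inv_mem hgV) h1
      simpa using this
    · left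
      exact ⟨hg.resolve_left hgV, hgV⟩
  have hcK : Nat.card K = 2 ^ k * 2 := by
    rw [← ThreeCore.Core.card_mul_relIndex hVK, hrel, h.card_V]
  have hdvd := index_dvd K ⊥ _ (h.cl b \ vb b V) rfl (by
    have hcl : ∀ g ∈ K, ∀ c ∈ h.cl b, g • c ∈ h.cl b := by
      rintro g (hg | hg) c hc
      · exact W_smul_cl h (h.V_le_W hg) hc
      · apply W_smul_cl h _ hc
        have := h.W.mul_mem (h.V_le_W hg) (h.W.inv_mem huW)
        simpa using this
    have hvb : ∀ g ∈ K, ∀ c ∈ vb b V, g • c ∈ vb b V := by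
      rintro g hg c ⟨x, hx, rfl⟩
      rcases hg with hg | hg
      · exact ⟨g * x, V.mul_mem hg hx, mul_smul _ _ _⟩
      · refine ⟨(g * u) * x, V.mul_mem hg hx, ?_⟩
        rw [mul_assoc, huW.2 x hx, mul_smul, mul_smul, hub]
    rintro g hg c ⟨hc, hcb⟩
    refine ⟨hcl g hg c hc, fun h1 => hcb ?_⟩
    have := hvb g⁻¹ (K.inv_mem hg) _ h1
    rwa [inv_smul_smul] at this) (by
    rintro c ⟨hc, hcb⟩ g hg hgc
    have hca := cl_ne_a h hT.ne hc
    rcases hg with hg | hg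
    · rw [h.eq_one_of_fix hg hca hgc]
      exact Subgroup.one_mem _
    · exfalso
      apply hcon c hc hcb
      refine ⟨hca, (g * u)⁻¹, V.inv_mem hg, ?_⟩
      have h1 : (g * u) • u • c = c := by
        rw [← mul_smul, mul_assoc, hu, mul_one, hgc]
      rw [eq_inv_smul_iff]
      exact h1)
  rw [relIndex_bot_left, hcK] at hdvd
  have h1 : (h.cl b \ vb b V).ncard + (vb b V).ncard = (h.cl b).ncard :=
    Set.ncard_sdiff_add_ncard_of_subset (vb_sub_cl h b) (Set.toFinite _)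
  rw [card_vb h hT.ne, hn] at h1
  have h2 : 2 ^ k * 2 ∣ 2 ^ n := by
    rw [← pow_succ]
    exact pow_dvd_pow 2 hkn
  have h3 : 2 ^ k * 2 ∣ 2 ^ k := by
    rw [← h1] at h2
    exact (Nat.dvd_add_right hdvd).mp h2
  have h4 := Nat.le_of_dvd (by positivity) h3
  have h5 : 0 < 2 ^ k := by positivity
  omega

/-- if `|cl b| = q ^ 2` then `Θ(u) = cl b` -/
theorem Th_eq_cl (h : Geo a V (2 ^ k)) (hT : Tor a b V H) [Finite G] {u : G} (hu : u * u = 1)
    (hu1 : u ≠ 1) (hua : u • a = a) (hub : u • b = b) (hn : (h.cl b).ncard = 2 ^ k * 2 ^ k) :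
    h.Th u = h.cl b := by
  haveI := h.finite
  have huV := not_mem_V h hT.ne hu1 hub
  have hk : k ≠ 0 := by
    rintro rfl
    have := h.four_le
    norm_num at this
  rw [← pow_add] at hn
  obtain ⟨c, hccl, hcvb, hcTh⟩ := exists_mem h hT hu hu1 hua hub hn (by omega)
  apply Set.eq_of_subset_of_ncard_le (Th_sub h hT hu hu1 hua hub hcTh hcvb hccl) _ (Set.toFinite _)
  rw [hn, h.card_Th hu hua huV, ← pow_add]


theorem card_H_orbit (h : Geo a V q) (hT : Tor a b V H) {x : G} (hx : x ∈ V) (hx1 : x ≠ 1) :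
    (MulAction.stabilizer G (x • b)).relIndex H = q - 1 := by
  have hbb : b ∈ vb b V := ⟨1, V.one_mem, one_smul _ _⟩
  rw [relIndex_stab, ← card_vb h hT.ne, ← Set.ncard_sdiff_singleton_of_mem hbb]
  congr 1
  ext d
  constructor
  · rintro ⟨k, hk, rfl⟩
    refine ⟨H_smul_vb h hT hk ⟨x, hx, rfl⟩, ?_⟩
    intro hd
    rw [Set.mem_singleton_iff] at hd
    apply hx1
    have h1 : x • b = b := by
      have h2 : k⁻¹ • b = b := by rw [inv_smul_eq_iff, hT.H_b k hk]
      have h3 : k⁻¹ • k • x • b = k⁻¹ • b := by rw [hd]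
      rwa [inv_smul_smul, h2] at h3
    exact h.eq_one_of_fix hx hT.ne h1
  · rintro ⟨⟨y, hy, rfl⟩, hd⟩
    have hy1 : y ≠ 1 := by
      rintro rfl
      exact hd (one_smul _ _)
    obtain ⟨k, hk, hky⟩ := hT.H_trans x hx hx1 y hy hy1
    refine ⟨k, hk, ?_⟩
    have h2 : k⁻¹ • b = b := by rw [inv_smul_eq_iff, hT.H_b k hk]
    rw [← hky, mul_smul, mul_smul, h2]

theorem exists_ne_one (h : Geo a V q) : ∃ x ∈ V, x ≠ 1 := by
  have h1 := h.four_le
  have h2 : V ≠ ⊥ := by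
    rintro rfl
    have := h.card_V
    rw [Subgroup.card_bot] at this
    omega
  obtain ⟨x, hx1⟩ := (Subgroup.ne_bot_iff_exists_ne_one).mp h2
  exact ⟨x, x.2, fun h3 => hx1 (Subtype.ext h3)⟩

theorem lam_cases (h : Geo a V (2 ^ k)) (hT : Tor a b V H) [Finite G] :
    (h.cl b).ncard = 2 ^ k ∨ (h.cl b).ncard = 2 ^ k * 2 ^ k ∨ (h.cl b).ncard = (2 ^ k) ^ 3 := by
  haveI := h.finite
  have hk : k ≠ 0 := by
    rintro rfl
    have := h.four_le
    norm_num at this
  have h1 : (h.cl b).ncard ∣ 2 ^ (k * 3) := by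
    rw [pow_mul]
    exact ⟨_, (h.card_cl_mul hT.ne).symm⟩
  obtain ⟨n, hn3, hn⟩ := (Nat.dvd_prime_pow Nat.prime_two).mp h1
  have h2 : 2 ^ k ≤ 2 ^ n := by
    rw [← hn]
    exact (card_vb h hT.ne).symm.le.trans (Set.ncard_le_ncard (vb_sub_cl h b) (Set.toFinite _))
  have hkn : k ≤ n := (Nat.pow_le_pow_iff_right (by norm_num)).mp h2
  obtain ⟨x, hx, hx1⟩ := exists_ne_one h
  have h3 := index_dvd H (MulAction.stabilizer G (x • b)) _ (h.cl b \ vb b V) rfl (by
    rintro g hg c ⟨hc, hcb⟩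
    refine ⟨H_smul_cl h hT hg hc, fun h1 => hcb ?_⟩
    have := H_smul_vb h hT (H.inv_mem hg) h1
    rwa [inv_smul_smul] at this) (by
    rintro c ⟨hc, hcb⟩ g hg hgc
    have h4 := hT.H_out g hg c (cl_ne_a h hT.ne hc) (fun x hx hxc => hcb ⟨x, hx, hxc⟩) hgc x hx
    rw [MulAction.mem_stabilizer_iff, ← mul_smul, h4, mul_smul, hT.H_b g hg])
  rw [card_H_orbit h hT hx hx1] at h3
  have h4 : (h.cl b \ vb b V).ncard + (vb b V).ncard = (h.cl b).ncard :=
    Set.ncard_sdiff_add_ncard_of_subset (vb_sub_cl h b) (Set.toFinite _)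
  rw [card_vb h hT.ne, hn] at h4
  obtain ⟨m, rfl⟩ := Nat.exists_eq_add_of_le hkn
  have h5 : (h.cl b \ vb b V).ncard = 2 ^ k * (2 ^ m - 1) := by
    rw [Nat.mul_sub, mul_one, ← pow_add]
    omega
  rw [h5] at h3
  have h6 : (2 ^ k - 1).Coprime (2 ^ k) := by
    have : 1 ≤ 2 ^ k := Nat.one_le_two_pow
    exact (Nat.coprime_self_sub_right this).mpr (Nat.coprime_one_right _) |>.symm
  have h7 : 2 ^ k - 1 ∣ 2 ^ m - 1 := h6.dvd_of_dvd_mul_left h3
  have h8 : k ∣ m := by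
    have h9 := Nat.pow_sub_one_gcd_pow_sub_one 2 k m
    rw [Nat.gcd_eq_left h7] at h9
    have h10 : 2 ^ k = 2 ^ Nat.gcd k m := by
      have e1 : 1 ≤ 2 ^ k := Nat.one_le_two_pow
      have e2 : 1 ≤ 2 ^ Nat.gcd k m := Nat.one_le_two_pow
      omega
    have h11 := Nat.pow_right_injective (le_refl 2) h10
    rw [h11]
    exact Nat.gcd_dvd_right _ _
  obtain ⟨j, rfl⟩ := h8
  have hj : j ≤ 2 := by
    by_contra hcon
    have : k * 3 ≤ k * j := Nat.mul_le_mul_left k (by omega)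
    omega
  rw [hn]
  interval_cases j
  · left; simp
  · right; left; rw [mul_one, pow_add]
  · right; right; rw [← pow_mul]; congr 1; ring

/-- the `W`-orbits do not have length `q` -/
theorem ne_q (h : Geo a V q) (hb : b ≠ a) [Finite G] : (h.cl b).ncard ≠ q := by
  haveI := h.finite
  intro hq
  have h1 : vb b V = h.cl b :=
    Set.eq_of_subset_of_ncard_le (vb_sub_cl h b) (by rw [hq]; exact (card_vb h hb).symm.le)
      (Set.toFinite _)
  obtain ⟨u, hu, hu1, hua, hub⟩ := h.pair b hb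
  have huV := not_mem_V h hb hu1 hub
  have h2 : {c : Ω | c ≠ a} ⊆ h.Th u := by
    intro c hc
    obtain ⟨m, hma, hmb⟩ := h.trans b c hb hc
    have h3 : (m⁻¹ * u * m) * (m⁻¹ * u * m) = 1 := by
      calc (m⁻¹ * u * m) * (m⁻¹ * u * m) = m⁻¹ * (u * u) * m := by group
        _ = 1 := by rw [hu]; group
    have h4 : (m⁻¹ * u * m) • a = a := by
      rw [mul_smul, mul_smul, hma, hua, Geo.inv_a hma]
    have h5 : (m⁻¹ * u * m) • b ∈ vb b V := by
      rw [h1]
      exact ⟨_, h.invol_mem_W h3 h4, rfl⟩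
    obtain ⟨x, hx, hxb⟩ := h5
    refine ⟨hc, m * x * m⁻¹, h.V_conj m hma x hx, ?_⟩
    rw [← hmb, ← mul_smul (m * x * m⁻¹), inv_mul_cancel_right, mul_smul m x b, hxb, mul_smul,
      mul_smul, smul_inv_smul]
  have h3 := Set.ncard_le_ncard h2 (Set.toFinite _)
  rw [h.card_pts, h.card_Th hu hua huV] at h3
  have h4 := h.four_le
  nlinarith

theorem conj_smul_b (h : Geo a V (2 ^ k)) (hT : Tor a b V H) [Finite G] {u : G} (hu : u * u = 1)
    (hu1 : u ≠ 1) (hua : u • a = a) (hub : u • b = b) (hn : (h.cl b).ncard = 2 ^ k * 2 ^ k)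
    {g : G} (hg : g ∈ h.W) : ∃ y ∈ V, (g * u * g⁻¹) • b = y • b := by
  have h1 : g⁻¹ • b ∈ h.Th u := by
    rw [Th_eq_cl h hT hu hu1 hua hub hn]
    exact ⟨g⁻¹, h.W.inv_mem hg, rfl⟩
  obtain ⟨_, x, hx, hxb⟩ := h1
  refine ⟨x, hx, ?_⟩
  rw [mul_smul, mul_smul, hxb, h.W_smul_V hg hx, smul_inv_smul]

end Cfsg.Agent.AschCrit.ThreeLam
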