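import Mathlib
import Cfsg.Agent.AschCrit.ThreeLam

/-!
# Aschbacher's criterion, commutative case, unital type: `|cl b| = q ^ 2`, counting

`odd_count` : an involution of `S` fixing `b` is unique, and every point of the `W`-orbit of `b` outside the
`V`-orbit of `b` is `t • b` for an involution `t ∈ S ∖ V`.
-/

set_option autoImplicit false

namespace Cfsg.Agent.AschCrit.ThreeOddA

open Subgroup Cfsg.Agent.AschCrit.ThreeGeo Cfsg.Agent.AschCrit.ThreeLam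

variable {G Ω : Type*} [Group G] [MulAction G Ω]
variable {a b : Ω} {V : Subgroup G} {k : ℕ}

/-- the involutions of `S` outside `V` -/
def KK (S V : Subgroup G) : Set G := {t | t ∈ S ∧ t * t = 1 ∧ t ∉ V}

/-- those fixing `b` -/
def II (S V : Subgroup G) (b : Ω) : Set G := {t | t ∈ KK S V ∧ t • b = b}

/-- those with `t • b ∈ V b` -/
def K1 (S V : Subgroup G) (b : Ω) : Set G := {t | t ∈ KK S V ∧ ∃ x ∈ V, x • b = t • b}

theorem card_count {q : ℕ} [Finite G] (h : Geo a V q) (hb : b ≠ a) (S : Subgroup G)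
    (hSa : ∀ s ∈ S, s • a = a) (hVS : V ≤ S)
    (hStr : ∀ c, c ≠ a → ∃ s ∈ S, s • b = c) :
    (KK S V).ncard * q = q ^ 3 * (II S V b).ncard := by
  haveI := h.finite
  set P : Set (G × Ω) := {p | p.1 ∈ KK S V ∧ p.2 ≠ a ∧ p.1 • p.2 = p.2} with hP
  -- first count
  have hex : ∀ t : KK S V, ∃ c : Ω, c ≠ a ∧ (t : G) • c = c := fun t =>
    h.ex_fix t t.2.2.1 (hSa _ t.2.1) t.2.2.2
  choose c0 hc0 hc0f using hex
  let F : KK S V × V → P := fun p => ⟨((p.1 : G), (p.2 : G) • c0 p.1), p.1.2,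
    Geo.smul_ne (h.V_a _ p.2.2) (hc0 _), by
      show (p.1 : G) • (p.2 : G) • c0 p.1 = (p.2 : G) • c0 p.1
      rw [h.W_smul_V (h.invol_mem_W p.1.2.2.1 (hSa _ p.1.2.1)) p.2.2, hc0f]⟩
  have hF : Function.Bijective F := by
    constructor
    · rintro ⟨t, x⟩ ⟨t', x'⟩ he
      have h1 := Prod.ext_iff.mp (Subtype.ext_iff.mp he)
      have h2 : t = t' := Subtype.ext h1.1
      subst h2
      have h3 : (x : G) • c0 t = (x' : G) • c0 t := h1.2
      have h4 : x = x' := Subtype.ext (h.eq_of_smul x.2 x'.2 (hc0 t) h3)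
      rw [h4]
    · rintro ⟨⟨t, c⟩, ht, hc, htc⟩
      have hne : t ≠ 1 := fun h1 => ht.2.2 (h1 ▸ V.one_mem)
      obtain ⟨x, hx, hxc⟩ := h.orb t ht.2.1 hne (hSa _ ht.1) (c0 ⟨t, ht⟩) c (hc0 _) hc
        (hc0f ⟨t, ht⟩) htc
      exact ⟨(⟨t, ht⟩, ⟨x, hx⟩), Subtype.ext (Prod.ext rfl hxc)⟩
  have e1 : Nat.card P = (KK S V).ncard * q := by
    rw [← Nat.card_congr (Equiv.ofBijective F hF), Nat.card_prod, h.card_V, Nat.card_coe_set_eq]
  -- second count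
  have hs : ∀ c : {c : Ω | c ≠ a}, ∃ s ∈ S, s • b = (c : Ω) := fun c => hStr c c.2
  choose s hsS hsb using hs
  have hconj : ∀ {g t : G}, g ∈ S → t ∈ KK S V → g * t * g⁻¹ ∈ KK S V := by
    rintro g t hg ⟨ht, htt, htV⟩
    refine ⟨S.mul_mem (S.mul_mem hg ht) (S.inv_mem hg), ?_, fun hV => htV ?_⟩
    · calc g * t * g⁻¹ * (g * t * g⁻¹) = g * (t * t) * g⁻¹ := by group
        _ = 1 := by rw [htt]; group
    · have h1 := h.V_conj g⁻¹ (Geo.inv_a (hSa g hg)) _ hV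
      have h2 : g⁻¹ * (g * t * g⁻¹) * g⁻¹⁻¹ = t := by group
      rwa [h2] at h1
  let F' : {c : Ω | c ≠ a} × II S V b → P := fun p =>
    ⟨(s p.1 * (p.2 : G) * (s p.1)⁻¹, (p.1 : Ω)), hconj (hsS p.1) p.2.2.1, p.1.2, by
      show (s p.1 * (p.2 : G) * (s p.1)⁻¹) • (p.1 : Ω) = (p.1 : Ω)
      have h1 : (s p.1)⁻¹ • (p.1 : Ω) = b := by rw [inv_smul_eq_iff, hsb]
      rw [mul_smul, mul_smul, h1, p.2.2.2, hsb]⟩
  have hF' : Function.Bijective F' := by
    constructor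
    · rintro ⟨c, t⟩ ⟨c', t'⟩ he
      have h1 := Prod.ext_iff.mp (Subtype.ext_iff.mp he)
      have h2 : c = c' := Subtype.ext h1.2
      subst h2
      have h3 : s c * (t : G) * (s c)⁻¹ = s c * (t' : G) * (s c)⁻¹ := h1.1
      have h4 : t = t' := Subtype.ext (mul_left_cancel (mul_right_cancel h3))
      rw [h4]
    · rintro ⟨⟨t, c⟩, ht, hc, htc⟩
      have htc' : t • c = c := htc
      refine ⟨(⟨c, hc⟩, ⟨(s ⟨c, hc⟩)⁻¹ * t * s ⟨c, hc⟩, ?_, ?_⟩), ?_⟩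
      · have := hconj (S.inv_mem (hsS ⟨c, hc⟩)) ht
        rwa [inv_inv] at this
      · rw [mul_smul, mul_smul, hsb]
        show (s ⟨c, hc⟩)⁻¹ • t • c = b
        rw [htc', inv_smul_eq_iff, hsb]
      · apply Subtype.ext
        apply Prod.ext
        · show s ⟨c, hc⟩ * ((s ⟨c, hc⟩)⁻¹ * t * s ⟨c, hc⟩) * (s ⟨c, hc⟩)⁻¹ = t
          group
        · rfl
  have e2 : Nat.card P = q ^ 3 * (II S V b).ncard := by
    rw [← Nat.card_congr (Equiv.ofBijective F' hF'), Nat.card_prod, Nat.card_coe_set_eq,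
      Nat.card_coe_set_eq, h.card_pts]
  rw [← e1, e2]

theorem card_K1 {q : ℕ} [Finite G] (h : Geo a V q) (hb : b ≠ a) (S : Subgroup G)
    (hSa : ∀ s ∈ S, s • a = a) (hVS : V ≤ S) :
    (K1 S V b).ncard = q * (II S V b).ncard := by
  let F : V × II S V b → K1 S V b := fun p => ⟨(p.1 : G) * (p.2 : G),
    ⟨S.mul_mem (hVS p.1.2) p.2.2.1.1, h.mul_sq p.2.2.1.2.1 (hSa _ p.2.2.1.1) p.1.2,
      h.mul_not_mem p.2.2.1.2.2 p.1.2⟩, p.1, p.1.2, by rw [mul_smul, p.2.2.2]⟩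
  have hF : Function.Bijective F := by
    constructor
    · rintro ⟨x, t⟩ ⟨x', t'⟩ he
      have h1 : (x : G) * (t : G) = (x' : G) * (t' : G) := Subtype.ext_iff.mp he
      have h2 : ((x : G) * (t : G)) • b = ((x' : G) * (t' : G)) • b := by rw [h1]
      rw [mul_smul, mul_smul, t.2.2, t'.2.2] at h2
      have h3 : x = x' := Subtype.ext (h.eq_of_smul x.2 x'.2 hb h2)
      subst h3
      have h4 : t = t' := Subtype.ext (mul_left_cancel h1)
      rw [h4]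
    · rintro ⟨t, ⟨htS, htt, htV⟩, x, hx, hxt⟩
      have hxi := h.inv_V hx
      refine ⟨(⟨x, hx⟩, ⟨x * t, ⟨S.mul_mem (hVS hx) htS, h.mul_sq htt (hSa _ htS) hx,
        h.mul_not_mem htV hx⟩, ?_⟩), Subtype.ext ?_⟩
      · rw [mul_smul, ← hxt, ← mul_smul, h.V_sq x hx, one_smul]
      · show x * (x * t) = t
        rw [← mul_assoc, h.V_sq x hx, one_mul]
  rw [← Nat.card_coe_set_eq, ← Nat.card_congr (Equiv.ofBijective F hF), Nat.card_prod, h.card_V,
    Nat.card_coe_set_eq]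

theorem inj_K2 {q : ℕ} (h : Geo a V q) (hb : b ≠ a) (S : Subgroup G)
    (hSa : ∀ s ∈ S, s • a = a) (hS2 : ∀ s ∈ S, ∃ n : ℕ, s ^ 2 ^ n = 1) {t t' : G}
    (ht : t ∈ KK S V) (ht' : t' ∈ KK S V) (hn : ∀ x ∈ V, x • b ≠ t • b)
    (he : t • b = t' • b) : t = t' := by
  by_contra hne
  obtain ⟨htS, htt, htV⟩ := ht
  obtain ⟨htS', htt', htV'⟩ := ht'
  have hti : t⁻¹ = t := inv_eq_of_mul_eq_one_right htt
  have hti' : t'⁻¹ = t' := inv_eq_of_mul_eq_one_right htt'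
  have hr1 : t * t' ≠ 1 := by
    intro h1
    apply hne
    rw [← hti']
    exact eq_inv_of_mul_eq_one_left h1
  have hrb : (t * t') • b = b := by
    rw [mul_smul, ← he, ← mul_smul, htt, one_smul]
  obtain ⟨m, hm1, hm2⟩ := exists_pow_invol (hS2 _ (S.mul_mem htS htS')) hr1
  have hinv : t * (t * t') * t⁻¹ = (t * t')⁻¹ := by
    rw [mul_inv_rev, hti', hti, ← mul_assoc, htt, one_mul]
  have hcomm : t * (t * t') ^ m * t⁻¹ = (t * t') ^ m := by
    rw [← conj_pow, hinv, inv_pow]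
    exact inv_eq_of_mul_eq_one_right hm1
  have hrb0 : (t * t') ^ m • b = b := pow_smul_eq hrb m
  have hrb1 : (t * t') ^ m • t • b = t • b := by
    have h1 : (t * t') ^ m * t = t * (t * t') ^ m := by
      have := mul_inv_eq_iff_eq_mul.mp hcomm
      exact this.symm
    rw [← mul_smul, h1, mul_smul, hrb0]
  obtain ⟨x, hx, hxb⟩ := h.orb _ hm1 hm2 (hSa _ (S.pow_mem (S.mul_mem htS htS') m)) b (t • b) hb
    (Geo.smul_ne (hSa t htS) hb) hrb0 hrb1
  exact hn x hx hxb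

theorem odd_count [Finite G] (h : Geo a V (2 ^ k)) (hb : b ≠ a) (S : Subgroup G)
    (hSa : ∀ s ∈ S, s • a = a) (hVS : V ≤ S) (hS2 : ∀ s ∈ S, ∃ n : ℕ, s ^ 2 ^ n = 1)
    (hStr : ∀ c, c ≠ a → ∃ s ∈ S, s • b = c) (hcl : (h.cl b).ncard = 2 ^ k * 2 ^ k)
    {u : G} (huS : u ∈ S) (hu : u * u = 1) (hu1 : u ≠ 1) (hub : u • b = b) :
    (∀ t ∈ S, t * t = 1 → t ≠ 1 → t • b = b → t = u) ∧
    (∀ c ∈ h.cl b, (∀ x ∈ V, x • b ≠ c) → ∃ t ∈ S, t * t = 1 ∧ t ∉ V ∧ t • b = c) := by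
  haveI := h.finite
  have h4 := h.four_le
  have huV := not_mem_V h hb hu1 hub
  have c1 := card_count h hb S hSa hVS hStr
  have c2 := card_K1 h hb S hSa hVS
  set q : ℕ := 2 ^ k with hq
  have hqpos : 0 < q := by omega
  have hsub1 : K1 S V b ⊆ KK S V := fun t ht => ht.1
  have c3 : (KK S V \ K1 S V b).ncard + (K1 S V b).ncard = (KK S V).ncard :=
    Set.ncard_sdiff_add_ncard_of_subset hsub1 (Set.toFinite _)
  have c4 : (h.cl b \ vb b V).ncard + (vb b V).ncard = (h.cl b).ncard :=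
    Set.ncard_sdiff_add_ncard_of_subset (vb_sub_cl h b) (Set.toFinite _)
  rw [card_vb h hb, hcl] at c4
  -- the map
  have hmaps : ∀ t ∈ KK S V \ K1 S V b, t • b ∈ h.cl b \ vb b V := by
    rintro t ⟨ht, ht1⟩
    refine ⟨⟨t, h.invol_mem_W ht.2.1 (hSa t ht.1), rfl⟩, ?_⟩
    rintro ⟨x, hx, hxb⟩
    exact ht1 ⟨ht, x, hx, hxb⟩
  have hinj : Set.InjOn (fun t : G => t • b) (KK S V \ K1 S V b) := by
    rintro t ⟨ht, ht1⟩ t' ⟨ht', -⟩ he
    exact inj_K2 h hb S hSa hS2 ht ht' (fun x hx hxb => ht1 ⟨ht, x, hx, hxb⟩) he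
  have c5 : (KK S V \ K1 S V b).ncard ≤ (h.cl b \ vb b V).ncard :=
    Set.ncard_le_ncard_of_injOn _ hmaps hinj (Set.toFinite _)
  have huI : u ∈ II S V b := ⟨⟨huS, hu, huV⟩, hub⟩
  have hipos : 0 < (II S V b).ncard := (Set.ncard_pos (Set.toFinite _)).mpr ⟨u, huI⟩
  set i := (II S V b).ncard with hi
  set N := (KK S V).ncard with hN
  set M := (KK S V \ K1 S V b).ncard with hM
  set L := (h.cl b \ vb b V).ncard with hL
  have c1' : N = q * q * i := by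
    have : N * q = (q * q * i) * q := by rw [c1]; ring
    exact Nat.eq_of_mul_eq_mul_right hqpos this
  have hi1 : i = 1 := by
    rw [c2, c1'] at c3
    by_contra hne
    have h2 : 2 ≤ i := by omega
    have hqq : 4 * q ≤ q * q := Nat.mul_le_mul_right q h4
    nlinarith
  have c6 : M = L := by
    rw [c2, c1', hi1] at c3
    nlinarith
  constructor
  · intro t htS htt ht1 htb
    have htI : t ∈ II S V b := ⟨⟨htS, htt, not_mem_V h hb ht1 htb⟩, htb⟩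
    rw [hi, Set.ncard_eq_one] at hi1
    obtain ⟨v, hv⟩ := hi1
    rw [hv] at huI htI
    rw [Set.mem_singleton_iff] at huI htI
    rw [htI, huI]
  · intro c hc hcv
    have himg : (fun t : G => t • b) '' (KK S V \ K1 S V b) = h.cl b \ vb b V := by
      apply Set.eq_of_subset_of_ncard_le
      · rintro _ ⟨t, ht, rfl⟩
        exact hmaps t ht
      · rw [Set.ncard_image_of_injOn hinj, ← hM, c6]
      · exact Set.toFinite _
    have hc' : c ∈ h.cl b \ vb b V := ⟨hc, by rintro ⟨x, hx, hxb⟩; exact hcv x hx hxb⟩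
    rw [← himg] at hc'
    obtain ⟨t, ⟨ht, -⟩, htc⟩ := hc'
    exact ⟨t, ht.1, ht.2.1, ht.2.2, htc⟩

end Cfsg.Agent.AschCrit.ThreeOddA
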