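import Mathlib
import Cfsg.Agent.AschCrit.ThreeLam

/-!
# Aschbacher's criterion, commutative case, unital type: `W`-orbits of length `q ^ 2`

The homocyclic subgroup `Q` of a Sylow 2-subgroup `S` of `G_a`, inverted by the involutions of
`S ∖ V`.
-/

set_option autoImplicit false

namespace Cfsg.Agent.AschCrit.ThreeOddB

open Subgroup Cfsg.Agent.AschCrit.ThreeGeo Cfsg.Agent.AschCrit.ThreeLam

variable {G Ω : Type*} [Group G] [MulAction G Ω]

structure Ctx (a b : Ω) (V S : Subgroup G) (k : ℕ) (u : G) : Prop where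
  geo : Geo a V (2 ^ k)
  hb : b ≠ a
  hSa : ∀ s ∈ S, s • a = a
  hVS : V ≤ S
  hS2 : ∀ s ∈ S, ∃ n : ℕ, s ^ 2 ^ n = 1
  hStr : ∀ c, c ≠ a → ∃ s ∈ S, s • b = c
  hcl : (geo.cl b).ncard = 2 ^ k * 2 ^ k
  huS : u ∈ S
  hu : u * u = 1
  hu1 : u ≠ 1
  hub : u • b = b
  hI : ∀ t ∈ S, t * t = 1 → t ≠ 1 → t • b = b → t = u
  hK : ∀ c ∈ geo.cl b, (∀ x ∈ V, x • b ≠ c) → ∃ t ∈ S, t * t = 1 ∧ t ∉ V ∧ t • b = c
  hTh : geo.Th u = geo.cl b
  hconj : ∀ g ∈ geo.W, ∃ y ∈ V, (g * u * g⁻¹) • b = y • b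

namespace Ctx

variable {a b : Ω} {V S : Subgroup G} {k : ℕ} {u : G}

theorem u_not_mem (h : Ctx a b V S k u) : u ∉ V := not_mem_V h.geo h.hb h.hu1 h.hub

theorem hua (h : Ctx a b V S k u) : u • a = a := h.hSa u h.huS

theorem u_W (h : Ctx a b V S k u) : u ∈ h.geo.W := h.geo.invol_mem_W h.hu h.hua

theorem inv_u (h : Ctx a b V S k u) : u⁻¹ = u := inv_eq_of_mul_eq_one_right h.hu

theorem V_conj' (h : Ctx a b V S k u) {s x : G} (hs : s ∈ S) : s * x * s⁻¹ ∈ V ↔ x ∈ V := by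
  constructor
  · intro h1
    have h2 := h.geo.V_conj s⁻¹ (h.hSa _ (S.inv_mem hs)) _ h1
    have h3 : s⁻¹ * (s * x * s⁻¹) * s⁻¹⁻¹ = x := by group
    rwa [h3] at h2
  · exact h.geo.V_conj s (h.hSa s hs) x

/-- the involutions of `S` outside `V` -/
def KS (_ : Ctx a b V S k u) : Set G := {t | t ∈ S ∧ t * t = 1 ∧ t ∉ V}

theorem u_KS (h : Ctx a b V S k u) : u ∈ h.KS := ⟨h.huS, h.hu, h.u_not_mem⟩

theorem KS_W (h : Ctx a b V S k u) {t : G} (ht : t ∈ h.KS) : t ∈ h.geo.W :=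
  h.geo.invol_mem_W ht.2.1 (h.hSa t ht.1)

theorem inv_KS (h : Ctx a b V S k u) {t : G} (ht : t ∈ h.KS) : t⁻¹ = t :=
  inv_eq_of_mul_eq_one_right ht.2.1

theorem KS_conj (h : Ctx a b V S k u) {s t : G} (hs : s ∈ S) (ht : t ∈ h.KS) :
    s * t * s⁻¹ ∈ h.KS := by
  refine ⟨S.mul_mem (S.mul_mem hs ht.1) (S.inv_mem hs), ?_, fun h1 => ht.2.2
    ((h.V_conj' hs).mp h1)⟩
  calc s * t * s⁻¹ * (s * t * s⁻¹) = s * (t * t) * s⁻¹ := by group
    _ = 1 := by rw [ht.2.1]; group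

theorem KS_conj' (h : Ctx a b V S k u) {s t : G} (hs : s ∈ S) (ht : s * t * s⁻¹ ∈ h.KS) :
    t ∈ h.KS := by
  have h1 := h.KS_conj (S.inv_mem hs) ht
  have h3 : s⁻¹ * (s * t * s⁻¹) * s⁻¹⁻¹ = t := by group
  rwa [h3] at h1

theorem KS_eq (h : Ctx a b V S k u) {t : G} (ht : t ∈ h.KS) (htb : t • b = b) : t = u := by
  refine h.hI t ht.1 ht.2.1 ?_ htb
  rintro rfl
  exact ht.2.2 V.one_mem

/-- all elements of `KS` are conjugate in `S` to `u` -/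
theorem KS_conj_u (h : Ctx a b V S k u) {t : G} (ht : t ∈ h.KS) : ∃ s ∈ S, t = s * u * s⁻¹ := by
  obtain ⟨c, hca, htc⟩ := h.geo.ex_fix t ht.2.1 (h.hSa t ht.1) ht.2.2
  obtain ⟨s, hs, rfl⟩ := h.hStr c hca
  refine ⟨s, hs, ?_⟩
  have h1 := h.KS_conj (S.inv_mem hs) ht
  rw [inv_inv] at h1
  have h2 := h.KS_eq h1 (by rw [mul_smul, mul_smul, htc, inv_smul_smul])
  rw [← h2]
  group

theorem exists_out (h : Ctx a b V S k u) : ∃ c ∈ h.geo.cl b, ∀ x ∈ V, x • b ≠ c := by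
  by_contra hcon
  push Not at hcon
  have h1 : h.geo.cl b ⊆ vb b V := fun c hc => by
    obtain ⟨x, hx, hxc⟩ := hcon c hc
    exact ⟨x, hx, hxc⟩
  haveI := h.geo.finite
  have h2 := Set.ncard_le_ncard h1 (Set.toFinite _)
  rw [h.hcl, card_vb h.geo h.hb] at h2
  have := h.geo.four_le
  nlinarith

/-- `S ∩ W ∩ G_b = {1, u}` -/
theorem stab_cases (h : Ctx a b V S k u) {t : G} (htS : t ∈ S) (htW : t ∈ h.geo.W)
    (htb : t • b = b) : t = 1 ∨ t = u := by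
  by_cases ht1 : t = 1
  · exact Or.inl ht1
  right
  have htu : t * u * t⁻¹ = u := by
    apply h.KS_eq (h.KS_conj htS h.u_KS)
    have : t⁻¹ • b = b := by rw [inv_smul_eq_iff, htb]
    rw [mul_smul, mul_smul, this, h.hub, htb]
  have htu' : t * u = u * t := by rwa [mul_inv_eq_iff_eq_mul] at htu
  obtain ⟨c, hc, hcb⟩ := h.exists_out
  have hc' := hc
  rw [← h.hTh] at hc'
  obtain ⟨hca, x, hx, hxc⟩ := hc'
  have h1 : (x * u) • c = c := by rw [mul_smul, hxc, ← mul_smul, h.geo.V_sq x hx, one_smul]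
  have h2 : (x * u) • t • c = t • c := by
    have h3 : x * u * t = t * (x * u) := by
      rw [mul_assoc, ← htu', ← mul_assoc, ← htW.2 x hx, mul_assoc]
    rw [← mul_smul, h3, mul_smul, h1]
  have hne : x * u ≠ 1 := by
    intro h3
    apply h.u_not_mem
    rw [mul_eq_one_iff_inv_eq] at h3
    rw [← h3]; exact V.inv_mem hx
  obtain ⟨y, hy, hyc⟩ := h.geo.orb (x * u) (h.geo.mul_sq h.hu h.hua hx) hne
    (by rw [mul_smul, h.hua, h.geo.V_a x hx]) c (t • c) hca (Geo.smul_ne htW.1 hca) h1 h2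
  have h3 : (t * t) • c = c := by
    rw [mul_smul, ← hyc, h.geo.W_smul_V htW hy, ← hyc, ← mul_smul, h.geo.V_sq y hy, one_smul]
  have h4 : t * t = 1 := by
    by_contra hne2
    obtain ⟨n, hn⟩ := h.hS2 (t * t) (S.mul_mem htS htS)
    obtain ⟨m, hm1, hm2⟩ := exists_pow_invol ⟨n, hn⟩ hne2
    have h5 : (t * t) • b = b := by rw [mul_smul, htb, htb]
    have h6 : (t * t) • a = a := by rw [mul_smul, htW.1, htW.1]
    obtain ⟨z, hz, hzc⟩ := h.geo.orb _ hm1 hm2 (pow_smul_eq h6 m) b c h.hb hca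
      (pow_smul_eq h5 m) (pow_smul_eq h3 m)
    exact hcb z hz hzc
  exact h.hI t htS h4 ht1 htb

theorem KS_inj (h : Ctx a b V S k u) {t t' : G} (ht : t ∈ h.KS) (ht' : t' ∈ h.KS)
    (he : t • b = t' • b) (hout : ∀ x ∈ V, x • b ≠ t • b) : t = t' := by
  by_contra hne
  have hr1 : t * t' ≠ 1 := by
    intro h1
    apply hne
    rw [← inv_eq_iff_mul_eq_one] at h1
    rw [← h1, h.inv_KS ht]
  have h1 : (t * t') • b = b := by
    rw [mul_smul, ← he, ← mul_smul, ht.2.1, one_smul]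
  have h2 : (t * t') • a = a := by rw [mul_smul, h.hSa t' ht'.1, h.hSa t ht.1]
  obtain ⟨n, hn⟩ := h.hS2 (t * t') (S.mul_mem ht.1 ht'.1)
  obtain ⟨m, hm1, hm2⟩ := exists_pow_invol ⟨n, hn⟩ hr1
  have h3 : t * (t * t') * t⁻¹ = (t * t')⁻¹ := by
    rw [mul_inv_rev, h.inv_KS ht, h.inv_KS ht', ← mul_assoc, ht.2.1, one_mul]
  have h4 : t * (t * t') ^ m * t⁻¹ = (t * t') ^ m := by
    rw [← conj_pow, h3, inv_pow]
    exact inv_eq_of_mul_eq_one_right hm1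
  have h5 : (t * t') ^ m • t • b = t • b := by
    rw [← mul_smul]
    have : (t * t') ^ m * t = t * (t * t') ^ m := by
      rw [← mul_inv_eq_iff_eq_mul.mp h4]
    rw [this, mul_smul, pow_smul_eq h1 m]
  obtain ⟨x, hx, hxb⟩ := h.geo.orb _ hm1 hm2 (pow_smul_eq h2 m) b (t • b) h.hb
    (Geo.smul_ne (h.hSa t ht.1) h.hb) (pow_smul_eq h1 m) h5
  exact hout x hx hxb

/-- exactly one of `g`, `g u` is an involution outside `V` -/
theorem exactly_u (h : Ctx a b V S k u) {g : G} (hgS : g ∈ S) (hgW : g ∈ h.geo.W) :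
    (g ∈ h.KS ∧ g * u ∉ h.KS) ∨ (g ∉ h.KS ∧ g * u ∈ h.KS) := by
  by_cases hg : ∀ x ∈ V, x • b ≠ g • b
  · obtain ⟨t, htS, ht2, htV, htb⟩ := h.hK (g • b) ⟨g, hgW, rfl⟩ hg
    have htK : t ∈ h.KS := ⟨htS, ht2, htV⟩
    have h1 : (t * g) • b = b := by
      rw [mul_smul, ← htb, ← mul_smul, ht2, one_smul]
    have htu : t * u ∉ h.KS := by
      intro h2
      have h3 : t = t * u := h.KS_inj htK h2 (by rw [mul_smul, h.hub]) (by rwa [htb])
      exact h.hu1 (by simpa using h3)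
    rcases h.stab_cases (S.mul_mem htS hgS) (h.geo.W.mul_mem (h.KS_W htK) hgW) h1 with h2 | h2
    · have h3 : g = t := by
        rw [← inv_eq_iff_mul_eq_one, h.inv_KS htK] at h2
        exact h2.symm
      subst h3
      exact Or.inl ⟨htK, htu⟩
    · have h3 : g = t * u := by rw [← h2, ← mul_assoc, ht2, one_mul]
      subst h3
      refine Or.inr ⟨htu, ?_⟩
      rwa [mul_assoc, h.hu, mul_one]
  · push Not at hg
    obtain ⟨x, hx, hxb⟩ := hg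
    have h1 : (x * g) • b = b := by
      rw [mul_smul, ← hxb, ← mul_smul, h.geo.V_sq x hx, one_smul]
    have hxu : x * u ∈ h.KS :=
      ⟨S.mul_mem (h.hVS hx) h.huS, h.geo.mul_sq h.hu h.hua hx, h.geo.mul_not_mem h.u_not_mem hx⟩
    rcases h.stab_cases (S.mul_mem (h.hVS hx) hgS)
      (h.geo.W.mul_mem (h.geo.V_le_W hx) hgW) h1 with h2 | h2
    · have h3 : g = x := by
        rw [← inv_eq_iff_mul_eq_one, h.geo.inv_V hx] at h2
        exact h2.symm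
      subst h3
      exact Or.inr ⟨fun h4 => h4.2.2 hx, hxu⟩
    · have h3 : g = x * u := by rw [← h2, ← mul_assoc, h.geo.V_sq x hx, one_mul]
      subst h3
      refine Or.inl ⟨hxu, fun h4 => ?_⟩
      rw [mul_assoc, h.hu, mul_one] at h4
      exact h4.2.2 hx

theorem exactly (h : Ctx a b V S k u) {g t : G} (hgS : g ∈ S) (hgW : g ∈ h.geo.W)
    (ht : t ∈ h.KS) :
    (g ∈ h.KS ∧ g * t ∉ h.KS) ∨ (g ∉ h.KS ∧ g * t ∈ h.KS) := by
  obtain ⟨s, hs, rfl⟩ := h.KS_conj_u ht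
  have hsa := h.hSa s hs
  have h1 : s⁻¹ * g * s ∈ S := S.mul_mem (S.mul_mem (S.inv_mem hs) hgS) hs
  have h2 : s⁻¹ * g * s ∈ h.geo.W := by
    have := h.geo.W_conj (Geo.inv_a hsa) hgW
    rwa [inv_inv] at this
  have e1 : s * (s⁻¹ * g * s) * s⁻¹ = g := by group
  have e2 : s * (s⁻¹ * g * s * u) * s⁻¹ = g * (s * u * s⁻¹) := by group
  rcases h.exactly_u h1 h2 with ⟨h3, h4⟩ | ⟨h3, h4⟩
  · left
    constructor
    · have := h.KS_conj hs h3
      rwa [e1] at this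
    · intro h5
      rw [← e2] at h5
      exact h4 (h.KS_conj' hs h5)
  · right
    constructor
    · intro h5
      rw [← e1] at h5
      exact h3 (h.KS_conj' hs h5)
    · have := h.KS_conj hs h4
      rwa [e2] at this

/-- the subgroup `Q` -/
def Q (h : Ctx a b V S k u) : Subgroup G where
  carrier := {g | g ∈ S ∧ g ∈ h.geo.W ∧ g ∉ h.KS}
  one_mem' := ⟨S.one_mem, h.geo.W.one_mem, fun h1 => h1.2.2 V.one_mem⟩
  inv_mem' := by
    rintro g ⟨h1, h2, h3⟩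
    refine ⟨S.inv_mem h1, h.geo.W.inv_mem h2, fun h4 => h3 ?_⟩
    have h5 := h.inv_KS h4
    rw [inv_inv] at h5
    rwa [h5]
  mul_mem' := by
    rintro g g' ⟨h1, h2, h3⟩ ⟨h1', h2', h3'⟩
    refine ⟨S.mul_mem h1 h1', h.geo.W.mul_mem h2 h2', ?_⟩
    have h4 : g' * u ∈ h.KS := by
      rcases h.exactly_u h1' h2' with h5 | h5
      · exact absurd h5.1 h3'
      · exact h5.2
    have h5 : g * (g' * u) ∈ h.KS := by
      rcases h.exactly h1 h2 h4 with h5 | h5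
      · exact absurd h5.1 h3
      · exact h5.2
    intro h6
    rcases h.exactly_u (S.mul_mem h1 h1') (h.geo.W.mul_mem h2 h2') with h7 | h7
    · apply h7.2
      rwa [mul_assoc]
    · exact h7.1 h6

theorem mem_Q (h : Ctx a b V S k u) {g : G} : g ∈ h.Q ↔ g ∈ S ∧ g ∈ h.geo.W ∧ g ∉ h.KS := Iff.rfl

theorem Q_conj (h : Ctx a b V S k u) {s g : G} (hs : s ∈ S) (hg : g ∈ h.Q) :
    s * g * s⁻¹ ∈ h.Q := by
  obtain ⟨h1, h2, h3⟩ := hg
  exact ⟨S.mul_mem (S.mul_mem hs h1) (S.inv_mem hs), h.geo.W_conj (h.hSa s hs) h2,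
    fun h4 => h3 (h.KS_conj' hs h4)⟩

theorem Q_inv (h : Ctx a b V S k u) {t g : G} (ht : t ∈ h.KS) (hg : g ∈ h.Q) :
    t * g * t⁻¹ = g⁻¹ := by
  obtain ⟨h1, h2, h3⟩ := hg
  have h4 : g * t ∈ h.KS := by
    rcases h.exactly h1 h2 ht with h5 | h5
    · exact absurd h5.1 h3
    · exact h5.2
  have h5 := h4.2.1
  rw [h.inv_KS ht, eq_inv_iff_mul_eq_one]
  have h6 : t * g * t * g = g⁻¹ * (g * t * (g * t)) * g := by group
  rw [h6, h5]
  group

theorem Q_comm (h : Ctx a b V S k u) {g g' : G} (hg : g ∈ h.Q) (hg' : g' ∈ h.Q) :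
    g * g' = g' * g := by
  have h1 := h.Q_inv h.u_KS (h.Q.mul_mem hg hg')
  have h2 : u * (g * g') * u⁻¹ = (u * g * u⁻¹) * (u * g' * u⁻¹) := by group
  rw [h2, h.Q_inv h.u_KS hg, h.Q_inv h.u_KS hg', ← mul_inv_rev] at h1
  exact (inv_injective h1).symm

theorem V_le_Q (h : Ctx a b V S k u) : V ≤ h.Q :=
  fun _ hx => ⟨h.hVS hx, h.geo.V_le_W hx, fun h1 => h1.2.2 hx⟩

theorem Q_mem_V (h : Ctx a b V S k u) {g : G} (hg : g ∈ h.Q) (hg2 : g * g = 1) : g ∈ V := by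
  by_contra h1
  exact hg.2.2 ⟨hg.1, hg2, h1⟩

theorem Q_sq (h : Ctx a b V S k u) {g : G} (hg : g ∈ h.Q) : g * g ∈ V := by
  obtain ⟨y, hy, hyb⟩ := h.hconj g hg.2.1
  have hK := h.KS_conj hg.1 h.u_KS
  have h1 : y * (g * u * g⁻¹) = u := by
    apply h.KS_eq
    · exact ⟨S.mul_mem (h.hVS hy) hK.1, h.geo.mul_sq hK.2.1 (h.hSa _ hK.1) hy,
        h.geo.mul_not_mem hK.2.2 hy⟩
    · rw [mul_smul, hyb, ← mul_smul, h.geo.V_sq y hy, one_smul]
  have h2 := h.Q_inv h.u_KS hg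
  have h3 : g * g = g * u * g⁻¹ * u := by
    have h4 : g = u * g⁻¹ * u := by
      have h5 := congrArg (fun z => z⁻¹) h2
      simp only [mul_inv_rev, inv_inv] at h5
      rw [h.inv_u] at h5
      rw [mul_assoc]
      exact h5.symm
    calc g * g = g * (u * g⁻¹ * u) := by rw [← h4]
      _ = g * u * g⁻¹ * u := by group
  have h5 : g * u * g⁻¹ = y⁻¹ * u := eq_inv_mul_iff_mul_eq.mpr h1
  rw [h3, h5, mul_assoc, h.hu, mul_one]
  exact V.inv_mem hy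

theorem card_Q (h : Ctx a b V S k u) : Nat.card h.Q = 2 ^ k * 2 ^ k := by
  haveI := h.geo.finite
  rw [← h.hcl, ← Nat.card_coe_set_eq]
  apply Nat.card_congr
  refine Equiv.ofBijective (fun g : h.Q => (⟨(g : G) • b, (g : G), g.2.2.1, rfl⟩ : h.geo.cl b)) ?_
  constructor
  · intro g g' he
    have h1 : (g : G) • b = (g' : G) • b := Subtype.ext_iff.mp he
    have h2 : ((g' : G)⁻¹ * g) • b = b := by rw [mul_smul, h1, inv_smul_smul]
    have h3 : (g' : G)⁻¹ * g ∈ h.Q := h.Q.mul_mem (h.Q.inv_mem g'.2) g.2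
    rcases h.stab_cases h3.1 h3.2.1 h2 with h4 | h4
    · rw [inv_mul_eq_one] at h4
      exact Subtype.ext h4.symm
    · rw [h4] at h3
      exact absurd h.u_KS h3.2.2
  · rintro ⟨c, hc⟩
    have h1 : ∃ g ∈ S, g ∈ h.geo.W ∧ g • b = c := by
      by_cases hcb : ∀ x ∈ V, x • b ≠ c
      · obtain ⟨t, htS, ht2, htV, htb⟩ := h.hK c hc hcb
        exact ⟨t, htS, h.KS_W ⟨htS, ht2, htV⟩, htb⟩
      · push Not at hcb
        obtain ⟨x, hx, hxb⟩ := hcb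
        exact ⟨x, h.hVS hx, h.geo.V_le_W hx, hxb⟩
    obtain ⟨g, hgS, hgW, hgc⟩ := h1
    rcases h.exactly_u hgS hgW with h2 | h2
    · exact ⟨⟨g * u, S.mul_mem hgS h.huS, h.geo.W.mul_mem hgW h.u_W, h2.2⟩,
        Subtype.ext (by show (g * u) • b = c; rw [mul_smul, h.hub, hgc])⟩
    · exact ⟨⟨g, hgS, hgW, h2.1⟩, Subtype.ext hgc⟩

end Ctx

end Cfsg.Agent.AschCrit.ThreeOddB
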