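import Cfsg.Agent.AschCrit.ThreeGeo

/-!
# Aschbacher's criterion, commutative case, unital type: `W`-orbits of length `q ^ 2`, `k` odd, the end

`Q` is a homocyclic group of exponent 4 and odd rank, normal in the Sylow 2-subgroup `S`, inverted by all
involutions of `S ∖ V`.  The determinant character of `S` on `Q` is `-1` at all these involutions; its kernel
contains no conjugate of an involution fixing two points, so `G` has a subgroup of index 2 by Thompson's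
transfer lemma.
-/

set_option autoImplicit false

namespace Cfsg.Agent.AschCrit.ThreeOddC

open Subgroup ThreeGeo

variable {G Ω : Type*} [Group G] [MulAction G Ω] {a b : Ω} {V : Subgroup G} {k : ℕ}

theorem neg_one_ne : (-1 : (ZMod 4)ˣ) ≠ 1 := by decide

theorem units_cases (x : (ZMod 4)ˣ) : x = 1 ∨ x = -1 := by
  revert x
  decide

/-- the end of the case `λ = q ^ 2`, `k` odd -/
theorem odd_end [Finite G] (h : Geo a V (2 ^ k)) (hk : Odd k) (hb : b ≠ a) (S : Sylow 2 G)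
    (hSa : ∀ s ∈ S, s • a = a) {u : G} (huS : u ∈ S) (hu : u * u = 1) (hu1 : u ≠ 1)
    (hub : u • b = b) (Q : Subgroup G) (hQS : Q ≤ (S : Subgroup G))
    (hQconj : ∀ s ∈ S, ∀ g ∈ Q, s * g * s⁻¹ ∈ Q)
    (hQcomm : ∀ g ∈ Q, ∀ g' ∈ Q, g * g' = g' * g) (hQcard : Nat.card Q = 2 ^ k * 2 ^ k)
    (hVQ : V ≤ Q) (hQsq : ∀ g ∈ Q, g * g ∈ V) (hQ1 : ∀ g ∈ Q, g * g = 1 → g ∈ V)
    (hinv : ∀ t ∈ S, t * t = 1 → t ∉ V → ∀ g ∈ Q, t * g * t⁻¹ = g⁻¹) :
    ∃ M : Subgroup G, M.Normal ∧ M.index = 2 := by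
  obtain ⟨χ, hχ⟩ := ThreeDet.exists_hom (S : Subgroup G) Q V hk hQconj hQcomm hQcard hVQ h.card_V
    hQ1 h.V_sq hQsq
  have huV : u ∉ V := fun huV => hb (h.V_free u huV hu1 b hub)
  have hχu : χ ⟨u, huS⟩ = -1 := hχ ⟨u, huS⟩ (hinv u huS hu huV)
  set S0 : Subgroup G := χ.ker.map (S : Subgroup G).subtype with hS0
  have hle : S0 ≤ (S : Subgroup G) := by
    rintro x ⟨y, _, rfl⟩
    exact y.2
  have hidx : S0.relIndex (S : Subgroup G) = 2 := by
    have hmem : ∀ s : (S : Subgroup G), (s : G) ∈ S0 ↔ χ s = 1 := by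
      intro s
      constructor
      · rintro ⟨y, hy, hys⟩
        have : y = s := Subtype.ext hys
        rw [← this]
        exact hy
      · intro hs
        exact ⟨s, hs, rfl⟩
    rw [relIndex_eq_two_iff]
    refine ⟨u, huS, fun s hs => ?_⟩
    have h1 : s * u ∈ S0 ↔ χ (⟨s, hs⟩ * ⟨u, huS⟩) = 1 := hmem (⟨s, hs⟩ * ⟨u, huS⟩)
    have h2 : s ∈ S0 ↔ χ ⟨s, hs⟩ = 1 := hmem ⟨s, hs⟩
    rw [h1, h2, map_mul, hχu]
    rcases units_cases (χ ⟨s, hs⟩) with h3 | h3
    · right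
      exact ⟨h3, by rw [h3]; decide⟩
    · left
      exact ⟨by rw [h3]; decide, by rw [h3]; decide⟩
  rcases Transfer.ThompsonTransfer.thompson_transfer S S0 hle hidx u (by rw [pow_two, hu]) with
    ⟨M, hM, hM2, -⟩ | ⟨g, hg⟩
  · exact ⟨M, hM, hM2⟩
  · exfalso
    have hgS : g * u * g⁻¹ ∈ S := hle hg
    have hsq : g * u * g⁻¹ * (g * u * g⁻¹) = 1 := by
      calc g * u * g⁻¹ * (g * u * g⁻¹) = g * (u * u) * g⁻¹ := by group
        _ = 1 := by rw [hu]; group
    have hgV : g * u * g⁻¹ ∈ V := by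
      by_contra hV
      have h1 := hχ ⟨g * u * g⁻¹, hgS⟩ (hinv _ hgS hsq hV)
      obtain ⟨y, hy, hyg⟩ := hg
      have h2 : y = ⟨g * u * g⁻¹, hgS⟩ := Subtype.ext hyg
      rw [h2] at hy
      have h3 : χ ⟨g * u * g⁻¹, hgS⟩ = 1 := hy
      rw [h3] at h1
      exact neg_one_ne h1.symm
    have hne : g * u * g⁻¹ ≠ 1 := by
      intro h1
      apply hu1
      calc u = g⁻¹ * (g * u * g⁻¹) * g := by group
        _ = 1 := by rw [h1]; group
    have e1 : g • a = a := h.V_free _ hgV hne (g • a) (by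
      rw [mul_smul, mul_smul, inv_smul_smul, hSa u huS])
    have e2 : g • b = a := h.V_free _ hgV hne (g • b) (by
      rw [mul_smul, mul_smul, inv_smul_smul, hub])
    exact hb (MulAction.injective g (e2.trans e1.symm))

end Cfsg.Agent.AschCrit.ThreeOddC
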