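import Cfsg.Agent.AschCrit.ThreeGeo
import Cfsg.Agent.AschCrit.CommFour.AdapterHyp

/-!
# Aschbacher's criterion, commutative case, unital type: the torus

`exists_tor` : for every point `a` there are a point `b` and a cyclic group `H` of odd order with
`ThreeGeo.Tor a b V_a H`.  `H` is a lift of the two-point stabiliser `L_{ab}` of the group `L ≅ L₂(q)`
induced by `⟨D ∩ C(u)⟩` on `Fix u`, `u` a bad involution of `G_a`.
-/

set_option autoImplicit false

universe u

namespace Cfsg.Agent.AschCrit.ThreeTor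

open Cfsg MulAction Subgroup
open Cfsg.Agent.TwoFusion.StronglyEmbeddedBasic Cfsg.Agent.AschCrit.Basic
open Cfsg.Agent.AschCrit.Basic.Setup Cfsg.Agent.AschCrit.Closed Cfsg.Agent.AschCrit.Descent
open Cfsg.Agent.AschCrit.NonIso Cfsg.Agent.AschCrit.BGroup Cfsg.Agent.AschCrit.InductLine
open Cfsg.Agent.AschCrit.RankOneTypes Cfsg.Agent.LieRecognition
open Cfsg.Agent.AschCrit.CommTypes Cfsg.Agent.AschCrit.CommFrame Cfsg.Agent.AschCrit.CommCase
open Cfsg.Agent.AschCrit.CommFour.Adapter Cfsg.Agent.AschCrit.CommFour.AdapterHyp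

variable {G Ω : Type u} [Group G] [Finite G] [MulAction G Ω] {z : G} {k : ℕ}

/-- `V_a` -/
abbrev VV (hC : CaseHyp G Ω z k 1) (a : Ω) : Subgroup G := vGrp hC.setup hC.faithful hC.comm a

theorem mem_VV (hC : CaseHyp G Ω z k 1) {a : Ω} {x : G} : x ∈ VV hC a ↔ x = 1 ∨ x ∈ At z a :=
  Iff.rfl

theorem smul_self (hC : CaseHyp G Ω z k 1) {a : Ω} {x : G} (hx : x ∈ VV hC a) : x • a = a := by
  rcases hx with rfl | hx
  · exact one_smul _ _
  · exact hx.2

theorem conjV (hC : CaseHyp G Ω z k 1) {g : G} {e e' : Ω} (hg : g • e = e') {x : G}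
    (hx : x ∈ VV hC e) : g * x * g⁻¹ ∈ VV hC e' := by
  rcases hx with rfl | hx
  · left; group
  · right
    rw [← hg]
    exact conj_mem_At g hx

theorem free (hC : CaseHyp G Ω z k 1) {e c : Ω} (hce : c ≠ e) {x y : G} (hx : x ∈ VV hC e)
    (hy : y ∈ VV hC e) (hxy : x • c = y • c) : x = y := by
  have h1 : y⁻¹ * x ∈ VV hC e := (VV hC e).mul_mem ((VV hC e).inv_mem hy) hx
  have h2 : (y⁻¹ * x) • c = c := by rw [mul_smul, hxy, inv_smul_smul]
  rcases h1 with h1 | h1
  · exact (inv_mul_eq_one.mp h1).symm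
  · exact absurd (hC.setup.uniq h1.1 h2 h1.2) hce

theorem card_VV (hC : CaseHyp G Ω z k 1) (hat : ∀ a : Ω, Nat.card (At z a) + 1 = 2 ^ k) (a : Ω) :
    Nat.card (VV hC a) = 2 ^ k := by
  rw [card_V hC.setup (fun x => mem_VV hC), hat]

theorem commV (hC : CaseHyp G Ω z k 1) (hat : ∀ a : Ω, Nat.card (At z a) + 1 = 2 ^ k) {u : G}
    (hu : Bad Ω u) {c : Ω} (hc : u • c = c) {x : G} (hx : x ∈ VV hC c) : u * x = x * u :=
  (commute_of_card hC.setup (fun x => mem_VV hC) (card_VV hC hat c)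
    (hC.card_atC u hu c hc) x hx).symm.eq

theorem fix_iff (hC : CaseHyp G Ω z k 1) (hat : ∀ a : Ω, Nat.card (At z a) + 1 = 2 ^ k) {u : G}
    (hu : Bad Ω u) {a b : Ω} (hba : b ≠ a) (ha : u • a = a) (hb : u • b = b) (c : Ω) :
    u • c = c ↔ c = a ∨ ∃ x ∈ VV hC a, x • b = c := by
  have hfin := hC.setup.finite_points
  have hinj : Function.Injective (fun x : VV hC a => (x : G) • b) := by
    intro x y hxy
    exact Subtype.ext (free hC hba x.2 y.2 hxy)
  have hnot : a ∉ Set.range (fun x : VV hC a => (x : G) • b) := by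
    rintro ⟨x, hx⟩
    apply hba
    have h1 : (x : G) • b = (x : G) • a := by
      rw [smul_self hC x.2]
      exact hx
    exact smul_left_cancel (x : G) h1
  have h1 : (insert a (Set.range (fun x : VV hC a => (x : G) • b))).ncard = 2 ^ k + 1 := by
    rw [Set.ncard_insert_of_notMem hnot (Set.toFinite _), ← Nat.card_coe_set_eq,
      Nat.card_range_of_injective hinj, card_VV hC hat]
  have h2 : {c : Ω | u • c = c}.ncard = 2 ^ k + 1 := by
    have := hC.card_fix u hu
    rw [pow_one] at this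
    exact this
  have h3 : insert a (Set.range (fun x : VV hC a => (x : G) • b)) ⊆ {c : Ω | u • c = c} := by
    rintro c (rfl | ⟨x, rfl⟩)
    · exact ha
    · show u • (x : G) • b = (x : G) • b
      rw [smul_smul, commV hC hat hu ha x.2, mul_smul, hb]
  have h4 := Set.eq_of_subset_of_ncard_le h3 (by rw [h1, h2]) (Set.toFinite _)
  have h5 : c ∈ {c : Ω | u • c = c} ↔ c ∈ insert a (Set.range (fun x : VV hC a => (x : G) • b)) := by
    rw [h4]
  rw [Set.mem_ofPred_eq] at h5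
  rw [h5, Set.mem_insert_iff]
  constructor
  · rintro (h6 | ⟨x, hx⟩)
    · exact Or.inl h6
    · exact Or.inr ⟨x, x.2, hx⟩
  · rintro (h6 | ⟨x, hx, hxc⟩)
    · exact Or.inl h6
    · exact Or.inr ⟨⟨x, hx⟩, hxc⟩

/-- the elements of `V_e`, `e ∈ Fix u`, lie in `dGen z (C(u))` -/
theorem mem_dGen_of (hC : CaseHyp G Ω z k 1) (hat : ∀ a : Ω, Nat.card (At z a) + 1 = 2 ^ k) {u : G}
    (hu : Bad Ω u) {e : Ω} (he : u • e = e) {x : G} (hx : x ∈ VV hC e) :
    x ∈ dGen z (centralizer ({u} : Set G)) := by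
  have h1 := commV hC hat hu he hx
  rcases hx with rfl | hx
  · exact one_mem _
  · exact mem_dGen hx.1 (mem_centralizer_singleton_iff.mpr h1.symm)

/-- an element fixing `Fix u` pointwise and centralising `V_a` commutes with `dGen z (C(u))` -/
theorem commute_all (hC : CaseHyp G Ω z k 1) (_hat : ∀ a : Ω, Nat.card (At z a) + 1 = 2 ^ k)
    {u : G} (_hu : Bad Ω u) {a : Ω} (ha : u • a = a) {w : G} (hw : ∀ c : Ω, u • c = c → w • c = c)
    (hwV : ∀ x ∈ VV hC a, w * x = x * w) :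
    ∀ g ∈ dGen z (centralizer ({u} : Set G)), g * w = w * g := by
  have hle : dGen z (centralizer ({u} : Set G)) ≤ centralizer ({w} : Set G) := by
    rw [dGen, closure_le]
    rintro d ⟨hd, hdu⟩
    rw [SetLike.mem_coe, mem_centralizer_singleton_iff]
    have hdu' : d * u = u * d := mem_centralizer_singleton_iff.mp hdu
    obtain ⟨e, he⟩ := hC.setup.ex hd
    have heu : u • e = e := hC.setup.fix_of_commute hd hdu'.symm he
    by_cases hea : e = a
    · subst hea
      exact (hwV d (Or.inr ⟨hd, he⟩)).symm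
    · have h1 : w * d * w⁻¹ ∈ VV hC e := conjV hC (hw e heu) (Or.inr ⟨hd, he⟩)
      have h2 : u • d • a = d • a := by rw [smul_smul, ← hdu', mul_smul, ha]
      have h3 : (w * d * w⁻¹) • a = d • a := by
        rw [mul_smul, mul_smul]
        have h4 : w⁻¹ • a = a := by rw [inv_smul_eq_iff, hw a ha]
        rw [h4, hw _ h2]
      have h4 := free hC (Ne.symm hea) h1 (Or.inr ⟨hd, he⟩) h3
      calc d * w = w * d * w⁻¹ * w := by rw [h4]
        _ = w * d := by group
  intro g hg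
  exact mem_centralizer_singleton_iff.mp (hle hg)

/-- for `c ∉ Fix u` there is exactly one `d ∈ D ∩ C(u)` with `d c = u c` -/
theorem exists_sw (hC : CaseHyp G Ω z k 1) (hat : ∀ a : Ω, Nat.card (At z a) + 1 = 2 ^ k)
    {u : G} (hu : Bad Ω u) {a : Ω} (ha : u • a = a) {c : Ω} (hc : u • c ≠ c) :
    ∃ d ∈ SwC z u c, ∀ d' ∈ SwC z u c, d' = d := by
  have := hC.simple
  have hR1 : ∀ y : G, IsConj z y → Commute y u → IsConj u (u * y) :=
    fun y hy hyu => isConj_mul hC.setup hC.faithful hC.nonIso hu hy hyu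
  have h1 := Count.card_at_eq_mul hC.setup hu.mul_self hR1 ha hc
  have h2 := hC.card_atC u hu a ha
  have h3 := hat c
  have h4 : 0 < Nat.card (AtC z u a) := by
    have : 4 ≤ 2 ^ k := by
      calc 4 = 2 ^ 2 := by norm_num
        _ ≤ 2 ^ k := Nat.pow_le_pow_right (by norm_num) hC.two_le
    omega
  have h5 : Nat.card (SwC z u c) = 1 := by
    have h6 : 1 * Nat.card (AtC z u a) = Nat.card (SwC z u c) * Nat.card (AtC z u a) := by
      rw [← h1, one_mul]
      omega
    exact (Nat.eq_of_mul_eq_mul_right h4 h6).symm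
  obtain ⟨h6, ⟨d⟩⟩ := Nat.card_eq_one_iff_unique.mp h5
  exact ⟨d.1, d.2, fun d' hd' => congrArg Subtype.val (h6.elim ⟨d', hd'⟩ d)⟩

/-- the point `b` and the group `H` -/
theorem exists_tor (hC : CaseHyp G Ω z k 1) (hat : ∀ a : Ω, Nat.card (At z a) + 1 = 2 ^ k)
    (hΩ : Nat.card Ω = (2 ^ k) ^ 3 + 1) (a : Ω) :
    ∃ (b : Ω) (H : Subgroup G), ThreeGeo.Tor a b (vGrp hC.setup hC.faithful hC.comm a) H := by
  have hsim := hC.simple
  have h := hC.setup
  obtain ⟨c₀, hc₀⟩ : ∃ c : Ω, c ≠ a := by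
    obtain ⟨p, q, hpq⟩ := h.nontriv
    by_cases hp : p = a
    · exact ⟨q, by rw [← hp]; exact hpq.symm⟩
    · exact ⟨p, hp⟩
  obtain ⟨u, hu, -, hua⟩ := hC.exists_bad_pair c₀ a hc₀
  obtain ⟨X, iX, iA, φ, hL⟩ := exists_line_bad hC hu
  have hXf := hL.finite
  have hXa := hL.faithful
  have hXs := hL.simple
  have hpts := mem_pts_centralizer_singleton h hu.mul_self
  obtain ⟨t, Q, hS, -, hQc, hinv⟩ := hL.rank ⟨a, (hpts a).mpr hua⟩
  set a' : pts Ω z (centralizer ({u} : Set G)) := ⟨a, (hpts a).mpr hua⟩ with ha'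
  set b' : pts Ω z (centralizer ({u} : Set G)) := t • a' with hb'
  have hba' : b' ≠ a' := RankOneBasic.t_smul_ne hS
  have hub : u • (b' : Ω) = (b' : Ω) := (hpts _).mp b'.2
  have hba : (b' : Ω) ≠ a := fun hh => hba' (Subtype.ext hh)
  have hi : (1 : ℕ) ≤ 2 := one_le_two
  have hcyc := isCyclic_of_le_two hS hL.four hinv hQc hC.two_le hi
  have hcardD := card_stab2_eq hS hL.four hinv hQc hC.two_le hi
  set D₀ : Subgroup X := stabilizer X a' ⊓ stabilizer X (t • a') with hD₀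
  obtain ⟨y, hy⟩ := hcyc.exists_generator
  obtain ⟨g, hg⟩ := hL.surj (y : X)
  -- the odd part
  obtain ⟨e, m, hm, hem⟩ : ∃ e m : ℕ, Odd m ∧ orderOf (g : G) = 2 ^ e * m :=
    Nat.exists_eq_two_pow_mul_odd (orderOf_pos (g : G)).ne'
  have hodd : Odd (2 ^ k - 1) :=
    Nat.Even.sub_odd Nat.one_le_two_pow ((Nat.even_pow' (by have := hC.two_le; omega)).mpr even_two)
      odd_one
  have hyodd : Nat.Coprime (Nat.card D₀) (2 ^ e) := by
    rw [hcardD]
    exact (Nat.Coprime.pow_left e (Nat.coprime_two_left.mpr hodd)).symm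
  set h₀ : dGen z (centralizer ({u} : Set G)) := g ^ 2 ^ e with hh₀
  have hφ₀ : φ h₀ = ((y ^ 2 ^ e : D₀) : X) := by
    rw [hh₀, map_pow, hg]
    rfl
  have hord : orderOf (h₀ : G) = m := by
    rw [hh₀, SubmonoidClass.coe_pow, orderOf_pow, hem]
    rw [Nat.gcd_eq_right (Dvd.intro _ rfl), Nat.mul_div_cancel_left _ (by positivity)]
  -- every element of `D₀` is the image of an element of `H`
  set H : Subgroup G := zpowers (h₀ : G) with hH
  have hHle : H ≤ dGen z (centralizer ({u} : Set G)) := by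
    rw [hH, zpowers_le]
    exact h₀.2
  have hHD : ∀ x : G, ∀ hx : x ∈ H, φ ⟨x, hHle hx⟩ ∈ D₀ := by
    intro x hx
    obtain ⟨n, hn⟩ := mem_zpowers_iff.mp hx
    have h1 : (⟨x, hHle hx⟩ : dGen z (centralizer ({u} : Set G))) = h₀ ^ n := by
      apply Subtype.ext
      rw [SubgroupClass.coe_zpow]
      exact hn.symm
    rw [h1, map_zpow, hφ₀]
    exact (((y ^ 2 ^ e) ^ n : D₀)).2
  have hsur : ∀ x ∈ D₀, ∃ g' : G, ∃ hg' : g' ∈ H, φ ⟨g', hHle hg'⟩ = x := by
    intro x hx
    obtain ⟨w, hw⟩ := (powCoprime hyodd).surjective ⟨x, hx⟩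
    obtain ⟨n, hn⟩ := mem_zpowers_iff.mp (hy w)
    refine ⟨(h₀ : G) ^ n, mem_zpowers_iff.mpr ⟨n, rfl⟩, ?_⟩
    have h1 : (⟨(h₀ : G) ^ n, hHle (mem_zpowers_iff.mpr ⟨n, rfl⟩)⟩ : dGen z (centralizer ({u} : Set G))) = h₀ ^ n := by
      apply Subtype.ext
      rw [SubgroupClass.coe_zpow]
    rw [h1, map_zpow, hφ₀]
    have h2 : (w ^ 2 ^ e : D₀) = ⟨x, hx⟩ := hw
    have h3 : ((y ^ 2 ^ e) ^ n : D₀) = ⟨x, hx⟩ := by
      rw [← h2, ← hn, ← zpow_natCast, ← zpow_natCast, ← zpow_mul, ← zpow_mul, mul_comm]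
    exact congrArg Subtype.val h3
  have hHa : ∀ x ∈ H, x • a = a := by
    intro x hx
    have h1 := (mem_inf.mp (hHD x hx)).1
    exact (map_smul_eq_iff hL ⟨x, hHle hx⟩ a'.2 a'.2).mp h1
  have hHb : ∀ x ∈ H, x • (b' : Ω) = b' := by
    intro x hx
    have h1 := (mem_inf.mp (hHD x hx)).2
    exact (map_smul_eq_iff hL ⟨x, hHle hx⟩ b'.2 b'.2).mp h1
  have hfix := fix_iff hC hat hu hba hua hub
  -- an element of `H` with three fixed points in `Fix u` centralises `V`
  have hthree : ∀ x ∈ H, ∀ c : Ω, u • c = c → c ≠ a → c ≠ (b' : Ω) → x • c = c →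
      ∀ v ∈ VV hC a, x * v = v * x := by
    intro x hx c huc hca hcb hxc v hv
    have h1 : φ ⟨x, hHle hx⟩ = 1 := by
      refine eq_one_of_le_two hS hL.four hinv hQc hC.two_le hi (b := a') (c := b')
        (d := ⟨c, (hpts c).mpr huc⟩) hba'.symm ?_ ?_ (mem_inf.mp (hHD x hx)).1
        (mem_inf.mp (hHD x hx)).2 ?_
      · exact fun hh => hca (congrArg Subtype.val hh).symm
      · exact fun hh => hcb (congrArg Subtype.val hh).symm
      · exact (map_smul_eq_iff hL ⟨x, hHle hx⟩ _ _).mpr hxc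
    have h2 := (map_eq_one_iff hL _).mp h1
    have h3 : x * v * x⁻¹ ∈ VV hC a := conjV hC (hHa x hx) hv
    have h4 : (x * v * x⁻¹) • (b' : Ω) = v • (b' : Ω) := by
      have h5 : x⁻¹ • (b' : Ω) = b' := by rw [inv_smul_eq_iff, hHb x hx]
      rw [mul_smul, mul_smul, h5]
      exact h2 _ ((hpts _).mpr ((hfix _).mpr (Or.inr ⟨v, hv, rfl⟩)))
    have h5 := free hC hba h3 hv h4
    calc x * v = x * v * x⁻¹ * x := by group
      _ = v * x := by rw [h5]
  refine ⟨b', H, ?_⟩
  refine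
    { ne := hba
      H_a := hHa
      H_b := hHb
      H_odd := by rw [hH, Nat.card_zpowers, hord]; exact hm
      H_cyc := inferInstance
      H_comm := ?_
      H_trans := ?_
      H_out := ?_
      H_norm := ?_ }
  · intro x hx w hwa hwb hwV
    refine commute_all hC hat hu hua ?_ hwV x (hHle hx)
    intro c hc
    rcases (hfix c).mp hc with rfl | ⟨v, hv, rfl⟩
    · exact hwa
    · rw [smul_smul, hwV v hv, mul_smul, hwb]
  · intro x hx hx1 y' hy' hy1
    -- the involutions of `X_a`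
    have hinvol : ∀ v : G, ∀ hv : v ∈ VV hC a, v ≠ 1 →
        φ ⟨v, mem_dGen_of hC hat hu hua hv⟩ ∈ involutionsIn (stabilizer X a' : Set X) := by
      intro v hv hv1
      refine ⟨?_, ?_, ?_⟩
      · exact (map_smul_eq_iff hL ⟨v, mem_dGen_of hC hat hu hua hv⟩ a'.2 a'.2).mpr
          (smul_self hC hv)
      · intro hh
        have h1 := (map_eq_one_iff hL _).mp hh b' b'.2
        exact hv1 (free hC hba hv (one_mem _) (by rw [one_smul]; exact h1))
      · rw [← map_mul]
        have h1 : (⟨v, mem_dGen_of hC hat hu hua hv⟩ : dGen z (centralizer ({u} : Set G))) *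
            ⟨v, mem_dGen_of hC hat hu hua hv⟩ = 1 := by
          apply Subtype.ext
          rcases hv with rfl | hv
          · exact mul_one 1
          · exact h.mul_self hv.1
        rw [h1, map_one]
    obtain ⟨d, hd, hdx⟩ := RankOneTypes.exists_conj hS (hinvol x hx hx1) (hinvol y' hy' hy1)
    obtain ⟨g', hg', rfl⟩ := hsur d hd
    refine ⟨g', hg', ?_⟩
    refine free hC hba (conjV hC (hHa g' hg') hx) hy' ?_
    have h1 : φ ⟨g' * x * g'⁻¹, mul_mem (mul_mem (hHle hg') (mem_dGen_of hC hat hu hua hx))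
        (inv_mem (hHle hg'))⟩ = φ ⟨y', mem_dGen_of hC hat hu hua hy'⟩ := by
      rw [← hdx, ← map_inv, ← map_mul, ← map_mul]
      rfl
    have h2 := hL.compat ⟨g' * x * g'⁻¹, mul_mem (mul_mem (hHle hg') (mem_dGen_of hC hat hu hua hx))
        (inv_mem (hHle hg'))⟩ b'
    have h3 := hL.compat ⟨y', mem_dGen_of hC hat hu hua hy'⟩ b'
    rw [h1, h3] at h2
    exact h2.symm
  · intro x hx c hca hcV hxc v hv
    have huc : u • c ≠ c := by
      intro hh
      rcases (hfix c).mp hh with h1 | ⟨v', hv', h1⟩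
      · exact hca h1
      · exact hcV v' hv' h1
    have hxu : x * u = u * x := mem_centralizer_singleton_iff.mp (dGen_le z _ (hHle hx))
    obtain ⟨d, ⟨⟨hd, hdc⟩, hdu⟩, hduniq⟩ := exists_sw hC hat hu hua huc
    have h1 : x * d * x⁻¹ ∈ SwC z u c := by
      refine ⟨⟨conj_mem hd x, ?_⟩, ?_⟩
      · have h2 : x⁻¹ • c = c := by rw [inv_smul_eq_iff, hxc]
        rw [mul_smul, mul_smul, h2, hdc, smul_smul, hxu, mul_smul, hxc]
      · show x * d * x⁻¹ * u = u * (x * d * x⁻¹)
        have h2 : x⁻¹ * u = u * x⁻¹ := by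
          rw [inv_mul_eq_iff_eq_mul, ← mul_assoc, hxu]; group
        calc x * d * x⁻¹ * u = x * d * (x⁻¹ * u) := by group
          _ = x * (d * u) * x⁻¹ := by rw [h2]; group
          _ = x * u * d * x⁻¹ := by rw [hdu.eq]; group
          _ = u * (x * d * x⁻¹) := by rw [hxu]; group
    have h2 := hduniq _ h1
    have hxd : x * d = d * x := by
      calc x * d = x * d * x⁻¹ * x := by group
        _ = d * x := by rw [h2]
    obtain ⟨e', he'⟩ := h.ex hd
    have hue' : u • e' = e' := h.fix_of_commute hd hdu.symm he'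
    have hxe' : x • e' = e' := h.fix_of_commute hd hxd he'
    have hfixd : ∀ p : Ω, u • p = p → u • d • p = d • p := by
      intro p hp
      rw [smul_smul, ← hdu.eq, mul_smul, hp]
    by_cases hea : e' = a
    · subst hea
      refine hthree x hx (d • (b' : Ω)) (hfixd _ hub) ?_ ?_ ?_ v hv
      · intro hh
        apply hba
        have h3 : d • (b' : Ω) = d • e' := by rw [hh, he']
        exact smul_left_cancel d h3
      · intro hh
        exact hba (h.uniq hd hh he')
      · rw [smul_smul, hxd, mul_smul, hHb x hx]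
    · by_cases heb : e' = (b' : Ω)
      · refine hthree x hx (d • a) (hfixd _ hua) ?_ ?_ ?_ v hv
        · intro hh
          exact hea (h.uniq hd he' hh)
        · intro hh
          apply hea
          have h3 : d • a = d • e' := by rw [hh, he', heb]
          exact (smul_left_cancel d h3).symm
        · rw [smul_smul, hxd, mul_smul, hHa x hx]
      · exact hthree x hx e' hue' hea heb hxe' v hv
  · intro g' hg'a hg'b x hx
    -- `g'` normalises `dGen`
    have hgfix : ∀ c : Ω, u • c = c → u • g' • c = g' • c := by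
      intro c hc
      rcases (hfix c).mp hc with rfl | ⟨v, hv, rfl⟩
      · rw [hg'a]; exact hua
      · refine (hfix _).mpr (Or.inr ⟨g' * v * g'⁻¹, conjV hC hg'a hv, ?_⟩)
        have h1 : g'⁻¹ • (b' : Ω) = b' := by rw [inv_smul_eq_iff, hg'b]
        rw [mul_smul, mul_smul, h1]
    have hnorm : ∀ x ∈ dGen z (centralizer ({u} : Set G)), g' * x * g'⁻¹ ∈ dGen z (centralizer ({u} : Set G)) := by
      have hle : dGen z (centralizer ({u} : Set G)) ≤ (dGen z (centralizer ({u} : Set G))).comap (MulAut.conj g').toMonoidHom := by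
        conv_lhs => rw [dGen]
        rw [closure_le]
        rintro d ⟨hd, hdC⟩
        have hdu : d * u = u * d := mem_centralizer_singleton_iff.mp hdC
        obtain ⟨e', he'⟩ := h.ex hd
        have hue' : u • e' = e' := h.fix_of_commute hd hdu.symm he'
        show g' * d * g'⁻¹ ∈ dGen z (centralizer ({u} : Set G))
        exact mem_dGen_of hC hat hu (hgfix e' hue') (conjV hC rfl (Or.inr ⟨hd, he'⟩))
      intro x hx
      exact hle hx
    have h1 := hnorm x (hHle hx)
    have hxa : (g' * x * g'⁻¹) • a = a := by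
      have h2 : g'⁻¹ • a = a := by rw [inv_smul_eq_iff, hg'a]
      rw [mul_smul, mul_smul, h2, hHa x hx, hg'a]
    have hxb : (g' * x * g'⁻¹) • (b' : Ω) = b' := by
      have h2 : g'⁻¹ • (b' : Ω) = b' := by rw [inv_smul_eq_iff, hg'b]
      rw [mul_smul, mul_smul, h2, hHb x hx, hg'b]
    have h2 : φ ⟨g' * x * g'⁻¹, h1⟩ ∈ D₀ := by
      refine mem_inf.mpr ⟨?_, ?_⟩
      · exact (map_smul_eq_iff hL ⟨g' * x * g'⁻¹, h1⟩ a'.2 a'.2).mpr hxa
      · exact (map_smul_eq_iff hL ⟨g' * x * g'⁻¹, h1⟩ b'.2 b'.2).mpr hxb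
    obtain ⟨h', hh', hφh'⟩ := hsur _ h2
    refine ⟨h', hh', ?_⟩
    intro v hv
    refine free hC hba (conjV hC hxa hv) (conjV hC (hHa h' hh') hv) ?_
    have hpv : v • (b' : Ω) ∈ pts Ω z (centralizer ({u} : Set G)) :=
      (hpts _).mpr ((hfix _).mpr (Or.inr ⟨v, hv, rfl⟩))
    have h3 := hL.compat ⟨g' * x * g'⁻¹, h1⟩ ⟨v • (b' : Ω), hpv⟩
    have h4 := hL.compat ⟨h', hHle hh'⟩ ⟨v • (b' : Ω), hpv⟩
    rw [hφh', h3] at h4
    have h5 : (g' * x * g'⁻¹)⁻¹ • (b' : Ω) = b' := by rw [inv_smul_eq_iff, hxb]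
    have h6 : h'⁻¹ • (b' : Ω) = b' := by rw [inv_smul_eq_iff, hHb h' hh']
    have h7 : (h' * v * h'⁻¹) • (b' : Ω) = h' • v • (b' : Ω) := by
      rw [mul_smul, mul_smul, h6]
    rw [mul_smul, mul_smul, h5, h7]
    exact h4

end Cfsg.Agent.AschCrit.ThreeTor
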