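import Mathlib
import Cfsg.Agent.AschCrit.ThreeOddA
import Cfsg.Agent.AschCrit.ThreeOddB
import Cfsg.Agent.AschCrit.ThreeOddC
import Cfsg.Agent.AschCrit.ThreeMid
import Cfsg.Agent.AschCrit.ThreeFull
import Cfsg.Agent.AschCrit.ThreeHyp
import Cfsg.Agent.AschCrit.ThreeTor

/-!
# Aschbacher's criterion: the commutative case (c3), unital type
-/

set_option autoImplicit false

universe u

open Subgroup

namespace Cfsg.Agent.AschCrit.CommThree

open Cfsg.Agent.TwoFusion.StronglyEmbeddedBasic Cfsg.Agent.AschCrit.Basic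
open Cfsg.Agent.AschCrit.Basic.Setup Cfsg.Agent.AschCrit.Closed Cfsg.Agent.AschCrit.Descent
open Cfsg.Agent.AschCrit.NonIso Cfsg.Agent.AschCrit.BGroup Cfsg.Agent.AschCrit.CommTypes
open Cfsg.Agent.AschCrit.CommFrame Cfsg.Agent.AschCrit.CommCase
open Cfsg.Agent.AschCrit.ThreeGeo Cfsg.Agent.AschCrit.ThreeLam

/-- a Sylow 2-subgroup of `G` in `G_a`, containing a given 2-subgroup of `G_a` -/
theorem odd_case {G Ω : Type*} [Group G] [Finite G] [MulAction G Ω] {a b : Ω} {V H : Subgroup G}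
    {k : ℕ} (hG : Geo a V (2 ^ k)) (hT : Tor a b V H) (hk : Odd k)
    (hcl : (hG.cl b).ncard = 2 ^ k * 2 ^ k) (hodd : Odd (MulAction.stabilizer G a).index) :
    ∃ M : Subgroup G, M.Normal ∧ M.index = 2 := by
  have hf2 : Fact (Nat.Prime 2) := ⟨Nat.prime_two⟩
  obtain ⟨u, hu, hu1, hua, hub⟩ := hG.pair b hT.ne
  have huV := not_mem_V hG hT.ne hu1 hub
  -- a Sylow subgroup of `stabilizer a` containing `u`
  have hz : IsPGroup 2 (zpowers (⟨u, hua⟩ : MulAction.stabilizer G a)) := by
    rintro ⟨x, n, rfl⟩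
    refine ⟨1, ?_⟩
    apply Subtype.ext
    show ((⟨u, hua⟩ : MulAction.stabilizer G a) ^ n) ^ 2 ^ 1 = 1
    have h2 : (⟨u, hua⟩ : MulAction.stabilizer G a) ^ 2 = 1 := Subtype.ext (by
      show u ^ 2 = 1
      rw [pow_two, hu])
    rw [pow_one, ← zpow_natCast, ← zpow_mul, mul_comm, zpow_mul]
    simp [h2]
  obtain ⟨P, hP⟩ := hz.exists_le_sylow
  -- as a Sylow subgroup of `G`
  have hPG : IsPGroup 2 ((P : Subgroup (MulAction.stabilizer G a)).map
      (MulAction.stabilizer G a).subtype) := P.2.map _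
  have hPi : ¬ 2 ∣ ((P : Subgroup (MulAction.stabilizer G a)).map
      (MulAction.stabilizer G a).subtype).index := by
    rw [Subgroup.index_map_subtype]
    intro h1
    rcases (Nat.Prime.dvd_mul Nat.prime_two).mp h1 with h2 | h2
    · exact P.not_dvd_index h2
    · exact (Nat.not_even_iff_odd.mpr hodd) (even_iff_two_dvd.mpr h2)
  let S : Sylow 2 G := hPG.toSylow hPi
  have hSP : (S : Subgroup G) = (P : Subgroup (MulAction.stabilizer G a)).map
      (MulAction.stabilizer G a).subtype := rfl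
  have hSa : ∀ s ∈ (S : Subgroup G), s • a = a := by
    intro s hs
    rw [hSP] at hs
    obtain ⟨t, -, rfl⟩ := hs
    exact t.2
  have huS : u ∈ (S : Subgroup G) := by
    rw [hSP]
    exact ⟨⟨u, hua⟩, hP (mem_zpowers _), rfl⟩
  have hSK : (S : Subgroup G) ≤ MulAction.stabilizer G a := hSa
  have hV2 : IsPGroup 2 V := by
    intro x
    exact ⟨1, by rw [pow_one, pow_two]; exact Subtype.ext (hG.V_sq x x.2)⟩
  have hVS : V ≤ (S : Subgroup G) := by
    have h1 : (S : Subgroup G) ≤ normalizer (V : Set G) := by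
      rw [le_normalizer_iff]
      intro g hg x hx
      exact hG.V_conj g (hSa g hg) x hx
    have h2 : IsPGroup 2 ((S : Subgroup G) ⊔ V : Subgroup G) := S.2.to_sup_of_normal_right' hV2 h1
    have h3 := S.3 h2 le_sup_left
    exact le_sup_right.trans h3.le
  have hoddS : Odd ((S : Subgroup G).relIndex (MulAction.stabilizer G a)) := by
    have h1 := relIndex_mul_index hSK
    rw [← Nat.not_even_iff_odd, even_iff_two_dvd]
    intro h2
    exact S.not_dvd_index (h1 ▸ h2.mul_right _)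
  have hStr : ∀ c, c ≠ a → ∃ s ∈ (S : Subgroup G), s • b = c := by
    intro c hc
    obtain ⟨g, hga, hgb⟩ := hG.trans b c hT.ne hc
    obtain ⟨s, hs, hsb⟩ := trans_of_odd (S : Subgroup G) (MulAction.stabilizer G a) hSK hoddS b
      (k * 3) (by rw [hG.relIndex_stab_a hT.ne, pow_mul]) g hga
    exact ⟨s, hs, hsb.trans hgb⟩
  have hS2 : ∀ s ∈ (S : Subgroup G), ∃ n : ℕ, s ^ 2 ^ n = 1 := by
    intro s hs
    obtain ⟨n, hn⟩ := S.2 ⟨s, hs⟩
    exact ⟨n, Subtype.ext_iff.mp hn⟩
  obtain ⟨hI, hK⟩ := ThreeOddA.odd_count hG hT.ne (S : Subgroup G) hSa hVS hS2 hStr hcl huS hu hu1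
    hub
  have c : ThreeOddB.Ctx a b V (S : Subgroup G) k u :=
    { geo := hG, hb := hT.ne, hSa := hSa, hVS := hVS, hS2 := hS2, hStr := hStr, hcl := hcl,
      huS := huS, hu := hu, hu1 := hu1, hub := hub, hI := hI, hK := hK,
      hTh := Th_eq_cl hG hT hu hu1 hua hub hcl,
      hconj := fun g hg => conj_smul_b hG hT hu hu1 hua hub hcl hg }
  exact ThreeOddC.odd_end hG hk hT.ne S hSa huS hu hu1 hub c.Q (fun g hg => hg.1)
    (fun s hs g hg => c.Q_conj hs hg) (fun g hg g' hg' => c.Q_comm hg hg') c.card_Q c.V_le_Q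
    (fun g hg => c.Q_sq hg) (fun g hg h1 => c.Q_mem_V hg h1)
    (fun t ht ht2 htV g hg => c.Q_inv ⟨ht, ht2, htV⟩ hg)

/-- **Case (c3)** -/
theorem caseThree : ∀ (G Ω : Type u) [Group G] [Finite G] [MulAction G Ω] (z : G) (k : ℕ),
    CaseHyp G Ω z k 1 → (∀ a : Ω, Nat.card (At z a) + 1 = 2 ^ k) →
    Nat.card Ω = (2 ^ k) ^ 3 + 1 → False := by
  intro G Ω _ _ _ z k hC hat hΩ
  have hf2 : Fact (Nat.Prime 2) := ⟨Nat.prime_two⟩
  haveI : IsSimpleGroup G := hC.simple
  obtain ⟨a, -⟩ := hC.setup.exists_fix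
  have hG := ThreeHyp.geo hC hat hΩ a
  obtain ⟨b, H, hT⟩ := ThreeTor.exists_tor hC hat hΩ a
  have hodd := Cfsg.Agent.AschCrit.Transfer.odd_index_stabilizer hC.setup a
  have hna := Cfsg.Agent.AschCrit.Transfer.exists_noncomm hC.setup
  have hidx : ¬ ∃ M : Subgroup G, M.Normal ∧ M.index = 2 := by
    rintro ⟨M, hM, hM2⟩
    rcases hM.eq_bot_or_eq_top with h1 | h1
    · rw [h1, index_bot] at hM2
      obtain ⟨x, y, hxy⟩ := hna
      apply hxy
      haveI : IsCyclic G := isCyclic_of_prime_card hM2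
      exact (IsCyclic.commGroup (α := G)).mul_comm x y
    · rw [h1, index_top] at hM2
      exact absurd hM2 (by norm_num)
  rcases lam_cases hG hT with h1 | h1 | h1
  · exact ne_q hG hT.ne h1
  · rcases Nat.even_or_odd k with hk | hk
    · exact ThreeMid.even_false hG hT hk h1
    · exact hidx (odd_case hG hT hk h1 hodd)
  · -- `W` is transitive on the points `≠ a`
    haveI := hG.finite
    have h2 : hG.cl b = {c : Ω | c ≠ a} := by
      have hsub : hG.cl b ⊆ {c : Ω | c ≠ a} := fun c hc => cl_ne_a hG hT.ne hc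
      exact Set.eq_of_subset_of_ncard_le hsub (by rw [h1, hG.card_pts]) (Set.toFinite _)
    -- a Sylow subgroup in the stabiliser of `a`
    obtain ⟨P⟩ : Nonempty (Sylow 2 (MulAction.stabilizer G a)) := inferInstance
    have hPG : IsPGroup 2 ((P : Subgroup (MulAction.stabilizer G a)).map
        (MulAction.stabilizer G a).subtype) := P.2.map _
    have hPi : ¬ 2 ∣ ((P : Subgroup (MulAction.stabilizer G a)).map
        (MulAction.stabilizer G a).subtype).index := by
      rw [Subgroup.index_map_subtype]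
      intro h1
      rcases (Nat.Prime.dvd_mul Nat.prime_two).mp h1 with h2 | h2
      · exact P.not_dvd_index h2
      · exact (Nat.not_even_iff_odd.mpr hodd) (even_iff_two_dvd.mpr h2)
    let S : Sylow 2 G := hPG.toSylow hPi
    have hSP : (S : Subgroup G) = (P : Subgroup (MulAction.stabilizer G a)).map
        (MulAction.stabilizer G a).subtype := rfl
    have hSa : ∀ s ∈ S, s • a = a := by
      intro s hs
      have hs' : s ∈ (S : Subgroup G) := hs
      rw [hSP] at hs'
      obtain ⟨t, -, rfl⟩ := hs'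
      exact t.2
    refine ThreeFull.full_false hG hT S hSa ?_ ?_ hidx
    · intro c hc
      have h3 : c ∈ hG.cl b := by rw [h2]; exact hc
      exact h3
    · intro A _ hA φ
      exact Cfsg.Agent.AschCrit.Transfer.hom_stabilizer_eq_one hC.setup hA φ

end Cfsg.Agent.AschCrit.CommThree
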