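import Cfsg.Agent.AschCrit.Descent
import Cfsg.Agent.Lib.KleinGen

/-!
# Aschbacher's criterion: `z` not isolated

`NonIso z` : some element of the class `D` of `z` different from `z` commutes with `z`.  Under this
hypothesis, and if `G` is faithful on `Ω`:

* `isConj_mul` (R1) : `u` bad, `y ∈ D ∩ C(u)` ⟹ `u ~ u y`
* `no_bad_central` (5) : no bad involution is central in a Sylow 2-subgroup
* `mem_of_normal` : every nontrivial normal subgroup contains `D`
* `isSimpleGroup_closure` : `⟨D⟩` is simple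
-/

set_option autoImplicit false

namespace Cfsg.Agent.AschCrit.NonIso

open Cfsg.Agent.TwoFusion.StronglyEmbeddedBasic Cfsg.Agent.AschCrit.Basic
open Cfsg.Agent.AschCrit.Basic.Setup Cfsg.Agent.AschCrit.Closed Cfsg.Agent.AschCrit.Descent

/-- some element of the class of `z` different from `z` commutes with `z` -/
def NonIso {G : Type*} [Group G] (z : G) : Prop := ∃ d : G, IsConj z d ∧ Commute z d ∧ d ≠ z

theorem NonIso.exists_of_isConj {G : Type*} [Group G] {z : G} (hn : NonIso z) {y : G}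
    (hy : IsConj z y) : ∃ d : G, IsConj z d ∧ Commute y d ∧ d ≠ y := by
  obtain ⟨d, hd, hzd, hne⟩ := hn
  obtain ⟨g, rfl⟩ := isConj_iff.mp hy
  refine ⟨g * d * g⁻¹, conj_mem hd g, ?_, ?_⟩
  · show g * z * g⁻¹ * (g * d * g⁻¹) = g * d * g⁻¹ * (g * z * g⁻¹)
    calc g * z * g⁻¹ * (g * d * g⁻¹) = g * (z * d) * g⁻¹ := by group
      _ = g * (d * z) * g⁻¹ := by rw [hzd.eq]
      _ = _ := by group
  · intro hh
    apply hne
    calc d = g⁻¹ * (g * d * g⁻¹) * g := by group
      _ = z := by rw [hh]; group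

/-- Two involutions with product of order `2 ^ (j + 2)`: the involution `w` of `⟨ab⟩` is central in
`⟨a, b⟩`, and `a w ~ a`, `b w ~ b`. -/
theorem exists_central_two {G : Type*} [Group G] (a b : G) (ha : orderOf a = 2)
    (hb : orderOf b = 2) {j : ℕ} (hab : orderOf (a * b) = 2 ^ (j + 2)) :
    ∃ w ∈ Subgroup.zpowers (a * b), orderOf w = 2 ∧ Commute w a ∧ Commute w b ∧
      IsConj a (a * w) ∧ IsConj b (b * w) := by
  have ha2 := mul_self_of_orderOf ha
  have hb2 := mul_self_of_orderOf hb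
  have hai := inv_eq_self_of_orderOf ha
  have hbi := inv_eq_self_of_orderOf hb
  set w := a * b with hw
  have hwi : w⁻¹ = b * a := by rw [hw, mul_inv_rev, hai, hbi]
  have hsa : SemiconjBy a w w⁻¹ := by
    show a * w = w⁻¹ * a
    rw [hwi, hw, ← mul_assoc, ha2, mul_assoc, ha2]; simp
  have hsb : SemiconjBy b w w⁻¹ := by
    show b * w = w⁻¹ * b
    rw [hwi, hw, mul_assoc]
  have hpa : ∀ i : ℕ, a * w ^ i = (w ^ i)⁻¹ * a := by
    intro i
    have := (hsa.pow_right i).eq
    rwa [inv_pow] at this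
  have hpb : ∀ i : ℕ, b * w ^ i = (w ^ i)⁻¹ * b := by
    intro i
    have := (hsb.pow_right i).eq
    rwa [inv_pow] at this
  have hzz : w ^ 2 ^ (j + 1) * w ^ 2 ^ (j + 1) = 1 := by
    rw [← pow_add, show 2 ^ (j + 1) + 2 ^ (j + 1) = 2 ^ (j + 2) by ring, ← hab]
    exact pow_orderOf_eq_one w
  have hz1 : w ^ 2 ^ (j + 1) ≠ 1 := by
    intro h1
    have h2 := orderOf_dvd_of_pow_eq_one h1
    rw [hab] at h2
    have h3 := (Nat.pow_dvd_pow_iff_le_right (by norm_num : 1 < 2)).mp h2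
    omega
  have hzi : (w ^ 2 ^ (j + 1))⁻¹ = w ^ 2 ^ (j + 1) := inv_eq_of_mul_eq_one_right hzz
  have hsq : w ^ 2 ^ (j + 1) = w ^ 2 ^ j * w ^ 2 ^ j := by
    rw [← pow_add]; congr 1; ring
  refine ⟨w ^ 2 ^ (j + 1), Subgroup.npow_mem_zpowers w _, orderOf_eq_two_of_mul_self hzz hz1,
    ?_, ?_, ?_, ?_⟩
  · have := hpa (2 ^ (j + 1))
    rw [hzi] at this
    exact this.symm
  · have := hpb (2 ^ (j + 1))
    rw [hzi] at this
    exact this.symm
  · rw [isConj_iff]
    refine ⟨(w ^ 2 ^ j)⁻¹, ?_⟩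
    rw [inv_inv, ← hpa, hsq, mul_assoc]
  · rw [isConj_iff]
    refine ⟨(w ^ 2 ^ j)⁻¹, ?_⟩
    rw [inv_inv, ← hpb, hsq, mul_assoc]

/-- a `p`-subgroup `V` of `C ≥ S` is conjugate in `C` to a subgroup of the Sylow `p`-subgroup `S` -/
theorem exists_conj_le_sylow {X : Type*} [Group X] [Finite X] {p : ℕ} [Fact p.Prime]
    (S : Sylow p X) (C V : Subgroup X) (hSC : (S : Subgroup X) ≤ C) (hVC : V ≤ C)
    (hV : IsPGroup p V) : ∃ c ∈ C, ∀ v ∈ V, c * v * c⁻¹ ∈ (S : Subgroup X) := by
  have hV' : IsPGroup p (V.subgroupOf C) := by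
    have e := Subgroup.subgroupOfEquivOfLe hVC
    exact hV.of_equiv e.symm
  obtain ⟨Q, hQ⟩ := hV'.exists_le_sylow
  obtain ⟨c, hc⟩ := MulAction.exists_smul_eq C Q (S.subtype hSC)
  refine ⟨(c : X), c.2, ?_⟩
  intro v hv
  have h1 : (⟨v, hVC hv⟩ : C) ∈ (Q : Subgroup C) := hQ hv
  have h2 : c * (⟨v, hVC hv⟩ : C) * c⁻¹ ∈ ((c • Q : Sylow p C) : Subgroup C) := by
    rw [Sylow.coe_subgroup_smul]
    exact ⟨⟨v, hVC hv⟩, h1, rfl⟩
  rw [hc] at h2
  exact h2

theorem even_card_of_involutive {α : Type*} [Finite α] (f : α → α) (hf : ∀ x, f (f x) = x)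
    (h2 : ∀ x, f x ≠ x) : Even (Nat.card α) := by
  classical
  have : Fintype α := Fintype.ofFinite α
  let g : Function.End α := f
  have h3 : g ^ 2 ^ 1 = 1 := by
    rw [pow_one, pow_two]
    funext x
    exact hf x
  have h4 := Equiv.Perm.card_fixedPoints_modEq (α := α) (f := g) (p := 2) (n := 1) h3
  have h5 : Fintype.card (Function.fixedPoints f) = 0 := by
    rw [Fintype.card_eq_zero_iff]
    exact ⟨fun y => h2 _ y.2⟩
  have h6 : Fintype.card α ≡ 0 [MOD 2] := by
    rw [← h5]; exact h4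
  rw [Nat.card_eq_fintype_card, Nat.even_iff]
  exact h6

variable {G Ω : Type*} [Group G] [MulAction G Ω] {z : G}

/-- every Sylow 2-subgroup centralises one of its elements lying in `D` -/
theorem exists_mem_central [Finite G] (h : Setup G Ω z) (S : Sylow 2 G) :
    ∃ d, IsConj z d ∧ d ∈ S ∧ ∀ s ∈ S, Commute s d := by
  obtain ⟨S₀, hzS, hS⟩ := h.central
  obtain ⟨g, hg⟩ := MulAction.exists_smul_eq G S₀ S
  have hmem : ∀ x : G, x ∈ S ↔ g⁻¹ * x * g ∈ S₀ := by
    intro x
    have h1 : x ∈ S ↔ x ∈ ((g • S₀ : Sylow 2 G) : Subgroup G) := by rw [hg]; rfl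
    rw [h1, Sylow.coe_subgroup_smul, Subgroup.mem_pointwise_smul_iff_inv_smul_mem]
    show (MulAut.conj g)⁻¹ x ∈ (S₀ : Subgroup G) ↔ _
    rw [← map_inv, MulAut.conj_apply, inv_inv]
    rfl
  refine ⟨g * z * g⁻¹, isConj_iff.mpr ⟨g, rfl⟩, ?_, ?_⟩
  · rw [hmem]
    have : g⁻¹ * (g * z * g⁻¹) * g = z := by group
    rw [this]; exact hzS
  · intro s hs
    have h1 := hS _ ((hmem s).mp hs)
    show s * (g * z * g⁻¹) = g * z * g⁻¹ * s
    calc s * (g * z * g⁻¹) = g * ((g⁻¹ * s * g) * z) * g⁻¹ := by group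
      _ = g * (z * (g⁻¹ * s * g)) * g⁻¹ := by rw [h1.eq]
      _ = _ := by group

/-- (R1), first case -/
theorem isConj_mul_of_commute [Finite G] (h : Setup G Ω z)
    (hf : ∀ g : G, (∀ a : Ω, g • a = a) → g = 1) {u y b : G} (hu : Bad Ω u) (hy : IsConj z y)
    (hyu : Commute y u) (hb : IsConj z b) (hbu : Commute b u) (hby : Commute b y) (hne : b ≠ y) :
    IsConj u (u * y) := by
  have hyb : IsConj z (y * b) := mul_mem_class h hf hy hb hby.symm (Ne.symm hne)
  have hyy := h.mul_self hy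
  -- conjugate `b` to `y` in `C(u y)`
  have hbad : Bad Ω (u * y) := bad_mul h hf hu hy hyu
  obtain ⟨-, p, q, hpq, hp, hq⟩ := id hbad
  obtain ⟨c, hc, hcb⟩ := exists_conj_commute h hbad.mul_self hpq hp hq hb hy
    (hbu.mul_right hby) (hyu.mul_right (Commute.refl y))
  obtain ⟨-, p', q', hpq', hp', hq'⟩ := id hu
  obtain ⟨g, hg, hgb⟩ := exists_conj_commute h hu.mul_self hpq' hp' hq' hyb hy
    (hyu.mul_left hbu) hyu
  have h1 : IsConj (u * y * b) u := by
    rw [isConj_iff]
    refine ⟨c, ?_⟩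
    calc c * (u * y * b) * c⁻¹ = (c * (u * y)) * b * c⁻¹ := by group
      _ = (u * y) * (c * b * c⁻¹) := by rw [hc.eq]; group
      _ = u * (y * y) := by rw [hcb]; group
      _ = u := by rw [hyy, mul_one]
  have h2 : IsConj (u * y * b) (u * y) := by
    rw [isConj_iff]
    refine ⟨g, ?_⟩
    calc g * (u * y * b) * g⁻¹ = (g * u) * (y * b) * g⁻¹ := by group
      _ = u * (g * (y * b) * g⁻¹) := by rw [hg.eq]; group
      _ = u * y := by rw [hgb]
  exact h1.symm.trans h2

/-- (R1): `u` bad, `y ∈ D ∩ C(u)` ⟹ `u ~ u y` -/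
theorem isConj_mul [Finite G] (h : Setup G Ω z)
    (hf : ∀ g : G, (∀ a : Ω, g • a = a) → g = 1) (hn : NonIso z) {u y : G} (hu : Bad Ω u)
    (hy : IsConj z y) (hyu : Commute y u) : IsConj u (u * y) := by
  by_cases hcase : ∃ b, IsConj z b ∧ Commute b u ∧ Commute b y ∧ b ≠ y
  · obtain ⟨b, hb, hbu, hby, hne⟩ := hcase
    exact isConj_mul_of_commute h hf hu hy hyu hb hbu hby hne
  have hiso : ∀ b, IsConj z b → Commute b u → Commute b y → b = y := by
    intro b hb hbu hby
    by_contra hne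
    exact hcase ⟨b, hb, hbu, hby, hne⟩
  -- `y` is central in a Sylow 2-subgroup of `C(u)`
  set H := Subgroup.centralizer ({u} : Set G) with hH
  have hmemH : ∀ x : G, x ∈ H ↔ Commute x u := by
    intro x
    rw [hH, Subgroup.mem_centralizer_singleton_iff]
    exact Iff.rfl
  obtain ⟨p, hp⟩ := h.ex hy
  have hyH : y ∈ H := (hmemH y).mpr hyu
  obtain ⟨q, e, hpq, he, heH⟩ : ∃ (q : Ω) (e : G), p ≠ q ∧ e ∈ At z q ∧ e ∈ H := by
    obtain ⟨-, a, b, hab, ha, hb⟩ := id hu
    by_cases hpa : p = a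
    · obtain ⟨e, he, heu⟩ := h.exists_commute_of_mul_self hu.mul_self hb
      exact ⟨b, e, by rw [hpa]; exact hab, he, (hmemH e).mpr heu⟩
    · obtain ⟨e, he, heu⟩ := h.exists_commute_of_mul_self hu.mul_self ha
      exact ⟨a, e, hpa, he, (hmemH e).mpr heu⟩
  have hsetup := setup_pts h hpq ⟨hy, hp⟩ he hyH heH
  obtain ⟨P, hyP, hP⟩ := hsetup.central
  -- the 2-subgroup `P ⟨u⟩`
  have huH : u ∈ H := (hmemH u).mpr (Commute.refl u)
  have huP : (⟨u, huH⟩ : H) ∈ (P : Subgroup H) := by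
    have hnorm : (Subgroup.zpowers (⟨u, huH⟩ : H)).Normal := by
      constructor
      rintro x hx g
      obtain ⟨k, rfl⟩ := Subgroup.mem_zpowers_iff.mp hx
      have hgu : Commute g (⟨u, huH⟩ : H) := Subtype.ext ((hmemH g).mp g.2)
      have h1 : g * (⟨u, huH⟩ : H) ^ k * g⁻¹ = (⟨u, huH⟩ : H) ^ k := by
        rw [(hgu.zpow_right k).eq, mul_assoc, mul_inv_cancel, mul_one]
      rw [h1]; exact hx
    have hu2 : (⟨u, huH⟩ : H) * (⟨u, huH⟩ : H) = 1 := Subtype.ext hu.mul_self
    have h2 : IsPGroup 2 (((P : Subgroup H) ⊔ Subgroup.zpowers (⟨u, huH⟩ : H) : Subgroup H)) :=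
      P.isPGroup'.to_sup_of_normal_right (isPGroup_zpowers hu2)
    have h3 := P.is_maximal' h2 le_sup_left
    have h4 : (⟨u, huH⟩ : H) ∈ ((P : Subgroup H) ⊔ Subgroup.zpowers (⟨u, huH⟩ : H) : Subgroup H) :=
      Subgroup.mem_sup_right (Subgroup.mem_zpowers _)
    rw [h3] at h4
    exact h4
  have hP2 : IsPGroup 2 ((P : Subgroup H).map H.subtype) := P.isPGroup'.map _
  obtain ⟨S, hS⟩ := hP2.exists_le_sylow
  have hyS : y ∈ S := hS ⟨⟨y, hyH⟩, hyP, rfl⟩
  have huS : u ∈ S := hS ⟨⟨u, huH⟩, huP, rfl⟩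
  -- `y` is the element of `D ∩ Z(S)`
  obtain ⟨z', hz', hz'S, hz'c⟩ := exists_mem_central h S
  have hz'y : z' = y := hiso z' hz' (hz'c u huS).symm (hz'c y hyS).symm
  rw [hz'y] at hz'c
  -- `d ∈ D ∩ S` different from `y`
  obtain ⟨d, hd, hyd, hdne⟩ := hn.exists_of_isConj hy
  obtain ⟨c, hcC, hcd⟩ := exists_conj_le_sylow S (Subgroup.centralizer ({y} : Set G))
    (Subgroup.zpowers d) (by
      intro s hs
      rw [Subgroup.mem_centralizer_singleton_iff]
      exact (hz'c s hs).eq) (by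
      rw [Subgroup.zpowers_le, Subgroup.mem_centralizer_singleton_iff]
      exact hyd.symm.eq) (isPGroup_zpowers (h.mul_self hd))
  rw [Subgroup.mem_centralizer_singleton_iff] at hcC
  have hd'S : c * d * c⁻¹ ∈ S := hcd d (Subgroup.mem_zpowers d)
  have hd' : IsConj z (c * d * c⁻¹) := conj_mem hd c
  have hd'ne : c * d * c⁻¹ ≠ y := by
    intro hh
    apply hdne
    calc d = c⁻¹ * (c * d * c⁻¹) * c := by group
      _ = c⁻¹ * (y * c) := by rw [hh]; group
      _ = y := by rw [← hcC]; group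
  set d' := c * d * c⁻¹ with hd'def
  have hd'y : Commute d' y := hz'c d' hd'S
  have hd'u : ¬ Commute d' u := fun hcon => hd'ne (hiso d' hd' hcon hd'y)
  -- the dihedral group `⟨u, d'⟩`
  have hmul : u * d' ∈ S := S.mul_mem huS hd'S
  obtain ⟨k, hk⟩ : ∃ k : ℕ, orderOf (u * d') = 2 ^ k := by
    obtain ⟨k, hk⟩ := S.isPGroup' ⟨_, hmul⟩
    have hk' : (u * d') ^ 2 ^ k = 1 := congrArg Subtype.val hk
    obtain ⟨j, -, hj⟩ := (Nat.dvd_prime_pow Nat.prime_two).mp (orderOf_dvd_of_pow_eq_one hk')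
    exact ⟨j, hj⟩
  have hd'i := h.inv_eq hd'
  have hk2 : 2 ≤ k := by
    by_contra hlt
    have hlt' : k ≤ 1 := by omega
    have h5 : (u * d') ^ 2 = 1 := by
      apply orderOf_dvd_iff_pow_eq_one.mp
      rw [hk]
      calc 2 ^ k ∣ 2 ^ 1 := pow_dvd_pow 2 hlt'
        _ = 2 := pow_one 2
    apply hd'u
    have h6 : (u * d')⁻¹ = u * d' := inv_eq_of_mul_eq_one_right (by rw [← pow_two]; exact h5)
    show d' * u = u * d'
    rw [← h6, mul_inv_rev, hd'i, hu.inv_eq]
  obtain ⟨j, rfl⟩ : ∃ j, k = j + 2 := ⟨k - 2, by omega⟩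
  obtain ⟨w, hw, hw2, hwu, hwd, hcu, hcd'⟩ := exists_central_two u d' hu.1 (h.orderOf_eq hd') hk
  have hwS : w ∈ S := by
    have : Subgroup.zpowers (u * d') ≤ (S : Subgroup G) := by rw [Subgroup.zpowers_le]; exact hmul
    exact this hw
  have hw1 : w ≠ 1 := by
    intro h1; rw [h1, orderOf_one] at hw2; exact absurd hw2 (by norm_num)
  have hwD : IsConj z w := by
    have h7 := mul_mem_class h hf hd' (hd'.trans hcd') ((Commute.refl d').mul_right hwd.symm)
      (fun hh => hw1 (by simpa using hh.symm))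
    have h8 : d' * (d' * w) = w := by rw [← mul_assoc, h.mul_self hd', one_mul]
    rwa [h8] at h7
  have hwy : w = y := hiso w hwD hwu (hz'c w hwS)
  rw [hwy] at hcu
  exact hcu

/-- (5): no bad involution is central in a Sylow 2-subgroup -/
theorem no_bad_central [Finite G] (h : Setup G Ω z)
    (hf : ∀ g : G, (∀ a : Ω, g • a = a) → g = 1) (hn : NonIso z) (S : Sylow 2 G) {r : G}
    (hr : Bad Ω r) (hrS : ∀ s ∈ S, Commute s r) : False := by
  -- the conjugates of `r` centralised by `S`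
  have hodd : Odd (Nat.card {x : G // IsConj r x}) := by
    have h1 : Nat.card {d : G // IsConj r d} = (Subgroup.centralizer ({r} : Set G)).index := by
      have h2 : Nat.card {d : G // IsConj r d} = (MulAction.orbit (ConjAct G) r).ncard := by
        rw [← Nat.card_coe_set_eq]
        apply Nat.card_congr
        refine Equiv.subtypeEquivRight (fun d => ?_)
        rw [ConjAct.mem_orbit_conjAct]
        exact isConj_comm
      rw [h2, ← MulAction.index_stabilizer, ConjAct.stabilizer_eq_centralizer]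
      rfl
    rw [h1]
    have hle : (S : Subgroup G) ≤ Subgroup.centralizer ({r} : Set G) := by
      intro s hs
      rw [Subgroup.mem_centralizer_singleton_iff]
      exact (hrS s hs).eq
    have h3 : ¬ 2 ∣ (S : Subgroup G).index := S.not_dvd_index
    rw [← Nat.not_even_iff_odd, even_iff_two_dvd]
    intro h4
    exact h3 (dvd_trans h4 (Subgroup.index_dvd_of_le hle))
  let act : MulAction S {x : G // IsConj r x} :=
    { smul := fun s x => ⟨s * x * (s : G)⁻¹, x.2.trans (isConj_iff.mpr ⟨(s : G), rfl⟩)⟩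
      one_smul := fun x => Subtype.ext (by
        change ((1 : S) : G) * x * ((1 : S) : G)⁻¹ = x
        simp)
      mul_smul := fun a b x => Subtype.ext (by
        change ((a * b : S) : G) * x * ((a * b : S) : G)⁻¹ = a * (b * x * (b : G)⁻¹) * (a : G)⁻¹
        simp [mul_assoc]) }
  have hcong := S.isPGroup'.card_modEq_card_fixedPoints {x : G // IsConj r x}
  have hfixodd : Odd (Nat.card (MulAction.fixedPoints S {x : G // IsConj r x})) := by
    rw [Nat.odd_iff] at hodd ⊢
    rw [← hodd]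
    exact hcong.symm
  have hfixc : ∀ x : MulAction.fixedPoints S {x : G // IsConj r x}, ∀ s ∈ S,
      Commute s (x.1 : G) := by
    rintro ⟨x, hx⟩ s hs
    have h1 : s * (x : G) * s⁻¹ = x := congrArg Subtype.val (hx ⟨s, hs⟩)
    show s * (x : G) = x * s
    calc s * (x : G) = s * (x : G) * s⁻¹ * s := by group
      _ = x * s := by rw [h1]
  obtain ⟨z', hz', hz'S, hz'c⟩ := exists_mem_central h S
  have hz'z' := h.mul_self hz'
  have heven : Even (Nat.card (MulAction.fixedPoints S {x : G // IsConj r x})) := by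
    refine even_card_of_involutive
      (fun x => ⟨⟨(x.1 : G) * z', ?_⟩, ?_⟩) ?_ ?_
    · exact x.1.2.trans (isConj_mul h hf hn (hr.of_isConj x.1.2) hz' (hfixc x z' hz'S))
    · rintro ⟨s, hs⟩
      apply Subtype.ext
      show s * ((x.1 : G) * z') * s⁻¹ = (x.1 : G) * z'
      have h1 : Commute s ((x.1 : G) * z') := (hfixc x s hs).mul_right (hz'c s hs)
      rw [h1.eq]; group
    · intro x
      apply Subtype.ext
      apply Subtype.ext
      show (x.1 : G) * z' * z' = (x.1 : G)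
      rw [mul_assoc, hz'z', mul_one]
    · intro x hx
      have h1 : (x.1 : G) * z' = (x.1 : G) := congrArg (fun y => (y.1 : G)) hx
      have h2 : z' = 1 := by simpa using h1
      have h3 := h.orderOf_eq hz'
      rw [h2, orderOf_one] at h3
      exact absurd h3 (by norm_num)
  exact (Nat.not_even_iff_odd.mpr hfixodd) heven

/-- every nontrivial normal subgroup contains `z` -/
theorem mem_of_normal [Finite G] (h : Setup G Ω z)
    (hf : ∀ g : G, (∀ a : Ω, g • a = a) → g = 1) (hn : NonIso z) (N : Subgroup G) (hN : N.Normal)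
    (hN1 : N ≠ ⊥) : z ∈ N := by
  obtain ⟨a, ha⟩ := h.exists_fix
  -- a normal subgroup fixing `a` is trivial
  have hstab : ¬ ∀ g ∈ N, g • a = a := by
    intro hcon
    apply hN1
    rw [Subgroup.eq_bot_iff_forall]
    intro g hg
    apply hf
    intro b
    obtain ⟨k, rfl⟩ := h.trans a b
    have h1 := hcon (k⁻¹ * g * k) (by
      have := hN.conj_mem g hg k⁻¹
      rwa [inv_inv] at this)
    rw [mul_smul, mul_smul] at h1
    exact smul_left_cancel k⁻¹ (by rw [h1, inv_smul_smul])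
  have heven : ¬ Odd (Nat.card N) := by
    intro hodd
    obtain ⟨d, hd, hzd, hne⟩ := id hn
    apply hstab
    have hda : d • a = a := h.fix_of_commute (IsConj.refl z) hzd.symm ha
    have hle : N ≤ MulAction.stabilizer G a := by
      refine Cfsg.Agent.Lib.KleinGen.le_of_klein N _ hodd z d (mul_self_of_orderOf h.invol)
        (h.mul_self hd) hzd.eq (fun g hg => hN.conj_mem g hg z) (fun g hg => hN.conj_mem g hg d)
        ?_ ?_ ?_
      · rintro g ⟨-, hg⟩
        exact h.fix_of_commute (IsConj.refl z) (Subgroup.mem_centralizer_singleton_iff.mp hg) ha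
      · rintro g ⟨-, hg⟩
        exact h.fix_of_commute hd (Subgroup.mem_centralizer_singleton_iff.mp hg) hda
      · rintro g ⟨-, hg⟩
        exact h.comm' (IsConj.refl z) hd hzd (Ne.symm hne)
          (Subgroup.mem_centralizer_singleton_iff.mp hg) ha
    exact fun g hg => hle hg
  -- an involution of `N` centralised by a Sylow 2-subgroup
  obtain ⟨S, hzS, hSc⟩ := h.central
  let act : MulAction S N :=
    { smul := fun s x => ⟨s * x * (s : G)⁻¹, hN.conj_mem x x.2 s⟩
      one_smul := fun x => Subtype.ext (by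
        change ((1 : S) : G) * x * ((1 : S) : G)⁻¹ = x
        simp)
      mul_smul := fun a b x => Subtype.ext (by
        change ((a * b : S) : G) * x * ((a * b : S) : G)⁻¹ = a * (b * x * (b : G)⁻¹) * (a : G)⁻¹
        simp [mul_assoc]) }
  have hcong := S.isPGroup'.card_modEq_card_fixedPoints N
  have hcard : Nat.card (MulAction.fixedPoints S N) =
      Nat.card (N ⊓ Subgroup.centralizer ((S : Subgroup G) : Set G) : Subgroup G) := by
    refine Nat.card_congr
      { toFun := fun x => ⟨x.1.1, x.1.2, ?_⟩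
        invFun := fun x => ⟨⟨x.1, x.2.1⟩, ?_⟩
        left_inv := fun x => rfl
        right_inv := fun x => rfl }
    · refine Subgroup.mem_centralizer_iff.mpr ?_
      intro s hs
      have h1 : s * (x.1 : G) * s⁻¹ = x.1 := congrArg Subtype.val (x.2 ⟨s, hs⟩)
      calc s * (x.1 : G) = s * (x.1 : G) * s⁻¹ * s := by group
        _ = x.1 * s := by rw [h1]
    · rintro ⟨s, hs⟩
      apply Subtype.ext
      show s * x.1 * s⁻¹ = x.1
      have h1 := (Subgroup.mem_centralizer_iff.mp x.2.2) s hs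
      rw [h1]; group
  rw [Nat.not_odd_iff_even, even_iff_two_dvd] at heven
  have heven' : 2 ∣ Nat.card (N ⊓ Subgroup.centralizer ((S : Subgroup G) : Set G) : Subgroup G) := by
    rw [← hcard]
    exact (Nat.modEq_zero_iff_dvd).mp (hcong.symm.trans ((Nat.modEq_zero_iff_dvd).mpr heven))
  obtain ⟨⟨r, hr⟩, hr2⟩ := exists_prime_orderOf_dvd_card' 2 heven'
  rw [Subgroup.orderOf_mk] at hr2
  have hrN : r ∈ N := hr.1
  have hrS := Subgroup.mem_centralizer_iff.mp hr.2
  rcases isConj_or_bad h hf hr2 with hr | hr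
  · obtain ⟨g, hg⟩ := isConj_iff.mp hr
    have h1 : z = g⁻¹ * r * g := by rw [← hg]; group
    rw [h1]
    have := hN.conj_mem r hrN g⁻¹
    rwa [inv_inv] at this
  · exact (no_bad_central h hf hn S hr (fun s hs => hrS s hs)).elim

/-- `⟨D⟩` is simple -/
theorem isSimpleGroup_closure [Finite G] (h : Setup G Ω z)
    (hf : ∀ g : G, (∀ a : Ω, g • a = a) → g = 1) (hn : NonIso z) :
    IsSimpleGroup (Subgroup.normalClosure ({z} : Set G)) := by
  set L := Subgroup.normalClosure ({z} : Set G) with hL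
  have hzL : z ∈ L := Subgroup.subset_normalClosure rfl
  have hDL : ∀ d : G, IsConj z d → d ∈ L := by
    intro d hd
    obtain ⟨g, rfl⟩ := isConj_iff.mp hd
    exact Subgroup.normalClosure_normal.conj_mem z hzL g
  obtain ⟨a, ha⟩ := h.exists_fix
  obtain ⟨b, hab⟩ : ∃ b : Ω, a ≠ b := by
    obtain ⟨p, q, hpq⟩ := h.nontriv
    by_cases hap : a = p
    · exact ⟨q, by rw [hap]; exact hpq⟩
    · exact ⟨p, hap⟩
  obtain ⟨e, he⟩ := h.nonempty_At b
  have heL := hDL e he.1
  have hza : z ∈ At z a := ⟨IsConj.refl z, ha⟩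
  have hS := setup_pts h hab hza he hzL heL
  have hconj := isConj_subgroup_iff h hab hza he hzL heL
  have hf' : ∀ g : L, (∀ c : pts Ω z L, g • c = c) → g = 1 := by
    intro g hg
    apply Subtype.ext
    apply hf
    intro c
    obtain ⟨d, hd⟩ := h.nonempty_At c
    exact congrArg Subtype.val (hg ⟨c, d, hDL d hd.1, hd⟩)
  have hn' : NonIso (⟨z, hzL⟩ : L) := by
    obtain ⟨d, hd, hzd, hne⟩ := id hn
    refine ⟨⟨d, hDL d hd⟩, (hconj _).mpr hd, Subtype.ext hzd.eq, ?_⟩
    intro hh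
    exact hne (congrArg Subtype.val hh)
  have hnt : Nontrivial L := by
    refine ⟨⟨z, hzL⟩, 1, ?_⟩
    intro hh
    have h1 : z = 1 := congrArg Subtype.val hh
    have h2 := h.invol
    rw [h1, orderOf_one] at h2
    exact absurd h2 (by norm_num)
  refine IsSimpleGroup.mk ?_
  intro N hN
  by_cases hN1 : N = ⊥
  · exact Or.inl hN1
  right
  have hzN := mem_of_normal hS hf' hn' N hN hN1
  -- `N` contains `D`
  have hDN : ∀ d : L, IsConj z (d : G) → d ∈ N := by
    intro d hd
    obtain ⟨g, hg⟩ := isConj_iff.mp ((hconj d).mpr hd)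
    rw [← hg]
    exact hN.conj_mem _ hzN g
  rw [eq_top_iff]
  have hcl : ∀ x ∈ L, x ∈ N.map L.subtype := by
    have hcl' : Subgroup.closure (Group.conjugatesOfSet ({z} : Set G)) ≤ N.map L.subtype := by
      rw [Subgroup.closure_le]
      intro x hx
      rw [Group.mem_conjugatesOfSet_iff] at hx
      obtain ⟨y, hy, hyx⟩ := hx
      rw [Set.mem_singleton_iff] at hy
      rw [hy] at hyx
      exact ⟨⟨x, hDL x hyx⟩, hDN ⟨x, hDL x hyx⟩ hyx, rfl⟩
    exact fun x hx => hcl' hx
  rintro ⟨x, hx⟩ -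
  obtain ⟨y, hy, hyx⟩ := hcl x hx
  have : y = ⟨x, hx⟩ := Subtype.ext hyx
  rw [← this]; exact hy

end Cfsg.Agent.AschCrit.NonIso
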