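import Cfsg.Agent.AschCrit.Descent
import Cfsg.Agent.AschCrit.NonIso

/-!
# Aschbacher's criterion: subgroups acting like Bender groups on their `D`-points

`SylTwo H P` : `P` is a Sylow 2-subgroup of the subgroup `H` (both subgroups of `G`).

`BGroup Ω z H k i` : with `q = 2 ^ k`, the subgroup `H` acts on the set `pts Ω z H` of the points `c`
with `D_c ∩ H ≠ ∅` like a Bender group of degree `q ^ i + 1`.  This is the conclusion of the inductive
theorem for every proper subgroup `H` containing elements of `D` at two different points and two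
different commuting elements of `D`.

`NoBadBelow N` : the inductive hypothesis (simple groups of order `< N` in the set-up have no bad
involutions).
-/

set_option autoImplicit false

universe u

namespace Cfsg.Agent.AschCrit.BGroup

open Cfsg.Agent.TwoFusion.StronglyEmbeddedBasic Cfsg.Agent.AschCrit.Basic
open Cfsg.Agent.AschCrit.Basic.Setup Cfsg.Agent.AschCrit.Closed Cfsg.Agent.AschCrit.Descent
open Cfsg.Agent.AschCrit.NonIso

/-- `P` is a Sylow 2-subgroup of `H` -/
def SylTwo {G : Type*} [Group G] (H P : Subgroup G) : Prop :=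
  P ≤ H ∧ IsPGroup 2 P ∧ ¬ 2 ∣ P.relIndex H

/-- `H` contains elements of `D` with different fixed points and two different commuting elements
of `D` -/
def DSub (Ω : Type*) {G : Type*} [Group G] [MulAction G Ω] (z : G) (H : Subgroup G) : Prop :=
  (∃ a b : Ω, a ≠ b ∧ a ∈ pts Ω z H ∧ b ∈ pts Ω z H) ∧
    ∃ d e : G, d ∈ H ∧ e ∈ H ∧ IsConj z d ∧ IsConj z e ∧ Commute d e ∧ d ≠ e

/-- `H` acts on its `D`-points like a Bender group: `q = 2 ^ k`, degree `q ^ i + 1` -/
structure BGroup (Ω : Type*) {G : Type*} [Group G] [MulAction G Ω] (z : G) (H : Subgroup G)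
    (k i : ℕ) : Prop where
  two_le : 2 ≤ k
  one_le : 1 ≤ i
  le_three : i ≤ 3
  /-- `|pts| = q ^ i + 1` -/
  card_pts : Nat.card (pts Ω z H) = (2 ^ k) ^ i + 1
  /-- `H` is 2-transitive on `pts` -/
  two_trans : ∀ a b c d : Ω, a ∈ pts Ω z H → b ∈ pts Ω z H → c ∈ pts Ω z H → d ∈ pts Ω z H →
    a ≠ b → c ≠ d → ∃ g ∈ H, g • a = c ∧ g • b = d
  /-- the elements of `D` in a 2-subgroup of `H` commute -/
  comm : ∀ P : Subgroup G, P ≤ H → IsPGroup 2 P → ∀ d ∈ P, ∀ e ∈ P, IsConj z d → IsConj z e →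
    Commute d e
  /-- a Sylow 2-subgroup contains `q - 1` elements of `D` -/
  card_sylow : ∀ P : Subgroup G, SylTwo H P → Nat.card {d : G // d ∈ P ∧ IsConj z d} + 1 = 2 ^ k
  /-- the elements of `D` in a Sylow 2-subgroup `P` are fused by the normaliser of `D ∩ P` -/
  fusion : ∀ P : Subgroup G, SylTwo H P → ∀ d ∈ P, ∀ e ∈ P, IsConj z d → IsConj z e →
    ∃ g ∈ H, (∀ x ∈ P, IsConj z x → g * x * g⁻¹ ∈ P) ∧ g * d * g⁻¹ = e
  /-- a Sylow 2-subgroup fixes a point of `pts` and is transitive on the other points of `pts` -/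
  trans_sylow : ∀ P : Subgroup G, SylTwo H P → ∃ a ∈ pts Ω z H, (∀ g ∈ P, g • a = a) ∧
    ∀ b ∈ pts Ω z H, ∀ c ∈ pts Ω z H, b ≠ a → c ≠ a → ∃ g ∈ P, g • b = c

/-- the inductive hypothesis -/
def NoBadBelow (N : ℕ) : Prop :=
  ∀ (K Ψ : Type u) [Group K] [Finite K] [MulAction K Ψ] (z : K), Nat.card K < N →
    IsSimpleGroup K → Setup K Ψ z → (∀ g : K, (∀ a : Ψ, g • a = a) → g = 1) → NonIso z →
    ∀ v : K, ¬ Bad Ψ v

end Cfsg.Agent.AschCrit.BGroup
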