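import Cfsg.Agent.AschCrit.InductAct
import Cfsg.Agent.AschCrit.BGroup

/-!
# Aschbacher's criterion: Theorem T

`G` finite, `Setup G Ω z`, simple groups of order `< N` have no bad involutions (`NoBadBelow N`) and
Bender's theorem is known.  `bgroup` : every subgroup `H` with `|H| < N` containing elements of `D` at
two points and two different commuting elements of `D` is a `BGroup`.
-/

set_option autoImplicit false

universe u

namespace Cfsg.Agent.AschCrit.Induct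

open Cfsg MulAction
open Cfsg.Agent.TwoFusion.StronglyEmbeddedBasic Cfsg.Agent.AschCrit.Basic
open Cfsg.Agent.AschCrit.Basic.Setup Cfsg.Agent.AschCrit.Closed Cfsg.Agent.AschCrit.Descent
open Cfsg.Agent.AschCrit.NonIso Cfsg.Agent.AschCrit.InductFaithful
open Cfsg.Agent.AschCrit.InductAct Cfsg.Agent.AschCrit.BGroup
open Cfsg.Agent.StrongEmb.Split

section

variable {K Ψ : Type u} [Group K] [Finite K] [MulAction K Ψ] {z : K} {N : ℕ}

/-- the normal closure of `z` has no bad involutions -/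
theorem noBad_of_below (hN : NoBadBelow.{u} N) (h : Setup K Ψ z)
    (hf : ∀ g : K, (∀ a : Ψ, g • a = a) → g = 1) (hn : NonIso z) (hcard : Nat.card K < N) :
    ∀ v ∈ L z, ¬ Bad Ψ v := by
  have hsim : IsSimpleGroup (L z) := isSimpleGroup_closure h hf hn
  obtain ⟨a, ha⟩ := h.exists_fix
  obtain ⟨b, hab⟩ : ∃ b : Ψ, a ≠ b := by
    obtain ⟨p, q, hpq⟩ := h.nontriv
    by_cases hap : a = p
    · exact ⟨q, by rw [hap]; exact hpq⟩
    · exact ⟨p, hap⟩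
  obtain ⟨e, he⟩ := h.nonempty_At b
  have hza : z ∈ At z a := ⟨IsConj.refl z, ha⟩
  have hzL : z ∈ L z := mem_L (IsConj.refl z)
  have heL := mem_L he.1
  have hS := setup_pts h hab hza he hzL heL
  have hconj := isConj_subgroup_iff h hab hza he hzL heL
  have hpts : ∀ c : Ψ, c ∈ pts Ψ z (L z) := by
    intro c
    obtain ⟨d, hd⟩ := h.nonempty_At c
    exact ⟨d, mem_L hd.1, hd⟩
  have hf' : ∀ g : L z, (∀ c : pts Ψ z (L z), g • c = c) → g = 1 := by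
    intro g hg
    apply Subtype.ext
    apply hf
    intro c
    exact congrArg Subtype.val (hg ⟨c, hpts c⟩)
  have hn' : NonIso (⟨z, hzL⟩ : L z) := by
    obtain ⟨d, hd, hzd, hne⟩ := id hn
    refine ⟨⟨d, mem_L hd⟩, (hconj _).mpr hd, Subtype.ext hzd.eq, ?_⟩
    intro hh
    exact hne (congrArg Subtype.val hh)
  have hlt : Nat.card (L z) < N := lt_of_le_of_lt (Subgroup.card_le_card_group _) hcard
  intro v hv hb
  obtain ⟨hv2, p, q, hpq, hp, hq⟩ := hb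
  refine hN (L z) (pts Ψ z (L z)) ⟨z, hzL⟩ hlt hsim hS hf' hn' ⟨v, hv⟩
    ⟨by rw [Subgroup.orderOf_mk]; exact hv2, ⟨p, hpts p⟩, ⟨q, hpts q⟩, ?_, ?_, ?_⟩
  · exact fun hh => hpq (congrArg Subtype.val hh)
  · exact Subtype.ext hp
  · exact Subtype.ext hq

/-- the image of `K` in the permutations of `Ψ` -/
abbrev Im (K Ψ : Type u) [Group K] [MulAction K Ψ] : Subgroup (Equiv.Perm Ψ) :=
  (toPermHom K Ψ).range

/-- the map from `K` to its image -/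
abbrev pr (K Ψ : Type u) [Group K] [MulAction K Ψ] : K →* Im K Ψ :=
  (toPermHom K Ψ).rangeRestrict

/-- Theorem T, action form -/
theorem bact (hN : NoBadBelow.{u} N)
    (hB : ∀ (X : Type u) [Group X] [Finite X], BenderHolds X) (h : Setup K Ψ z)
    (hn : NonIso z) (hcard : Nat.card K < N) : ∃ k i : ℕ, BAct K Ψ z k i ∧
      ∀ a : Ψ, ∃ (t : L (pr K Ψ z)) (Qa : Subgroup (L (pr K Ψ z))),
        IsRankOneSetup (L (pr K Ψ z)) Ψ a t Qa ∧ IsPGroup 2 Qa ∧ Nat.card Qa = (2 ^ k) ^ i ∧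
        Nat.card (involutionsIn (stabilizer (L (pr K Ψ z)) a : Set (L (pr K Ψ z)))) + 1 =
          2 ^ k := by
  have hsurj : Function.Surjective (pr K Ψ) := (toPermHom K Ψ).rangeRestrict_surjective
  have hc : ∀ (g : K) (a : Ψ), pr K Ψ g • a = g • a := fun g a => rfl
  have hfin : Finite (Im K Ψ) := Finite.of_surjective _ hsurj
  have hf : ∀ g : Im K Ψ, (∀ a : Ψ, g • a = a) → g = 1 := by
    intro g hg
    apply Subtype.ext
    ext a
    exact hg a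
  have hQ : Setup (Im K Ψ) Ψ (pr K Ψ z) := setup_map h (pr K Ψ) hsurj hc
  have hnQ : NonIso (pr K Ψ z) := by
    obtain ⟨d, hd, hzd, hne⟩ := id hn
    exact ⟨pr K Ψ d, (pr K Ψ).map_isConj hd, hzd.map (pr K Ψ), fun hh =>
      hne (eq_of_map_eq (pr K Ψ) h hc (IsConj.refl z) hd hzd hh.symm).symm⟩
  have hlt : Nat.card (Im K Ψ) < N :=
    lt_of_le_of_lt (Nat.card_le_card_of_surjective _ hsurj) hcard
  exact bact_of_map (pr K Ψ) h hn hsurj hc hf (noBad_of_below hN hQ hf hnQ hlt) (hB _)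

end

section

variable {G Ω : Type u} [Group G] [Finite G] [MulAction G Ω] {z : G} {N : ℕ}


omit [Finite G] in
theorem SylTwo.exists_sylow {H P : Subgroup G} (hP : SylTwo H P) :
    ∃ S : Sylow 2 H, ∀ x : H, x ∈ S ↔ (x : G) ∈ P := by
  obtain ⟨hle, h2, hi⟩ := hP
  have h3 : IsPGroup 2 (P.subgroupOf H) := h2.of_equiv (Subgroup.subgroupOfEquivOfLe hle).symm
  exact ⟨h3.toSylow hi, fun x => Iff.rfl⟩

/-- `D`-pairs in `H` -/
theorem nonIso_mk (h : Setup G Ω z) {H : Subgroup G} {a b : Ω} (hab : a ≠ b)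
    {d₀ e₀ : G} (hd₀ : d₀ ∈ At z a) (he₀ : e₀ ∈ At z b) (hd₀H : d₀ ∈ H) (he₀H : e₀ ∈ H)
    (hp : ∃ d e : G, d ∈ H ∧ e ∈ H ∧ IsConj z d ∧ IsConj z e ∧ Commute d e ∧ d ≠ e) :
    NonIso (⟨d₀, hd₀H⟩ : H) := by
  obtain ⟨d, e, hd, he, hzd, hze, hc, hne⟩ := hp
  have hconj := isConj_subgroup_iff h hab hd₀ he₀ hd₀H he₀H
  have h1 : IsConj (⟨d₀, hd₀H⟩ : H) ⟨d, hd⟩ := (hconj _).mpr hzd
  have h2 : IsConj (⟨d₀, hd₀H⟩ : H) ⟨e, he⟩ := (hconj _).mpr hze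
  have h3 : NonIso (⟨d, hd⟩ : H) :=
    ⟨⟨e, he⟩, h1.symm.trans h2, Subtype.ext hc.eq, fun hh => hne (congrArg Subtype.val hh).symm⟩
  obtain ⟨f, hf1, hf2, hf3⟩ := h3.exists_of_isConj h1.symm
  exact ⟨f, h1.trans hf1, hf2, hf3⟩

theorem bgroup_of_bact (h : Setup G Ω z) {H : Subgroup G} {a b : Ω} (hab : a ≠ b)
    {d₀ e₀ : G} (hd₀ : d₀ ∈ At z a) (he₀ : e₀ ∈ At z b) (hd₀H : d₀ ∈ H) (he₀H : e₀ ∈ H) {k i : ℕ}
    (hb : BAct H (pts Ω z H) (⟨d₀, hd₀H⟩ : H) k i) : BGroup Ω z H k i := by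
  have hconj := isConj_subgroup_iff h hab hd₀ he₀ hd₀H he₀H
  refine
    { two_le := hb.two_le
      one_le := hb.one_le
      le_three := hb.le_three
      card_pts := hb.card
      two_trans := ?_
      comm := ?_
      card_sylow := ?_
      fusion := ?_
      trans_sylow := ?_ }
  · intro a b c d ha hb' hc hd hab hcd
    obtain ⟨g, h1, h2⟩ := hb.two_trans ⟨a, ha⟩ ⟨b, hb'⟩ ⟨c, hc⟩ ⟨d, hd⟩
      (fun hh => hab (congrArg Subtype.val hh)) (fun hh => hcd (congrArg Subtype.val hh))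
    exact ⟨g, g.2, congrArg Subtype.val h1, congrArg Subtype.val h2⟩
  · intro P hPH hP d hdP e heP hd he
    have h3 : IsPGroup 2 (P.subgroupOf H) := hP.of_equiv (Subgroup.subgroupOfEquivOfLe hPH).symm
    have h4 := hb.comm (P.subgroupOf H) h3 ⟨d, hPH hdP⟩ hdP ⟨e, hPH heP⟩ heP
      ((hconj _).mpr hd) ((hconj _).mpr he)
    exact congrArg Subtype.val h4.eq
  · intro P hP
    obtain ⟨S, hS⟩ := SylTwo.exists_sylow hP
    rw [← hb.card_sylow S]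
    congr 1
    refine Nat.card_congr
      { toFun := fun d => ⟨⟨d.1, hP.1 d.2.1⟩, (hS _).mpr d.2.1, (hconj _).mpr d.2.2⟩
        invFun := fun d => ⟨d.1.1, (hS _).mp d.2.1, (hconj _).mp d.2.2⟩
        left_inv := fun d => rfl
        right_inv := fun d => rfl }
  · intro P hP d hdP e heP hd he
    obtain ⟨S, hS⟩ := SylTwo.exists_sylow hP
    obtain ⟨g, hg1, hg2⟩ := hb.fusion S ⟨d, hP.1 hdP⟩ ((hS _).mpr hdP) ⟨e, hP.1 heP⟩
      ((hS _).mpr heP) ((hconj _).mpr hd) ((hconj _).mpr he)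
    refine ⟨g, g.2, ?_, congrArg Subtype.val hg2⟩
    intro x hx hzx
    exact (hS _).mp (hg1 ⟨x, hP.1 hx⟩ ((hS _).mpr hx) ((hconj _).mpr hzx))
  · intro P hP
    obtain ⟨S, hS⟩ := SylTwo.exists_sylow hP
    obtain ⟨c, hc, hct⟩ := hb.trans_sylow S
    refine ⟨c, c.2, ?_, ?_⟩
    · intro g hg
      exact congrArg Subtype.val (hc ⟨g, hP.1 hg⟩ ((hS _).mpr hg))
    · intro p hp q hq hpc hqc
      obtain ⟨g, hg, hgp⟩ := hct ⟨p, hp⟩ ⟨q, hq⟩ (fun hh => hpc (congrArg Subtype.val hh))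
        (fun hh => hqc (congrArg Subtype.val hh))
      exact ⟨g, (hS _).mp hg, congrArg Subtype.val hgp⟩

/-- **Theorem T**: full form -/
theorem main (hN : NoBadBelow.{u} N)
    (hB : ∀ (X : Type u) [Group X] [Finite X], BenderHolds X) (h : Setup G Ω z)
    {H : Subgroup G} {a b : Ω} (hab : a ≠ b) {d₀ e₀ : G} (hd₀ : d₀ ∈ At z a) (he₀ : e₀ ∈ At z b)
    (hd₀H : d₀ ∈ H) (he₀H : e₀ ∈ H)
    (hp : ∃ d e : G, d ∈ H ∧ e ∈ H ∧ IsConj z d ∧ IsConj z e ∧ Commute d e ∧ d ≠ e)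
    (hcard : Nat.card H < N) : ∃ k i : ℕ, BGroup Ω z H k i ∧
      (∀ c : Ω, ∀ d ∈ H, ∀ e ∈ H, d ∈ At z c → e ∈ At z c →
        ∀ p ∈ pts Ω z H, (d * e * (d * e)) • p = p) ∧
      ∀ a : pts Ω z H, ∃ (t : L (pr H (pts Ω z H) ⟨d₀, hd₀H⟩))
        (Qa : Subgroup (L (pr H (pts Ω z H) ⟨d₀, hd₀H⟩))),
        IsRankOneSetup (L (pr H (pts Ω z H) ⟨d₀, hd₀H⟩)) (pts Ω z H) a t Qa ∧ IsPGroup 2 Qa ∧
        Nat.card Qa = (2 ^ k) ^ i ∧
        Nat.card (involutionsIn (stabilizer (L (pr H (pts Ω z H) ⟨d₀, hd₀H⟩)) a :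
          Set (L (pr H (pts Ω z H) ⟨d₀, hd₀H⟩)))) + 1 = 2 ^ k := by
  have hS := setup_pts h hab hd₀ he₀ hd₀H he₀H
  have hconj := isConj_subgroup_iff h hab hd₀ he₀ hd₀H he₀H
  obtain ⟨k, i, hb, hrank⟩ := bact hN hB hS (nonIso_mk h hab hd₀ he₀ hd₀H he₀H hp) hcard
  refine ⟨k, i, bgroup_of_bact h hab hd₀ he₀ hd₀H he₀H hb, ?_, hrank⟩
  intro c d hd e he hdc hec p hp
  have hc : c ∈ pts Ω z H := ⟨d, hd, hdc⟩
  have h1 : (⟨d, hd⟩ : H) ∈ At (⟨d₀, hd₀H⟩ : H) (⟨c, hc⟩ : pts Ω z H) :=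
    ⟨(hconj _).mpr hdc.1, Subtype.ext hdc.2⟩
  have h2 : (⟨e, he⟩ : H) ∈ At (⟨d₀, hd₀H⟩ : H) (⟨c, hc⟩ : pts Ω z H) :=
    ⟨(hconj _).mpr hec.1, Subtype.ext hec.2⟩
  exact congrArg Subtype.val (hb.comm_mod _ _ h1 _ h2 ⟨p, hp⟩)

/-- **Theorem T** -/
theorem bgroup (hN : NoBadBelow.{u} N)
    (hB : ∀ (X : Type u) [Group X] [Finite X], BenderHolds X) (h : Setup G Ω z)
    {H : Subgroup G} (hH : DSub Ω z H) (hcard : Nat.card H < N) : ∃ k i : ℕ, BGroup Ω z H k i ∧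
      (∀ c : Ω, ∀ d ∈ H, ∀ e ∈ H, d ∈ At z c → e ∈ At z c →
        ∀ p ∈ pts Ω z H, (d * e * (d * e)) • p = p) := by
  obtain ⟨⟨a, b, hab, ⟨d₀, hd₀H, hd₀⟩, e₀, he₀H, he₀⟩, hp⟩ := hH
  obtain ⟨k, i, h1, h2, -⟩ := main hN hB h hab hd₀ he₀ hd₀H he₀H hp hcard
  exact ⟨k, i, h1, h2⟩

end

end Cfsg.Agent.AschCrit.Induct
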