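import Cfsg.Agent.AschCrit.Final
import Cfsg.Agent.AschCrit.CommThree
import Cfsg.Agent.AschCrit.Induct
import Cfsg.Agent.StrongEmb.Main
import Cfsg.Agent.S0205

/-!
# Aschbacher's criterion for groups which are not simple

`M < H`, `z` a 2-central involution of `H` in `M`, `z ^ h ∈ M → h ∈ M`, `C(z z^h) ≤ M` for commuting
`z ≠ z^h`, `z` not isolated, `core_H(M) = 1`.  Then the normal closure `E` of `z` is simple and
`E ∩ M` is strongly embedded in `E`.
-/

set_option autoImplicit false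

universe u

namespace Cfsg.Agent.AschCrit.AC

open Cfsg Cfsg.Agent.AschCrit.Basic Cfsg.Agent.AschCrit.Basic.Setup
open Cfsg.Agent.AschCrit.Closed Cfsg.Agent.AschCrit.Descent Cfsg.Agent.AschCrit.NonIso
open Cfsg.Agent.AschCrit.BGroup Cfsg.Agent.AschCrit.InductFaithful Cfsg.Agent.AschCrit.Induct

theorem noBadBelow (N : ℕ) : NoBadBelow.{u} N :=
  Frame.noBadBelow_of_step
    (Final.stepHolds (fun _ _ _ hK => Cfsg.Agent.S0205.result hK)
      (fun X _ _ => Cfsg.Agent.StrongEmb.Main.bender X) CommThree.caseThree) N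

/-- **Aschbacher's criterion, action form, no simplicity**: the normal closure of `z` is simple and has
no involution with two fixed points. -/
theorem simple_noBad {H Ω : Type u} [Group H] [Finite H] [MulAction H Ω] {z : H}
    (h : Setup H Ω z) (hf : ∀ g : H, (∀ a : Ω, g • a = a) → g = 1) (hn : NonIso z) :
    IsSimpleGroup (Subgroup.normalClosure ({z} : Set H)) ∧
      ∀ v ∈ Subgroup.normalClosure ({z} : Set H), ¬ Bad Ω v :=
  ⟨isSimpleGroup_closure h hf hn,
    noBad_of_below (noBadBelow (Nat.card H + 1)) h hf hn (Nat.lt_succ_self _)⟩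

/-- **Aschbacher's criterion, no simplicity, 2-central `z`.** -/
theorem two_central {H : Type u} [Group H] [Finite H] (M : Subgroup H) (hM : M.normalCore = ⊥)
    (z : H) (hz : orderOf z = 2) (hzM : z ∈ M)
    (h1 : ∃ S : Sylow 2 H, z ∈ S ∧ ∀ s ∈ S, Commute s z)
    (h2 : ∀ g : H, g * z * g⁻¹ ∈ M → g ∈ M)
    (h3 : ∀ g : H, Commute z (g * z * g⁻¹) → g * z * g⁻¹ ≠ z →
      Subgroup.centralizer ({z * (g * z * g⁻¹)} : Set H) ≤ M)
    (hn : ∃ g : H, Commute z (g * z * g⁻¹) ∧ g * z * g⁻¹ ≠ z) :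
    IsSimpleGroup (Subgroup.normalClosure ({z} : Set H)) ∧
      Cfsg.IsStronglyEmbedded (M.subgroupOf (Subgroup.normalClosure ({z} : Set H))) := by
  have hne : M ≠ ⊤ := by
    intro h4
    have h5 : z ∈ M.normalCore := by
      intro g
      rw [h4]; exact Subgroup.mem_top _
    rw [hM, Subgroup.mem_bot] at h5
    rw [h5, orderOf_one] at hz
    exact absurd hz (by norm_num)
  have hs := Frame.setup_quotient M hne z hz hzM h1 h2 h3
  have hf : ∀ g : H, (∀ a : H ⧸ M, g • a = a) → g = 1 := by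
    intro g hg
    have hg' : g ∈ M.normalCore := by
      rw [Subgroup.normalCore_eq_ker, MonoidHom.mem_ker]
      ext a
      exact hg a
    rw [hM] at hg'
    exact Subgroup.mem_bot.mp hg'
  obtain ⟨g, hg1, hg2⟩ := hn
  have hnon : NonIso z := ⟨g * z * g⁻¹, isConj_iff.mpr ⟨g, rfl⟩, hg1, hg2⟩
  obtain ⟨hsim, hbad⟩ := simple_noBad hs hf hnon
  refine ⟨hsim, ?_⟩
  set E := Subgroup.normalClosure ({z} : Set H) with hE
  have hzE : z ∈ E := Subgroup.subset_normalClosure rfl
  have hone : ∀ x : H, x • (QuotientGroup.mk 1 : H ⧸ M) = QuotientGroup.mk 1 ↔ x ∈ M := by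
    intro x
    have e : x • (QuotientGroup.mk 1 : H ⧸ M) = QuotientGroup.mk (x * 1) := rfl
    rw [e, mul_one, eq_comm, QuotientGroup.eq]; simp
  refine ⟨?_, ?_, ?_⟩
  · intro h4
    rw [Subgroup.subgroupOf_eq_top] at h4
    have h5 : E ≤ M.normalCore := (Subgroup.normal_le_normalCore (hN := Subgroup.normalClosure_normal)).mpr h4
    have h6 := h5 hzE
    rw [hM, Subgroup.mem_bot] at h6
    rw [h6, orderOf_one] at hz
    exact absurd hz (by norm_num)
  · have hzM' : (⟨z, hzE⟩ : E) ∈ M.subgroupOf E := Subgroup.mem_subgroupOf.mpr hzM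
    have h4 : orderOf (⟨⟨z, hzE⟩, hzM'⟩ : M.subgroupOf E) = 2 := by
      rw [Subgroup.orderOf_mk, Subgroup.orderOf_mk]; exact hz
    rw [even_iff_two_dvd, ← h4]
    exact orderOf_dvd_natCard _
  · intro x hx
    by_contra hodd
    rw [Nat.not_odd_iff_even, even_iff_two_dvd] at hodd
    obtain ⟨⟨v, hvv⟩, hv⟩ := exists_prime_orderOf_dvd_card' 2 hodd
    rw [Subgroup.orderOf_mk] at hv
    obtain ⟨hv1, hv2⟩ := Subgroup.mem_inf.mp hvv
    obtain ⟨w, hw, hwv⟩ := Subgroup.mem_map.mp hv2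
    have hvM : (v : H) ∈ M := hv1
    have hwM : (w : H) ∈ M := hw
    have e1 : (v : H) = x * w * (x : H)⁻¹ := by
      have := congrArg (Subtype.val) hwv
      simpa using this.symm
    refine hbad v v.2 ⟨?_, QuotientGroup.mk 1, QuotientGroup.mk (x : H), ?_, (hone _).mpr hvM, ?_⟩
    · rw [Subgroup.orderOf_coe]; exact hv
    · intro h7
      apply hx
      rw [QuotientGroup.eq] at h7
      have h8 : (x : H) ∈ M := by simpa using h7
      exact h8
    · have e2 : (v : H) • (QuotientGroup.mk (x : H) : H ⧸ M) = QuotientGroup.mk ((v : H) * x) := rfl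
      rw [e2, e1, eq_comm, QuotientGroup.eq]
      have : (x : H)⁻¹ * ((x : H) * w * (x : H)⁻¹ * x) = w := by group
      rw [this]; exact hwM

end Cfsg.Agent.AschCrit.AC
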