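import Mathlib
import Cfsg.Prelude.Def_Involutions
import Cfsg.Agent.TwoFusion.StronglyEmbeddedBasic
import Cfsg.Agent.S0029

/-!
# Aschbacher's criterion for strong embedding: the set-up and the first facts

`G` acts transitively on `Ω` (at least two points), `z` is a 2-central involution with a unique fixed
point `a`, and for every conjugate `z' ≠ z` of `z` commuting with `z` the centraliser of `z z'` fixes
`a`.  `D` = the class of `z` (written `IsConj z d`).

* `Setup.comm'` : for commuting `d ≠ e` in `D` with fixed point `a`, `C(de)` fixes `a`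
* `Setup.odd_mul` : `d, e ∈ D` at different points have product of odd order
* `Setup.exists_swap`, `Setup.swap_unique` : the unique `x ∈ D` with `x d x⁻¹ = e`
* `Setup.card_at_eq`, `Setup.card_swap` : `|D_a| = m` for all `a`, `|D ∩ I(a,b)| = m`
* `Setup.odd_card_at`, `Setup.odd_card_points` : `m` and `|Ω|` are odd
* `Setup.exists_commute_of_fix` : a 2-subgroup fixing `a` centralises an element of `D_a`
* `Setup.exists_swap_commute` : a 2-subgroup fixing `a ≠ b` is centralised by an `x ∈ D` swapping them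
* `Setup.isolated` : `x ∈ D` swapping `a ≠ b` is isolated in `G_{ab}⟨x⟩`
-/

set_option autoImplicit false

namespace Cfsg.Agent.AschCrit.Basic

open Cfsg.Agent.TwoFusion.StronglyEmbeddedBasic

section Dihedral

variable {G : Type*} [Group G]

/-- If the product of two involutions `a`, `b` has even order, the involution `w` of `⟨ab⟩` commutes
with both, and `aw` is conjugate to `a` or to `b`. -/
theorem exists_central (a b : G) (ha : orderOf a = 2) (hb : orderOf b = 2)
    (hpos : 0 < orderOf (a * b)) (hab : ¬ Odd (orderOf (a * b))) :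
    ∃ w ∈ Subgroup.zpowers (a * b), orderOf w = 2 ∧ Commute w a ∧ Commute w b ∧
      (IsConj a (a * w) ∨ IsConj b (a * w)) := by
  rw [Nat.not_odd_iff_even] at hab
  obtain ⟨k, hk⟩ := hab
  have ha2 := mul_self_of_orderOf ha
  have hb2 := mul_self_of_orderOf hb
  have hai := inv_eq_self_of_orderOf ha
  have hbi := inv_eq_self_of_orderOf hb
  set w := a * b with hw
  have hwi : w⁻¹ = b * a := by rw [hw, mul_inv_rev, hai, hbi]
  have hkpos : 0 < k := by omega
  have hzz : w ^ k * w ^ k = 1 := by rw [← pow_add, ← hk]; exact pow_orderOf_eq_one w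
  have hz1 : w ^ k ≠ 1 := by
    intro h
    have := orderOf_dvd_of_pow_eq_one h
    have := Nat.le_of_dvd hkpos this
    omega
  have hzi : (w ^ k)⁻¹ = w ^ k := inv_eq_of_mul_eq_one_right hzz
  have hsa : SemiconjBy a w w⁻¹ := by
    show a * w = w⁻¹ * a
    rw [hwi, hw, ← mul_assoc, ha2, mul_assoc, ha2]; simp
  have hsb : SemiconjBy b w w⁻¹ := by
    show b * w = w⁻¹ * b
    rw [hwi, hw, mul_assoc]
  have hpa : ∀ j : ℕ, a * w ^ j = (w ^ j)⁻¹ * a := by
    intro j
    have := (hsa.pow_right j).eq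
    rwa [inv_pow] at this
  refine ⟨w ^ k, Subgroup.npow_mem_zpowers w k, orderOf_eq_two_of_mul_self hzz hz1, ?_, ?_, ?_⟩
  · have := (hsa.pow_right k).eq
    rw [inv_pow, hzi] at this
    exact this.symm
  · have := (hsb.pow_right k).eq
    rw [inv_pow, hzi] at this
    exact this.symm
  · rcases Nat.even_or_odd' k with ⟨j, hj | hj⟩
    · left
      rw [isConj_iff]
      refine ⟨(w ^ j)⁻¹, ?_⟩
      rw [inv_inv, ← hpa, hj, mul_assoc, ← pow_add]
      congr 2; ring
    · right
      rw [isConj_iff]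
      refine ⟨(w ^ j)⁻¹, ?_⟩
      have h1 : b = a * w := by rw [hw, ← mul_assoc, ha2, one_mul]
      rw [inv_inv]
      conv_lhs => rw [h1]
      rw [← mul_assoc (w ^ j)⁻¹, ← hpa, mul_assoc, mul_assoc, ← pow_succ', ← pow_add, hj]
      congr 2; ring

/-- Version of `exists_swap` recording that the swapping involution is conjugate to `a`. -/
theorem exists_swap_conj (a b : G) (ha : orderOf a = 2) (hb : orderOf b = 2)
    (hab : Odd (orderOf (a * b))) :
    ∃ j ∈ Subgroup.closure ({a, b} : Set G), IsConj a j ∧ j * a * j⁻¹ = b ∧ j * b * j⁻¹ = a := by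
  obtain ⟨k, hk⟩ := hab
  have ha2 := mul_self_of_orderOf ha
  have hb2 := mul_self_of_orderOf hb
  have hai := inv_eq_self_of_orderOf ha
  have hbi := inv_eq_self_of_orderOf hb
  set w := a * b with hw
  have hwi : w⁻¹ = b * a := by rw [hw, mul_inv_rev, hai, hbi]
  have hw1 : w ^ (2 * k + 1) = 1 := by rw [← hk]; exact pow_orderOf_eq_one w
  have hsa : SemiconjBy a w w⁻¹ := by
    show a * w = w⁻¹ * a
    rw [hwi, hw, ← mul_assoc, ha2, mul_assoc, ha2]; simp
  have hpa : ∀ j : ℕ, a * w ^ j = (w ^ j)⁻¹ * a := by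
    intro j
    have := (hsa.pow_right j).eq
    rwa [inv_pow] at this
  have hpa' : ∀ j : ℕ, w ^ j * a = a * (w ^ j)⁻¹ := by
    intro j
    have h := congrArg (fun z => w ^ j * z * (w ^ j)⁻¹) (hpa j)
    simp only [mul_assoc, mul_inv_cancel, mul_one, mul_inv_cancel_left] at h
    exact h
  -- `j = w ^ k * a = (a-conjugate)`
  have hs : ∃ s : ℕ, w ^ s * w ^ s = w ^ k := by
    rcases Nat.even_or_odd' k with ⟨j, hj | hj⟩
    · exact ⟨j, by rw [← pow_add, hj]; congr 1; ring⟩
    · refine ⟨3 * j + 2, ?_⟩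
      have : 3 * j + 2 + (3 * j + 2) = (2 * k + 1) + k := by omega
      rw [← pow_add, this, pow_add, hw1, one_mul]
  obtain ⟨s, hs⟩ := hs
  have hj : w ^ s * a * (w ^ s)⁻¹ = w ^ k * a := by
    rw [mul_assoc, ← hpa', ← mul_assoc, hs]
  have hjj : (w ^ k * a) * (w ^ k * a) = 1 := by
    rw [← hj]
    calc w ^ s * a * (w ^ s)⁻¹ * (w ^ s * a * (w ^ s)⁻¹) = w ^ s * (a * a) * (w ^ s)⁻¹ := by group
      _ = 1 := by rw [ha2]; group
  have hji : (w ^ k * a)⁻¹ = w ^ k * a := inv_eq_of_mul_eq_one_right hjj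
  have hja : (w ^ k * a) * a = b * (w ^ k * a) := by
    have h1 : (w ^ k * a) * a = w ^ k := by rw [mul_assoc, ha2, mul_one]
    have h2 : b * (w ^ k * a) = w⁻¹ * (w ^ k)⁻¹ := by
      rw [hpa', ← mul_assoc, ← hwi]
    rw [h1, h2, ← mul_inv_rev, eq_inv_iff_mul_eq_one, ← pow_succ, ← pow_add]
    rw [← hw1]; congr 1; ring
  have hconj : (w ^ k * a) * a * (w ^ k * a)⁻¹ = b := by
    rw [hja]; group
  refine ⟨w ^ k * a, ?_, isConj_iff.mpr ⟨w ^ s, hj⟩, hconj, ?_⟩
  · have haM : a ∈ Subgroup.closure ({a, b} : Set G) :=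
      Subgroup.subset_closure (by simp)
    have hbM : b ∈ Subgroup.closure ({a, b} : Set G) :=
      Subgroup.subset_closure (by simp)
    exact mul_mem (pow_mem (mul_mem haM hbM) k) haM
  · rw [← hconj]
    calc w ^ k * a * (w ^ k * a * a * (w ^ k * a)⁻¹) * (w ^ k * a)⁻¹
        = (w ^ k * a * (w ^ k * a)) * a * ((w ^ k * a) * (w ^ k * a))⁻¹ := by group
      _ = a := by rw [hjj]; group

end Dihedral

/-- The set-up of Aschbacher's criterion, in action form. -/
structure Setup (G Ω : Type*) [Group G] [MulAction G Ω] (z : G) : Prop where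
  invol : orderOf z = 2
  central : ∃ S : Sylow 2 G, z ∈ S ∧ ∀ s ∈ S, Commute s z
  nontriv : ∃ a b : Ω, a ≠ b
  trans : ∀ a b : Ω, ∃ g : G, g • a = b
  exists_fix : ∃ a : Ω, z • a = a
  fix_unique : ∀ a b : Ω, z • a = a → z • b = b → a = b
  comm : ∀ g : G, Commute z (g * z * g⁻¹) → g * z * g⁻¹ ≠ z →
    ∀ c : G, Commute c (z * (g * z * g⁻¹)) → ∀ a : Ω, z • a = a → c • a = a

namespace Setup

variable {G Ω : Type*} [Group G] [MulAction G Ω] {z : G}

theorem orderOf_eq (h : Setup G Ω z) {d : G} (hd : IsConj z d) : orderOf d = 2 := by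
  obtain ⟨g, hg⟩ := isConj_iff.mp hd
  rw [← hg, orderOf_conj, h.invol]

theorem mul_self (h : Setup G Ω z) {d : G} (hd : IsConj z d) : d * d = 1 :=
  mul_self_of_orderOf (h.orderOf_eq hd)

theorem inv_eq (h : Setup G Ω z) {d : G} (hd : IsConj z d) : d⁻¹ = d :=
  inv_eq_self_of_orderOf (h.orderOf_eq hd)

theorem smul_smul_self (h : Setup G Ω z) {d : G} (hd : IsConj z d) (a : Ω) : d • d • a = a := by
  rw [smul_smul, h.mul_self hd, one_smul]

theorem conj_mem {d : G} (hd : IsConj z d) (g : G) : IsConj z (g * d * g⁻¹) :=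
  hd.trans (isConj_iff.mpr ⟨g, rfl⟩)

theorem conj_mem_inv {d : G} (hd : IsConj z d) (g : G) : IsConj z (g⁻¹ * d * g) := by
  have := conj_mem hd g⁻¹
  rwa [inv_inv] at this

/-- every element of `D` fixes a point -/
theorem ex (h : Setup G Ω z) {d : G} (hd : IsConj z d) : ∃ a : Ω, d • a = a := by
  obtain ⟨g, rfl⟩ := isConj_iff.mp hd
  obtain ⟨a, ha⟩ := h.exists_fix
  exact ⟨g • a, by rw [mul_smul, mul_smul, inv_smul_smul, ha]⟩

/-- the fixed point of an element of `D` is unique -/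
theorem uniq (h : Setup G Ω z) {d : G} (hd : IsConj z d) {a b : Ω} (ha : d • a = a)
    (hb : d • b = b) : a = b := by
  obtain ⟨g, rfl⟩ := isConj_iff.mp hd
  have h1 : ∀ x : Ω, (g * z * g⁻¹) • x = x → z • (g⁻¹ • x) = g⁻¹ • x := by
    intro x hx
    rw [mul_smul, mul_smul] at hx
    exact smul_left_cancel g (by rw [hx, smul_inv_smul])
  have := h.fix_unique _ _ (h1 a ha) (h1 b hb)
  exact smul_left_cancel g⁻¹ this

/-- an element commuting with `d ∈ D` fixes the point of `d` -/
theorem fix_of_commute (h : Setup G Ω z) {d c : G} (hd : IsConj z d) (hc : Commute c d) {a : Ω}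
    (ha : d • a = a) : c • a = a := by
  refine (h.uniq hd ha ?_).symm
  rw [smul_smul, ← hc.eq, mul_smul, ha]

theorem comm' (h : Setup G Ω z) {d e c : G} (hd : IsConj z d) (he : IsConj z e)
    (hde : Commute d e) (hne : d ≠ e) (hc : Commute c (d * e)) {a : Ω} (ha : d • a = a) :
    c • a = a := by
  obtain ⟨k, rfl⟩ := isConj_iff.mp hd
  have he' : IsConj z (k⁻¹ * e * k) := conj_mem_inv he k
  obtain ⟨g, hg⟩ := isConj_iff.mp he'
  have e1 : z = k⁻¹ * (k * z * k⁻¹) * k := by group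
  have h1 : Commute z (g * z * g⁻¹) := by
    rw [hg]
    conv_lhs => rw [e1]
    show k⁻¹ * (k * z * k⁻¹) * k * (k⁻¹ * e * k) = k⁻¹ * e * k * (k⁻¹ * (k * z * k⁻¹) * k)
    calc k⁻¹ * (k * z * k⁻¹) * k * (k⁻¹ * e * k) = k⁻¹ * ((k * z * k⁻¹) * e) * k := by group
      _ = k⁻¹ * (e * (k * z * k⁻¹)) * k := by rw [hde.eq]
      _ = _ := by group
  have h2 : g * z * g⁻¹ ≠ z := by
    rw [hg]
    intro hh
    apply hne
    calc k * z * k⁻¹ = k * (k⁻¹ * e * k) * k⁻¹ := by rw [hh]
      _ = e := by group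
  have h3 : Commute (k⁻¹ * c * k) (z * (g * z * g⁻¹)) := by
    rw [hg]
    show k⁻¹ * c * k * (z * (k⁻¹ * e * k)) = z * (k⁻¹ * e * k) * (k⁻¹ * c * k)
    calc k⁻¹ * c * k * (z * (k⁻¹ * e * k)) = k⁻¹ * (c * ((k * z * k⁻¹) * e)) * k := by group
      _ = k⁻¹ * (((k * z * k⁻¹) * e) * c) * k := by rw [hc.eq]
      _ = _ := by group
  have h4 : z • (k⁻¹ • a) = k⁻¹ • a := by
    rw [mul_smul, mul_smul] at ha
    exact smul_left_cancel k (by rw [ha, smul_inv_smul])
  have := h.comm g h1 h2 _ h3 _ h4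
  rw [mul_smul, mul_smul, smul_inv_smul] at this
  exact smul_left_cancel k⁻¹ this

/-- elements of `D` at different points have product of odd order -/
theorem odd_mul [Finite G] (h : Setup G Ω z) {d e : G} (hd : IsConj z d) (he : IsConj z e)
    {a b : Ω} (ha : d • a = a) (hb : e • b = b) (hab : a ≠ b) : Odd (orderOf (d * e)) := by
  by_contra hodd
  obtain ⟨w, -, hw2, hwd, hwe, hwc⟩ :=
    exists_central d e (h.orderOf_eq hd) (h.orderOf_eq he) (orderOf_pos _) hodd
  have hdw : IsConj z (d * w) := by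
    rcases hwc with hc | hc
    · exact hd.trans hc
    · exact he.trans hc
  have hw1 : w ≠ 1 := by
    intro h1; rw [h1, orderOf_one] at hw2; exact absurd hw2 (by norm_num)
  have hcomm : Commute d (d * w) := (Commute.refl d).mul_right hwd.symm
  have hne : d ≠ d * w := by
    intro hh
    exact hw1 (by simpa using hh.symm)
  have hprod : d * (d * w) = w := by rw [← mul_assoc, h.mul_self hd, one_mul]
  have := h.comm' hd hdw hcomm hne (c := e) (by rw [hprod]; exact hwe.symm) ha
  exact hab (h.uniq he this hb)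

/-- elements of `D` at different points are swapped by an element of `D` in `⟨d, e⟩` -/
theorem exists_swap [Finite G] (h : Setup G Ω z) {d e : G} (hd : IsConj z d) (he : IsConj z e)
    {a b : Ω} (ha : d • a = a) (hb : e • b = b) (hab : a ≠ b) :
    ∃ x ∈ Subgroup.closure ({d, e} : Set G), IsConj z x ∧ x * d * x⁻¹ = e ∧ x * e * x⁻¹ = d ∧
      x • a = b ∧ x • b = a := by
  obtain ⟨j, hj, hjc, hjd, hje⟩ := exists_swap_conj d e (h.orderOf_eq hd) (h.orderOf_eq he)
    (h.odd_mul hd he ha hb hab)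
  refine ⟨j, hj, hd.trans hjc, hjd, hje, ?_, ?_⟩
  · refine h.uniq he ?_ hb
    rw [← hjd, mul_smul, mul_smul, inv_smul_smul, ha]
  · refine h.uniq hd ?_ ha
    rw [← hje, mul_smul, mul_smul, inv_smul_smul, hb]

/-- two commuting elements of `D` moving `a` cannot have a product centralising an element of
`D_a` unless they are equal -/
theorem eq_of_commute_commute (h : Setup G Ω z) {d x y : G} (hd : IsConj z d)
    (hx : IsConj z x) (hy : IsConj z y) {a : Ω} (ha : d • a = a) (hxa : x • a ≠ a)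
    (hxy : Commute x y) (hdxy : Commute d (x * y)) : x = y := by
  by_contra hne
  obtain ⟨c, hc⟩ := h.ex hx
  have := h.comm' hx hy hxy hne hdxy hc
  have hac := h.uniq hd ha this
  exact hxa (by rw [hac, hc])

/-- uniqueness of the swapping element -/
theorem eq_swap [Finite G] (h : Setup G Ω z) {d x : G} (hd : IsConj z d) (hx : IsConj z x)
    {a : Ω} (ha : d • a = a) (hxa : x • a ≠ a) {j : G} (hj : IsConj z j)
    (hjm : j ∈ Subgroup.closure ({d, x * d * x⁻¹} : Set G)) (hjd : j * d * j⁻¹ = x * d * x⁻¹) :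
    x = j := by
  have hxi := h.inv_eq hx
  have hji := h.inv_eq hj
  -- `j x` commutes with `d` and with `e = x d x`
  have h1 : Commute (j * x) d := by
    show j * x * d = d * (j * x)
    have e1 : j * (x * d * x⁻¹) * j⁻¹ = d := by
      rw [← hjd]
      calc j * (j * d * j⁻¹) * j⁻¹ = (j * j) * d * (j * j)⁻¹ := by group
        _ = d := by rw [h.mul_self hj]; group
    calc j * x * d = (j * (x * d * x⁻¹) * j⁻¹) * (j * x) := by group
      _ = d * (j * x) := by rw [e1]
  have h2 : Commute (j * x) (x * d * x⁻¹) := by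
    show j * x * (x * d * x⁻¹) = (x * d * x⁻¹) * (j * x)
    have e2 : x * (x * d * x⁻¹) * x⁻¹ = d := by
      calc x * (x * d * x⁻¹) * x⁻¹ = (x * x) * d * (x * x)⁻¹ := by group
        _ = d := by rw [h.mul_self hx]; group
    calc j * x * (x * d * x⁻¹) = j * (x * (x * d * x⁻¹) * x⁻¹) * j⁻¹ * (j * x) := by group
      _ = (j * d * j⁻¹) * (j * x) := by rw [e2]
      _ = (x * d * x⁻¹) * (j * x) := by rw [hjd]
  have h3 : Commute (j * x) j := by
    have hle : Subgroup.closure ({d, x * d * x⁻¹} : Set G) ≤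
        Subgroup.centralizer ({j * x} : Set G) := by
      rw [Subgroup.closure_le]
      rintro y (rfl | rfl)
      · rw [SetLike.mem_coe, Subgroup.mem_centralizer_singleton_iff]; exact h1.symm.eq
      · rw [SetLike.mem_coe, Subgroup.mem_centralizer_singleton_iff]; exact h2.symm.eq
    have := hle hjm
    rw [Subgroup.mem_centralizer_singleton_iff] at this
    exact (show j * (j * x) = j * x * j from this).symm
  have h4 : Commute x j := by
    have : j * x * j = j * (j * x) := h3.eq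
    have h5 : x * j = j * x := by
      have := congrArg (fun y => j⁻¹ * y) this
      simpa [mul_assoc] using this
    exact h5
  refine h.eq_of_commute_commute hd hx hj ha hxa h4 ?_
  rw [h4.eq]; exact h1.symm

/-- uniqueness of the element of `D` mapping `d` to a given element at another point -/
theorem swap_unique [Finite G] (h : Setup G Ω z) {d x y : G} (hd : IsConj z d)
    (hx : IsConj z x) (hy : IsConj z y) {a : Ω} (ha : d • a = a) (hxa : x • a ≠ a)
    (hxy : x * d * x⁻¹ = y * d * y⁻¹) : x = y := by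
  have he : IsConj z (x * d * x⁻¹) := conj_mem hd x
  have hb : (x * d * x⁻¹) • (x • a) = x • a := by
    rw [mul_smul, mul_smul, inv_smul_smul, ha]
  obtain ⟨j, hjm, hj, hjd, -, hja, -⟩ := h.exists_swap hd he ha hb (Ne.symm hxa)
  have h1 : x = j := h.eq_swap hd hx ha hxa hj hjm hjd
  have hya : y • a ≠ a := by
    have hb' : (y * d * y⁻¹) • (y • a) = y • a := by
      rw [mul_smul, mul_smul, inv_smul_smul, ha]
    rw [← hxy] at hb'
    rw [h.uniq he hb' hb]; exact hxa
  have h2 : y = j := h.eq_swap hd hy ha hya hj (by rw [← hxy]; exact hjm) (by rw [← hxy]; exact hjd)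
  rw [h1, h2]

/-! ### Counting -/

/-- `D_a` -/
def At (z : G) (a : Ω) : Set G := {d | IsConj z d ∧ d • a = a}

/-- `D ∩ I(a,b)`: the elements of `D` mapping `a` to `b` (for `a ≠ b` they swap them). -/
def Sw (z : G) (a b : Ω) : Set G := {x | IsConj z x ∧ x • a = b}

theorem mem_At {a : Ω} {d : G} : d ∈ At z a ↔ IsConj z d ∧ d • a = a := Iff.rfl

theorem mem_Sw {a b : Ω} {d : G} : d ∈ Sw z a b ↔ IsConj z d ∧ d • a = b := Iff.rfl

theorem Sw_symm (h : Setup G Ω z) (a b : Ω) : Sw z a b = Sw z b a := by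
  ext x
  constructor
  · rintro ⟨hx, rfl⟩; exact ⟨hx, h.smul_smul_self hx a⟩
  · rintro ⟨hx, rfl⟩; exact ⟨hx, h.smul_smul_self hx b⟩

theorem conj_mem_At {a : Ω} {d : G} (g : G) (hd : d ∈ At z a) : g * d * g⁻¹ ∈ At z (g • a) :=
  ⟨conj_mem hd.1 g, by rw [mul_smul, mul_smul, inv_smul_smul, hd.2]⟩

theorem conj_mem_Sw {a b : Ω} {x : G} (g : G) (hx : x ∈ Sw z a b) :
    g * x * g⁻¹ ∈ Sw z (g • a) (g • b) :=
  ⟨conj_mem hx.1 g, by rw [mul_smul, mul_smul, inv_smul_smul, hx.2]⟩

/-- conjugation by `g` as a bijection `D_a → D_{ga}` -/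
def atEquiv (g : G) (a : Ω) : At z a ≃ At z (g • a) where
  toFun d := ⟨g * d * g⁻¹, conj_mem_At g d.2⟩
  invFun d := ⟨g⁻¹ * d * g, by
    have := conj_mem_At g⁻¹ d.2
    rwa [inv_inv, inv_smul_smul] at this⟩
  left_inv d := by ext; simp [mul_assoc]
  right_inv d := by ext; simp [mul_assoc]

theorem nonempty_At (h : Setup G Ω z) (a : Ω) : (At z a).Nonempty := by
  obtain ⟨b, hb⟩ := h.exists_fix
  obtain ⟨g, rfl⟩ := h.trans b a
  exact ⟨g * z * g⁻¹, conj_mem_At g ⟨IsConj.refl z, hb⟩⟩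

theorem card_at_eq (h : Setup G Ω z) (a b : Ω) : Nat.card (At z a) = Nat.card (At z b) := by
  obtain ⟨g, rfl⟩ := h.trans a b
  exact Nat.card_congr (atEquiv g a)

/-- two elements of `D_a` are conjugate under the stabiliser of `a` -/
theorem exists_conj_at (h : Setup G Ω z) {a : Ω} {d e : G} (hd : d ∈ At z a) (he : e ∈ At z a) :
    ∃ g : G, g • a = a ∧ g * d * g⁻¹ = e := by
  obtain ⟨g, hg⟩ := isConj_iff.mp (hd.1.symm.trans he.1)
  refine ⟨g, ?_, hg⟩
  refine h.uniq he.1 ?_ he.2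
  rw [← hg, mul_smul, mul_smul, inv_smul_smul, hd.2]

/-- the bijection `D ∩ I(a,b) → D_b`, `x ↦ x d x⁻¹` for a fixed `d ∈ D_a` -/
theorem bijective_swap [Finite G] (h : Setup G Ω z) {a b : Ω} (hab : a ≠ b) {d : G}
    (hd : d ∈ At z a) :
    Function.Bijective (fun x : Sw z a b => (⟨x.1 * d * x.1⁻¹, by
      have := conj_mem_At x.1 hd
      rwa [x.2.2] at this⟩ : At z b)) := by
  constructor
  · rintro ⟨x, hx⟩ ⟨y, hy⟩ hxy
    have hxy' : x * d * x⁻¹ = y * d * y⁻¹ := congrArg Subtype.val hxy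
    refine Subtype.ext (h.swap_unique hd.1 hx.1 hy.1 hd.2 ?_ hxy')
    rw [hx.2]; exact Ne.symm hab
  · rintro ⟨e, he⟩
    obtain ⟨x, -, hx, hxd, -, hxa, -⟩ := h.exists_swap hd.1 he.1 hd.2 he.2 hab
    exact ⟨⟨x, hx, hxa⟩, Subtype.ext hxd⟩

theorem card_swap [Finite G] (h : Setup G Ω z) {a b : Ω} (hab : a ≠ b) :
    Nat.card (Sw z a b) = Nat.card (At z a) := by
  obtain ⟨d, hd⟩ := h.nonempty_At a
  rw [Nat.card_congr (Equiv.ofBijective _ (h.bijective_swap hab hd)), h.card_at_eq b a]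

theorem finite_points [Finite G] (h : Setup G Ω z) : Finite Ω := by
  obtain ⟨a, -⟩ := h.exists_fix
  refine Finite.of_surjective (fun g : G => g • a) ?_
  intro b
  obtain ⟨g, hg⟩ := h.trans a b
  exact ⟨g, hg⟩

/-- the class `D` is the disjoint union of the `D_a` -/
noncomputable def classEquiv (h : Setup G Ω z) : {d : G // IsConj z d} ≃ Σ a : Ω, At z a where
  toFun d := ⟨(h.ex d.2).choose, d.1, d.2, (h.ex d.2).choose_spec⟩
  invFun p := ⟨p.2.1, p.2.2.1⟩
  left_inv d := rfl
  right_inv p := by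
    obtain ⟨a, d, hd, hda⟩ := p
    have : (h.ex hd).choose = a := h.uniq hd (h.ex hd).choose_spec hda
    subst this
    rfl

theorem card_class [Finite G] (h : Setup G Ω z) (a : Ω) :
    Nat.card {d : G // IsConj z d} = Nat.card Ω * Nat.card (At z a) := by
  have := h.finite_points
  have : Fintype Ω := Fintype.ofFinite Ω
  rw [Nat.card_congr h.classEquiv, Nat.card_sigma]
  rw [Finset.sum_congr rfl (fun b _ => h.card_at_eq b a), Finset.sum_const, Finset.card_univ,
    Nat.card_eq_fintype_card (α := Ω), smul_eq_mul]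

theorem odd_card_class [Finite G] (h : Setup G Ω z) : Odd (Nat.card {d : G // IsConj z d}) := by
  obtain ⟨S, hzS, hS⟩ := h.central
  have h1 : Nat.card {d : G // IsConj z d} = (Subgroup.centralizer ({z} : Set G)).index := by
    have h2 : Nat.card {d : G // IsConj z d} = (MulAction.orbit (ConjAct G) z).ncard := by
      rw [← Nat.card_coe_set_eq]
      apply Nat.card_congr
      refine Equiv.subtypeEquivRight (fun d => ?_)
      rw [ConjAct.mem_orbit_conjAct]
      exact isConj_comm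
    rw [h2, ← MulAction.index_stabilizer, ConjAct.stabilizer_eq_centralizer]
    rfl
  rw [h1]
  have hle : (S : Subgroup G) ≤ Subgroup.centralizer ({z} : Set G) := by
    intro s hs
    rw [Subgroup.mem_centralizer_singleton_iff]
    exact (hS s hs).eq
  have h3 : ¬ 2 ∣ (S : Subgroup G).index := S.not_dvd_index
  rw [← Nat.not_even_iff_odd, even_iff_two_dvd]
  intro h4
  exact h3 (dvd_trans h4 (Subgroup.index_dvd_of_le hle))

theorem odd_card_at [Finite G] (h : Setup G Ω z) (a : Ω) : Odd (Nat.card (At z a)) := by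
  have := h.odd_card_class
  rw [h.card_class a] at this
  exact (Nat.odd_mul.mp this).2

theorem odd_card_points [Finite G] (h : Setup G Ω z) : Odd (Nat.card Ω) := by
  obtain ⟨a, -⟩ := h.exists_fix
  have := h.odd_card_class
  rw [h.card_class a] at this
  exact (Nat.odd_mul.mp this).1

theorem odd_card_swap [Finite G] (h : Setup G Ω z) {a b : Ω} (hab : a ≠ b) :
    Odd (Nat.card (Sw z a b)) := by
  rw [h.card_swap hab]; exact h.odd_card_at a

/-! ### 2-subgroups with fixed points -/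

/-- a 2-subgroup fixing `a` centralises an element of `D_a` -/
theorem exists_commute_of_fix [Finite G] (h : Setup G Ω z) (T : Subgroup G) (hT : IsPGroup 2 T)
    {a : Ω} (hTa : ∀ t ∈ T, t • a = a) : ∃ d ∈ At z a, ∀ t ∈ T, Commute d t := by
  obtain ⟨d, hd, hdT⟩ := Cfsg.Agent.S0029.exists_conj_fixed T hT (At z a)
    (fun t ht d hd => by
      have := conj_mem_At t hd
      rwa [hTa t ht] at this)
    (fun h2 => by
      have := h.odd_card_at a
      exact (Nat.not_even_iff_odd.mpr this) (even_iff_two_dvd.mpr h2))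
  refine ⟨d, hd, fun t ht => ?_⟩
  have := hdT t ht
  have h1 : t * d = d * t := by
    calc t * d = t * d * t⁻¹ * t := by group
      _ = d * t := by rw [this]
  exact h1.symm

/-- elementwise version: an element of order dividing two fixing `a` centralises an element of
`D_a` -/
theorem exists_commute_of_mul_self [Finite G] (h : Setup G Ω z) {w : G} (hw : w * w = 1) {a : Ω}
    (hwa : w • a = a) : ∃ d ∈ At z a, Commute d w := by
  have hT : IsPGroup 2 (Subgroup.zpowers w) := by
    rintro ⟨t, k, rfl⟩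
    refine ⟨1, ?_⟩
    ext
    simp only [pow_one, Subgroup.coe_pow, Subgroup.coe_one]
    rw [← zpow_natCast, ← zpow_mul, mul_comm, zpow_mul, zpow_natCast, pow_two, hw, one_zpow]
  have hfix : ∀ t ∈ Subgroup.zpowers w, t • a = a := by
    intro t ht
    have hle : Subgroup.zpowers w ≤ MulAction.stabilizer G a := by
      rw [Subgroup.zpowers_le]; exact hwa
    exact hle ht
  obtain ⟨d, hd, hdT⟩ := h.exists_commute_of_fix _ hT hfix
  exact ⟨d, hd, hdT w (Subgroup.mem_zpowers w)⟩

/-- a subgroup containing elements of `D_a` and `D_b`, `a ≠ b`, contains an element of `D` swapping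
`a` and `b` -/
theorem exists_swap_mem [Finite G] (h : Setup G Ω z) (H : Subgroup G) {a b : Ω} (hab : a ≠ b)
    {d e : G} (hd : d ∈ At z a) (he : e ∈ At z b) (hdH : d ∈ H) (heH : e ∈ H) :
    ∃ x ∈ H, x ∈ Sw z a b ∧ x * d * x⁻¹ = e ∧ x * e * x⁻¹ = d := by
  obtain ⟨x, hxm, hx, hxd, hxe, hxa, -⟩ := h.exists_swap hd.1 he.1 hd.2 he.2 hab
  refine ⟨x, ?_, ⟨hx, hxa⟩, hxd, hxe⟩
  have : Subgroup.closure ({d, e} : Set G) ≤ H := by
    rw [Subgroup.closure_le]
    rintro y (rfl | rfl)
    · exact hdH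
    · exact heH
  exact this hxm

/-- a 2-subgroup fixing `a ≠ b` is centralised by an element of `D` swapping `a` and `b` -/
theorem exists_swap_commute [Finite G] (h : Setup G Ω z) (T : Subgroup G) (hT : IsPGroup 2 T)
    {a b : Ω} (hab : a ≠ b) (hTa : ∀ t ∈ T, t • a = a) (hTb : ∀ t ∈ T, t • b = b) :
    ∃ x ∈ Sw z a b, ∀ t ∈ T, Commute x t := by
  obtain ⟨d, hd, hdT⟩ := h.exists_commute_of_fix T hT hTa
  obtain ⟨e, he, heT⟩ := h.exists_commute_of_fix T hT hTb
  have hmem : ∀ y : G, (∀ t ∈ T, Commute y t) → y ∈ Subgroup.centralizer (T : Set G) := by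
    intro y hy
    rw [Subgroup.mem_centralizer_iff]
    intro t ht
    exact (hy t ht).symm.eq
  obtain ⟨x, hxH, hx, -, -⟩ := h.exists_swap_mem (Subgroup.centralizer (T : Set G)) hab hd he
    (hmem d hdT) (hmem e heT)
  refine ⟨x, hx, fun t ht => ?_⟩
  rw [Subgroup.mem_centralizer_iff] at hxH
  exact (hxH t ht).symm

/-- commuting elements of `D` moving `a` to the same point `b ≠ a` are equal -/
theorem eq_of_commute_swap [Finite G] (h : Setup G Ω z) {a b : Ω} (hab : a ≠ b) {x y : G}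
    (hx : x ∈ Sw z a b) (hy : y ∈ Sw z a b) (hxy : Commute x y) : x = y := by
  have hw : (x * y) * (x * y) = 1 := by
    rw [hxy.symm.mul_mul_mul_comm, h.mul_self hx.1, h.mul_self hy.1, one_mul]
  have hwa : (x * y) • a = a := by
    rw [mul_smul, hy.2, ← hx.2, h.smul_smul_self hx.1]
  obtain ⟨d, hd, hdw⟩ := h.exists_commute_of_mul_self hw hwa
  exact h.eq_of_commute_commute hd.1 hx.1 hy.1 hd.2 (by rw [hx.2]; exact Ne.symm hab) hxy hdw

/-- `x ∈ D` swapping `a ≠ b` commutes with none of its other conjugates under `G_{ab}` -/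
theorem isolated [Finite G] (h : Setup G Ω z) {a b : Ω} (hab : a ≠ b) {x j : G}
    (hx : x ∈ Sw z a b) (hja : j • a = a) (hjb : j • b = b) (hc : Commute x (j * x * j⁻¹)) :
    j * x * j⁻¹ = x := by
  have hy : j * x * j⁻¹ ∈ Sw z a b := by
    have := conj_mem_Sw j hx
    rwa [hja, hjb] at this
  exact (h.eq_of_commute_swap hab hx hy hc).symm

/-- in a subgroup `H` containing elements of `D` with different fixed points, the elements of
`D ∩ H` are conjugate -/
theorem exists_conj_mem [Finite G] (h : Setup G Ω z) (H : Subgroup G) {a b : Ω} (hab : a ≠ b)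
    {d₁ d₂ : G} (h1 : d₁ ∈ At z a) (h2 : d₂ ∈ At z b) (h1H : d₁ ∈ H) (h2H : d₂ ∈ H)
    {d e : G} (hd : IsConj z d) (he : IsConj z e) (hdH : d ∈ H) (heH : e ∈ H) :
    ∃ c ∈ H, c * d * c⁻¹ = e := by
  obtain ⟨p, hp⟩ := h.ex hd
  obtain ⟨q, hq⟩ := h.ex he
  have key : ∀ {p q : Ω} {d e : G}, d ∈ At z p → e ∈ At z q → d ∈ H → e ∈ H → p ≠ q →
      ∃ c ∈ H, c * d * c⁻¹ = e := by
    intro p q d e hd he hdH heH hpq
    obtain ⟨x, hxH, -, hxd, -⟩ := h.exists_swap_mem H hpq hd he hdH heH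
    exact ⟨x, hxH, hxd⟩
  by_cases hpq : p = q
  · subst hpq
    obtain ⟨r, f, hf, hfH, hr⟩ : ∃ (r : Ω) (f : G), f ∈ At z r ∧ f ∈ H ∧ r ≠ p := by
      by_cases hap : a = p
      · exact ⟨b, d₂, h2, h2H, by rw [← hap]; exact Ne.symm hab⟩
      · exact ⟨a, d₁, h1, h1H, hap⟩
    obtain ⟨c, hcH, hc⟩ := key ⟨hd, hp⟩ hf hdH hfH (Ne.symm hr)
    obtain ⟨c', hcH', hc'⟩ := key hf ⟨he, hq⟩ hfH heH hr
    refine ⟨c' * c, H.mul_mem hcH' hcH, ?_⟩
    rw [← hc', ← hc]; group
  · exact key ⟨hd, hp⟩ ⟨he, hq⟩ hdH heH hpq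

/-- `M = G_a` controls 2-fusion -/
theorem exists_stab_conj [Finite G] (h : Setup G Ω z) (T : Subgroup G) (hT : IsPGroup 2 T)
    {a : Ω} (hTa : ∀ t ∈ T, t • a = a) {g : G} (hg : ∀ t ∈ T, (g * t * g⁻¹) • a = a) :
    ∃ m c : G, g = m * c ∧ m • a = a ∧ ∀ t ∈ T, Commute c t := by
  by_cases hga : g • a = a
  · exact ⟨g, 1, by simp, hga, fun t _ => Commute.one_left t⟩
  · have hne : a ≠ g⁻¹ • a := by
      intro hh
      apply hga
      conv_lhs => rw [hh]
      rw [smul_inv_smul]
    have hTb : ∀ t ∈ T, t • (g⁻¹ • a) = g⁻¹ • a := by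
      intro t ht
      have := hg t ht
      rw [mul_smul, mul_smul] at this
      exact smul_left_cancel g (by rw [this, smul_inv_smul])
    obtain ⟨x, hx, hxT⟩ := h.exists_swap_commute T hT hne hTa hTb
    refine ⟨g * x, x⁻¹, by group, ?_, fun t ht => (hxT t ht).inv_left⟩
    rw [mul_smul, hx.2, smul_inv_smul]

/-- For a 2-subgroup `T` with two fixed points, `C(d)`, `d ∈ D ∩ C(T)`, controls the fusion
of `T` into `C(d)`. -/
theorem exists_centralizer_conj [Finite G] (h : Setup G Ω z) (T : Subgroup G)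
    (hT : IsPGroup 2 T) {a b : Ω} (hab : a ≠ b) (hTa : ∀ t ∈ T, t • a = a)
    (hTb : ∀ t ∈ T, t • b = b) {d : G} (hd : IsConj z d) (hdT : ∀ t ∈ T, Commute d t) {g : G}
    (hg : ∀ t ∈ T, Commute d (g * t * g⁻¹)) :
    ∃ m c : G, g = m * c ∧ Commute m d ∧ ∀ t ∈ T, Commute c t := by
  obtain ⟨d₁, hd₁, hd₁T⟩ := h.exists_commute_of_fix T hT hTa
  obtain ⟨d₂, hd₂, hd₂T⟩ := h.exists_commute_of_fix T hT hTb
  have hmem : ∀ y : G, (∀ t ∈ T, Commute y t) → y ∈ Subgroup.centralizer (T : Set G) := by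
    intro y hy
    rw [Subgroup.mem_centralizer_iff]
    intro t ht
    exact (hy t ht).symm.eq
  have hd' : ∀ t ∈ T, Commute (g⁻¹ * d * g) t := by
    intro t ht
    have := (hg t ht).eq
    show g⁻¹ * d * g * t = t * (g⁻¹ * d * g)
    calc g⁻¹ * d * g * t = g⁻¹ * (d * (g * t * g⁻¹)) * g := by group
      _ = g⁻¹ * ((g * t * g⁻¹) * d) * g := by rw [this]
      _ = _ := by group
  obtain ⟨c, hcH, hc⟩ := h.exists_conj_mem (Subgroup.centralizer (T : Set G)) hab hd₁ hd₂
    (hmem _ hd₁T) (hmem _ hd₂T) hd (conj_mem_inv hd g) (hmem _ hdT) (hmem _ hd')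
  refine ⟨g * c, c⁻¹, by group, ?_, ?_⟩
  · show g * c * d = d * (g * c)
    calc g * c * d = g * (c * d * c⁻¹) * c := by group
      _ = g * (g⁻¹ * d * g) * c := by rw [hc]
      _ = d * (g * c) := by group
  · intro t ht
    rw [Subgroup.mem_centralizer_iff] at hcH
    exact ((show Commute t c from hcH t ht).symm).inv_left

end Setup

end Cfsg.Agent.AschCrit.Basic
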