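import Mathlib

/-!
# A gcd lemma for odd order subgroups transitive on a class of involutions

Let `H` be a finite group, `I` a set of involutions of `H` closed under conjugation, with
`t₁, t₂, t₁ * t₂ ∈ I`.  Let `D j` be finitely many subgroups of odd order, each of
them transitive on `I` by conjugation.
Then some prime `p` divides `|D j : D j ∩ D j ^ t|` for all `j` and all `t ∈ I`.

This is the version for an arbitrary class of `Cfsg.Agent.TwoFusion.GcdOdd`; same proof.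
-/

set_option autoImplicit false
set_option linter.unusedSectionVars false

namespace Cfsg.Agent.AschCrit.GcdClass

open Finset

variable {H : Type*} [Group H] [Fintype H] [DecidableEq H] (I : Finset H)

/-- The class sum. -/
noncomputable def K : MonoidAlgebra ℤ H :=
  ∑ t ∈ I, MonoidAlgebra.of ℤ H t

/-- The sum of the elements of a subgroup. -/
noncomputable def sg (D : Subgroup H) : MonoidAlgebra ℤ H :=
  open scoped Classical in ∑ d ∈ univ.filter (fun d => d ∈ D), MonoidAlgebra.of ℤ H d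

/-- The augmentation. -/
noncomputable def aug (H : Type*) [Group H] : MonoidAlgebra ℤ H →+* ℤ :=
  (MonoidAlgebra.lift ℤ ℤ H (1 : H →* ℤ)).toRingHom

lemma aug_of (h : H) : aug H (MonoidAlgebra.of ℤ H h) = 1 := by
  simp [aug]

lemma aug_eq_sum (y : MonoidAlgebra ℤ H) : aug H y = ∑ h, y.coeff h := by
  have : aug H y = MonoidAlgebra.lift ℤ ℤ H (1 : H →* ℤ) y := rfl
  rw [this, MonoidAlgebra.lift_apply, Finsupp.sum_fintype _ _ (by simp)]
  simp

lemma aug_K : aug H (K I) = I.card := by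
  rw [K, map_sum]
  simp only [aug_of]
  simp

lemma aug_sg (D : Subgroup H) : aug H (sg D) = (Nat.card D : ℤ) := by
  classical
  rw [sg, map_sum]
  simp only [aug_of]
  rw [Finset.sum_const, nsmul_eq_mul, mul_one]
  congr 1
  rw [Nat.card_eq_fintype_card, Fintype.card_subtype]

variable {I}

lemma K_mul_of (hconj : ∀ (g t : H), t ∈ I → g * t * g⁻¹ ∈ I) (h : H) :
    K I * MonoidAlgebra.of ℤ H h = MonoidAlgebra.of ℤ H h * K I := by
  rw [K, Finset.sum_mul, Finset.mul_sum]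
  refine Finset.sum_bij (fun t _ => h⁻¹ * t * h) ?_ ?_ ?_ ?_
  · intro t ht
    have := hconj h⁻¹ t ht
    rwa [inv_inv] at this
  · intro a _ b _ hab
    simpa using hab
  · intro b hb
    exact ⟨h * b * h⁻¹, hconj h b hb, by group⟩
  · intro t _
    rw [← map_mul, ← map_mul]
    congr 1
    group

lemma K_comm (hconj : ∀ (g t : H), t ∈ I → g * t * g⁻¹ ∈ I) (y : MonoidAlgebra ℤ H) :
    K I * y = y * K I := by
  induction y using MonoidAlgebra.induction_on with
  | of h => exact K_mul_of hconj h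
  | add a b ha hb => rw [mul_add, add_mul, ha, hb]
  | smul r a ha => rw [mul_smul_comm, smul_mul_assoc, ha]

lemma of_mul_sg (D : Subgroup H) {d : H} (hd : d ∈ D) : MonoidAlgebra.of ℤ H d * sg D = sg D := by
  classical
  rw [sg, Finset.mul_sum]
  refine Finset.sum_bij (fun t _ => d * t) ?_ ?_ ?_ ?_
  · intro t ht
    simp only [Finset.mem_filter, Finset.mem_univ, true_and] at ht ⊢
    exact D.mul_mem hd ht
  · intro a _ b _ hab
    simpa using hab
  · intro b hb
    simp only [Finset.mem_filter, Finset.mem_univ, true_and] at hb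
    refine ⟨d⁻¹ * b, ?_, by group⟩
    simp only [Finset.mem_filter, Finset.mem_univ, true_and]
    exact D.mul_mem (D.inv_mem hd) hb
  · intro t _
    rw [← map_mul]

/-- `t * sg D` as a function of the coset `t D`. -/
noncomputable def cos (D : Subgroup H) (C : H ⧸ D) : MonoidAlgebra ℤ H :=
  MonoidAlgebra.of ℤ H C.out * sg D

lemma of_mul_sg_eq (D : Subgroup H) (t : H) :
    MonoidAlgebra.of ℤ H t * sg D = cos D (t : H ⧸ D) := by
  have h : ((t : H ⧸ D).out)⁻¹ * t ∈ D := by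
    rw [← QuotientGroup.eq]
    simp
  rw [cos]
  conv_rhs => rw [← of_mul_sg D h, ← mul_assoc, ← map_mul]
  congr 2
  group

variable (I) in
/-- The set of cosets `t D`, `t ∈ I`. -/
noncomputable def img (D : Subgroup H) : Finset (H ⧸ D) :=
  open scoped Classical in I.image fun t : H => (t : H ⧸ D)

lemma key (hconj : ∀ (g t : H), t ∈ I → g * t * g⁻¹ ∈ I) (D : Subgroup H)
    (htrans : ∀ s ∈ I, ∀ t ∈ I, ∃ d ∈ D, d * s * d⁻¹ = t) :
    ∃ b : MonoidAlgebra ℤ H,
      ((img I D).card : ℤ) • (K I * sg D) = (I.card : ℤ) • (b * sg D) := by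
  classical
  by_cases hne : I.Nonempty
  swap
  · rw [Finset.not_nonempty_iff_eq_empty] at hne
    refine ⟨0, ?_⟩
    simp [img, hne]
  obtain ⟨t₀, ht₀⟩ := hne
  set k := (I.filter fun a : H => (a : H ⧸ D) = (t₀ : H ⧸ D)).card with hk
  have hconst : ∀ C ∈ img I D, (I.filter fun a : H => (a : H ⧸ D) = C).card = k := by
    intro C hC
    rw [img, Finset.mem_image] at hC
    obtain ⟨t, ht, rfl⟩ := hC
    obtain ⟨d, hd, rfl⟩ := htrans t₀ ht₀ t ht
    symm
    refine Finset.card_bij (fun a _ => d * a * d⁻¹) ?_ ?_ ?_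
    · intro a ha
      rw [Finset.mem_filter] at ha ⊢
      refine ⟨hconj d a ha.1, ?_⟩
      have h2 := ha.2
      rw [QuotientGroup.eq] at h2 ⊢
      have : (d * a * d⁻¹)⁻¹ * (d * t₀ * d⁻¹) = d * (a⁻¹ * t₀) * d⁻¹ := by group
      rw [this]
      exact D.mul_mem (D.mul_mem hd h2) (D.inv_mem hd)
    · intro a _ b _ hab
      simpa using hab
    · intro b hb
      rw [Finset.mem_filter] at hb
      refine ⟨d⁻¹ * b * d, ?_, by group⟩
      rw [Finset.mem_filter]
      refine ⟨?_, ?_⟩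
      · have := hconj d⁻¹ b hb.1
        rwa [inv_inv] at this
      · have h2 := hb.2
        rw [QuotientGroup.eq] at h2 ⊢
        have : (d⁻¹ * b * d)⁻¹ * t₀ = d⁻¹ * (b⁻¹ * (d * t₀ * d⁻¹)) * d := by group
        rw [this]
        exact D.mul_mem (D.mul_mem (D.inv_mem hd) h2) hd
  have hsum : K I * sg D = ∑ C ∈ img I D, k • cos D C := by
    rw [K, Finset.sum_mul]
    simp only [of_mul_sg_eq]
    rw [Finset.sum_comp (cos D) (fun t : H => (t : H ⧸ D))]
    refine Finset.sum_congr ?_ fun C hC => ?_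
    · simp only [img]
    · rw [hconst C (by simpa only [img] using hC)]
  have hm : I.card = (img I D).card * k := by
    rw [Finset.card_eq_sum_card_image (fun t : H => (t : H ⧸ D)) I]
    have : I.image (fun t : H => (t : H ⧸ D)) = img I D := by simp only [img]
    rw [this, Finset.sum_congr rfl hconst, Finset.sum_const, smul_eq_mul]
  refine ⟨∑ C ∈ img I D, MonoidAlgebra.of ℤ H C.out, ?_⟩
  have h3 : (∑ C ∈ img I D, MonoidAlgebra.of ℤ H C.out) * sg D = ∑ C ∈ img I D, cos D C := by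
    rw [Finset.sum_mul]
    rfl
  rw [h3, hsum, ← Finset.smul_sum, hm]
  rw [Nat.cast_mul, mul_smul, natCast_zsmul _ k]

/-- The lattice: for every finite list of subgroups there is a subgroup of `ℤ[H]` which contains an
element of odd augmentation and which is mapped into itself by `e j • τ` for every `j`. -/
lemma exists_lattice (hconj : ∀ (g t : H), t ∈ I → g * t * g⁻¹ ∈ I)
    (l : List (Subgroup H)) (hodd : ∀ D ∈ l, Odd (Nat.card D))
    (htrans : ∀ D ∈ l, ∀ s ∈ I, ∀ t ∈ I, ∃ d ∈ D, d * s * d⁻¹ = t) :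
    ∃ J : AddSubgroup (MonoidAlgebra ℤ H), (∃ x ∈ J, Odd (aug H x)) ∧
      ∀ D ∈ l, ∀ y ∈ J, ∃ z ∈ J,
        ((img I D).card : ℤ) • (K I * y) = (I.card : ℤ) • z := by
  induction l with
  | nil =>
    exact ⟨⊤, ⟨1, trivial, by simp⟩, by simp⟩
  | cons E l ih =>
    obtain ⟨J, ⟨x, hxJ, hxo⟩, hJ⟩ := ih (fun D hD => hodd D (List.mem_cons_of_mem _ hD))
      (fun D hD => htrans D (List.mem_cons_of_mem _ hD))
    refine ⟨AddSubgroup.closure {w | ∃ a : MonoidAlgebra ℤ H, ∃ y ∈ J, w = a * sg E * y}, ?_, ?_⟩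
    · refine ⟨1 * sg E * x, AddSubgroup.subset_closure ⟨1, x, hxJ, rfl⟩, ?_⟩
      rw [one_mul, map_mul, aug_sg]
      have := hodd E (by simp)
      exact Odd.mul (by exact_mod_cast this) hxo
    · intro D hD y hy
      induction hy using AddSubgroup.closure_induction with
      | mem w hw =>
        obtain ⟨a, y, hy, rfl⟩ := hw
        rw [List.mem_cons] at hD
        rcases hD with rfl | hD
        · obtain ⟨b, hb⟩ := key hconj D (htrans D (by simp))
          refine ⟨(a * b) * sg D * y, AddSubgroup.subset_closure ⟨a * b, y, hy, rfl⟩, ?_⟩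
          have h1 : K I * (a * sg D * y) = a * (K I * sg D) * y := by
            rw [← mul_assoc, ← mul_assoc, K_comm hconj a, mul_assoc a (K I)]
          rw [h1, ← smul_mul_assoc, ← mul_smul_comm, hb, mul_smul_comm, smul_mul_assoc,
            ← mul_assoc a b]
        · obtain ⟨z, hz, hz'⟩ := hJ D hD y hy
          refine ⟨a * sg E * z, AddSubgroup.subset_closure ⟨a, z, hz, rfl⟩, ?_⟩
          have h1 : K I * (a * sg E * y) = a * sg E * (K I * y) := by
            rw [← mul_assoc, K_comm hconj (a * sg E), mul_assoc]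
          rw [h1, ← mul_smul_comm, hz', mul_smul_comm]
      | zero => exact ⟨0, AddSubgroup.zero_mem _, by simp⟩
      | add u v hu hv ihu ihv =>
        obtain ⟨z, hz, hz'⟩ := ihu
        obtain ⟨z₂, hz₂, hz₂'⟩ := ihv
        exact ⟨z + z₂, AddSubgroup.add_mem _ hz hz₂, by rw [mul_add, smul_add, hz', hz₂', smul_add]⟩
      | neg u hu ihu =>
        obtain ⟨z, hz, hz'⟩ := ihu
        exact ⟨-z, AddSubgroup.neg_mem _ hz, by rw [mul_neg, smul_neg, hz', smul_neg]⟩

/-- No lattice with an element of odd augmentation is mapped into itself by the average of the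
elements of `I`. -/
lemma no_lattice (hI : ∀ t ∈ I, orderOf t = 2) {t₁ t₂ : H} (h₁ : t₁ ∈ I) (h₂ : t₂ ∈ I)
    (h₃ : t₁ * t₂ ∈ I)
    (J : AddSubgroup (MonoidAlgebra ℤ H)) (hJo : ∃ x ∈ J, Odd (aug H x))
    (hJ : ∀ y ∈ J, ∃ z ∈ J, K I * y = (I.card : ℤ) • z) : False := by
  classical
  set m : ℕ := I.card with hmdef
  have hm0 : 0 < m := Finset.card_pos.2 ⟨t₁, h₁⟩
  -- an element of minimal norm
  let nrm : MonoidAlgebra ℤ H → ℕ := fun y => ∑ h, (y.coeff h).natAbs ^ 2
  have hnrm : ∀ y, ((nrm y : ℕ) : ℤ) = ∑ h, (y.coeff h) ^ 2 := by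
    intro y
    simp [nrm]
  let S : Set (MonoidAlgebra ℤ H) := {y | y ∈ J ∧ Odd (aug H y)}
  have hS : S.Nonempty := by
    obtain ⟨x, hx, hx'⟩ := hJo
    exact ⟨x, hx, hx'⟩
  obtain ⟨y, hyS, hymin⟩ := WellFounded.has_min (measure nrm).wf S hS
  obtain ⟨z, hzJ, hz⟩ := hJ y hyS.1
  have haugz : aug H z = aug H y := by
    have := congrArg (aug H) hz
    rw [map_mul, aug_K, map_zsmul, smul_eq_mul] at this
    have hm' : (m : ℤ) ≠ 0 := by exact_mod_cast hm0.ne'
    exact (mul_left_cancel₀ hm' this).symm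
  have hzS : z ∈ S := ⟨hzJ, by rw [haugz]; exact hyS.2⟩
  have hle : nrm y ≤ nrm z := by
    by_contra hlt
    exact hymin z hzS (not_le.1 hlt)
  -- the coefficients
  have hcoef : ∀ h, ∑ t ∈ I, y.coeff (t⁻¹ * h) = m * z.coeff h := by
    intro h
    have := congrArg (fun w : MonoidAlgebra ℤ H => w.coeff h) hz
    simp only [K, Finset.sum_mul, MonoidAlgebra.coeff_sum, Finsupp.coe_finsetSum,
      Finset.sum_apply, MonoidAlgebra.of_apply, MonoidAlgebra.coeff_single_mul_apply, one_mul,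
      MonoidAlgebra.coeff_smul_apply, smul_eq_mul] at this
    exact this
  have hid : ∑ h, ∑ t ∈ I, (y.coeff (t⁻¹ * h) - z.coeff h) ^ 2 =
      m * (nrm y : ℤ) - m * (nrm z : ℤ) := by
    rw [hnrm, hnrm]
    have e1 : ∀ h, ∑ t ∈ I, (y.coeff (t⁻¹ * h) - z.coeff h) ^ 2 =
        ∑ t ∈ I, (y.coeff (t⁻¹ * h)) ^ 2 - m * (z.coeff h) ^ 2 := by
      intro h
      have : ∀ t ∈ I, (y.coeff (t⁻¹ * h) - z.coeff h) ^ 2 =
          (y.coeff (t⁻¹ * h)) ^ 2 - 2 * z.coeff h * y.coeff (t⁻¹ * h) + (z.coeff h) ^ 2 := by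
        intro t _
        ring
      rw [Finset.sum_congr rfl this, Finset.sum_add_distrib, Finset.sum_sub_distrib,
        ← Finset.mul_sum, hcoef, Finset.sum_const, nsmul_eq_mul, ← hmdef]
      ring
    rw [Finset.sum_congr rfl fun h _ => e1 h, Finset.sum_sub_distrib, ← Finset.mul_sum,
      Finset.sum_comm]
    congr 1
    have e2 : ∀ t ∈ I, ∑ h, (y.coeff (t⁻¹ * h)) ^ 2 = ∑ h, (y.coeff h) ^ 2 := by
      intro t _
      exact Fintype.sum_equiv (Equiv.mulLeft t⁻¹) _ _ fun h => rfl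
    rw [Finset.sum_congr rfl e2, Finset.sum_const, nsmul_eq_mul]
  have hzero : ∑ h, ∑ t ∈ I, (y.coeff (t⁻¹ * h) - z.coeff h) ^ 2 = 0 := by
    apply le_antisymm
    · rw [hid]
      have : (nrm y : ℤ) ≤ nrm z := by exact_mod_cast hle
      nlinarith
    · exact Finset.sum_nonneg fun h _ => Finset.sum_nonneg fun t _ => sq_nonneg _
  have heq : ∀ h, ∀ t ∈ I, y.coeff (t * h) = z.coeff h := by
    intro h t ht
    have h0 := (Finset.sum_eq_zero_iff_of_nonneg
      (fun h _ => Finset.sum_nonneg fun t _ => sq_nonneg _)).1 hzero h (Finset.mem_univ _)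
    have h1 := (Finset.sum_eq_zero_iff_of_nonneg (fun t _ => sq_nonneg _)).1 h0 t ht
    have h2 : t⁻¹ = t := by
      rw [inv_eq_iff_mul_eq_one, ← pow_two, ← hI t ht, pow_orderOf_eq_one]
    rw [h2] at h1
    have := pow_eq_zero_iff (two_ne_zero) |>.1 h1
    linarith
  have hsq : ∀ t ∈ I, t * t = 1 := by
    intro t ht
    rw [← pow_two, ← hI t ht, pow_orderOf_eq_one]
  have hzy : ∀ h, z.coeff h = y.coeff h := by
    intro h
    have a1 := heq h (t₁ * t₂) h₃
    have a2 := heq (t₂ * h) t₁ h₁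
    have a3 := heq (t₂ * h) t₂ h₂
    rw [← mul_assoc] at a2 a3
    rw [hsq t₂ h₂, one_mul] at a3
    rw [← a1, a2, ← a3]
  have hinv : ∀ h, y.coeff (t₁ * h) = y.coeff h := fun h => by rw [heq h t₁ h₁, hzy]
  -- the augmentation of `y` is even
  have heven : (aug H y : ZMod 2) = 0 := by
    rw [aug_eq_sum, Int.cast_sum]
    refine Finset.sum_involution (fun h _ => t₁ * h) ?_ ?_ ?_ ?_
    · intro h _
      rw [hinv]
      have : ∀ a : ZMod 2, a + a = 0 := by decide
      exact this _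
    · intro h _ _ hh
      have : t₁ = 1 := by simpa using hh
      have h2 := hI t₁ h₁
      rw [this] at h2
      simp at h2
    · intro h _
      exact Finset.mem_univ _
    · intro h _
      rw [← mul_assoc, hsq t₁ h₁, one_mul]
  have hodd : Odd (aug H y) := hyS.2
  rw [ZMod.intCast_zmod_eq_zero_iff_dvd] at heven
  exact (Int.not_even_iff_odd.2 hodd) (even_iff_two_dvd.2 (by exact_mod_cast heven))

/-- The number of cosets `t D`, `t ∈ I`, is `|D : D ∩ D ^ t|`. -/
lemma card_img (hconj : ∀ (g t : H), t ∈ I → g * t * g⁻¹ ∈ I) (D : Subgroup H)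
    (htrans : ∀ s ∈ I, ∀ t ∈ I, ∃ d ∈ D, d * s * d⁻¹ = t)
    {t : H} (ht : t ∈ I) :
    (img I D).card = (D ⊓ D.map (MulAut.conj t).toMonoidHom).relIndex D := by
  classical
  have h1 : (D ⊓ D.map (MulAut.conj t).toMonoidHom).subgroupOf D =
      MulAction.stabilizer D (t : H ⧸ D) := by
    ext ⟨d, hd⟩
    rw [Subgroup.mem_subgroupOf, MulAction.mem_stabilizer_iff, Subgroup.mem_inf]
    have h2 : (⟨d, hd⟩ : D) • (t : H ⧸ D) = ((d * t : H) : H ⧸ D) := rfl
    rw [h2, eq_comm, QuotientGroup.eq]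
    constructor
    · rintro ⟨_, x, hx, hxd⟩
      have : d = t * x * t⁻¹ := by
        simpa using hxd.symm
      have h3 : t⁻¹ * (d * t) = x := by rw [this]; group
      rw [h3]
      exact hx
    · intro h
      refine ⟨hd, t⁻¹ * (d * t), h, ?_⟩
      simp [mul_assoc]
  rw [Subgroup.relIndex, h1, MulAction.index_stabilizer]
  rw [← Set.ncard_coe_finset]
  congr 1
  ext C
  simp only [img, Finset.coe_image, Set.mem_image, Finset.mem_coe]
  constructor
  · rintro ⟨s, hs, rfl⟩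
    obtain ⟨d, hd, hds⟩ := htrans t ht s hs
    refine ⟨⟨d, hd⟩, ?_⟩
    have h2 : (⟨d, hd⟩ : D) • (t : H ⧸ D) = ((d * t : H) : H ⧸ D) := rfl
    change (⟨d, hd⟩ : D) • (t : H ⧸ D) = _
    rw [h2, QuotientGroup.eq, ← hds]
    have : (d * t)⁻¹ * (d * t * d⁻¹) = d⁻¹ := by group
    rw [this]
    exact D.inv_mem hd
  · rintro ⟨⟨d, hd⟩, rfl⟩
    refine ⟨d * t * d⁻¹, hconj d t ht, ?_⟩
    change _ = (⟨d, hd⟩ : D) • (t : H ⧸ D)
    have h2 : (⟨d, hd⟩ : D) • (t : H ⧸ D) = ((d * t : H) : H ⧸ D) := rfl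
    rw [h2, QuotientGroup.eq]
    have : (d * t * d⁻¹)⁻¹ * (d * t) = d := by group
    rw [this]
    exact hd

/-- **The gcd lemma.** Let `H` be a finite group, `I` a set of involutions of `H` closed under
conjugation, with `t₁, t₂, t₁ * t₂ ∈ I`, and
`D j` finitely many subgroups of odd order, each of them transitive on `I` by
conjugation. Then some prime `p` divides `|D j : D j ∩ D j ^ t|` for all `j` and all
`t ∈ I`. -/
theorem exists_prime_dvd {H : Type*} [Group H] [Finite H] (I : Set H)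
    (hI : ∀ t ∈ I, orderOf t = 2) (hconj : ∀ (g t : H), t ∈ I → g * t * g⁻¹ ∈ I)
    {t₁ t₂ : H} (h₁ : t₁ ∈ I) (h₂ : t₂ ∈ I) (h₃ : t₁ * t₂ ∈ I)
    {ι : Type*} [Finite ι]
    (D : ι → Subgroup H) (hodd : ∀ j, Odd (Nat.card (D j)))
    (htrans : ∀ j, ∀ s ∈ I, ∀ t ∈ I, ∃ d ∈ D j, d * s * d⁻¹ = t) :
    ∃ p : ℕ, p.Prime ∧ ∀ j, ∀ t ∈ I,
      p ∣ (D j ⊓ (D j).map (MulAut.conj t).toMonoidHom).relIndex (D j) := by
  classical
  have := Fintype.ofFinite H
  have := Fintype.ofFinite ι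
  let F : Finset H := I.toFinset
  have hF : ∀ t, t ∈ F ↔ t ∈ I := fun t => Set.mem_toFinset
  have hFI : ∀ t ∈ F, orderOf t = 2 := fun t ht => hI t ((hF t).1 ht)
  have hFc : ∀ (g t : H), t ∈ F → g * t * g⁻¹ ∈ F := fun g t ht =>
    (hF _).2 (hconj g t ((hF t).1 ht))
  have hFt : ∀ j, ∀ s ∈ F, ∀ t ∈ F, ∃ d ∈ D j, d * s * d⁻¹ = t := fun j s hs t ht =>
    htrans j s ((hF s).1 hs) t ((hF t).1 ht)
  rcases isEmpty_or_nonempty ι with hι | hι
  · exact ⟨2, Nat.prime_two, fun j => (hι.false j).elim⟩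
  obtain ⟨j₀⟩ := hι
  let l : List (Subgroup H) := (Finset.univ : Finset ι).toList.map D
  have hl : ∀ j, D j ∈ l := fun j => List.mem_map.2 ⟨j, by simp, rfl⟩
  obtain ⟨J, hJo, hJ⟩ := exists_lattice hFc l
    (by rintro _ hE; obtain ⟨j, -, rfl⟩ := List.mem_map.1 hE; exact hodd j)
    (by rintro _ hE; obtain ⟨j, -, rfl⟩ := List.mem_map.1 hE; exact hFt j)
  -- the ideal of all integers `c` with `c • τ * J ≤ J`
  let 𝔞 : AddSubgroup ℤ :=
    { carrier := {c | ∀ y ∈ J, ∃ z ∈ J, c • (K F * y) = (F.card : ℤ) • z}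
      zero_mem' := fun y _ => ⟨0, J.zero_mem, by simp⟩
      add_mem' := by
        intro a b ha hb y hy
        obtain ⟨z, hz, hz'⟩ := ha y hy
        obtain ⟨w, hw, hw'⟩ := hb y hy
        exact ⟨z + w, J.add_mem hz hw, by rw [add_smul, hz', hw', smul_add]⟩
      neg_mem' := by
        intro a ha y hy
        obtain ⟨z, hz, hz'⟩ := ha y hy
        exact ⟨-z, J.neg_mem hz, by rw [neg_smul, hz', smul_neg]⟩ }
  have hmem : ∀ j, ((img F (D j)).card : ℤ) ∈ 𝔞 := fun j y hy => hJ (D j) (hl j) y hy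
  have h1 : (1 : ℤ) ∉ 𝔞 := by
    intro h1
    refine no_lattice hFI ((hF _).2 h₁) ((hF _).2 h₂) ((hF _).2 h₃) J hJo ?_
    intro y hy
    obtain ⟨z, hz, hz'⟩ := h1 y hy
    exact ⟨z, hz, by rw [← hz', one_smul]⟩
  obtain ⟨g, hg⟩ := Int.subgroup_cyclic 𝔞
  have hg1 : g.natAbs ≠ 1 := by
    intro hg1
    apply h1
    rw [hg, AddSubgroup.mem_closure_singleton]
    rcases Int.natAbs_eq g with h | h
    · exact ⟨1, by rw [h, hg1]; simp⟩
    · exact ⟨-1, by rw [h, hg1]; simp⟩
  obtain ⟨p, hp, hpg⟩ := Nat.exists_prime_and_dvd hg1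
  refine ⟨p, hp, fun j t ht => ?_⟩
  rw [← card_img hFc (D j) (hFt j) ((hF t).2 ht)]
  have h2 := hmem j
  rw [hg, AddSubgroup.mem_closure_singleton] at h2
  obtain ⟨n, hn⟩ := h2
  have h3 : (p : ℤ) ∣ ((img F (D j)).card : ℤ) := by
    rw [← hn, smul_eq_mul]
    exact Dvd.dvd.mul_left (Int.natCast_dvd.2 hpg) n
  exact_mod_cast h3

end Cfsg.Agent.AschCrit.GcdClass
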