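import Cfsg.Agent.AschCrit.Closed
import Cfsg.Agent.AschCrit.GcdClass

/-!
# Aschbacher's criterion: the common prime

`exists_prime`: if `D_a` contains two distinct commuting elements then there is an odd prime `p`
dividing `|B : B ∩ B^t|` for every subgroup `B` of `G_a` of odd order which is transitive on `D_a` by
conjugation and every `t ∈ D_a`.
-/

set_option autoImplicit false

open Subgroup

namespace Cfsg.Agent.AschCrit.CommonPrime

open Cfsg.Agent.TwoFusion.StronglyEmbeddedBasic Cfsg.Agent.AschCrit.Basic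
open Cfsg.Agent.AschCrit.Basic.Setup Cfsg.Agent.AschCrit.Closed

variable {G Ω : Type*} [Group G] [MulAction G Ω] {z : G}

/-- **The common prime.** -/
theorem exists_prime [Finite G] (h : Setup G Ω z) (hf : ∀ g : G, (∀ a : Ω, g • a = a) → g = 1)
    (a : Ω) (hnc : ∃ d ∈ At z a, ∃ e ∈ At z a, d ≠ e ∧ Commute d e) :
    ∃ p : ℕ, p.Prime ∧ ∀ B : Subgroup G, B ≤ MulAction.stabilizer G a → Odd (Nat.card B) →
      (∀ s ∈ At z a, ∀ t ∈ At z a, ∃ b ∈ B, b * s * b⁻¹ = t) →
      ∀ t ∈ At z a, p ∣ (B ⊓ B.map (MulAut.conj t).toMonoidHom).relIndex B := by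
  obtain ⟨d, hd, e, he, hde, hc⟩ := hnc
  set M := MulAction.stabilizer G a with hM
  let I : Set M := {t | (t : G) ∈ At z a}
  have hmem : ∀ t ∈ At z a, t ∈ M := fun t ht => ht.2
  have hI : ∀ t ∈ I, orderOf t = 2 := by
    intro t ht
    rw [← Subgroup.orderOf_coe]
    exact h.orderOf_eq ht.1
  have hconj : ∀ (g t : M), t ∈ I → g * t * g⁻¹ ∈ I := by
    intro g t ht
    have h1 := conj_mem_At (g : G) ht
    have h2 : (g : G) • a = a := g.2
    rw [h2] at h1
    exact h1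
  let ι := {B : Subgroup G // B ≤ M ∧ Odd (Nat.card B) ∧
    (∀ s ∈ At z a, ∀ t ∈ At z a, ∃ b ∈ B, b * s * b⁻¹ = t)}
  have hde' : d * e ∈ At z a := by
    refine ⟨mul_mem_class h hf hd.1 he.1 hc hde, ?_⟩
    rw [mul_smul, he.2, hd.2]
  obtain ⟨p, hp, hpB⟩ := Cfsg.Agent.AschCrit.GcdClass.exists_prime_dvd I hI hconj
    (t₁ := ⟨d, hmem d hd⟩) (t₂ := ⟨e, hmem e he⟩) hd he hde' (ι := ι)
    (fun B => B.1.subgroupOf M)
    (fun B => by
      rw [Nat.card_congr (subgroupOfEquivOfLe B.2.1).toEquiv]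
      exact B.2.2.1)
    (by
      rintro ⟨B, hB, -, hBt⟩ s hs t ht
      obtain ⟨b, hb, hbs⟩ := hBt s hs t ht
      exact ⟨⟨b, hB hb⟩, hb, Subtype.ext hbs⟩)
  refine ⟨p, hp, fun B hB hBo hBt t ht => ?_⟩
  have h1 := hpB ⟨B, hB, hBo, hBt⟩ ⟨t, hmem t ht⟩ ht
  have hinj := M.subtype_injective
  rw [← Subgroup.relIndex_map_map_of_injective _ _ hinj, Subgroup.map_inf _ _ _ hinj,
    Subgroup.map_map] at h1
  have e1 : (B.subgroupOf M).map M.subtype = B := by
    rw [subgroupOf_map_subtype, inf_eq_left.mpr hB]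
  have e2 : M.subtype.comp (MulAut.conj (⟨t, hmem t ht⟩ : M)).toMonoidHom =
      (MulAut.conj t).toMonoidHom.comp M.subtype := by
    ext x; rfl
  rw [e2, ← Subgroup.map_map, e1] at h1
  exact h1

/-- The common prime is odd as soon as some subgroup `B` as above exists. -/
theorem odd_of_dvd_relIndex {B C : Subgroup G} (hB : Odd (Nat.card B)) {p : ℕ}
    (h : p ∣ C.relIndex B) : Odd p := by
  refine (hB.of_dvd_nat ?_)
  exact h.trans (Subgroup.relIndex_dvd_card C B)

end Cfsg.Agent.AschCrit.CommonPrime
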