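import Cfsg.Agent.AschCrit.Basic

/-!
# Aschbacher's criterion: bad involutions, closure of `D` under commuting products

An involution is *bad* if it fixes at least two points.  `G` is assumed faithful on `Ω` where needed
(hypothesis `hf`).

* `exists_swap_of_moving` : an element `w` with `w * w = 1` moving `c`, `d ∈ D_c`: there is
  `x ∈ D` commuting with `w` with `x c = w c` and `w x` centralises `d`
* `bad_mul` : `u` bad, `x ∈ D ∩ C(u)` ⟹ `u x` bad
* `isConj_of_unique_fix` : an involution with at most one fixed point lies in `D`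
* `isConj_or_bad` : every involution lies in `D` or is bad
* `mul_mem_class` : the product of two different commuting elements of `D` lies in `D`
* `card_at_eq_sum` : `D_e` is the disjoint union of the sets `D_e ∩ C(t x)`, where `x` runs through
  the elements of `D ∩ C(t)` with `x e = t e`
-/

set_option autoImplicit false

namespace Cfsg.Agent.AschCrit.Closed

open Cfsg.Agent.TwoFusion.StronglyEmbeddedBasic Cfsg.Agent.AschCrit.Basic
open Cfsg.Agent.AschCrit.Basic.Setup

/-- a bad involution: at least two fixed points -/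
def Bad {G : Type*} (Ω : Type*) [Group G] [MulAction G Ω] (u : G) : Prop :=
  orderOf u = 2 ∧ ∃ a b : Ω, a ≠ b ∧ u • a = a ∧ u • b = b

variable {G Ω : Type*} [Group G] [MulAction G Ω] {z : G}

theorem Bad.mul_self {u : G} (hu : Bad Ω u) : u * u = 1 := mul_self_of_orderOf hu.1

theorem Bad.ne_one {u : G} (hu : Bad Ω u) : u ≠ 1 := by
  intro h1
  have := hu.1
  rw [h1, orderOf_one] at this
  exact absurd this (by norm_num)

theorem Bad.inv_eq {u : G} (hu : Bad Ω u) : u⁻¹ = u := inv_eq_self_of_orderOf hu.1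

theorem Bad.conj {u : G} (hu : Bad Ω u) (g : G) : Bad Ω (g * u * g⁻¹) := by
  obtain ⟨h2, a, b, hab, ha, hb⟩ := hu
  refine ⟨by rw [orderOf_conj, h2], g • a, g • b, fun hh => hab (smul_left_cancel g hh), ?_, ?_⟩
  · rw [mul_smul, mul_smul, inv_smul_smul, ha]
  · rw [mul_smul, mul_smul, inv_smul_smul, hb]

theorem Bad.of_isConj {u v : G} (hu : Bad Ω u) (huv : IsConj u v) : Bad Ω v := by
  obtain ⟨g, rfl⟩ := isConj_iff.mp huv
  exact hu.conj g

/-- a bad involution is not in `D` -/
theorem Bad.not_isConj (h : Setup G Ω z) {u : G} (hu : Bad Ω u) : ¬ IsConj z u := by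
  intro hc
  obtain ⟨-, a, b, hab, ha, hb⟩ := hu
  exact hab (h.uniq hc ha hb)

/-- for `w * w = 1` moving `c` and `d ∈ D_c` there is `x ∈ D` commuting with `w` with `x c = w c` and
`w x` centralising `d` -/
theorem exists_swap_of_moving [Finite G] (h : Setup G Ω z) {w : G} (hw : w * w = 1) {c : Ω}
    (hc : w • c ≠ c) {d : G} (hd : d ∈ At z c) :
    ∃ x ∈ Sw z c (w • c), Commute x w ∧ Commute (w * x) d ∧ x * d * x⁻¹ = w * d * w⁻¹ := by
  have he : w * d * w⁻¹ ∈ At z (w • c) := conj_mem_At w hd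
  obtain ⟨x, -, hx, hxd, hxe, hxc, hxc'⟩ := h.exists_swap hd.1 he.1 hd.2 he.2 (Ne.symm hc)
  have hwi : w⁻¹ = w := inv_eq_of_mul_eq_one_right hw
  have h1 : w * x * w⁻¹ = x := by
    refine h.swap_unique (d := w * d * w⁻¹) he.1 (conj_mem hx w) hx he.2 ?_ ?_
    · rw [hwi, mul_smul, mul_smul, smul_smul w w, hw, one_smul, hxc, smul_smul, hw, one_smul]
      exact fun hh => hc hh.symm
    · calc w * x * w⁻¹ * (w * d * w⁻¹) * (w * x * w⁻¹)⁻¹ = w * (x * d * x⁻¹) * w⁻¹ := by group
        _ = (w * w) * d * (w * w)⁻¹ := by rw [hxd]; group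
        _ = d := by rw [hw]; group
        _ = _ := hxe.symm
  refine ⟨x, ⟨hx, hxc⟩, ?_, ?_, hxd⟩
  · show x * w = w * x
    calc x * w = w * x * w⁻¹ * w := by rw [h1]
      _ = w * x := by group
  · show w * x * d = d * (w * x)
    calc w * x * d = w * (x * d * x⁻¹) * x := by group
      _ = (w * w) * d * w⁻¹ * x := by rw [hxd]; group
      _ = d * (w * x) := by rw [hw, hwi]; group

theorem isPGroup_zpowers {w : G} (hw : w * w = 1) : IsPGroup 2 (Subgroup.zpowers w) := by
  rintro ⟨t, k, rfl⟩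
  refine ⟨1, ?_⟩
  ext
  simp only [pow_one, Subgroup.coe_pow, Subgroup.coe_one]
  rw [← zpow_natCast, ← zpow_mul, mul_comm, zpow_mul, zpow_natCast, pow_two, hw, one_zpow]

/-- the elements of `D` commuting with an element `w`, `w * w = 1`, with two fixed points are
conjugate in `C(w)` -/
theorem exists_conj_commute [Finite G] (h : Setup G Ω z) {w : G} (hw : w * w = 1) {a b : Ω}
    (hab : a ≠ b) (hwa : w • a = a) (hwb : w • b = b) {d e : G} (hd : IsConj z d)
    (he : IsConj z e) (hdw : Commute d w) (hew : Commute e w) :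
    ∃ c : G, Commute c w ∧ c * d * c⁻¹ = e := by
  obtain ⟨d₁, hd₁, hc₁⟩ := h.exists_commute_of_mul_self hw hwa
  obtain ⟨d₂, hd₂, hc₂⟩ := h.exists_commute_of_mul_self hw hwb
  have hmem : ∀ y : G, Commute y w → y ∈ Subgroup.centralizer ({w} : Set G) := by
    intro y hy
    rw [Subgroup.mem_centralizer_singleton_iff]; exact hy.eq
  obtain ⟨c, hc, hcd⟩ := h.exists_conj_mem _ hab hd₁ hd₂ (hmem _ hc₁) (hmem _ hc₂) hd he
    (hmem _ hdw) (hmem _ hew)
  rw [Subgroup.mem_centralizer_singleton_iff] at hc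
  exact ⟨c, hc, hcd⟩

/-- `C(w)` is transitive on the fixed points of `w`, `w * w = 1` -/
theorem exists_commute_smul [Finite G] (h : Setup G Ω z) {w : G} (hw : w * w = 1) {a b : Ω}
    (hwa : w • a = a) (hwb : w • b = b) : ∃ c : G, Commute c w ∧ c • a = b := by
  by_cases hab : a = b
  · exact ⟨1, Commute.one_left w, by rw [one_smul, hab]⟩
  obtain ⟨d₁, hd₁, hc₁⟩ := h.exists_commute_of_mul_self hw hwa
  obtain ⟨d₂, hd₂, hc₂⟩ := h.exists_commute_of_mul_self hw hwb
  have hmem : ∀ y : G, Commute y w → y ∈ Subgroup.centralizer ({w} : Set G) := by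
    intro y hy
    rw [Subgroup.mem_centralizer_singleton_iff]; exact hy.eq
  obtain ⟨x, hx, hxs, -, -⟩ := h.exists_swap_mem _ hab hd₁ hd₂ (hmem _ hc₁) (hmem _ hc₂)
  rw [Subgroup.mem_centralizer_singleton_iff] at hx
  exact ⟨x, hx, hxs.2⟩

/-- (2): `u` bad, `x ∈ D ∩ C(u)` ⟹ `u x` bad -/
theorem bad_mul [Finite G] (h : Setup G Ω z) (hf : ∀ g : G, (∀ a : Ω, g • a = a) → g = 1)
    {u x : G} (hu : Bad Ω u) (hx : IsConj z x) (hxu : Commute x u) : Bad Ω (u * x) := by
  obtain ⟨c, hc⟩ : ∃ c : Ω, u • c ≠ c := by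
    by_contra hcon
    push Not at hcon
    exact hu.ne_one (hf u hcon)
  obtain ⟨d, hd⟩ := h.nonempty_At c
  obtain ⟨y, hy, hyu, hyd, -⟩ := exists_swap_of_moving h hu.mul_self hc hd
  obtain ⟨-, a, b, hab, ha, hb⟩ := id hu
  have hbad : Bad Ω (u * y) := by
    refine ⟨orderOf_eq_two_of_mul_self ?_ ?_, c, u • c, Ne.symm hc, ?_, ?_⟩
    · rw [hyu.mul_mul_mul_comm, hu.mul_self, h.mul_self hy.1, one_mul]
    · intro h1
      apply hu.not_isConj h
      have : u = y := by
        have h2 := h.inv_eq hy.1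
        rw [← h2]; exact eq_inv_of_mul_eq_one_left h1
      rw [this]; exact hy.1
    · rw [mul_smul, hy.2, smul_smul, hu.mul_self, one_smul]
    · have : y • (u • c) = c := by rw [← hy.2, h.smul_smul_self hy.1]
      rw [mul_smul, this]
  obtain ⟨g, hg, hgy⟩ := exists_conj_commute h hu.mul_self hab ha hb hy.1 hx hyu hxu
  have := hbad.conj g
  have e1 : g * (u * y) * g⁻¹ = u * x := by
    calc g * (u * y) * g⁻¹ = (g * u) * y * g⁻¹ := by group
      _ = u * (g * y * g⁻¹) := by rw [hg.eq]; group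
      _ = u * x := by rw [hgy]
  rwa [e1] at this

/-- (3): an involution with at most one fixed point lies in `D` -/
theorem isConj_of_unique_fix [Finite G] (h : Setup G Ω z)
    (hf : ∀ g : G, (∀ a : Ω, g • a = a) → g = 1) {w : G} (hw : orderOf w = 2)
    (huniq : ∀ a b : Ω, w • a = a → w • b = b → a = b) : IsConj z w := by
  obtain ⟨a, b, hab⟩ := h.nontriv
  obtain ⟨c, hc⟩ : ∃ c : Ω, w • c ≠ c := by
    by_contra hcon
    push Not at hcon
    exact hab (huniq a b (hcon a) (hcon b))
  have hww := mul_self_of_orderOf hw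
  obtain ⟨d, hd⟩ := h.nonempty_At c
  obtain ⟨x, hx, hxw, hxd, -⟩ := exists_swap_of_moving h hww hc hd
  by_cases h1 : w * x = 1
  · have : w = x := by
      have h2 := h.inv_eq hx.1
      rw [← h2]; exact eq_inv_of_mul_eq_one_left h1
    rw [this]; exact hx.1
  · exfalso
    have hbad : Bad Ω (w * x) := by
      refine ⟨orderOf_eq_two_of_mul_self ?_ h1, c, w • c, Ne.symm hc, ?_, ?_⟩
      · rw [hxw.mul_mul_mul_comm, hww, h.mul_self hx.1, one_mul]
      · rw [mul_smul, hx.2, smul_smul, hww, one_smul]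
      · have : x • (w • c) = c := by rw [← hx.2, h.smul_smul_self hx.1]
        rw [mul_smul, this]
    have hcomm : Commute x (w * x) := hxw.mul_right (Commute.refl x)
    have := bad_mul h hf hbad hx.1 hcomm
    have e1 : w * x * x = w := by rw [mul_assoc, h.mul_self hx.1, mul_one]
    rw [e1] at this
    obtain ⟨-, p, q, hpq, hp, hq⟩ := this
    exact hpq (huniq p q hp hq)

/-- every involution lies in `D` or is bad -/
theorem isConj_or_bad [Finite G] (h : Setup G Ω z)
    (hf : ∀ g : G, (∀ a : Ω, g • a = a) → g = 1) {w : G} (hw : orderOf w = 2) :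
    IsConj z w ∨ Bad Ω w := by
  by_cases huniq : ∀ a b : Ω, w • a = a → w • b = b → a = b
  · exact Or.inl (isConj_of_unique_fix h hf hw huniq)
  · right
    push Not at huniq
    obtain ⟨a, b, ha, hb, hab⟩ := huniq
    exact ⟨hw, a, b, hab, ha, hb⟩

/-- the product of two different commuting elements of `D` has a unique fixed point -/
theorem mul_fix_unique [Finite G] (h : Setup G Ω z) {d e : G} (hd : IsConj z d)
    (he : IsConj z e) (hde : Commute d e) (hne : d ≠ e) {a b : Ω} (ha : d • a = a)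
    (hb : (d * e) • b = b) : b = a := by
  have hw : (d * e) * (d * e) = 1 := by
    rw [hde.symm.mul_mul_mul_comm, h.mul_self hd, h.mul_self he, one_mul]
  obtain ⟨f, hf, hfw⟩ := h.exists_commute_of_mul_self hw hb
  have := h.comm' hd he hde hne hfw ha
  exact h.uniq hf.1 hf.2 this

/-- `D` is closed under products of different commuting elements -/
theorem mul_mem_class [Finite G] (h : Setup G Ω z)
    (hf : ∀ g : G, (∀ a : Ω, g • a = a) → g = 1) {d e : G} (hd : IsConj z d)
    (he : IsConj z e) (hde : Commute d e) (hne : d ≠ e) : IsConj z (d * e) := by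
  obtain ⟨a, ha⟩ := h.ex hd
  refine isConj_of_unique_fix h hf (orderOf_eq_two_of_mul_self ?_ ?_) ?_
  · rw [hde.symm.mul_mul_mul_comm, h.mul_self hd, h.mul_self he, one_mul]
  · intro h1
    apply hne
    have h2 := h.inv_eq he
    rw [← h2]; exact eq_inv_of_mul_eq_one_left h1
  · intro b c hb hc
    rw [mul_fix_unique h hd he hde hne ha hb, mul_fix_unique h hd he hde hne ha hc]

/-! ### The partition of `D_e` defined by an involution moving `e` -/

/-- the elements of `D` commuting with `t` and moving `e` to `t e` -/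
def SwC (z t : G) (e : Ω) : Set G := {x | x ∈ Sw z e (t • e) ∧ Commute x t}

/-- the elements of `D_e` commuting with `w` -/
def AtC (z w : G) (e : Ω) : Set G := {d | d ∈ At z e ∧ Commute d w}

/-- `D_e` is the disjoint union of the `D_e ∩ C(t x)`, `x ∈ SwC z t e` -/
noncomputable def atPartition [Finite G] (h : Setup G Ω z) {t : G} (ht : t * t = 1) {e : Ω}
    (he : t • e ≠ e) : At z e ≃ Σ x : SwC z t e, AtC z (t * x.1) e where
  toFun d := ⟨⟨(exists_swap_of_moving h ht he d.2).choose,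
      (exists_swap_of_moving h ht he d.2).choose_spec.1,
      (exists_swap_of_moving h ht he d.2).choose_spec.2.1⟩,
    ⟨d.1, d.2, (exists_swap_of_moving h ht he d.2).choose_spec.2.2.1.symm⟩⟩
  invFun p := ⟨p.2.1, p.2.2.1⟩
  left_inv d := rfl
  right_inv p := by
    obtain ⟨⟨x, hx, hxt⟩, ⟨d, hd, hdx⟩⟩ := p
    have h1 : (exists_swap_of_moving h ht he hd).choose = x := by
      have hspec := (exists_swap_of_moving h ht he hd).choose_spec
      refine h.swap_unique hd.1 hspec.1.1 hx.1 hd.2 ?_ ?_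
      · rw [hspec.1.2]; exact he
      · rw [hspec.2.2.2]
        have hti : t⁻¹ = t := inv_eq_of_mul_eq_one_right ht
        have h2 : t * x * d * (t * x)⁻¹ = d := by
          rw [show t * x * d = d * (t * x) from hdx.symm.eq]; group
        calc t * d * t⁻¹ = t * (t * x * d * (t * x)⁻¹) * t⁻¹ := by rw [h2]
          _ = (t * t) * (x * d * x⁻¹) * (t * t)⁻¹ := by group
          _ = x * d * x⁻¹ := by rw [ht]; group
    subst h1
    rfl

theorem card_at_eq_sum [Finite G] (h : Setup G Ω z) {t : G} (ht : t * t = 1) {e : Ω}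
    (he : t • e ≠ e) [Fintype (SwC z t e)] :
    Nat.card (At z e) = ∑ x : SwC z t e, Nat.card (AtC z (t * x.1) e) := by
  rw [Nat.card_congr (atPartition h ht he), Nat.card_sigma]

/-- `|D_a ∩ C(w)|` does not depend on the fixed point `a` of `w` -/
theorem card_atC_eq [Finite G] (h : Setup G Ω z) {w : G} (hw : w * w = 1) {a b : Ω}
    (hwa : w • a = a) (hwb : w • b = b) : Nat.card (AtC z w a) = Nat.card (AtC z w b) := by
  obtain ⟨c, hc, rfl⟩ := exists_commute_smul h hw hwa hwb
  have hcw : c * w * c⁻¹ = w := by rw [hc.eq]; group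
  refine Nat.card_congr
    { toFun := fun d => ⟨c * d.1 * c⁻¹, conj_mem_At c d.2.1, ?_⟩
      invFun := fun d => ⟨c⁻¹ * d.1 * c, ?_, ?_⟩
      left_inv := fun d => by ext; simp [mul_assoc]
      right_inv := fun d => by ext; simp [mul_assoc] }
  · show c * d.1 * c⁻¹ * w = w * (c * d.1 * c⁻¹)
    have h1 : d.1 * w = w * d.1 := d.2.2.eq
    calc c * d.1 * c⁻¹ * w = c * d.1 * c⁻¹ * (c * w * c⁻¹) := by rw [hcw]
      _ = c * (d.1 * w) * c⁻¹ := by group
      _ = c * (w * d.1) * c⁻¹ := by rw [h1]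
      _ = (c * w * c⁻¹) * (c * d.1 * c⁻¹) := by group
      _ = _ := by rw [hcw]
  · have := conj_mem_At c⁻¹ d.2.1
    rwa [inv_inv, inv_smul_smul] at this
  · show c⁻¹ * d.1 * c * w = w * (c⁻¹ * d.1 * c)
    have h1 : d.1 * w = w * d.1 := d.2.2.eq
    have hcw' : c⁻¹ * w * c = w := by rw [mul_assoc, ← hc.eq]; group
    calc c⁻¹ * d.1 * c * w = c⁻¹ * d.1 * (c * w) := by group
      _ = c⁻¹ * (d.1 * w) * c := by rw [hc.eq]; group
      _ = c⁻¹ * (w * d.1) * c := by rw [h1]
      _ = (c⁻¹ * w * c) * (c⁻¹ * d.1 * c) := by group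
      _ = _ := by rw [hcw']

/-- conjugate involutions have the same number `|D_a ∩ C(w)|` -/
theorem card_atC_conj {w : G} {a : Ω} (g : G) :
    Nat.card (AtC z (g * w * g⁻¹) (g • a)) = Nat.card (AtC z w a) := by
  refine Nat.card_congr
    { toFun := fun d => ⟨g⁻¹ * d.1 * g, ?_, ?_⟩
      invFun := fun d => ⟨g * d.1 * g⁻¹, conj_mem_At g d.2.1, ?_⟩
      left_inv := fun d => by ext; simp [mul_assoc]
      right_inv := fun d => by ext; simp [mul_assoc] }
  · have := conj_mem_At g⁻¹ d.2.1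
    rwa [inv_inv, inv_smul_smul] at this
  · have h1 : d.1 * (g * w * g⁻¹) = (g * w * g⁻¹) * d.1 := d.2.2.eq
    show g⁻¹ * d.1 * g * w = w * (g⁻¹ * d.1 * g)
    calc g⁻¹ * d.1 * g * w = g⁻¹ * (d.1 * (g * w * g⁻¹)) * g := by group
      _ = g⁻¹ * ((g * w * g⁻¹) * d.1) * g := by rw [h1]
      _ = _ := by group
  · have h1 : d.1 * w = w * d.1 := d.2.2.eq
    show g * d.1 * g⁻¹ * (g * w * g⁻¹) = g * w * g⁻¹ * (g * d.1 * g⁻¹)
    calc g * d.1 * g⁻¹ * (g * w * g⁻¹) = g * (d.1 * w) * g⁻¹ := by group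
      _ = g * (w * d.1) * g⁻¹ := by rw [h1]
      _ = _ := by group

end Cfsg.Agent.AschCrit.Closed
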