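import Mathlib
import Cfsg.Prelude.Def_TwoFusion
import Cfsg.Prelude.Def_CaseTheorems
import Cfsg.Prelude.Def_Local
import Cfsg.Agent.S0215
import Cfsg.Agent.TwoFusion.Isolated
import Cfsg.Agent.TwoFusion.FStarControl
import Cfsg.Agent.TwoFusion.StronglyEmbeddedBasic
import Cfsg.Agent.SignalizersComponents.Components
import Cfsg.Agent.SignalizersComponents.EvenComponent
import Cfsg.Agent.SignalizersComponents.PCompCore
import Cfsg.Agent.SignalizersComponents.CompOrbit
import Cfsg.Agent.Transfer.PGroupNormal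
import Cfsg.Agent.TwoFusion.IsolatedCenter

/-!
# A dichotomy for 2-central classes of involutions closed under commuting products

`X` is a finite group with `O(X) = 1`, `z` an involution in the centre of a Sylow 2-subgroup `P`, such that
products of distinct commuting conjugates of `z` are conjugate to `z`, and every involution of `Z(P)` is
conjugate to `z`.  Then either `z ∈ O_2(X)` and all conjugates of `z` commute, or `X` has a normal simple
(nonabelian) subgroup `L` with `C_X(L) = 1` containing all conjugates of `z`.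

* `commutator_mem_oddCore`: Z*-theorem for isolated involutions
* `exists_moved`: an involution normalising but not centralising a subnormal subgroup `L` (`O(X)=1`) commutes
  with a different conjugate of itself under `L`
* `dichotomy`
-/

set_option autoImplicit false

open Cfsg Subgroup
open scoped Pointwise

namespace Cfsg.Agent.AschCrit.Dichotomy

/-- Z*-theorem for isolated involutions -/
theorem commutator_mem_oddCore {X : Type*} [Group X] [Finite X] {z : X}
    (hz : IsIsolatedInvolution z) (g : X) : z * g * z⁻¹ * g⁻¹ ∈ pPrimeCore 2 X := by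
  have hzz : z * z = 1 := by
    have := pow_orderOf_eq_one z
    rwa [hz.1, pow_two] at this
  refine Cfsg.Agent.S0215.iso_commutator z ⟨hzz, fun g => ?_⟩ g
  have h1 := Cfsg.Agent.TwoFusion.Isolated.odd_orderOf_conj_mul hz g
  have h2 : z * (g * z * g⁻¹) = z * (g * z * g⁻¹ * z) * z⁻¹ := by
    group
  rwa [h2, Cfsg.Agent.TwoFusion.StronglyEmbeddedBasic.orderOf_conj]

/-- if every conjugate of the involution `z` under `L` commuting with `z` is `z`, and `z` normalises `L`,
then `[z, L] ≤ O(L)` (as a subgroup of odd order normal in `L`). -/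
theorem commutator_mem_of_isolated {X : Type*} [Group X] [Finite X] {z : X} (hz : orderOf z = 2)
    {L : Subgroup X} (hzL : z ∈ normalizer (L : Set X))
    (hiso : ∀ g ∈ L, Commute z (g * z * g⁻¹) → g * z * g⁻¹ = z) :
    ∃ N : Subgroup X, N ≤ L ∧ L ≤ normalizer (N : Set X) ∧ Odd (Nat.card N) ∧
      ∀ g ∈ L, z * g * z⁻¹ * g⁻¹ ∈ N := by
  have hzz : z * z = 1 := by
    have := pow_orderOf_eq_one z
    rwa [hz, pow_two] at this
  have hzi : z⁻¹ = z := inv_eq_of_mul_eq_one_right hzz
  set H : Subgroup X := L ⊔ zpowers z with hH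
  have hLH : L ≤ H := le_sup_left
  have hzH : z ∈ H := (le_sup_right : zpowers z ≤ H) (mem_zpowers z)
  -- elements of `H`
  have hmem : ∀ h ∈ H, ∃ l ∈ L, ∃ c : X, Commute c z ∧ h = l * c := by
    intro h hh
    have h1 : (H : Set X) = (L : Set X) * (zpowers z : Set X) := by
      rw [hH]
      exact coe_mul_of_right_le_normalizer_left L (zpowers z) (by rw [zpowers_le]; exact hzL)
    have h2 : h ∈ (L : Set X) * (zpowers z : Set X) := by rw [← h1]; exact hh
    obtain ⟨l, hl, c, ⟨k, hk⟩, hlc⟩ := Set.mem_mul.mp h2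
    refine ⟨l, hl, c, ?_, hlc.symm⟩
    rw [← hk]
    exact (Commute.refl z).zpow_left k
  have hiso' : IsIsolatedInvolution (⟨z, hzH⟩ : H) := by
    refine ⟨by rw [← Subgroup.orderOf_coe]; exact hz, fun g hg => ?_⟩
    obtain ⟨l, hl, c, hc, hgc⟩ := hmem g.1 g.2
    have h1 : (g : X) * z * (g : X)⁻¹ = l * z * l⁻¹ := by
      rw [hgc]
      calc l * c * z * (l * c)⁻¹ = l * (c * z * c⁻¹) * l⁻¹ := by group
        _ = l * z * l⁻¹ := by rw [hc.eq, mul_inv_cancel_right]
    have h2 : Commute z ((g : X) * z * (g : X)⁻¹) := by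
      have := congrArg Subtype.val hg.eq
      exact this
    apply Subtype.ext
    show (g : X) * z * (g : X)⁻¹ = z
    rw [h1] at h2 ⊢
    exact hiso l hl h2
  have hN : ∀ g ∈ L, z * g * z⁻¹ * g⁻¹ ∈ (pPrimeCore 2 H).map H.subtype := by
    intro g hg
    have := commutator_mem_oddCore hiso' ⟨g, hLH hg⟩
    exact ⟨_, this, rfl⟩
  have hodd : Odd (Nat.card ((pPrimeCore 2 H).map H.subtype : Subgroup X)) := by
    rw [Nat.card_congr ((pPrimeCore 2 H).equivMapOfInjective H.subtype H.subtype_injective).symm.toEquiv]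
    exact Nat.coprime_two_right.mp (Cfsg.Agent.Lib.Cores.pPrimeCore_coprime 2)
  refine ⟨(pPrimeCore 2 H).map H.subtype ⊓ L, inf_le_right, ?_, ?_, ?_⟩
  · intro l hl
    have hn : (pPrimeCore 2 H).Normal := Cfsg.Agent.Lib.Cores.pPrimeCore_normal 2
    rw [mem_normalizer_iff]
    intro y
    have key : ∀ l ∈ L, ∀ y ∈ (pPrimeCore 2 H).map H.subtype ⊓ L,
        l * y * l⁻¹ ∈ (pPrimeCore 2 H).map H.subtype ⊓ L := by
      rintro l hl y ⟨⟨y', hy', rfl⟩, hyL⟩
      refine ⟨⟨⟨l, hLH hl⟩ * y' * ⟨l, hLH hl⟩⁻¹, hn.conj_mem _ hy' _, rfl⟩,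
        L.mul_mem (L.mul_mem hl hyL) (L.inv_mem hl)⟩
    refine ⟨key l hl y, fun hy => ?_⟩
    have := key l⁻¹ (L.inv_mem hl) _ hy
    have e1 : l⁻¹ * (l * y * l⁻¹) * l⁻¹⁻¹ = y := by group
    rwa [e1] at this
  · refine hodd.of_dvd_nat ?_
    exact Subgroup.card_dvd_of_le inf_le_left
  · intro g hg
    refine ⟨hN g hg, ?_⟩
    exact L.mul_mem ((mem_normalizer_iff.mp hzL g).mp hg) (L.inv_mem hg)

/-- An involution normalising but not centralising a subnormal subgroup `L` of a group with trivial core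
commutes with a different conjugate of itself under `L`. -/
theorem exists_moved {X : Type*} [Group X] [Finite X] (hO : pPrimeCore 2 X = ⊥) {z : X}
    (hz : orderOf z = 2) {L : Subgroup X} (hL : L.IsSubnormal)
    (hzL : z ∈ normalizer (L : Set X)) (hne : z ∉ centralizer (L : Set X)) :
    ∃ g ∈ L, g * z * g⁻¹ ≠ z ∧ Commute z (g * z * g⁻¹) := by
  by_contra hcon
  push Not at hcon
  obtain ⟨N, hNL, hNn, hodd, hN⟩ := commutator_mem_of_isolated hz hzL (fun g hg hc => by
    by_contra h
    exact hcon g hg h hc)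
  have hNs : N.IsSubnormal := by
    have h1 : (N.subgroupOf L).Normal := normal_subgroupOf_of_le_normalizer hNn
    exact Subgroup.IsSubnormal.step N L hNL hL h1
  have hN1 := Cfsg.Agent.SignalizersComponents.CompBasic.subnormal_coprime_le_pPrimeCore hNs
    (Nat.coprime_two_right.mpr hodd)
  rw [hO, le_bot_iff] at hN1
  apply hne
  rw [mem_centralizer_iff]
  intro g hg
  have := hN g hg
  rw [hN1, mem_bot, mul_inv_eq_one, mul_inv_eq_iff_eq_mul] at this
  exact this.symm

section main

variable {X : Type*} [Group X] [Finite X]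

/-- the involution `z ∈ Z(P)` normalises every component -/
theorem mem_normalizer_component (hO : pPrimeCore 2 X = ⊥) {z : X} (P : Sylow 2 X)
    (hPz : ∀ s ∈ P, Commute s z) {L : Subgroup X} (hL : IsComponent L) :
    z ∈ normalizer (L : Set X) := by
  have : Fact (Nat.Prime 2) := ⟨Nat.prime_two⟩
  have h2 := Cfsg.Agent.SignalizersComponents.PCompCore.dvd_card_component (p := 2) hO hL
  have hL' := Cfsg.Agent.SignalizersComponents.EvenComponent.isPComponent_of_isComponent hL h2
  refine Cfsg.Agent.SignalizersComponents.PCompCore.mem_normalizer_of_centralizes hL'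
    (P : Subgroup X) ?_ ?_
  · intro h
    exact P.not_dvd_index
      (h.trans (Cfsg.Agent.SignalizersComponents.PCompCore.relIndex_dvd_index_of_subnormal _ hL.1))
  · rw [mem_centralizer_iff]
    intro s hs
    exact hPz s hs

/-- `z ∈ Z(P)` centralising all components lies in `O_2(X)` and commutes with its conjugates -/
theorem mem_pCore_of_centralizes (hO : pPrimeCore 2 X = ⊥) {z : X} (P : Sylow 2 X)
    (hPz : ∀ s ∈ P, Commute s z)
    (hc : ∀ L : Subgroup X, IsComponent L → z ∈ centralizer (L : Set X)) :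
    z ∈ pCore 2 X ∧ ∀ g : X, Commute z (g * z * g⁻¹) := by
  have : Fact (Nat.Prime 2) := ⟨Nat.prime_two⟩
  have hF : fittingSubgroup X ≤ pCore 2 X :=
    Cfsg.Agent.SignalizersComponents.CompOrbit.fittingSubgroup_le_pCore hO
  have hQn : (pCore 2 X).Normal := Cfsg.Agent.Lib.Cores.pCore_normal 2
  have hQP : pCore 2 X ≤ (P : Subgroup X) :=
    Cfsg.Agent.Lib.Cores.pCore_le_sylow P
  have hzF : z ∈ centralizer (fittingSubgroup X : Set X) := by
    rw [mem_centralizer_iff]
    intro s hs
    exact hPz s (hQP (hF hs))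
  have hzE : z ∈ centralizer (layer X : Set X) := by
    have h1 : layer X ≤ centralizer ({z} : Set X) := by
      rw [Cfsg.Agent.SignalizersComponents.Components.layer_le_iff]
      intro L hL x hx
      rw [mem_centralizer_singleton_iff]
      exact mem_centralizer_iff.mp (hc L hL) x hx
    rw [mem_centralizer_iff]
    intro x hx
    have := h1 hx
    rwa [mem_centralizer_singleton_iff] at this
  have hzG : z ∈ centralizer (generalizedFittingSubgroup X : Set X) := by
    have h1 : generalizedFittingSubgroup X ≤ centralizer ({z} : Set X) := by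
      show layer X ⊔ fittingSubgroup X ≤ _
      rw [sup_le_iff]
      constructor
      · intro x hx
        rw [mem_centralizer_singleton_iff]
        exact mem_centralizer_iff.mp hzE x hx
      · intro x hx
        rw [mem_centralizer_singleton_iff]
        exact mem_centralizer_iff.mp hzF x hx
    rw [mem_centralizer_iff]
    intro x hx
    have := h1 hx
    rwa [mem_centralizer_singleton_iff] at this
  have hle : centralizer (generalizedFittingSubgroup X : Set X) ≤ fittingSubgroup X :=
    Cfsg.Agent.TwoFusion.FStarControl.centralizer_genFitting_le_fitting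
  refine ⟨hF (hle hzG), fun g => ?_⟩
  have hn : (generalizedFittingSubgroup X).Normal := by
    exact Cfsg.Agent.TwoFusion.FStarControl.genFitting_normal X
  have hcn : (centralizer (generalizedFittingSubgroup X : Set X)).Normal := inferInstance
  have h1 : g * z * g⁻¹ ∈ fittingSubgroup X := hle (hcn.conj_mem z hzG g)
  exact ((mem_centralizer_iff.mp hzF _ h1) : g * z * g⁻¹ * z = z * (g * z * g⁻¹)).symm

/-- a normal subgroup of even order contains an involution of `Z(P)` -/
theorem exists_central_mem (P : Sylow 2 X) (C : Subgroup X) [C.Normal] (hC : 2 ∣ Nat.card C) :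
    ∃ v ∈ P, v ∈ C ∧ orderOf v = 2 ∧ ∀ s ∈ P, Commute s v := by
  have : Fact (Nat.Prime 2) := ⟨Nat.prime_two⟩
  have h1 : ¬ 2 ∣ (P : Subgroup X).relIndex C := fun h =>
    P.not_dvd_index
      (h.trans (Cfsg.Agent.SignalizersComponents.PCompCore.relIndex_dvd_index_of_normal_right _ _))
  have h2 : Nontrivial (C.subgroupOf (P : Subgroup X)) := by
    rw [Subgroup.nontrivial_iff_ne_bot]
    intro hbot
    have h3 : (P : Subgroup X) ⊓ C = ⊥ := by
      rw [eq_bot_iff]
      rintro x ⟨hxP, hxC⟩
      have h4 : (⟨x, hxP⟩ : (P : Subgroup X)) ∈ C.subgroupOf (P : Subgroup X) := hxC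
      rw [hbot, mem_bot] at h4
      exact congrArg Subtype.val h4
    have h5 : (P : Subgroup X).relIndex C = Nat.card C := by
      rw [← inf_relIndex_right, h3, relIndex_bot_left]
    rw [h5] at h1
    exact h1 hC
  have hn : (C.subgroupOf (P : Subgroup X)).Normal := inferInstance
  obtain ⟨v, hv, hvc, hv2⟩ := Cfsg.Agent.Transfer.PGroupNormal.exists_mem_inf_center_orderOf
    P.isPGroup' (C.subgroupOf (P : Subgroup X)) ((Subgroup.nontrivial_iff_ne_bot _).mp h2)
  refine ⟨v, v.2, hv, by rw [Subgroup.orderOf_coe]; exact hv2, fun s hs => ?_⟩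
  have := mem_center_iff.mp hvc ⟨s, hs⟩
  exact congrArg Subtype.val this

/-- **Dichotomy** for a 2-central class of involutions closed under commuting products. -/
theorem dichotomy (hO : pPrimeCore 2 X = ⊥) {z : X} (hz : orderOf z = 2) (P : Sylow 2 X)
    (hPz : ∀ s ∈ P, Commute s z)
    (hcl : ∀ d e : X, IsConj z d → IsConj z e → d ≠ e → Commute d e → IsConj z (d * e))
    (hZ : ∀ v ∈ P, orderOf v = 2 → (∀ s ∈ P, Commute s v) → IsConj z v) :
    (z ∈ pCore 2 X ∧ ∀ d e : X, IsConj z d → IsConj z e → Commute d e) ∨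
    (∃ L : Subgroup X, L.Normal ∧ IsComponent L ∧ IsSimpleGroup L ∧
      centralizer (L : Set X) = ⊥ ∧ ∀ d : X, IsConj z d → d ∈ L) := by
  have : Fact (Nat.Prime 2) := ⟨Nat.prime_two⟩
  by_cases hc : ∀ L : Subgroup X, IsComponent L → z ∈ centralizer (L : Set X)
  · left
    obtain ⟨h1, h2⟩ := mem_pCore_of_centralizes hO P hPz hc
    refine ⟨h1, fun d e hd he => ?_⟩
    obtain ⟨g, rfl⟩ := isConj_iff.mp hd
    obtain ⟨k, rfl⟩ := isConj_iff.mp he
    have := h2 (g⁻¹ * k)
    show g * z * g⁻¹ * (k * z * k⁻¹) = k * z * k⁻¹ * (g * z * g⁻¹)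
    calc g * z * g⁻¹ * (k * z * k⁻¹) = g * (z * (g⁻¹ * k * z * (g⁻¹ * k)⁻¹)) * g⁻¹ := by group
      _ = g * ((g⁻¹ * k * z * (g⁻¹ * k)⁻¹) * z) * g⁻¹ := by rw [this.eq]
      _ = _ := by group
  · right
    push Not at hc
    obtain ⟨L, hL, hzL⟩ := hc
    have hzn := mem_normalizer_component hO P hPz hL
    obtain ⟨g, hg, hgz, hgc⟩ := exists_moved hO hz hL.1 hzn hzL
    -- a conjugate of `z` in `L`
    have hd0 : IsConj z (z * (g * z * g⁻¹)) :=
      hcl z _ (IsConj.refl z) (isConj_iff.mpr ⟨g, rfl⟩) (Ne.symm hgz) hgc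
    have hd0L : z * (g * z * g⁻¹) ∈ L := by
      have hzz : z * z = 1 := by
        have := pow_orderOf_eq_one z
        rwa [hz, pow_two] at this
      have hzi : z⁻¹ = z := inv_eq_of_mul_eq_one_right hzz
      have h1 : z * (g * z * g⁻¹) = (z * g * z⁻¹) * g⁻¹ := by rw [hzi]; group
      rw [h1]
      exact L.mul_mem ((mem_normalizer_iff.mp hzn g).mp hg) (L.inv_mem hg)
    -- conjugates of `z` do not centralise a component containing them
    have hnc : ∀ d : X, IsConj z d → ∀ K : Subgroup X, IsComponent K → d ∈ K →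
        d ∉ centralizer (K : Set X) := by
      intro d hd K hK hdK hdc
      -- `d` centralises all components
      have hall : ∀ K' : Subgroup X, IsComponent K' → d ∈ centralizer (K' : Set X) := by
        intro K' hK'
        by_cases hKK : K = K'
        · rw [← hKK]; exact hdc
        · exact Cfsg.Agent.SignalizersComponents.Components.component_le_centralizer_of_ne hK hK'
            hKK hdK
      obtain ⟨k, hk⟩ := isConj_iff.mp hd
      apply hzL
      have h1 := hall _ (Cfsg.Agent.SignalizersComponents.Components.isComponent_conj k hL)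
      rw [mem_centralizer_iff] at h1 ⊢
      intro y hy
      have h2 := h1 (k * y * k⁻¹) ⟨y, hy, rfl⟩
      rw [← hk] at h2
      have h3 : k * (y * z) * k⁻¹ = k * (z * y) * k⁻¹ := by
        calc k * (y * z) * k⁻¹ = k * y * k⁻¹ * (k * z * k⁻¹) := by group
          _ = k * z * k⁻¹ * (k * y * k⁻¹) := h2
          _ = _ := by group
      exact mul_left_cancel (mul_right_cancel h3)
    -- every conjugate of `z` lies in a component
    have hex : ∀ d : X, IsConj z d → ∃ K : Subgroup X, IsComponent K ∧ d ∈ K := by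
      intro d hd
      obtain ⟨k, hk⟩ := isConj_iff.mp (hd0.symm.trans hd)
      refine ⟨L.map (MulAut.conj k).toMonoidHom,
        Cfsg.Agent.SignalizersComponents.Components.isComponent_conj k hL, ?_⟩
      rw [← hk]
      exact ⟨_, hd0L, rfl⟩
    -- uniqueness of the component
    have huniq : ∀ (d₁ d₂ : X) (K₁ K₂ : Subgroup X), IsConj z d₁ → IsConj z d₂ → IsComponent K₁ →
        IsComponent K₂ → d₁ ∈ K₁ → d₂ ∈ K₂ → K₁ = K₂ := by
      intro d₁ d₂ K₁ K₂ h1 h2 hK₁ hK₂ hd₁ hd₂
      by_contra hne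
      have c12 := Cfsg.Agent.SignalizersComponents.Components.component_le_centralizer_of_ne
        hK₁ hK₂ hne
      have c21 := Cfsg.Agent.SignalizersComponents.Components.component_le_centralizer_of_ne
        hK₂ hK₁ (Ne.symm hne)
      have hcomm : Commute d₁ d₂ := ((mem_centralizer_iff.mp (c12 hd₁) d₂ hd₂)).symm
      have hdne : d₁ ≠ d₂ := by
        rintro rfl
        exact hnc d₁ h1 K₂ hK₂ hd₂ (c12 hd₁)
      have h3 := hcl d₁ d₂ h1 h2 hdne hcomm
      obtain ⟨K₃, hK₃, hd₃⟩ := hex _ h3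
      by_cases h31 : K₃ = K₁
      · subst h31
        have h4 : d₂ ∈ K₃ := by
          have := K₃.mul_mem (K₃.inv_mem hd₁) hd₃
          rwa [inv_mul_cancel_left] at this
        exact hnc d₂ h2 K₂ hK₂ hd₂ (c12 h4)
      · have c31 := Cfsg.Agent.SignalizersComponents.Components.component_le_centralizer_of_ne
          hK₃ hK₁ h31
        have h5 : d₁ * d₂ ∈ centralizer (K₁ : Set X) := c31 hd₃
        have h6 : d₁ ∈ centralizer (K₁ : Set X) := by
          have := (centralizer (K₁ : Set X)).mul_mem h5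
            ((centralizer (K₁ : Set X)).inv_mem (c21 hd₂))
          rwa [mul_inv_cancel_right] at this
        exact hnc d₁ h1 K₁ hK₁ hd₁ h6
    have hall : ∀ d : X, IsConj z d → d ∈ L := by
      intro d hd
      obtain ⟨K, hK, hdK⟩ := hex d hd
      rw [huniq _ d L K hd0 hd hL hK hd0L hdK]
      exact hdK
    have hLn : L.Normal := by
      constructor
      intro n hn k
      have h1 : L.map (MulAut.conj k).toMonoidHom = L := by
        refine huniq (k * z * k⁻¹) z _ _ (isConj_iff.mpr ⟨k, rfl⟩) (IsConj.refl z)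
          (Cfsg.Agent.SignalizersComponents.Components.isComponent_conj k hL) hL ?_
          (hall z (IsConj.refl z))
        exact ⟨z, hall z (IsConj.refl z), rfl⟩
      rw [← h1]
      exact ⟨n, hn, rfl⟩
    have hcent : centralizer (L : Set X) = ⊥ := by
      have hCn : (centralizer (L : Set X)).Normal := inferInstance
      by_contra hne
      have heven : 2 ∣ Nat.card (centralizer (L : Set X)) := by
        by_contra hnd
        have h1 : (Nat.card (centralizer (L : Set X))).Coprime 2 :=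
          ((Nat.Prime.coprime_iff_not_dvd Nat.prime_two).mpr hnd).symm
        have h2 := Cfsg.Agent.Lib.Cores.le_pPrimeCore hCn h1
        rw [hO, le_bot_iff] at h2
        exact hne h2
      obtain ⟨v, hvP, hvC, hv2, hvc⟩ := exists_central_mem P (centralizer (L : Set X)) heven
      have hv := hZ v hvP hv2 hvc
      exact hnc v hv L hL (hall v hv) hvC
    refine ⟨L, hLn, hL, ?_, hcent, hall⟩
    have hn := Cfsg.Agent.SignalizersComponents.Components.quasisimple_nontrivial hL.2
    refine ⟨fun N hN => ?_⟩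
    rcases Cfsg.Agent.SignalizersComponents.Components.quasisimple_normal hL.2 N hN with h | h
    · exact Or.inr h
    · left
      rw [eq_bot_iff]
      intro x hx
      have h1 : (x : X) ∈ centralizer (L : Set X) := by
        rw [mem_centralizer_iff]
        intro y hy
        exact congrArg Subtype.val (mem_center_iff.mp (h hx) ⟨y, hy⟩)
      rw [hcent, mem_bot] at h1
      exact Subtype.ext h1

end main

section core

variable {M : Type*} [Group M] [Finite M]

omit [Finite M] in
/-- conjugates in the quotient lift to conjugates -/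
theorem exists_lift_conj {N : Subgroup M} [N.Normal] {z : M} {x : M ⧸ N}
    (hx : IsConj (QuotientGroup.mk' N z) x) : ∃ d : M, IsConj z d ∧ QuotientGroup.mk' N d = x := by
  obtain ⟨c, rfl⟩ := isConj_iff.mp hx
  obtain ⟨g, rfl⟩ := QuotientGroup.mk'_surjective N c
  exact ⟨g * z * g⁻¹, isConj_iff.mpr ⟨g, rfl⟩, by simp only [map_mul, map_inv]⟩

/-- two 2-elements commuting modulo a normal subgroup `N` of odd order are congruent modulo `N` to
`N`-conjugates which commute. -/
theorem exists_lift_commute {N : Subgroup M} [N.Normal] (hN : (Nat.card N).Coprime 2) {d e : M}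
    (hd : d * d = 1) (he : e * e = 1)
    (hc : Commute (QuotientGroup.mk' N d) (QuotientGroup.mk' N e)) :
    ∃ n₁ ∈ N, ∃ n₂ ∈ N, Commute (n₁ * d * n₁⁻¹) (n₂ * e * n₂⁻¹) := by
  have : Fact (Nat.Prime 2) := ⟨Nat.prime_two⟩
  set π := QuotientGroup.mk' N with hπ
  have hsurj : Function.Surjective π := QuotientGroup.mk'_surjective N
  -- a Sylow 2-subgroup of the quotient containing both images
  have hQ : IsPGroup 2 (zpowers (π d) ⊔ zpowers (π e) : Subgroup (M ⧸ N)) := by
    have h1 : ∀ x : M, x * x = 1 → IsPGroup 2 (zpowers (π x)) := by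
      intro x hx
      rw [IsPGroup.iff_card]
      have h2 : orderOf (π x) ∣ 2 ^ 1 := by
        apply orderOf_dvd_of_pow_eq_one
        rw [pow_one, pow_two, ← map_mul, hx, map_one]
      obtain ⟨m, -, hm⟩ := (Nat.dvd_prime_pow Nat.prime_two).mp h2
      exact ⟨m, by rw [Nat.card_zpowers, hm]⟩
    refine IsPGroup.to_sup_of_normal_right' (h1 d hd) (h1 e he) ?_
    rw [zpowers_le, mem_normalizer_iff]
    intro y
    have key : ∀ y ∈ zpowers (π e), π d * y * (π d)⁻¹ = y := by
      rintro y ⟨k, rfl⟩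
      have := (hc.zpow_right k).eq
      simp only at this ⊢
      rw [this, mul_inv_cancel_right]
    constructor
    · intro hy
      rw [key y hy]; exact hy
    · intro hy
      have h3 := key _ hy
      have h4 : π d * y * (π d)⁻¹ = y := by
        have h5 := mul_left_cancel (mul_right_cancel h3)
        exact h5
      rwa [h4] at hy
  obtain ⟨Q, hQle⟩ := hQ.exists_le_sylow
  obtain ⟨S, rfl⟩ := Sylow.mapSurjective_surjective hsurj 2 Q
  have hmem : ∀ x : M, π x ∈ (S : Subgroup M).map π → x ∈ (S : Subgroup M) ⊔ N := by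
    rintro x ⟨s, hs, hsx⟩
    have h1 : s⁻¹ * x ∈ N := by
      rw [← QuotientGroup.eq_one_iff]
      have : π (s⁻¹ * x) = 1 := by rw [map_mul, map_inv, hsx, inv_mul_cancel]
      exact this
    have h2 := mul_mem_sup hs h1
    rwa [mul_inv_cancel_left] at h2
  have hdS : d ∈ (S : Subgroup M) ⊔ N := by
    apply hmem
    have := hQle ((le_sup_left : zpowers (π d) ≤ _) (mem_zpowers (π d)))
    rwa [Sylow.coe_mapSurjective] at this
  have heS : e ∈ (S : Subgroup M) ⊔ N := by
    apply hmem
    have := hQle ((le_sup_right : zpowers (π e) ≤ _) (mem_zpowers (π e)))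
    rwa [Sylow.coe_mapSurjective] at this
  obtain ⟨n₁, hn₁, h₁⟩ := Cfsg.Agent.TwoFusion.IsolatedCenter.exists_conj_mem S N d
    ⟨1, by rw [pow_one, pow_two, hd]⟩ hdS
  obtain ⟨n₂, hn₂, h₂⟩ := Cfsg.Agent.TwoFusion.IsolatedCenter.exists_conj_mem S N e
    ⟨1, by rw [pow_one, pow_two, he]⟩ heS
  refine ⟨n₁, hn₁, n₂, hn₂, ?_⟩
  set d' := n₁ * d * n₁⁻¹ with hd'
  set e' := n₂ * e * n₂⁻¹ with he'
  have hNπ : ∀ n ∈ N, π n = 1 := fun n hn => (QuotientGroup.eq_one_iff n).mpr hn
  have hπd : π d' = π d := by rw [hd', map_mul, map_mul, map_inv, hNπ n₁ hn₁]; simp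
  have hπe : π e' = π e := by rw [he', map_mul, map_mul, map_inv, hNπ n₂ hn₂]; simp
  have hcomm : d' * e' * d'⁻¹ * e'⁻¹ ∈ (S : Subgroup M) ⊓ N := by
    refine mem_inf.mpr ⟨?_, ?_⟩
    · exact mul_mem (mul_mem (mul_mem h₁ h₂) (inv_mem h₁)) (inv_mem h₂)
    · rw [← QuotientGroup.eq_one_iff]
      show π (d' * e' * d'⁻¹ * e'⁻¹) = 1
      rw [map_mul, map_mul, map_mul, map_inv, map_inv, hπd, hπe, hc.eq]
      group
  have hbot : (S : Subgroup M) ⊓ N = ⊥ := by
    obtain ⟨k, hk⟩ := IsPGroup.iff_card.mp S.isPGroup'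
    refine (disjoint_of_coprime_natCard ?_).eq_bot
    rw [hk]
    exact (Nat.Coprime.pow_right k hN).symm
  rw [hbot, mem_bot, mul_inv_eq_one, mul_inv_eq_iff_eq_mul] at hcomm
  exact hcomm

/-- The dichotomy for `M/O(M)`. -/
theorem dichotomy_core {z : M} (hz : orderOf z = 2) (P : Sylow 2 M) (hzP : z ∈ P)
    (hPz : ∀ s ∈ P, Commute s z)
    (hcl : ∀ d e : M, IsConj z d → IsConj z e → d ≠ e → Commute d e → IsConj z (d * e))
    (hZ : ∀ v ∈ P, orderOf v = 2 → (∀ s ∈ P, Commute s v) → IsConj z v) :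
    (QuotientGroup.mk' (pPrimeCore 2 M) z ∈ pCore 2 (M ⧸ pPrimeCore 2 M) ∧
      ∀ d e : M, IsConj z d → IsConj z e →
        Commute (QuotientGroup.mk' (pPrimeCore 2 M) d) (QuotientGroup.mk' (pPrimeCore 2 M) e)) ∨
    (∃ L : Subgroup (M ⧸ pPrimeCore 2 M), L.Normal ∧ IsComponent L ∧ IsSimpleGroup L ∧
      centralizer (L : Set (M ⧸ pPrimeCore 2 M)) = ⊥ ∧
      ∀ d : M, IsConj z d → QuotientGroup.mk' (pPrimeCore 2 M) d ∈ L) := by
  have : Fact (Nat.Prime 2) := ⟨Nat.prime_two⟩
  set N := pPrimeCore 2 M with hN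
  set π := QuotientGroup.mk' N with hπ
  have hsurj : Function.Surjective π := QuotientGroup.mk'_surjective N
  have hNc : (Nat.card N).Coprime 2 := Cfsg.Agent.Lib.Cores.pPrimeCore_coprime 2
  have hO : pPrimeCore 2 (M ⧸ N) = ⊥ := Cfsg.Agent.Lib.Cores.pPrimeCore_quotient_pPrimeCore 2
  have hconj : ∀ d : M, IsConj z d → IsConj (π z) (π d) := by
    intro d hd
    obtain ⟨g, rfl⟩ := isConj_iff.mp hd
    exact isConj_iff.mpr ⟨π g, by simp only [map_mul, map_inv]⟩
  have hinv : ∀ d : M, IsConj z d → d * d = 1 := by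
    intro d hd
    obtain ⟨g, rfl⟩ := isConj_iff.mp hd
    have hzz : z * z = 1 := by
      have := pow_orderOf_eq_one z
      rwa [hz, pow_two] at this
    calc g * z * g⁻¹ * (g * z * g⁻¹) = g * (z * z) * g⁻¹ := by group
      _ = 1 := by rw [hzz]; group
  have hPN : (P : Subgroup M) ⊓ N = ⊥ := by
    obtain ⟨k, hk⟩ := IsPGroup.iff_card.mp P.isPGroup'
    refine (disjoint_of_coprime_natCard ?_).eq_bot
    rw [hk]
    exact (Nat.Coprime.pow_right k hNc).symm
  have hinj : ∀ x ∈ P, π x = 1 → x = 1 := by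
    intro x hx h1
    have h2 : x ∈ (P : Subgroup M) ⊓ N := ⟨hx, (QuotientGroup.eq_one_iff x).mp h1⟩
    rwa [hPN, mem_bot] at h2
  have hz1 : z ≠ 1 := by
    rintro rfl; rw [orderOf_one] at hz; exact absurd hz (by norm_num)
  have hπz : orderOf (π z) = 2 := by
    refine orderOf_eq_prime ?_ ?_
    · rw [pow_two, ← map_mul, hinv z (IsConj.refl z), map_one]
    · intro h; exact hz1 (hinj z hzP h)
  have hmemP : ∀ s : M ⧸ N, s ∈ P.mapSurjective hsurj → ∃ t ∈ P, π t = s := by
    intro s hs
    have h1 : s ∈ ((P.mapSurjective hsurj : Sylow 2 (M ⧸ N)) : Subgroup (M ⧸ N)) := hs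
    rw [Sylow.coe_mapSurjective] at h1
    obtain ⟨t, ht, rfl⟩ := h1
    exact ⟨t, ht, rfl⟩
  have hPmem : ∀ t ∈ P, π t ∈ P.mapSurjective hsurj := by
    intro t ht
    show π t ∈ ((P.mapSurjective hsurj : Sylow 2 (M ⧸ N)) : Subgroup (M ⧸ N))
    rw [Sylow.coe_mapSurjective]
    exact ⟨t, ht, rfl⟩
  have H1 : ∀ s ∈ P.mapSurjective hsurj, Commute s (π z) := by
    intro s hs
    obtain ⟨t, ht, rfl⟩ := hmemP s hs
    exact (hPz t ht).map π
  have H2 : ∀ x y : M ⧸ N, IsConj (π z) x → IsConj (π z) y → x ≠ y → Commute x y →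
      IsConj (π z) (x * y) := by
    intro x y hx hy hne hc
    obtain ⟨d, hd, rfl⟩ := exists_lift_conj hx
    obtain ⟨e, he, rfl⟩ := exists_lift_conj hy
    obtain ⟨n₁, hn₁, n₂, hn₂, hc'⟩ := exists_lift_commute hNc (hinv d hd) (hinv e he) hc
    have hNπ : ∀ n ∈ N, π n = 1 := fun n hn => (QuotientGroup.eq_one_iff n).mpr hn
    have hπd : π (n₁ * d * n₁⁻¹) = π d := by
      rw [map_mul, map_mul, map_inv, hNπ n₁ hn₁]; simp
    have hπe : π (n₂ * e * n₂⁻¹) = π e := by
      rw [map_mul, map_mul, map_inv, hNπ n₂ hn₂]; simp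
    have h3 := hcl _ _ (hd.trans (isConj_iff.mpr ⟨n₁, rfl⟩)) (he.trans (isConj_iff.mpr ⟨n₂, rfl⟩))
      (fun h => hne (by
        show π d = π e
        rw [← hπd, ← hπe, h])) hc'
    have h4 := hconj _ h3
    rw [map_mul, hπd, hπe] at h4
    exact h4
  have H3 : ∀ v ∈ P.mapSurjective hsurj, orderOf v = 2 →
      (∀ s ∈ P.mapSurjective hsurj, Commute s v) → IsConj (π z) v := by
    intro v hv hv2 hvc
    obtain ⟨t, ht, rfl⟩ := hmemP v hv
    have ht2 : orderOf t = 2 := by
      refine orderOf_eq_prime ?_ ?_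
      · apply hinj _ (pow_mem ht 2)
        have h5 := pow_orderOf_eq_one (π t)
        rw [hv2] at h5
        rw [map_pow]; exact h5
      · rintro rfl
        rw [map_one, orderOf_one] at hv2
        exact absurd hv2 (by norm_num)
    refine hconj t (hZ t ht ht2 fun s hs => ?_)
    have h1 : s * t * s⁻¹ * t⁻¹ = 1 := by
      apply hinj
      · exact mul_mem (mul_mem (mul_mem hs ht) (inv_mem hs)) (inv_mem ht)
      · rw [map_mul, map_mul, map_mul, map_inv, map_inv, (hvc _ (hPmem s hs)).eq]
        group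
    rw [mul_inv_eq_one, mul_inv_eq_iff_eq_mul] at h1
    exact h1
  rcases dichotomy hO hπz (P.mapSurjective hsurj) H1 H2 H3 with h | h
  · left
    exact ⟨h.1, fun d e hd he => h.2 _ _ (hconj d hd) (hconj e he)⟩
  · right
    obtain ⟨L, h1, h2, h3, h4, h5⟩ := h
    exact ⟨L, h1, h2, h3, h4, fun d hd => h5 _ (hconj d hd)⟩

end core

end Cfsg.Agent.AschCrit.Dichotomy
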