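import Mathlib
import Cfsg.Agent.AschCrit.Closed
import Cfsg.Agent.AschCrit.Dichotomy

/-!
# Aschbacher's criterion: the Z*-theorem in `G_{ab}⟨x⟩`

For `a ≠ b` let `J = G_{ab} = stab a ⊓ stab b` and `X = oc a b = O(G_{ab})` (as a subgroup of `G`).

* `oc`, `oc_le_left`, `oc_le_right`, `odd_oc`, `oc_conj_mem` (`g X_{ab} g⁻¹ = X_{ga,gb}`), `oc_symm`
* `le_oc` : an odd order subgroup of `G_{ab}` normalised by `G_{ab}` lies in `X`
* `commutator_mem_oc` : `[x, j] ∈ X` for `x ∈ D` swapping `a` and `b`, `j ∈ G_{ab}`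
* `exists_conj_sw` : `X` is transitive on `D ∩ I(a,b)`
* `exists_conj_at_oc` : `X` is transitive on `D_a` (and on `D_b` by symmetry)
* `exists_mul_centralizer` : `G_a = X C(d)` for `d ∈ D_a`; `exists_mul_sw` : `G_{ab} = X C(x)`
* `exists_centralizer_conj_at` : for a 2-subgroup `T` of `G_{ab}`, `C_X(T)` is transitive on `D_a ∩ C(T)`;
  `exists_centralizer_conj_sw` : `x, y ∈ D ∩ I(a,b)` are conjugate by an element of `X ∩ ⟨xy⟩`
-/

set_option autoImplicit false

open Subgroup Cfsg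

namespace Cfsg.Agent.AschCrit.IsolatedSwap

open Cfsg.Agent.TwoFusion.StronglyEmbeddedBasic Cfsg.Agent.AschCrit.Basic
open Cfsg.Agent.AschCrit.Basic.Setup Cfsg.Agent.AschCrit.Closed

variable {G Ω : Type*} [Group G] [MulAction G Ω] {z : G}

/-- the two-point stabiliser -/
def stab2 (G : Type*) {Ω : Type*} [Group G] [MulAction G Ω] (a b : Ω) : Subgroup G :=
  MulAction.stabilizer G a ⊓ MulAction.stabilizer G b

theorem mem_stab2 {a b : Ω} {g : G} : g ∈ stab2 G a b ↔ g • a = a ∧ g • b = b := Iff.rfl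

theorem stab2_symm (a b : Ω) : stab2 G a b = stab2 G b a := inf_comm _ _

theorem conj_mem_stab2 {a b : Ω} {j : G} (g : G) (hj : j ∈ stab2 G a b) :
    g * j * g⁻¹ ∈ stab2 G (g • a) (g • b) := by
  refine mem_stab2.mpr ⟨?_, ?_⟩
  · rw [mul_smul, mul_smul, inv_smul_smul, hj.1]
  · rw [mul_smul, mul_smul, inv_smul_smul, hj.2]

/-- `X_{ab} = O(G_{ab})` -/
def oc (G : Type*) {Ω : Type*} [Group G] [MulAction G Ω] (a b : Ω) : Subgroup G :=
  (pPrimeCore 2 (stab2 G a b)).map (stab2 G a b).subtype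

theorem oc_le (a b : Ω) : oc G a b ≤ stab2 G a b := map_subtype_le _

theorem oc_le_left (a b : Ω) : oc G a b ≤ MulAction.stabilizer G a := (oc_le a b).trans inf_le_left

theorem oc_le_right (a b : Ω) : oc G a b ≤ MulAction.stabilizer G b :=
  (oc_le a b).trans inf_le_right

theorem smul_left_of_mem_oc {a b : Ω} {x : G} (hx : x ∈ oc G a b) : x • a = a := oc_le_left a b hx

theorem smul_right_of_mem_oc {a b : Ω} {x : G} (hx : x ∈ oc G a b) : x • b = b :=
  oc_le_right a b hx

theorem odd_oc [Finite G] (a b : Ω) : Odd (Nat.card (oc G a b)) := by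
  rw [oc, Nat.card_congr ((pPrimeCore 2 (stab2 G a b)).equivMapOfInjective (stab2 G a b).subtype
    (stab2 G a b).subtype_injective).symm.toEquiv]
  exact Nat.coprime_two_right.mp (Cfsg.Agent.Lib.Cores.pPrimeCore_coprime 2)

theorem oc_symm (a b : Ω) : oc G a b = oc G b a := by
  rw [oc, oc, stab2_symm]

/-- an odd order subgroup of `G_{ab}` normalised by `G_{ab}` lies in `X_{ab}` -/
theorem le_oc {a b : Ω} {N : Subgroup G} (hN : N ≤ stab2 G a b)
    (hn : stab2 G a b ≤ normalizer (N : Set G)) (hodd : Odd (Nat.card N)) : N ≤ oc G a b := by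
  have h1 : (N.subgroupOf (stab2 G a b)).Normal := normal_subgroupOf_of_le_normalizer hn
  have h2 : N.subgroupOf (stab2 G a b) ≤ pPrimeCore 2 (stab2 G a b) := by
    refine Cfsg.Agent.Lib.Cores.le_pPrimeCore h1 ?_
    rw [Nat.card_congr (subgroupOfEquivOfLe hN).toEquiv]
    exact Nat.coprime_two_right.mpr hodd
  have h3 := map_mono (f := (stab2 G a b).subtype) h2
  rwa [subgroupOf_map_subtype, inf_eq_left.mpr hN] at h3

/-- `g X_{ab} g⁻¹ = X_{ga,gb}` -/
theorem oc_map_conj [Finite G] (a b : Ω) (g : G) :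
    (oc G a b).map (MulAut.conj g).toMonoidHom = oc G (g • a) (g • b) := by
  have key : ∀ (a b : Ω) (g : G),
      (oc G a b).map (MulAut.conj g).toMonoidHom ≤ oc G (g • a) (g • b) := by
    intro a b g
    refine le_oc ?_ ?_ ?_
    · rintro _ ⟨x, hx, rfl⟩
      exact conj_mem_stab2 g (oc_le a b hx)
    · intro j hj
      have hj' : g⁻¹ * j * g ∈ stab2 G a b := by
        have := conj_mem_stab2 g⁻¹ hj
        rwa [inv_inv, inv_smul_smul, inv_smul_smul] at this
      have hn : (pPrimeCore 2 (stab2 G a b)).Normal := Cfsg.Agent.Lib.Cores.pPrimeCore_normal 2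
      have h1 : ∀ i ∈ stab2 G a b, ∀ x ∈ oc G a b, i * x * i⁻¹ ∈ oc G a b := by
        rintro i hi _ ⟨x, hx, rfl⟩
        exact ⟨⟨i, hi⟩ * x * ⟨i, hi⟩⁻¹, hn.conj_mem x hx _, rfl⟩
      have h2 : ∀ j : G, g⁻¹ * j * g ∈ stab2 G a b → ∀ y ∈ (oc G a b).map (MulAut.conj g).toMonoidHom,
          j * y * j⁻¹ ∈ (oc G a b).map (MulAut.conj g).toMonoidHom := by
        rintro j hj _ ⟨x, hx, rfl⟩
        refine ⟨g⁻¹ * j * g * x * (g⁻¹ * j * g)⁻¹, h1 _ hj x hx, ?_⟩
        show g * (g⁻¹ * j * g * x * (g⁻¹ * j * g)⁻¹) * g⁻¹ = j * (g * x * g⁻¹) * j⁻¹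
        group
      rw [mem_normalizer_iff]
      intro y
      refine ⟨fun hy => h2 j hj' y hy, fun hy => ?_⟩
      have h3 := h2 j⁻¹ (by
        have := (stab2 G a b).inv_mem hj'
        have e1 : (g⁻¹ * j * g)⁻¹ = g⁻¹ * j⁻¹ * g := by group
        rwa [e1] at this) _ hy
      have e2 : j⁻¹ * (j * y * j⁻¹) * j⁻¹⁻¹ = y := by group
      rwa [e2] at h3
    · rw [Nat.card_congr ((oc G a b).equivMapOfInjective (MulAut.conj g).toMonoidHom
        (MulAut.conj g).injective).symm.toEquiv]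
      exact odd_oc a b
  apply le_antisymm (key a b g)
  have h1 := map_mono (f := (MulAut.conj g).toMonoidHom) (key (g • a) (g • b) g⁻¹)
  rw [inv_smul_smul, inv_smul_smul, map_map] at h1
  have h2 : (MulAut.conj g).toMonoidHom.comp (MulAut.conj g⁻¹).toMonoidHom = MonoidHom.id G := by
    ext x
    show g * (g⁻¹ * x * g⁻¹⁻¹) * g⁻¹ = x
    group
  rwa [h2, map_id] at h1

theorem oc_conj_mem [Finite G] {a b : Ω} {x : G} (g : G) (hx : x ∈ oc G a b) :
    g * x * g⁻¹ ∈ oc G (g • a) (g • b) := by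
  rw [← oc_map_conj]
  exact ⟨x, hx, rfl⟩

/-- elements fixing or swapping `a` and `b` normalise `X_{ab}` -/
theorem mem_normalizer_oc [Finite G] {a b : Ω} {g : G}
    (hg : (g • a = a ∧ g • b = b) ∨ (g • a = b ∧ g • b = a)) :
    g ∈ normalizer (oc G a b : Set G) := by
  have key : ∀ g : G, ((g • a = a ∧ g • b = b) ∨ (g • a = b ∧ g • b = a)) →
      ∀ x ∈ oc G a b, g * x * g⁻¹ ∈ oc G a b := by
    intro g hg x hx
    have := oc_conj_mem g hx
    rcases hg with ⟨h1, h2⟩ | ⟨h1, h2⟩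
    · rwa [h1, h2] at this
    · rw [h1, h2] at this
      rwa [oc_symm]
  rw [mem_normalizer_iff]
  intro x
  refine ⟨key g hg x, fun hx => ?_⟩
  have h3 := key g⁻¹ (by
    rcases hg with ⟨h1, h2⟩ | ⟨h1, h2⟩
    · left
      exact ⟨by rw [inv_smul_eq_iff, h1], by rw [inv_smul_eq_iff, h2]⟩
    · right
      exact ⟨by rw [inv_smul_eq_iff, h2], by rw [inv_smul_eq_iff, h1]⟩) _ hx
  have e2 : g⁻¹ * (g * x * g⁻¹) * g⁻¹⁻¹ = x := by group
  rwa [e2] at h3

/-- an element of `D` moving `a` to `b` swaps them -/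
theorem sw_smul_right (h : Setup G Ω z) {a b : Ω} {x : G} (hx : x ∈ Sw z a b) : x • b = a := by
  rw [← hx.2, h.smul_smul_self hx.1]

/-- `[x, j] ∈ O(G_{ab})` for `x ∈ D` swapping `a` and `b` and `j ∈ G_{ab}` -/
theorem commutator_mem_oc [Finite G] (h : Setup G Ω z) {a b : Ω} (hab : a ≠ b) {x j : G}
    (hx : x ∈ Sw z a b) (hj : j ∈ stab2 G a b) : x * j * x⁻¹ * j⁻¹ ∈ oc G a b := by
  have hxb := sw_smul_right h hx
  have hxn : x ∈ normalizer (stab2 G a b : Set G) := by
    have key : ∀ i ∈ stab2 G a b, x * i * x⁻¹ ∈ stab2 G a b := by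
      intro i hi
      have := conj_mem_stab2 x hi
      rwa [hx.2, hxb, stab2_symm] at this
    rw [mem_normalizer_iff]
    intro i
    refine ⟨key i, fun hi => ?_⟩
    have h1 := key _ hi
    have e1 : x * (x * i * x⁻¹) * x⁻¹ = (x * x) * i * (x * x)⁻¹ := by group
    rw [e1, h.mul_self hx.1] at h1
    simpa using h1
  obtain ⟨N, hNJ, hNn, hodd, hN⟩ := Cfsg.Agent.AschCrit.Dichotomy.commutator_mem_of_isolated
    (h.orderOf_eq hx.1) hxn (fun g hg hc => h.isolated hab hx hg.1 hg.2 hc)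
  exact le_oc hNJ hNn hodd (hN j hj)

/-- elements of `D` swapping `a` and `b` have a product in `O(G_{ab})`. -/
theorem mul_mem_oc [Finite G] (h : Setup G Ω z) {a b : Ω} (hab : a ≠ b) {x y : G}
    (hx : x ∈ Sw z a b) (hy : y ∈ Sw z a b) : x * y ∈ oc G a b := by
  have hxb := sw_smul_right h hx
  have hyb := sw_smul_right h hy
  have hj : x * y ∈ stab2 G a b := by
    refine mem_stab2.mpr ⟨?_, ?_⟩
    · rw [mul_smul, hy.2, hxb]
    · rw [mul_smul, hyb, hx.2]
  -- the product has odd order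
  have hodd : Odd (orderOf (x * y)) := by
    by_contra hodd
    obtain ⟨w, hw, hw2, hwx, hwy, hwc⟩ :=
      exists_central x y (h.orderOf_eq hx.1) (h.orderOf_eq hy.1) (orderOf_pos _) hodd
    have hwJ : w ∈ stab2 G a b := by
      have : zpowers (x * y) ≤ stab2 G a b := by rw [zpowers_le]; exact hj
      exact this hw
    have hxw : x * w ∈ Sw z a b := by
      refine ⟨?_, by rw [mul_smul, hwJ.1, hx.2]⟩
      rcases hwc with hc | hc
      · exact hx.1.trans hc
      · exact hy.1.trans hc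
    have := h.eq_of_commute_swap hab hx hxw ((Commute.refl x).mul_right hwx.symm)
    have hw1 : w = 1 := by simpa using this.symm
    rw [hw1, orderOf_one] at hw2
    exact absurd hw2 (by norm_num)
  -- `y = g x g⁻¹` with `g ∈ ⟨x y⟩`
  obtain ⟨g, hg, -, hgx, -⟩ := exists_swap_conj x y (h.orderOf_eq hx.1) (h.orderOf_eq hy.1) hodd
  -- write `g` as an element of `J` or `J x`
  have hgmem : (g ∈ stab2 G a b) ∨ (x * g ∈ stab2 G a b) := by
    let S : Subgroup G :=
      { carrier := {g | g ∈ stab2 G a b ∨ x * g ∈ stab2 G a b}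
        one_mem' := Or.inl (one_mem _)
        mul_mem' := by
          have hxx := h.mul_self hx.1
          intro g k hg hk
          have hxs : ∀ i ∈ stab2 G a b, x * i * x ∈ stab2 G a b := by
            intro i hi
            have := conj_mem_stab2 x hi
            rw [hx.2, hxb, stab2_symm, h.inv_eq hx.1] at this
            exact this
          rcases hg with hg | hg <;> rcases hk with hk | hk
          · exact Or.inl (mul_mem hg hk)
          · right
            have h1 := mul_mem (hxs g hg) hk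
            have e1 : x * g * x * (x * k) = x * (g * k) := by
              calc x * g * x * (x * k) = x * g * (x * x) * k := by group
                _ = x * (g * k) := by rw [hxx]; group
            rwa [e1] at h1
          · right
            have h1 := mul_mem hg hk
            rwa [mul_assoc] at h1
          · left
            have h1 := mul_mem (hxs _ hg) hk
            have e1 : x * (x * g) * x * (x * k) = g * k := by
              calc x * (x * g) * x * (x * k) = (x * x) * g * (x * x) * k := by group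
                _ = g * k := by rw [hxx]; group
            rwa [e1] at h1
        inv_mem' := by
          intro g hg
          rcases hg with hg | hg
          · exact Or.inl (inv_mem hg)
          · right
            have h1 := conj_mem_stab2 x (inv_mem hg)
            rw [hx.2, hxb, stab2_symm, h.inv_eq hx.1] at h1
            have e1 : x * (x * g)⁻¹ * x = x * g⁻¹ := by
              calc x * (x * g)⁻¹ * x = x * g⁻¹ * (x⁻¹ * x) := by group
                _ = x * g⁻¹ := by group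
            rwa [e1] at h1 }
    have hle : closure ({x, y} : Set G) ≤ S := by
      rw [closure_le]
      rintro s (rfl | rfl)
      · right
        show s * s ∈ stab2 G a b
        rw [h.mul_self hx.1]; exact one_mem _
      · exact Or.inr hj
    exact hle hg
  have hxi := h.inv_eq hx.1
  rcases hgmem with hgJ | hgJ
  · have h1 := commutator_mem_oc h hab hx hgJ
    have e1 : x * g * x⁻¹ * g⁻¹ = x * (g * x * g⁻¹) := by rw [hxi]; group
    rwa [e1, hgx] at h1
  · have h1 := commutator_mem_oc h hab hx hgJ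
    have e1 : x * (x * g) * x⁻¹ * (x * g)⁻¹ = x * (x * (g * x * g⁻¹) * x) := by
      rw [mul_inv_rev, hxi]; group
    rw [e1, hgx] at h1
    -- `x x y x = y x`, whose inverse is `x y`
    have e2 : x * (x * y * x) = y * x := by
      calc x * (x * y * x) = (x * x) * (y * x) := by group
        _ = y * x := by rw [h.mul_self hx.1, one_mul]
    rw [e2] at h1
    have h2 := inv_mem h1
    rwa [mul_inv_rev, hxi, h.inv_eq hy.1] at h2

/-- an element `n` of odd order inverted by the involution `x`: `x n = m⁻¹ x m` for a power `m` of `n` -/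
theorem exists_sqrt_conj [Finite G] {x n : G} (hxx : x * x = 1) (hn : Odd (orderOf n))
    (hinv : x * n * x⁻¹ = n⁻¹) : ∃ m ∈ zpowers n, m * x * m⁻¹ = x * n := by
  obtain ⟨k, hk⟩ := hn
  have h1 : n ^ (2 * k + 1) = 1 := by rw [← hk]; exact pow_orderOf_eq_one n
  have hs : ∀ j : ℕ, x * n ^ j = (n ^ j)⁻¹ * x := by
    intro j
    have hsc : SemiconjBy x n n⁻¹ := by
      show x * n = n⁻¹ * x
      rw [← hinv]; group
    have := (hsc.pow_right j).eq
    rwa [inv_pow] at this
  refine ⟨n ^ k, npow_mem_zpowers n k, ?_⟩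
  have e1 : n ^ k * x = x * (n ^ k)⁻¹ := by
    have := hs k
    calc n ^ k * x = n ^ k * (x * n ^ k) * (n ^ k)⁻¹ := by group
      _ = n ^ k * ((n ^ k)⁻¹ * x) * (n ^ k)⁻¹ := by rw [this]
      _ = x * (n ^ k)⁻¹ := by group
  rw [e1, mul_assoc, ← mul_inv_rev, ← pow_add]
  congr 1
  rw [inv_eq_iff_mul_eq_one, ← pow_succ, ← two_mul, h1]

/-- `O(G_{ab})` is transitive on the elements of `D` swapping `a` and `b`. -/
theorem exists_conj_sw [Finite G] (h : Setup G Ω z) {a b : Ω} (hab : a ≠ b) {x y : G}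
    (hx : x ∈ Sw z a b) (hy : y ∈ Sw z a b) : ∃ n ∈ oc G a b, n * x * n⁻¹ = y := by
  have h1 := mul_mem_oc h hab hx hy
  have hodd : Odd (orderOf (x * y)) := by
    refine (odd_oc (G := G) a b).of_dvd_nat ?_
    exact (Subgroup.orderOf_mk _ h1) ▸ orderOf_dvd_natCard (⟨x * y, h1⟩ : oc G a b)
  obtain ⟨m, hm, hmx⟩ := exists_sqrt_conj (h.mul_self hx.1) hodd (by
    rw [mul_inv_rev, h.inv_eq hx.1, h.inv_eq hy.1]
    calc x * (x * y) * x = (x * x) * y * x := by group
      _ = y * x := by rw [h.mul_self hx.1, one_mul])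
  refine ⟨m, ?_, ?_⟩
  · have : zpowers (x * y) ≤ oc G a b := by rw [zpowers_le]; exact h1
    exact this hm
  · rw [hmx, ← mul_assoc, h.mul_self hx.1, one_mul]

/-- For a 2-subgroup `T` of `G_{ab}`, `C_X(T)` (`X = O(G_{ab})`) is transitive on `D_a ∩ C(T)`. -/
theorem exists_centralizer_conj_at [Finite G] (h : Setup G Ω z) {a b : Ω} (hab : a ≠ b)
    (T : Subgroup G) (hT : IsPGroup 2 T) (hTa : ∀ t ∈ T, t • a = a) (hTb : ∀ t ∈ T, t • b = b)
    {d e : G} (hd : d ∈ At z a) (he : e ∈ At z a) (hdT : ∀ t ∈ T, Commute d t)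
    (heT : ∀ t ∈ T, Commute e t) :
    ∃ n ∈ oc G a b, (∀ t ∈ T, Commute n t) ∧ n * d * n⁻¹ = e := by
  obtain ⟨x, hx, hxT⟩ := h.exists_swap_commute T hT hab hTa hTb
  have he' : x * e * x⁻¹ ∈ At z b := by
    have := conj_mem_At x he
    rwa [hx.2] at this
  obtain ⟨y, hym, hy, hyd, -, hya, -⟩ := h.exists_swap hd.1 he'.1 hd.2 he'.2 hab
  have hyT : ∀ t ∈ T, Commute y t := by
    have hle : closure ({d, x * e * x⁻¹} : Set G) ≤ centralizer (T : Set G) := by
      rw [closure_le]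
      rintro s (rfl | rfl)
      · rw [SetLike.mem_coe, mem_centralizer_iff]
        exact fun t ht => (hdT t ht).symm.eq
      · rw [SetLike.mem_coe, mem_centralizer_iff]
        exact fun t ht => (((hxT t ht).mul_left (heT t ht)).mul_left (hxT t ht).inv_left).symm.eq
    intro t ht
    have := hle hym
    rw [mem_centralizer_iff] at this
    exact (this t ht).symm
  have hmem := mul_mem_oc h hab hx ⟨hy, hya⟩
  refine ⟨x * y, hmem, fun t ht => (hxT t ht).mul_left (hyT t ht), ?_⟩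
  calc x * y * d * (x * y)⁻¹ = x * (y * d * y⁻¹) * x⁻¹ := by group
    _ = x * (x * e * x⁻¹) * x⁻¹ := by rw [hyd]
    _ = (x * x) * e * (x * x)⁻¹ := by group
    _ = e := by rw [h.mul_self hx.1]; group

/-- `C_X(T)` is transitive on the elements of `D ∩ C(T)` swapping `a` and `b`, for every subgroup `T`. -/
theorem exists_centralizer_conj_sw [Finite G] (h : Setup G Ω z) {a b : Ω} (hab : a ≠ b)
    {x y : G} (hx : x ∈ Sw z a b) (hy : y ∈ Sw z a b) :
    ∃ n ∈ oc G a b, n ∈ zpowers (x * y) ∧ n * x * n⁻¹ = y := by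
  have h1 := mul_mem_oc h hab hx hy
  have hodd : Odd (orderOf (x * y)) := by
    refine (odd_oc (G := G) a b).of_dvd_nat ?_
    exact (Subgroup.orderOf_mk _ h1) ▸ orderOf_dvd_natCard (⟨x * y, h1⟩ : oc G a b)
  obtain ⟨m, hm, hmx⟩ := exists_sqrt_conj (h.mul_self hx.1) hodd (by
    rw [mul_inv_rev, h.inv_eq hx.1, h.inv_eq hy.1]
    calc x * (x * y) * x = (x * x) * y * x := by group
      _ = y * x := by rw [h.mul_self hx.1, one_mul])
  refine ⟨m, ?_, hm, ?_⟩
  · have : zpowers (x * y) ≤ oc G a b := by rw [zpowers_le]; exact h1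
    exact this hm
  · rw [hmx, ← mul_assoc, h.mul_self hx.1, one_mul]

/-- `O(G_{ab})` is transitive on `D_a`. -/
theorem exists_conj_at_oc [Finite G] (h : Setup G Ω z) {a b : Ω} (hab : a ≠ b) {d e : G}
    (hd : d ∈ At z a) (he : e ∈ At z a) : ∃ n ∈ oc G a b, n * d * n⁻¹ = e := by
  obtain ⟨n, hn, -, hne⟩ := exists_centralizer_conj_at h hab ⊥ IsPGroup.of_bot
    (fun t ht => by rw [mem_bot.mp ht, one_smul]) (fun t ht => by rw [mem_bot.mp ht, one_smul])
    hd he (fun t ht => by rw [mem_bot.mp ht]; exact Commute.one_right _)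
    (fun t ht => by rw [mem_bot.mp ht]; exact Commute.one_right _)
  exact ⟨n, hn, hne⟩

/-- `G_a = O(G_{ab}) C_G(d)` for `d ∈ D_a` and every `b ≠ a`. -/
theorem exists_mul_centralizer [Finite G] (h : Setup G Ω z) {a b : Ω} (hab : a ≠ b) {d g : G}
    (hd : d ∈ At z a) (hg : g • a = a) : ∃ n ∈ oc G a b, ∃ c : G, Commute c d ∧ g = n * c := by
  have h1 : g * d * g⁻¹ ∈ At z a := by
    have := conj_mem_At g hd
    rwa [hg] at this
  obtain ⟨n, hn, hnd⟩ := exists_conj_at_oc h hab hd h1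
  refine ⟨n, hn, n⁻¹ * g, ?_, by group⟩
  show n⁻¹ * g * d = d * (n⁻¹ * g)
  calc n⁻¹ * g * d = n⁻¹ * (g * d * g⁻¹) * g := by group
    _ = n⁻¹ * (n * d * n⁻¹) * g := by rw [hnd]
    _ = d * (n⁻¹ * g) := by group

/-- `G_{ab} = O(G_{ab}) C_{G_{ab}}(x)` for `x ∈ D` swapping `a` and `b`. -/
theorem exists_mul_sw [Finite G] (h : Setup G Ω z) {a b : Ω} (hab : a ≠ b) {x g : G}
    (hx : x ∈ Sw z a b) (hg : g ∈ stab2 G a b) :
    ∃ n ∈ oc G a b, ∃ c ∈ stab2 G a b, Commute c x ∧ g = n * c := by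
  have h1 : g * x * g⁻¹ ∈ Sw z a b := by
    have := conj_mem_Sw g hx
    rwa [hg.1, hg.2] at this
  obtain ⟨n, hn, hnx⟩ := exists_conj_sw h hab hx h1
  refine ⟨n, hn, n⁻¹ * g, mul_mem (inv_mem (oc_le a b hn)) hg, ?_, by group⟩
  show n⁻¹ * g * x = x * (n⁻¹ * g)
  calc n⁻¹ * g * x = n⁻¹ * (g * x * g⁻¹) * g := by group
    _ = n⁻¹ * (n * x * n⁻¹) * g := by rw [hnx]
    _ = x * (n⁻¹ * g) := by group

theorem coprime_oc [Finite G] (a b : Ω) {T : Subgroup G} (hT : IsPGroup 2 T) :
    (Nat.card T).Coprime (Nat.card (oc G a b)) := by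
  have h2 : Fact (Nat.Prime 2) := ⟨Nat.prime_two⟩
  obtain ⟨k, hk⟩ := IsPGroup.iff_card.mp hT
  rw [hk]
  exact Nat.Coprime.pow_left k (Nat.coprime_two_left.mpr (odd_oc a b))

end Cfsg.Agent.AschCrit.IsolatedSwap
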