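import Mathlib
import Cfsg.Agent.TwoFusion.IsolatedSylow
import Cfsg.Agent.SignalizersComponents.RelSylow
import Cfsg.Agent.Lib.PGroupCoprimeAction
import Cfsg.Agent.Blocks.SylowIn
import Cfsg.Agent.S1287

/-!
# An involution acting on odd order subgroups

For `t * t = 1` and a `t`-invariant subgroup `U` (`Inv t U`), `delta t U = |U : C_U(t)|`.

* `card_eq` : `|U| = delta t U * |C_U(t)|`; `delta_eq_card_conj` : the number of `U`-conjugates of `t`
* `delta_eq_card_inverted` (`|U|` odd), `delta_mono`, `commutator_mem` (if `delta t V ≤ delta t U`, `U ≤ V`,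
  then `[t, V] ⊆ U`)
* `exists_isMaxP_ge` : `t`-invariant Sylow subgroups above `t`-invariant `p`-subgroups
* `delta_isMaxP` : `delta t P` is the `p`-part of `delta t H` for a `t`-invariant Sylow `p`-subgroup `P` of `H`
-/

set_option autoImplicit false

open Subgroup

namespace Cfsg.Agent.AschCrit.OddInv

open Cfsg.Agent.SignalizersComponents.RelSylow

variable {G : Type*} [Group G]

/-- `U` is invariant under conjugation by `t` -/
def Inv (t : G) (U : Subgroup G) : Prop := ∀ u ∈ U, t * u * t⁻¹ ∈ U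

/-- `|U : C_U(t)|` -/
noncomputable def delta (t : G) (U : Subgroup G) : ℕ := (U ⊓ centralizer ({t} : Set G)).relIndex U

theorem Inv.mem_normalizer {t : G} {U : Subgroup G} (ht : t * t = 1) (h : Inv t U) :
    t ∈ normalizer (U : Set G) := by
  rw [mem_normalizer_iff]
  intro x
  refine ⟨h x, fun hx => ?_⟩
  have h1 := h _ hx
  have e1 : t * (t * x * t⁻¹) * t⁻¹ = (t * t) * x * (t * t)⁻¹ := by group
  rw [e1, ht] at h1
  simpa using h1

theorem Inv.of_mem_normalizer {t : G} {U : Subgroup G} (h : t ∈ normalizer (U : Set G)) :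
    Inv t U := fun u hu => (mem_normalizer_iff.mp h u).mp hu

theorem Inv.zpowers {t : G} {U : Subgroup G} (ht : t * t = 1) (h : Inv t U) :
    ∀ b ∈ Subgroup.zpowers t, ∀ u ∈ U, b * u * b⁻¹ ∈ U := by
  intro b hb u hu
  have hle : Subgroup.zpowers t ≤ normalizer (U : Set G) := by
    rw [zpowers_le]; exact h.mem_normalizer ht
  exact (mem_normalizer_iff.mp (hle hb) u).mp hu

theorem Inv.inf {t : G} {U V : Subgroup G} (hU : Inv t U) (hV : Inv t V) : Inv t (U ⊓ V) :=
  fun u hu => ⟨hU u hu.1, hV u hu.2⟩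

theorem Inv.sup {t : G} {U V : Subgroup G} (hU : Inv t U) (hV : Inv t V) : Inv t (U ⊔ V) := by
  intro u hu
  have h1 : U ⊔ V ≤ (U ⊔ V).comap (MulAut.conj t).toMonoidHom := by
    rw [sup_le_iff]
    exact ⟨fun x hx => (le_sup_left : U ≤ U ⊔ V) (hU x hx),
      fun x hx => (le_sup_right : V ≤ U ⊔ V) (hV x hx)⟩
  exact h1 hu

theorem card_eq [Finite G] (t : G) (U : Subgroup G) :
    Nat.card U = delta t U * Nat.card (U ⊓ centralizer ({t} : Set G) : Subgroup G) := by
  rw [delta, mul_comm]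
  have := relIndex_mul_relIndex ⊥ (U ⊓ centralizer ({t} : Set G)) U bot_le inf_le_left
  rw [relIndex_bot_left, relIndex_bot_left] at this
  exact this.symm

theorem delta_pos [Finite G] (t : G) (U : Subgroup G) : 0 < delta t U := by
  rw [Nat.pos_iff_ne_zero]
  intro h
  have := card_eq t U
  rw [h, zero_mul] at this
  exact Nat.card_pos.ne' this

theorem odd_delta [Finite G] {t : G} {U : Subgroup G} (hU : Odd (Nat.card U)) :
    Odd (delta t U) := by
  rw [card_eq t U] at hU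
  exact (Nat.odd_mul.mp hU).1

/-- `delta t U` is the number of `U`-conjugates of `t` -/
theorem delta_eq_card_conj [Finite G] (t : G) (U : Subgroup G) :
    delta t U = Nat.card {w : G // ∃ u ∈ U, u * t * u⁻¹ = w} := by
  have h1 : delta t U = (centralizer ({t} : Set G)).relIndex U := by
    rw [delta, inf_comm, inf_relIndex_right]
  have h2 : {w : G // ∃ u ∈ U, u * t * u⁻¹ = w} ≃ U ⧸ (centralizer ({t} : Set G)).subgroupOf U := by
    refine (Equiv.ofBijective (fun q : U ⧸ (centralizer ({t} : Set G)).subgroupOf U =>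
      Quotient.liftOn' q (fun u : U => (⟨(u : G) * t * (u : G)⁻¹, u, u.2, rfl⟩ :
        {w : G // ∃ u ∈ U, u * t * u⁻¹ = w})) ?_) ⟨?_, ?_⟩).symm
    · intro u v huv
      rw [QuotientGroup.leftRel_apply, mem_subgroupOf, mem_centralizer_singleton_iff] at huv
      apply Subtype.ext
      show (u : G) * t * (u : G)⁻¹ = (v : G) * t * (v : G)⁻¹
      have h3 : (u : G)⁻¹ * v * t = t * ((u : G)⁻¹ * v) := huv
      calc (u : G) * t * (u : G)⁻¹ = u * (t * ((u : G)⁻¹ * v)) * (v : G)⁻¹ := by group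
        _ = u * ((u : G)⁻¹ * v * t) * (v : G)⁻¹ := by rw [h3]
        _ = _ := by group
    · intro q r hqr
      induction q using Quotient.inductionOn'
      induction r using Quotient.inductionOn'
      rename_i u v
      have h4 : (u : G) * t * (u : G)⁻¹ = (v : G) * t * (v : G)⁻¹ := congrArg Subtype.val hqr
      apply Quotient.sound'
      rw [QuotientGroup.leftRel_apply, mem_subgroupOf, mem_centralizer_singleton_iff]
      show (u : G)⁻¹ * v * t = t * ((u : G)⁻¹ * v)
      calc (u : G)⁻¹ * v * t = (u : G)⁻¹ * ((v : G) * t * (v : G)⁻¹) * v := by group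
        _ = (u : G)⁻¹ * ((u : G) * t * (u : G)⁻¹) * v := by rw [h4]
        _ = _ := by group
    · rintro ⟨w, u, hu, rfl⟩
      exact ⟨Quotient.mk'' ⟨u, hu⟩, rfl⟩
  rw [h1, Nat.card_congr h2]
  rfl

theorem delta_eq_card_inverted [Finite G] {t : G} (ht : t * t = 1) {U : Subgroup G}
    (hU : Odd (Nat.card U)) (h : Inv t U) :
    delta t U = Nat.card {x : G // x ∈ U ∧ t * x * t⁻¹ = x⁻¹} :=
  Cfsg.Agent.TwoFusion.IsolatedSylow.relIndex_centralizer_eq_card_inverted ht U hU
    (h.mem_normalizer ht)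

theorem delta_mono [Finite G] {t : G} {U V : Subgroup G} (hUV : U ≤ V) :
    delta t U ≤ delta t V := by
  rw [delta_eq_card_conj, delta_eq_card_conj]
  refine Nat.card_le_card_of_injective
    (fun w : {w : G // ∃ u ∈ U, u * t * u⁻¹ = w} =>
      (⟨w.1, w.2.choose, hUV w.2.choose_spec.1, w.2.choose_spec.2⟩ :
        {w : G // ∃ u ∈ V, u * t * u⁻¹ = w})) ?_
  intro w w' hww
  exact Subtype.ext (Subtype.mk.inj hww)

/-- if `delta t V ≤ delta t U`, `U ≤ V`, then all elements of `V` inverted by `t` lie in `U` -/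
theorem mem_of_inverted [Finite G] {t : G} (ht : t * t = 1) {U V : Subgroup G} (hUV : U ≤ V)
    (hV : Odd (Nat.card V)) (hiU : Inv t U) (hiV : Inv t V) (hd : delta t V ≤ delta t U) {x : G}
    (hx : x ∈ V) (hxt : t * x * t⁻¹ = x⁻¹) : x ∈ U := by
  have hU : Odd (Nat.card U) := hV.of_dvd_nat (card_dvd_of_le hUV)
  rw [delta_eq_card_inverted ht hV hiV, delta_eq_card_inverted ht hU hiU] at hd
  let f : {x : G // x ∈ U ∧ t * x * t⁻¹ = x⁻¹} → {x : G // x ∈ V ∧ t * x * t⁻¹ = x⁻¹} :=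
    fun x => ⟨x.1, hUV x.2.1, x.2.2⟩
  have hf : Function.Injective f := fun x y hxy => Subtype.ext (Subtype.mk.inj hxy)
  have hbij : Function.Bijective f := by
    have := Fintype.ofFinite {x : G // x ∈ U ∧ t * x * t⁻¹ = x⁻¹}
    have := Fintype.ofFinite {x : G // x ∈ V ∧ t * x * t⁻¹ = x⁻¹}
    rw [Fintype.bijective_iff_injective_and_card]
    refine ⟨hf, le_antisymm (Fintype.card_le_of_injective f hf) ?_⟩
    rw [← Nat.card_eq_fintype_card, ← Nat.card_eq_fintype_card]
    exact hd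
  obtain ⟨y, hy⟩ := hbij.2 ⟨x, hx, hxt⟩
  have h1 : y.1 = x := Subtype.mk.inj hy
  rw [← h1]
  exact y.2.1

/-- if `delta t V ≤ delta t U`, `U ≤ V`, then `[t, V] ⊆ U` -/
theorem commutator_mem [Finite G] {t : G} (ht : t * t = 1) {U V : Subgroup G} (hUV : U ≤ V)
    (hV : Odd (Nat.card V)) (hiU : Inv t U) (hiV : Inv t V) (hd : delta t V ≤ delta t U) {x : G}
    (hx : x ∈ V) : t * x * t⁻¹ * x⁻¹ ∈ U := by
  refine mem_of_inverted ht hUV hV hiU hiV hd (mul_mem (hiV x hx) (inv_mem hx)) ?_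
  calc t * (t * x * t⁻¹ * x⁻¹) * t⁻¹ = (t * t) * x * (t * t)⁻¹ * (t * x⁻¹ * t⁻¹) := by group
    _ = x * (t * x⁻¹ * t⁻¹) := by rw [ht]; group
    _ = (t * x * t⁻¹ * x⁻¹)⁻¹ := by group

theorem isPGroup_two_zpowers [Finite G] {t : G} (ht : t * t = 1) :
    IsPGroup 2 (Subgroup.zpowers t) := by
  have h2 : Fact (Nat.Prime 2) := ⟨Nat.prime_two⟩
  rw [IsPGroup.iff_card]
  obtain ⟨m, -, hm⟩ := (Nat.dvd_prime_pow Nat.prime_two).mp
    (orderOf_dvd_of_pow_eq_one (x := t) (n := 2 ^ 1) (by rw [pow_one, pow_two, ht]))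
  exact ⟨m, by rw [Nat.card_zpowers, hm]⟩

theorem isMaxP_iff_exists_sylow {p : ℕ} {H P : Subgroup G} :
    IsMaxP p H P ↔ ∃ S : Sylow p H, (S : Subgroup H).map H.subtype = P := by
  rw [Cfsg.Agent.Blocks.SylowIn.exists_sylow_map_eq_iff]
  constructor
  · rintro ⟨h1, h2, h3⟩
    exact ⟨h2, h1, fun Q hQ hQp hPQ => le_antisymm (h3 Q hQp hQ hPQ) hPQ⟩
  · rintro ⟨h1, h2, h3⟩
    exact ⟨h2, h1, fun Q hQp hQ hPQ => (h3 Q hQ hQp hPQ).le⟩

/-- `t`-invariant Sylow subgroups above `t`-invariant `p`-subgroups -/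
theorem exists_isMaxP_ge [Finite G] {t : G} (ht : t * t = 1) {H U : Subgroup G}
    (hH : Odd (Nat.card H)) (hiH : Inv t H) {p : ℕ} [Fact p.Prime] (hUH : U ≤ H)
    (hU : IsPGroup p U) (hiU : Inv t U) :
    ∃ P : Subgroup G, IsMaxP p H P ∧ Inv t P ∧ U ≤ P := by
  have h2 : Fact (Nat.Prime 2) := ⟨Nat.prime_two⟩
  obtain ⟨S, hS, hiS, hUS⟩ := Cfsg.Agent.Lib.PGroupCoprimeAction.exists_invariant_sylow_ge
    (isPGroup_two_zpowers ht) (fun h => (Nat.not_even_iff_odd.mpr hH) (even_iff_two_dvd.mpr h))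
    (hiH.zpowers ht) hUH hU (hiU.zpowers ht)
  exact ⟨S, isMaxP_iff_exists_sylow.mpr hS, fun u hu => hiS t (mem_zpowers t) u hu, hUS⟩

theorem centralizer_zpowers (t : G) :
    centralizer ((Subgroup.zpowers t : Subgroup G) : Set G) = centralizer ({t} : Set G) := by
  apply le_antisymm
  · exact centralizer_le (by
      rw [Set.singleton_subset_iff]; exact mem_zpowers t)
  · intro x hx
    rw [mem_centralizer_singleton_iff] at hx
    rw [mem_centralizer_iff]
    rintro _ ⟨k, rfl⟩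
    have h1 : Commute t x := hx.symm
    exact (h1.zpow_left k).eq

/-- `delta t P` is the `p`-part of `delta t H` for a `t`-invariant Sylow `p`-subgroup `P` of `H` -/
theorem delta_isMaxP [Finite G] {t : G} (ht : t * t = 1) {H P : Subgroup G}
    (hH : Odd (Nat.card H)) (hiH : Inv t H) {p : ℕ} [hp : Fact p.Prime] (hP : IsMaxP p H P)
    (hiP : Inv t P) : delta t P = p ^ (delta t H).factorization p := by
  have h2 : Fact (Nat.Prime 2) := ⟨Nat.prime_two⟩
  have hc := Cfsg.Agent.S1287.card_fixed_sylow (isPGroup_two_zpowers ht)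
    (fun h => (Nat.not_even_iff_odd.mpr hH) (even_iff_two_dvd.mpr h))
    (hiH.zpowers ht) (isMaxP_iff_exists_sylow.mp hP) (hiP.zpowers ht)
  rw [centralizer_zpowers] at hc
  have hcard : Nat.card P = p ^ (Nat.card H).factorization p := by
    obtain ⟨S, hS⟩ := isMaxP_iff_exists_sylow.mp hP
    rw [← hS, Nat.card_congr ((S : Subgroup H).equivMapOfInjective H.subtype
      H.subtype_injective).symm.toEquiv]
    exact S.card_eq_multiplicity
  have h1 := card_eq t P
  have h3 := card_eq t H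
  rw [hc, hcard, h3, Nat.factorization_mul (delta_pos t H).ne' Nat.card_pos.ne',
    Finsupp.add_apply, pow_add] at h1
  exact (Nat.eq_of_mul_eq_mul_right (pow_pos hp.out.pos _) h1).symm

end Cfsg.Agent.AschCrit.OddInv
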