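import Mathlib
import Cfsg.Agent.AschCrit.IsolatedSwap
import Cfsg.Agent.AschCrit.OddInv
import Cfsg.Agent.SignalizersComponents.PLayerAut

/-!
# Aschbacher's criterion: primes dividing `|G_{ab} : G_{a,b,vb}|`

For `a ≠ b` and `v ∈ D_a` let `st3 G v a b = G_{a,b,vb}`.

* `exists_conj_relCore` : `O(G_{a,b,vb})` is transitive on the `G_{a,b,vb}`-conjugates of `v`
* `delta_eq_at` : `delta v H = |D_a|` if `O(G_{ab}) ≤ H ≤ G_a`
* `card_at_eq_mul` : `|D_a| = |G_{ab} : G_{a,b,vb}| * delta v G_{a,b,vb}`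
* `exists_odd_maxP` : if the odd prime `r` does not divide `|G_{ab} : G_{a,b,vb}|` there is an odd order `B` with
  `O(G_{ab}) ≤ B ≤ G_{ab}` and a `v`-invariant Sylow `r`-subgroup of `B`
* `CP`, `dvd_of_CP` : the common prime divides `|G_{ab} : G_{a,b,vb}|`
* `dagger` : if `p` divides `|G_{ab} : G_{a,b,vb}|` and `U ≤ G_{ab}` is a `v`-invariant `p`-group then
  `delta v U < m_p`
-/

set_option autoImplicit false

open Subgroup

namespace Cfsg.Agent.AschCrit.Dagger

open Cfsg.Agent.TwoFusion.StronglyEmbeddedBasic Cfsg.Agent.AschCrit.Basic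
open Cfsg.Agent.AschCrit.Basic.Setup Cfsg.Agent.AschCrit.Closed Cfsg.Agent.AschCrit.IsolatedSwap
open Cfsg.Agent.AschCrit.OddInv Cfsg.Agent.SignalizersComponents.RelSylow
open Cfsg.Agent.SignalizersComponents.PLayerAut

section Util

variable {G : Type*} [Group G]

theorem relIndex_sup_eq {X P : Subgroup G} (hn : P ≤ normalizer (X : Set G)) :
    X.relIndex (X ⊔ P) = X.relIndex P := by
  have hX : X ≤ normalizer (X : Set G) := le_normalizer
  have h1 : (X.subgroupOf (normalizer (X : Set G))).Normal := normal_in_normalizer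
  have h2 := relIndex_sup_left (H := P.subgroupOf (normalizer (X : Set G)))
    (K := X.subgroupOf (normalizer (X : Set G)))
  rwa [← subgroupOf_sup hX hn, relIndex_subgroupOf (sup_le hX hn), relIndex_subgroupOf hn] at h2

theorem card_mul_relIndex' {X P : Subgroup G} (h : X ≤ P) :
    Nat.card X * X.relIndex P = Nat.card P := by
  have := relIndex_mul_relIndex ⊥ X P bot_le h
  rwa [relIndex_bot_left, relIndex_bot_left] at this

theorem card_sup_eq {X P : Subgroup G} (hn : P ≤ normalizer (X : Set G)) :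
    Nat.card (X ⊔ P : Subgroup G) = P.relIndex X * Nat.card P := by
  have h1 := card_mul_relIndex' (le_sup_left : X ≤ X ⊔ P)
  have h2 := card_mul_relIndex' (inf_le_left : X ⊓ P ≤ X)
  have h3 := card_mul_relIndex' (inf_le_right : X ⊓ P ≤ P)
  rw [inf_relIndex_left] at h2
  rw [inf_relIndex_right] at h3
  rw [relIndex_sup_eq hn] at h1
  rw [← h1, ← h2, ← h3]
  ring

theorem relIndex_right_sup_eq [Finite G] {X P : Subgroup G} (hn : P ≤ normalizer (X : Set G)) :
    P.relIndex (X ⊔ P) = P.relIndex X := by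
  have h1 := card_mul_relIndex' (le_sup_right : P ≤ X ⊔ P)
  rw [card_sup_eq hn, mul_comm] at h1
  exact Nat.eq_of_mul_eq_mul_right Nat.card_pos h1

theorem odd_sup [Finite G] {X P : Subgroup G} (hX : Odd (Nat.card X)) (hP : Odd (Nat.card P))
    (hn : P ≤ normalizer (X : Set G)) : Odd (Nat.card (X ⊔ P : Subgroup G)) := by
  rw [card_sup_eq hn]
  exact (hX.of_dvd_nat (relIndex_dvd_card _ _)).mul hP

theorem relIndex_dvd [Finite G] {H K N : Subgroup G} (hN : N ≤ H) (hK : K ≤ H)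
    (hn : H ≤ normalizer (N : Set G)) : K.relIndex N ∣ K.relIndex H := by
  have h1 := card_dvd_of_le (sup_le hN hK)
  rw [card_sup_eq (hK.trans hn), ← card_mul_relIndex' hK, mul_comm] at h1
  exact (Nat.mul_dvd_mul_iff_left Nat.card_pos).mp h1

theorem isMaxP_inf [Finite G] {p : ℕ} [Fact p.Prime] {H P N : Subgroup G} (hP : IsMaxP p H P)
    (hN : N ≤ H) (hn : H ≤ normalizer (N : Set G)) : IsMaxP p N (P ⊓ N) := by
  refine isMaxP_of_not_dvd (hP.1.to_le inf_le_left) inf_le_right ?_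
  rw [inf_relIndex_right]
  exact fun h => hP.not_dvd_index (h.trans (relIndex_dvd hN hP.2.1 hn))

theorem odd_of_isPGroup [Finite G] {p : ℕ} [hp : Fact p.Prime] (ho : Odd p) {P : Subgroup G}
    (hP : IsPGroup p P) : Odd (Nat.card P) := by
  obtain ⟨n, hn⟩ := IsPGroup.iff_card.mp hP
  rw [hn]; exact ho.pow

theorem odd_relCore [Finite G] (Y : Subgroup G) : Odd (Nat.card (relCore 2 Y)) :=
  Nat.coprime_two_right.mp (relCore_coprime 2 Y)

theorem le_relCore [Finite G] {Y N : Subgroup G} (hN : N ≤ Y) (hodd : Odd (Nat.card N))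
    (hn : Y ≤ normalizer (N : Set G)) : N ≤ relCore 2 Y := by
  have h1 : (N.subgroupOf Y).Normal := normal_subgroupOf_of_le_normalizer hn
  have h2 : (Nat.card (N.subgroupOf Y)).Coprime 2 := by
    rw [Nat.card_congr (subgroupOfEquivOfLe hN).toEquiv]
    exact Nat.coprime_two_right.mpr hodd
  have h3 := Cfsg.Agent.Lib.Cores.le_pPrimeCore h1 h2
  intro d hd
  exact ⟨⟨d, hN hd⟩, h3 (by rw [mem_subgroupOf]; exact hd), rfl⟩

theorem delta_congr [Finite G] {t : G} {U V : Subgroup G}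
    (h1 : ∀ u ∈ U, ∃ v ∈ V, v * t * v⁻¹ = u * t * u⁻¹)
    (h2 : ∀ v ∈ V, ∃ u ∈ U, u * t * u⁻¹ = v * t * v⁻¹) : delta t U = delta t V := by
  rw [delta_eq_card_conj, delta_eq_card_conj]
  have : {w : G | ∃ u ∈ U, u * t * u⁻¹ = w} = {w : G | ∃ u ∈ V, u * t * u⁻¹ = w} := by
    ext w
    constructor
    · rintro ⟨u, hu, rfl⟩
      exact h1 u hu
    · rintro ⟨v, hv, rfl⟩
      exact h2 v hv
  exact Nat.card_congr (Equiv.setCongr this)

/-- `P` a `t`-invariant Sylow `p`-subgroup of `H` (which need not be `t`-invariant) -/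
theorem delta_isMaxP' [Finite G] {t : G} (ht : t * t = 1) {H P : Subgroup G}
    (hH : Odd (Nat.card H)) {p : ℕ} [hp : Fact p.Prime] (hP : IsMaxP p H P)
    (hiP : Inv t P) : delta t P = p ^ (delta t H).factorization p := by
  set H₀ : Subgroup G := H ⊓ H.map (MulAut.conj t).toMonoidHom with hH₀
  have hi : t⁻¹ = t := inv_eq_of_mul_eq_one_right ht
  have hmem : ∀ x : G, x ∈ H₀ ↔ x ∈ H ∧ t * x * t⁻¹ ∈ H := by
    intro x
    rw [hH₀, mem_inf, mem_map_conj, hi]
  have hP₀ : P ≤ H₀ := fun x hx => (hmem x).mpr ⟨hP.2.1 hx, hP.2.1 (hiP x hx)⟩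
  have hi₀ : Inv t H₀ := by
    intro x hx
    obtain ⟨h1, h2⟩ := (hmem x).mp hx
    refine (hmem _).mpr ⟨h2, ?_⟩
    have e1 : t * (t * x * t⁻¹) * t⁻¹ = (t * t) * x * (t * t)⁻¹ := by group
    rw [e1, ht]; simpa using h1
  have hmax : IsMaxP p H₀ P :=
    ⟨hP.1, hP₀, fun R h1 h2 h3 => hP.2.2 R h1 (h2.trans inf_le_left) h3⟩
  have hodd : Odd (Nat.card H₀) := hH.of_dvd_nat (card_dvd_of_le inf_le_left)
  rw [delta_isMaxP ht hodd hi₀ hmax hiP]
  congr 1
  -- `delta t H = |H : H₀| * delta t H₀`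
  have hC : H ⊓ centralizer ({t} : Set G) = H₀ ⊓ centralizer ({t} : Set G) := by
    ext x
    constructor
    · rintro ⟨h1, h2⟩
      refine ⟨(hmem x).mpr ⟨h1, ?_⟩, h2⟩
      have h3 := mem_centralizer_singleton_iff.mp h2
      rw [← h3]; simpa using h1
    · rintro ⟨h1, h2⟩
      exact ⟨h1.1, h2⟩
  have hmul : delta t H = delta t H₀ * H₀.relIndex H := by
    rw [delta, delta, hC]
    exact (relIndex_mul_relIndex _ _ _ inf_le_left inf_le_left).symm
  have hnd : ¬ p ∣ H₀.relIndex H := fun h => hP.not_dvd_index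
    (h.trans (relIndex_dvd_of_le_left _ hP₀))
  rw [hmul, Nat.factorization_mul (delta_pos t H₀).ne' (by
    intro h0; rw [h0] at hnd; exact hnd (dvd_zero p)), Finsupp.add_apply,
    Nat.factorization_eq_zero_of_not_dvd hnd, add_zero]

end Util

variable {G Ω : Type*} [Group G] [MulAction G Ω] {z : G}

/-- `G_{a,b,vb}` -/
def st3 (G : Type*) {Ω : Type*} [Group G] [MulAction G Ω] (v : G) (a b : Ω) : Subgroup G :=
  stab2 G a b ⊓ MulAction.stabilizer G (v • b)

theorem mem_st3 {v : G} {a b : Ω} {g : G} :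
    g ∈ st3 G v a b ↔ (g • a = a ∧ g • b = b) ∧ g • (v • b) = v • b := Iff.rfl

theorem st3_le (v : G) (a b : Ω) : st3 G v a b ≤ stab2 G a b := inf_le_left

theorem ne_smul (h : Setup G Ω z) {a b : Ω} (hab : a ≠ b) {v : G} (hv : v ∈ At z a) :
    b ≠ v • b := fun hb => hab (h.uniq hv.1 hv.2 hb.symm)

theorem inv_st3 (h : Setup G Ω z) {a b : Ω} {v : G} (hv : v ∈ At z a) :
    Inv v (st3 G v a b) := by
  intro y hy
  obtain ⟨⟨h1, h2⟩, h3⟩ := mem_st3.mp hy
  have hi := h.inv_eq hv.1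
  refine mem_st3.mpr ⟨⟨?_, ?_⟩, ?_⟩
  · rw [hi, mul_smul, mul_smul, hv.2, h1, hv.2]
  · rw [hi, mul_smul, mul_smul, h3, h.smul_smul_self hv.1]
  · rw [hi, mul_smul, mul_smul, h.smul_smul_self hv.1, h2]

theorem exists_conj_relCore [Finite G] (h : Setup G Ω z) {a b : Ω} (hab : a ≠ b) {v : G}
    (hv : v ∈ At z a) {y : G} (hy : y ∈ st3 G v a b) :
    ∃ n ∈ relCore 2 (st3 G v a b), n * v * n⁻¹ = y * v * y⁻¹ := by
  have hi := h.inv_eq hv.1
  have hne := ne_smul h hab hv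
  have hv' : v ∈ Sw z b (v • b) := ⟨hv.1, rfl⟩
  have hyv : y * v * y⁻¹ ∈ Sw z b (v • b) := by
    have h1 := conj_mem_Sw y hv'
    have h2 := (mem_st3.mp hy).1.2
    have h3 := (mem_st3.mp hy).2
    rwa [h2, h3] at h1
  obtain ⟨n, hn, hnz, hnv⟩ := exists_centralizer_conj_sw h hne hv' hyv
  refine ⟨n, ?_, hnv⟩
  have h1 : v * (y * v * y⁻¹) ∈ st3 G v a b := by
    have h2 := (st3 G v a b).mul_mem (inv_st3 h (b := b) hv y hy) ((st3 G v a b).inv_mem hy)
    rw [hi] at h2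
    have e1 : v * (y * v * y⁻¹) = v * y * v * y⁻¹ := by group
    rwa [e1]
  have h4 : n ∈ st3 G v a b := by
    have : Subgroup.zpowers (v * (y * v * y⁻¹)) ≤ st3 G v a b := by rw [zpowers_le]; exact h1
    exact this hnz
  have h5 : oc G b (v • b) ⊓ st3 G v a b ≤ relCore 2 (st3 G v a b) := by
    refine le_relCore inf_le_right ((odd_oc b (v • b)).of_dvd_nat (card_dvd_of_le inf_le_left)) ?_
    intro g hg
    have key : ∀ g ∈ st3 G v a b, ∀ x ∈ oc G b (v • b) ⊓ st3 G v a b,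
        g * x * g⁻¹ ∈ oc G b (v • b) ⊓ st3 G v a b := by
      intro g hg x hx
      refine ⟨?_, (st3 G v a b).mul_mem ((st3 G v a b).mul_mem hg hx.2) ((st3 G v a b).inv_mem hg)⟩
      have h6 := oc_conj_mem g hx.1
      rwa [(mem_st3.mp hg).1.2, (mem_st3.mp hg).2] at h6
    rw [mem_normalizer_iff]
    intro x
    refine ⟨key g hg x, fun hx => ?_⟩
    have h6 := key g⁻¹ (inv_mem hg) _ hx
    have e2 : g⁻¹ * (g * x * g⁻¹) * g⁻¹⁻¹ = x := by group
    rwa [e2] at h6
  exact h5 ⟨hn, h4⟩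

/-- `delta v H = |D_a|` if `O(G_{ab}) ≤ H ≤ G_a` -/
theorem delta_eq_at [Finite G] (h : Setup G Ω z) {a b : Ω} (hab : a ≠ b) {v : G}
    (hv : v ∈ At z a) {H : Subgroup G} (h1 : oc G a b ≤ H) (h2 : H ≤ MulAction.stabilizer G a) :
    delta v H = Nat.card (At z a) := by
  rw [delta_eq_card_conj]
  have : {w : G | ∃ u ∈ H, u * v * u⁻¹ = w} = At z a := by
    ext w
    constructor
    · rintro ⟨u, hu, rfl⟩
      have h3 := conj_mem_At u hv
      have h4 : u • a = a := h2 hu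
      rwa [h4] at h3
    · intro hw
      obtain ⟨n, hn, hnv⟩ := exists_conj_at_oc h hab hv hw
      exact ⟨n, h1 hn, hnv⟩
  exact Nat.card_congr (Equiv.setCongr this)

/-- `delta x H = |D_a|` if `O(G_{ab}) ≤ H ≤ G_{ab}` and `x ∈ D` swaps `a` and `b` -/
theorem delta_eq_sw [Finite G] (h : Setup G Ω z) {a b : Ω} (hab : a ≠ b) {x : G}
    (hx : x ∈ Sw z a b) {H : Subgroup G} (h1 : oc G a b ≤ H) (h2 : H ≤ stab2 G a b) :
    delta x H = Nat.card (At z a) := by
  rw [delta_eq_card_conj, ← h.card_swap hab]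
  have : {w : G | ∃ u ∈ H, u * x * u⁻¹ = w} = Sw z a b := by
    ext w
    constructor
    · rintro ⟨u, hu, rfl⟩
      have h3 := conj_mem_Sw u hx
      rwa [(mem_stab2.mp (h2 hu)).1, (mem_stab2.mp (h2 hu)).2] at h3
    · intro hw
      obtain ⟨n, hn, hnv⟩ := exists_conj_sw h hab hx hw
      exact ⟨n, h1 hn, hnv⟩
  exact Nat.card_congr (Equiv.setCongr this)

theorem centralizer_le_st3 {a b : Ω} {v : G} :
    stab2 G a b ⊓ centralizer ({v} : Set G) = st3 G v a b ⊓ centralizer ({v} : Set G) := by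
  ext x
  constructor
  · rintro ⟨h1, h2⟩
    refine ⟨⟨h1, ?_⟩, h2⟩
    have h3 := mem_centralizer_singleton_iff.mp h2
    show x • v • b = v • b
    rw [← mul_smul, h3, mul_smul, h1.2]
  · rintro ⟨h1, h2⟩
    exact ⟨h1.1, h2⟩

/-- `|D_a| = |G_{ab} : G_{a,b,vb}| * delta v G_{a,b,vb}` -/
theorem card_at_eq_mul [Finite G] (h : Setup G Ω z) {a b : Ω} (hab : a ≠ b) {v : G}
    (hv : v ∈ At z a) : Nat.card (At z a) =
      delta v (st3 G v a b) * (st3 G v a b).relIndex (stab2 G a b) := by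
  rw [← delta_eq_at h hab hv (oc_le a b) inf_le_left, delta, delta, centralizer_le_st3]
  exact (relIndex_mul_relIndex _ _ _ inf_le_left inf_le_left).symm

/-- if `r` does not divide `|G_{ab} : G_{a,b,vb}|` there is an odd order subgroup `B` of `G_{ab}` containing
`O(G_{ab})` with a `v`-invariant Sylow `r`-subgroup -/
theorem exists_odd_maxP [Finite G] (h : Setup G Ω z) {a b : Ω} {v : G}
    (hv : v ∈ At z a) {r : ℕ} [Fact r.Prime] (hr : Odd r)
    (hnd : ¬ r ∣ (st3 G v a b).relIndex (stab2 G a b)) :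
    ∃ B P : Subgroup G, oc G a b ≤ B ∧ B ≤ stab2 G a b ∧ Odd (Nat.card B) ∧ IsMaxP r B P ∧
      Inv v P := by
  have hvv := h.mul_self hv.1
  set Y := st3 G v a b with hY
  set X := oc G a b with hX
  have hiY : Inv v Y := inv_st3 h hv
  have hiO : Inv v (relCore 2 Y) :=
    Inv.of_mem_normalizer (normalizer_le_normalizer_relCore 2 Y (hiY.mem_normalizer hvv))
  obtain ⟨P, hP, hiP, -⟩ := exists_isMaxP_ge hvv (odd_relCore Y) hiO (p := r) (U := ⊥) bot_le
    IsPGroup.of_bot (fun u hu => by rw [mem_bot.mp hu]; simp)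
  have hPY : P ≤ Y := hP.2.1.trans (relCore_le 2 Y)
  have hYJ : Y ≤ stab2 G a b := st3_le v a b
  have hJX : stab2 G a b ≤ normalizer (X : Set G) := by
    intro g hg
    exact mem_normalizer_oc (Or.inl hg)
  have hPX : P ≤ normalizer (X : Set G) := (hPY.trans hYJ).trans hJX
  have hXY : X ⊓ Y ≤ relCore 2 Y := by
    refine le_relCore inf_le_right ((odd_oc a b).of_dvd_nat (card_dvd_of_le inf_le_left)) ?_
    intro g hg
    have hgX := hJX (hYJ hg)
    rw [mem_normalizer_iff] at hgX ⊢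
    intro x
    have hgY := (mem_normalizer_iff.mp (le_normalizer (H := Y) hg)) x
    rw [mem_inf, mem_inf, ← hgX x, ← hgY]
  refine ⟨X ⊔ P, P, le_sup_left, sup_le (oc_le a b) (hPY.trans hYJ),
    odd_sup (odd_oc a b) (odd_of_isPGroup hr hP.1) hPX, ?_, hiP⟩
  refine isMaxP_of_not_dvd hP.1 le_sup_right ?_
  rw [relIndex_right_sup_eq hPX]
  -- `|X : X ∩ P| = |X : X ∩ Y| |X ∩ Y : X ∩ P|`
  have h1 : (X ⊓ P).relIndex (X ⊓ Y) * (X ⊓ Y).relIndex X = (X ⊓ P).relIndex X :=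
    relIndex_mul_relIndex _ _ _ (inf_le_inf_left X hPY) inf_le_left
  rw [← inf_relIndex_left X P, ← h1]
  intro hdvd
  rcases (Nat.Prime.dvd_mul Fact.out).mp hdvd with h2 | h2
  · -- `P ∩ (X ∩ Y)` is a Sylow subgroup of `X ∩ Y`
    have h3 := isMaxP_inf hP hXY (by
      intro g hg
      have hgX := hJX (hYJ (relCore_le 2 Y hg))
      rw [mem_normalizer_iff] at hgX ⊢
      intro x
      have hgY := (mem_normalizer_iff.mp (le_normalizer (H := Y) (relCore_le 2 Y hg))) x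
      rw [mem_inf, mem_inf, ← hgX x, ← hgY])
    have h4 : P ⊓ (X ⊓ Y) = X ⊓ P := by
      ext x
      constructor
      · rintro ⟨h5, h6, -⟩
        exact ⟨h6, h5⟩
      · rintro ⟨h5, h6⟩
        exact ⟨h6, h5, hPY h6⟩
    rw [h4] at h3
    exact h3.not_dvd_index h2
  · rw [inf_relIndex_left] at h2
    exact hnd (h2.trans (relIndex_dvd (oc_le a b) hYJ hJX))

/-- `p` divides `|B : B ∩ B^t|` for all odd order subgroups `B` of `G_a` transitive on `D_a`, `t ∈ D_a` -/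
def CP (z : G) (p : ℕ) (a : Ω) : Prop :=
  ∀ B : Subgroup G, B ≤ MulAction.stabilizer G a → Odd (Nat.card B) →
    (∀ s ∈ At z a, ∀ t ∈ At z a, ∃ b ∈ B, b * s * b⁻¹ = t) →
    ∀ t ∈ At z a, p ∣ (B ⊓ B.map (MulAut.conj t).toMonoidHom).relIndex B

theorem CP.smul {p : ℕ} {a : Ω} (hCP : CP z p a) (g : G) : CP z p (g • a) := by
  intro B hB hBo hBt t ht
  have hinj := (MulAut.conj g⁻¹).injective
  set B' := B.map (MulAut.conj g⁻¹).toMonoidHom with hB'
  have hmem : ∀ x : G, x ∈ B' ↔ g * x * g⁻¹ ∈ B := by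
    intro x
    rw [hB', mem_map_conj, inv_inv]
  have key : ∀ s ∈ At z (g • a), g⁻¹ * s * g ∈ At z a := by
    intro s hs
    have := conj_mem_At g⁻¹ hs
    rwa [inv_smul_smul, inv_inv] at this
  have key' : ∀ s ∈ At z a, g * s * g⁻¹ ∈ At z (g • a) := fun s hs => conj_mem_At g hs
  have h1 := hCP B' (by
    intro x hx
    have h2 := hB ((hmem x).mp hx)
    have h3 : (g * x * g⁻¹) • g • a = g • a := h2
    rw [mul_smul, mul_smul, inv_smul_smul] at h3
    exact smul_left_cancel g h3) (by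
    rw [hB', Nat.card_congr (B.equivMapOfInjective _ hinj).symm.toEquiv]
    exact hBo) (by
    intro s hs s' hs'
    obtain ⟨b, hb, hbs⟩ := hBt _ (key' s hs) _ (key' s' hs')
    refine ⟨g⁻¹ * b * g, (hmem _).mpr (by
      have : g * (g⁻¹ * b * g) * g⁻¹ = b := by group
      rwa [this]), ?_⟩
    calc g⁻¹ * b * g * s * (g⁻¹ * b * g)⁻¹ = g⁻¹ * (b * (g * s * g⁻¹) * b⁻¹) * g := by group
      _ = g⁻¹ * (g * s' * g⁻¹) * g := by rw [hbs]
      _ = s' := by group) (g⁻¹ * t * g) (key t ht)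
  have h2 : B' ⊓ B'.map (MulAut.conj (g⁻¹ * t * g)).toMonoidHom =
      (B ⊓ B.map (MulAut.conj t).toMonoidHom).map (MulAut.conj g⁻¹).toMonoidHom := by
    rw [Subgroup.map_inf _ _ _ hinj, hB', map_map, map_map]
    congr 2
    ext x
    show g⁻¹ * t * g * (g⁻¹ * x * g⁻¹⁻¹) * (g⁻¹ * t * g)⁻¹ = g⁻¹ * (t * x * t⁻¹) * g⁻¹⁻¹
    group
  rw [h2, hB', relIndex_map_map_of_injective _ _ hinj] at h1
  exact h1

theorem CP.all (h : Setup G Ω z) {p : ℕ} {a : Ω} (hCP : CP z p a) (b : Ω) : CP z p b := by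
  obtain ⟨g, rfl⟩ := h.trans a b
  exact hCP.smul g

/-- the common prime divides `|G_{ab} : G_{a,b,vb}|` -/
theorem dvd_of_CP [Finite G] (h : Setup G Ω z) {p : ℕ} [Fact p.Prime] (hp : Odd p) {a : Ω}
    (hCP : CP z p a) {b : Ω} (hab : a ≠ b) {v : G} (hv : v ∈ At z a) :
    p ∣ (st3 G v a b).relIndex (stab2 G a b) := by
  by_contra hnd
  obtain ⟨B, P, hXB, hBJ, hBo, hP, hiP⟩ := exists_odd_maxP h hv hp hnd
  have h1 := hCP B (hBJ.trans inf_le_left) hBo (by
    intro s hs t ht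
    obtain ⟨n, hn, hns⟩ := exists_conj_at_oc h hab hs ht
    exact ⟨n, hXB hn, hns⟩) v hv
  have h2 : P ≤ B ⊓ B.map (MulAut.conj v).toMonoidHom := by
    refine le_inf hP.2.1 ?_
    intro x hx
    rw [mem_map_conj, ]
    have h3 := hP.2.1 (hiP x hx)
    rwa [h.inv_eq hv.1] at h3 ⊢
  exact hP.not_dvd_index (h1.trans (relIndex_dvd_of_le_left _ h2))

/-- `p` is an odd prime dividing all indices `|G_{ab} : G_{a,b,vb}|` -/
structure Dag (G : Type*) (Ω : Type*) [Group G] [MulAction G Ω] (z : G) (p : ℕ) : Prop where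
  prime : p.Prime
  odd : Odd p
  dvd : ∀ a b : Ω, a ≠ b → ∀ v ∈ At z a, p ∣ (st3 G v a b).relIndex (stab2 G a b)

/-- if `p` divides `|G_{ab} : G_{a,b,vb}|` and `U ≤ G_{ab}` is a `v`-invariant `p`-group then `delta v U < m_p` -/
theorem dagger_aux [Finite G] (h : Setup G Ω z) {p : ℕ} [hp : Fact p.Prime] (hpo : Odd p) {a b : Ω}
    (hab : a ≠ b) {v : G} (hv : v ∈ At z a) (hdvd : p ∣ (st3 G v a b).relIndex (stab2 G a b))
    {U : Subgroup G} (hU : IsPGroup p U) (hiU : Inv v U) (hUJ : U ≤ stab2 G a b) :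
    delta v U < p ^ (Nat.card (At z a)).factorization p := by
  have hvv := h.mul_self hv.1
  set Y := st3 G v a b with hY
  have hiY : Inv v Y := inv_st3 h hv
  have hiO : Inv v (relCore 2 Y) :=
    Inv.of_mem_normalizer (normalizer_le_normalizer_relCore 2 Y (hiY.mem_normalizer hvv))
  have hUY : U ≤ Y := by
    intro u hu
    refine ⟨hUJ hu, ?_⟩
    have h1 : v⁻¹ * u * v ∈ U := by
      have := hiU u hu
      rwa [h.inv_eq hv.1] at this ⊢
    have h2 : (v⁻¹ * u * v) • b = b := (hUJ h1).2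
    show u • v • b = v • b
    rw [mul_smul, mul_smul, inv_smul_eq_iff] at h2
    exact h2
  have hUn : U ≤ normalizer (relCore 2 Y : Set G) :=
    hUY.trans (le_normalizer.trans (normalizer_le_normalizer_relCore 2 Y))
  set H := relCore 2 Y ⊔ U with hH
  have hHY : H ≤ Y := sup_le (relCore_le 2 Y) hUY
  have hHo : Odd (Nat.card H) := odd_sup (odd_relCore Y) (odd_of_isPGroup hpo hU) hUn
  have hiH : Inv v H := hiO.sup hiU
  obtain ⟨P, hP, hiP, hUP⟩ := exists_isMaxP_ge hvv hHo hiH (le_sup_right : U ≤ H) hU hiU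
  refine (delta_mono hUP).trans_lt ?_
  rw [delta_isMaxP hvv hHo hiH hP hiP]
  have h1 : delta v H = delta v Y := by
    refine delta_congr (fun u hu => ⟨u, hHY hu, rfl⟩) (fun y hy => ?_)
    obtain ⟨n, hn, hnv⟩ := exists_conj_relCore h hab hv hy
    exact ⟨n, le_sup_left (a := relCore 2 Y) hn, hnv⟩
  have h0 : (st3 G v a b).relIndex (stab2 G a b) ≠ 0 := by
    have : (st3 G v a b).relIndex (stab2 G a b) ∣ Nat.card (stab2 G a b) := relIndex_dvd_card _ _
    intro h0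
    rw [h0, zero_dvd_iff] at this
    exact Nat.card_pos.ne' this
  refine Nat.pow_lt_pow_right hp.out.one_lt ?_
  rw [card_at_eq_mul h hab hv, Nat.factorization_mul (delta_pos v _).ne' h0, Finsupp.add_apply, h1,
    hY]
  have h2 : 0 < ((st3 G v a b).relIndex (stab2 G a b)).factorization p :=
    hp.out.factorization_pos_of_dvd h0 hdvd
  omega

theorem dagger [Finite G] (h : Setup G Ω z) {p : ℕ} (hd : Dag G Ω z p) {a b : Ω}
    (hab : a ≠ b) {v : G} (hv : v ∈ At z a)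
    {U : Subgroup G} (hU : IsPGroup p U) (hiU : Inv v U) (hUJ : U ≤ stab2 G a b) :
    delta v U < p ^ (Nat.card (At z a)).factorization p := by
  have hp : Fact p.Prime := ⟨hd.prime⟩
  exact dagger_aux h hd.odd hab hv (hd.dvd a b hab v hv) hU hiU hUJ

end Cfsg.Agent.AschCrit.Dagger
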