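import Mathlib
import Cfsg.Agent.AschCrit.Dagger
import Cfsg.Agent.AschCrit.CommonPrime
import Cfsg.Agent.Lib.KleinGen

/-!
# Aschbacher's criterion: double transitivity

For an odd prime `p` dividing all the indices `|G_{ab} : G_{a,b,vb}|`, `v ∈ D_a` (`Dag G Ω z p`):

* `Dag.fx_pair` : a Sylow `p`-subgroup `R` of `G_{cd}` fixes exactly the points `c`, `d`
* `Dag.isMaxP_top` : it is a Sylow `p`-subgroup of `G`
* `Dag.two_trans` : `G` is 2-transitive; `Dag.card_modEq` : `|Ω| ≡ 2 mod p`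

and `two_trans_of_commute`: if `D_a` contains two distinct commuting elements then `G` is 2-transitive.
-/

set_option autoImplicit false

open Subgroup

namespace Cfsg.Agent.AschCrit.TwoTrans

open Cfsg.Agent.TwoFusion.StronglyEmbeddedBasic Cfsg.Agent.AschCrit.Basic
open Cfsg.Agent.AschCrit.Basic.Setup Cfsg.Agent.AschCrit.Closed Cfsg.Agent.AschCrit.IsolatedSwap
open Cfsg.Agent.AschCrit.OddInv Cfsg.Agent.SignalizersComponents.RelSylow
open Cfsg.Agent.SignalizersComponents.PLayerAut Cfsg.Agent.AschCrit.Dagger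

variable {G Ω : Type*} [Group G] [MulAction G Ω] {z : G}

/-- fixed points of `U` -/
def Fx (Ω : Type*) [MulAction G Ω] (U : Subgroup G) : Set Ω := {c | ∀ u ∈ U, u • c = c}

theorem mem_Fx {U : Subgroup G} {c : Ω} : c ∈ Fx Ω U ↔ ∀ u ∈ U, u • c = c := Iff.rfl

theorem Fx_anti {U V : Subgroup G} (h : U ≤ V) : Fx Ω V ⊆ Fx Ω U := fun _ hc u hu => hc u (h hu)

theorem smul_mem_Fx {U : Subgroup G} {g : G} (hg : g ∈ normalizer (U : Set G)) {c : Ω}
    (hc : c ∈ Fx Ω U) : g • c ∈ Fx Ω U := by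
  intro u hu
  have h1 : g⁻¹ * u * g ∈ U := by
    have := (mem_normalizer_iff.mp (inv_mem hg) u).mp hu
    rwa [inv_inv] at this
  have h2 := hc _ h1
  rw [mul_smul, mul_smul, inv_smul_eq_iff] at h2
  exact h2

theorem le_stab2 {U : Subgroup G} {a b : Ω} (ha : a ∈ Fx Ω U) (hb : b ∈ Fx Ω U) :
    U ≤ stab2 G a b := fun u hu => ⟨ha u hu, hb u hu⟩

theorem left_mem_Fx {U : Subgroup G} {a b : Ω} (h : U ≤ stab2 G a b) : a ∈ Fx Ω U :=
  fun _ hu => (h hu).1

theorem right_mem_Fx {U : Subgroup G} {a b : Ω} (h : U ≤ stab2 G a b) : b ∈ Fx Ω U :=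
  fun _ hu => (h hu).2

theorem exists_sw [Finite G] (h : Setup G Ω z) {c d : Ω} (hcd : c ≠ d) : ∃ x, x ∈ Sw z c d := by
  obtain ⟨e, he⟩ := h.nonempty_At c
  obtain ⟨f, hf⟩ := h.nonempty_At d
  obtain ⟨x, -, hx, -, -, hxc, -⟩ := h.exists_swap he.1 hf.1 he.2 hf.2 hcd
  exact ⟨x, hx, hxc⟩

/-- `O(G_{cd}) Q` is invariant under the elements of `D` swapping `c` and `d`, for all `Q ≤ G_{cd}` -/
theorem inv_sup_oc [Finite G] (h : Setup G Ω z) {c d : Ω} (hcd : c ≠ d) {x : G}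
    (hx : x ∈ Sw z c d) {Q : Subgroup G} (hQ : Q ≤ stab2 G c d) : Inv x (oc G c d ⊔ Q) := by
  have h1 : oc G c d ⊔ Q ≤ (oc G c d ⊔ Q).comap (MulAut.conj x).toMonoidHom := by
    rw [sup_le_iff]
    constructor
    · intro y hy
      have h2 := mem_normalizer_oc (a := c) (b := d) (g := x) (Or.inr ⟨hx.2, sw_smul_right h hx⟩)
      exact le_sup_left (a := oc G c d) ((mem_normalizer_iff.mp h2 y).mp hy)
    · intro y hy
      have h2 := commutator_mem_oc h hcd hx (hQ hy)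
      show x * y * x⁻¹ ∈ oc G c d ⊔ Q
      have e1 : x * y * x⁻¹ = (x * y * x⁻¹ * y⁻¹) * y := by group
      rw [e1]
      exact mul_mem (le_sup_left (a := oc G c d) h2) (le_sup_right (a := oc G c d) hy)
  exact fun u hu => h1 hu

theorem odd_sup_oc [Finite G] {c d : Ω} {Q : Subgroup G} (hQ : Q ≤ stab2 G c d)
    (hQo : Odd (Nat.card Q)) : Odd (Nat.card (oc G c d ⊔ Q : Subgroup G)) :=
  odd_sup (odd_oc c d) hQo (fun _ hg => mem_normalizer_oc (Or.inl (hQ hg)))

/-- the `p`-part `m_p` of `m = |D_a|` is an upper bound -/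
theorem delta_le [Finite G] (h : Setup G Ω z) {p : ℕ} [hp : Fact p.Prime] (hpo : Odd p)
    {c d : Ω} (hcd : c ≠ d) {x : G} (hx : x ∈ Sw z c d) {Q : Subgroup G} (hQ : Q ≤ stab2 G c d)
    (hQp : IsPGroup p Q) (hiQ : Inv x Q) :
    delta x Q ≤ p ^ (Nat.card (At z c)).factorization p := by
  have hxx := h.mul_self hx.1
  have hodd := odd_sup_oc hQ (odd_of_isPGroup hpo hQp)
  have hinv := inv_sup_oc h hcd hx hQ
  obtain ⟨P, hP, hiP, hQP⟩ := exists_isMaxP_ge hxx hodd hinv (le_sup_right : Q ≤ _) hQp hiQ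
  refine (delta_mono hQP).trans ?_
  rw [delta_isMaxP hxx hodd hinv hP hiP,
    delta_eq_sw h hcd hx (le_sup_left : oc G c d ≤ _) (sup_le (oc_le c d) hQ)]

/-- Frattini: a Sylow `p`-subgroup of `G_{cd}` is normalised by some `x ∈ D` swapping `c` and `d` -/
theorem exists_sw_inv [Finite G] (h : Setup G Ω z) {p : ℕ} [hp : Fact p.Prime] (hpo : Odd p)
    {c d : Ω} (hcd : c ≠ d) {R : Subgroup G} (hR : IsMaxP p (stab2 G c d) R) :
    ∃ x ∈ Sw z c d, Inv x R ∧ delta x R = p ^ (Nat.card (At z c)).factorization p := by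
  obtain ⟨y, hy⟩ := exists_sw h hcd
  have hyy := h.mul_self hy.1
  set H : Subgroup G := oc G c d ⊔ R with hH
  have hodd : Odd (Nat.card H) := odd_sup_oc hR.2.1 (odd_of_isPGroup hpo hR.1)
  have hinv : Inv y H := inv_sup_oc h hcd hy hR.2.1
  have hHJ : H ≤ stab2 G c d := sup_le (oc_le c d) hR.2.1
  obtain ⟨P, hP, hiP, -⟩ := exists_isMaxP_ge hyy hodd hinv (p := p) (U := ⊥) bot_le
    IsPGroup.of_bot (fun u hu => by rw [mem_bot.mp hu]; simp)
  have hRH : IsMaxP p H R := ⟨hR.1, le_sup_right, fun R' h1 h2 h3 => hR.2.2 R' h1 (h2.trans hHJ) h3⟩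
  obtain ⟨k, hk, hkP⟩ := hP.exists_conj hRH
  have hx : k * y * k⁻¹ ∈ Sw z c d := by
    have h1 := conj_mem_Sw k hy
    rwa [(hHJ hk).1, (hHJ hk).2] at h1
  have hiR : Inv (k * y * k⁻¹) R := by
    intro r hr
    rw [← hkP] at hr ⊢
    rw [mem_map_conj] at hr ⊢
    have h1 := hiP _ hr
    have e1 : k⁻¹ * (k * y * k⁻¹ * r * (k * y * k⁻¹)⁻¹) * k = y * (k⁻¹ * r * k) * y⁻¹ := by group
    rwa [e1]
  refine ⟨k * y * k⁻¹, hx, hiR, ?_⟩
  rw [delta_isMaxP (h.mul_self hx.1) hodd (inv_sup_oc h hcd hx hR.2.1) hRH hiR,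
    delta_eq_sw h hcd hx (le_sup_left : oc G c d ≤ H) hHJ]

section Iso

variable [Finite G] (h : Setup G Ω z) {U : Subgroup G} (hU : Odd (Nat.card U)) {w : G}
  (hw : IsConj z w) (hwU : w ∈ normalizer (U : Set G)) {c₀ : Ω} (hwc : w • c₀ = c₀)
  (hc₀ : c₀ ∉ Fx Ω U)

include h hU hw hwU hwc hc₀

/-- if `w ∈ D ∩ N(U)` has its fixed point outside `Fix(U)` then commuting elements of `D ∩ N(U)` are equal -/
theorem eq_of_commute {d e : G} (hd : IsConj z d) (he : IsConj z e)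
    (hdU : d ∈ normalizer (U : Set G)) (heU : e ∈ normalizer (U : Set G)) (hc : Commute d e) :
    d = e := by
  by_contra hne
  obtain ⟨c, hdc⟩ := h.ex hd
  have hec : e • c = c := h.fix_of_commute hd hc.symm hdc
  have h1 : U ≤ MulAction.stabilizer G c := by
    refine Cfsg.Agent.Lib.KleinGen.le_of_klein U _ hU d e (h.mul_self hd) (h.mul_self he) hc.eq
      (fun u hu => (mem_normalizer_iff.mp hdU u).mp hu)
      (fun u hu => (mem_normalizer_iff.mp heU u).mp hu) ?_ ?_ ?_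
    · rintro u ⟨-, hu⟩
      exact h.fix_of_commute hd (mem_centralizer_singleton_iff.mp hu) hdc
    · rintro u ⟨-, hu⟩
      exact h.fix_of_commute he (mem_centralizer_singleton_iff.mp hu) hec
    · rintro u ⟨-, hu⟩
      exact h.comm' hd he hc hne (mem_centralizer_singleton_iff.mp hu) hdc
  have hcU : c ∈ Fx Ω U := fun u hu => h1 hu
  have hne' : c ≠ c₀ := fun hh => hc₀ (hh ▸ hcU)
  obtain ⟨g, hg, hgd⟩ := h.exists_conj_mem (normalizer (U : Set G)) hne' ⟨hd, hdc⟩ ⟨hw, hwc⟩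
    hdU hwU hd hw hdU hwU
  apply hc₀
  have h2 : w • g • c = g • c := by
    rw [← hgd, mul_smul, mul_smul, inv_smul_smul, hdc]
  rw [h.uniq hw hwc h2]
  exact smul_mem_Fx hg hcU

/-- all elements of `D ∩ N(U)` are conjugate in `N(U)` -/
theorem exists_conj {d : G} (hd : IsConj z d) (hdU : d ∈ normalizer (U : Set G)) :
    ∃ g ∈ normalizer (U : Set G), g * w * g⁻¹ = d := by
  have hodd : Odd (orderOf (w * d)) := by
    by_contra hodd
    obtain ⟨i, hi, hi2, hiw, hid, hic⟩ :=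
      exists_central w d (h.orderOf_eq hw) (h.orderOf_eq hd) (orderOf_pos _) hodd
    have hiU : i ∈ normalizer (U : Set G) := by
      have : Subgroup.zpowers (w * d) ≤ normalizer (U : Set G) := by
        rw [zpowers_le]; exact mul_mem hwU hdU
      exact this hi
    have hwi : IsConj z (w * i) := by
      rcases hic with h1 | h1
      · exact hw.trans h1
      · exact hd.trans h1
    have h1 := eq_of_commute h hU hw hwU hwc hc₀ hw hwi hwU (mul_mem hwU hiU)
      ((Commute.refl w).mul_right hiw.symm)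
    have hi1 : i = 1 := by simpa using h1.symm
    rw [hi1, orderOf_one] at hi2
    exact absurd hi2 (by norm_num)
  obtain ⟨j, hj, -, hjw, -⟩ := exists_swap_conj w d (h.orderOf_eq hw) (h.orderOf_eq hd) hodd
  refine ⟨j, ?_, hjw⟩
  have : closure ({w, d} : Set G) ≤ normalizer (U : Set G) := by
    rw [closure_le]
    rintro s (rfl | rfl)
    · exact hwU
    · exact hdU
  exact this hj

/-- no element of `D ∩ N(U)` fixes a point of `Fix(U)` -/
theorem not_fix {d : G} (hd : IsConj z d) (hdU : d ∈ normalizer (U : Set G)) {c : Ω}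
    (hc : c ∈ Fx Ω U) : d • c ≠ c := by
  intro hdc
  obtain ⟨g, hg, hgd⟩ := exists_conj h hU hw hwU hwc hc₀ hd hdU
  have h1 : d • g • c₀ = g • c₀ := by
    rw [← hgd, mul_smul, mul_smul, inv_smul_smul, hwc]
  have h2 := h.uniq hd hdc h1
  apply hc₀
  have h3 := smul_mem_Fx (inv_mem hg) hc
  rwa [h2, inv_smul_smul] at h3

/-- the Z*-theorem in `N(U)` -/
theorem exists_core : ∃ K : Subgroup G, K ≤ normalizer (U : Set G) ∧
    normalizer (U : Set G) ≤ normalizer (K : Set G) ∧ Odd (Nat.card K) ∧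
    (∀ g ∈ normalizer (U : Set G), w * g * w⁻¹ * g⁻¹ ∈ K) := by
  refine Cfsg.Agent.AschCrit.Dichotomy.commutator_mem_of_isolated (h.orderOf_eq hw)
    (le_normalizer hwU) ?_
  intro g hg hc
  exact (eq_of_commute h hU hw hwU hwc hc₀ hw (hw.trans (isConj_iff.mpr ⟨g, rfl⟩)) hwU
    (mul_mem (mul_mem hg hwU) (inv_mem hg)) hc).symm

/-- no triangle of points of `Fix(U)` with edges moved by elements of `D ∩ N(U)` -/
theorem triangle {c d e : Ω} (hc : c ∈ Fx Ω U) {x₁ x₂ x₃ : G}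
    (h1 : IsConj z x₁) (h2 : IsConj z x₂) (h3 : IsConj z x₃)
    (h1U : x₁ ∈ normalizer (U : Set G)) (h2U : x₂ ∈ normalizer (U : Set G))
    (h3U : x₃ ∈ normalizer (U : Set G)) (h1c : x₁ • c = d) (h2d : x₂ • d = e)
    (h3e : x₃ • e = c) : False := by
  obtain ⟨K, hKN, hNK, hKo, hK⟩ := exists_core h hU hw hwU hwc hc₀
  have hww := h.mul_self hw
  have hwi := h.inv_eq hw
  have hKw : ∀ k ∈ K, w * k * w ∈ K := by
    intro k hk
    have := (mem_normalizer_iff.mp (hNK hwU) k).mp hk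
    rwa [hwi] at this
  -- elements of `D ∩ N(U)` lie in `w K`
  have hcoset : ∀ x, IsConj z x → x ∈ normalizer (U : Set G) → w * x ∈ K := by
    intro x hx hxU
    obtain ⟨g, hg, rfl⟩ := exists_conj h hU hw hwU hwc hc₀ hx hxU
    have h4 := inv_mem (hK g⁻¹ (inv_mem hg))
    have h5 := hK g hg
    have e1 : w * (g * w * g⁻¹) = w * g * w⁻¹ * g⁻¹ := by rw [hwi]; group
    rw [e1]; exact h5
  set g := x₃ * x₂ * x₁ with hg
  have hgc : g • c = c := by rw [hg, mul_smul, mul_smul, h1c, h2d, h3e]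
  have hwg : w * g ∈ K := by
    have e1 : w * g = (w * x₃) * (w * (w * x₂) * w) * (w * x₁) := by
      calc w * g = w * x₃ * x₂ * x₁ := by rw [hg]; group
        _ = w * x₃ * ((w * w) * x₂ * (w * w)) * x₁ := by rw [hww]; group
        _ = _ := by group
    rw [e1]
    exact mul_mem (mul_mem (hcoset _ h3 h3U) (hKw _ (hcoset _ h2 h2U))) (hcoset _ h1 h1U)
  have hgU : g ∈ normalizer (U : Set G) := mul_mem (mul_mem h3U h2U) h1U
  -- `g² ∈ K`
  have hg2 : g * g ∈ K := by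
    have e1 : g * g = (w * (w * g) * w) * (w * g) := by
      calc g * g = (w * w) * g * (w * w) * g := by rw [hww]; group
        _ = _ := by group
    rw [e1]
    exact mul_mem (hKw _ hwg) hwg
  have hodd : Odd (orderOf (g * g)) := by
    refine hKo.of_dvd_nat ?_
    exact (Subgroup.orderOf_mk _ hg2) ▸ orderOf_dvd_natCard (⟨g * g, hg2⟩ : K)
  obtain ⟨k, hk⟩ := hodd
  set i := (g * g) ^ k * g with hi
  have hii : i * i = 1 := by
    have hcomm : Commute ((g * g) ^ k) g := ((Commute.refl g).mul_left (Commute.refl g)).pow_left k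
    calc i * i = (g * g) ^ k * (g * (g * g) ^ k) * g := by rw [hi]; group
      _ = (g * g) ^ k * ((g * g) ^ k * g) * g := by rw [hcomm.eq]
      _ = (g * g) ^ (2 * k + 1) := by
        rw [pow_succ, two_mul, pow_add]; group
      _ = 1 := by rw [← hk]; exact pow_orderOf_eq_one _
  have hiinv : i⁻¹ = i := inv_eq_of_mul_eq_one_right hii
  have hwi' : w * i ∈ K := by
    have e1 : w * i = (w * (g * g) ^ k * w) * (w * g) := by
      calc w * i = w * (g * g) ^ k * ((w * w) * g) := by rw [hi, hww]; group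
        _ = _ := by group
    rw [e1]
    exact mul_mem (hKw _ (pow_mem hg2 k)) hwg
  have hic : i • c = c := by
    have h4 : ∀ j : ℕ, (g * g) ^ j • c = c := by
      intro j
      induction j with
      | zero => simp
      | succ j ih => rw [pow_succ, mul_smul, mul_smul, hgc, hgc, ih]
    rw [hi, mul_smul, hgc, h4]
  have hwio : Odd (orderOf (w * i)) := by
    refine hKo.of_dvd_nat ?_
    exact (Subgroup.orderOf_mk _ hwi') ▸ orderOf_dvd_natCard (⟨w * i, hwi'⟩ : K)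
  obtain ⟨s, -, hs⟩ := exists_sqrt_conj hww hwio (by
    rw [mul_inv_rev, hiinv, hwi]
    calc w * (w * i) * w = (w * w) * i * w := by group
      _ = i * w := by rw [hww, one_mul])
  have hiw : s * w * s⁻¹ = i := by
    rw [hs, ← mul_assoc, hww, one_mul]
  have hiD : IsConj z i := hw.trans (isConj_iff.mpr ⟨s, hiw⟩)
  exact not_fix h hU hw hwU hwc hc₀ hiD (mul_mem (pow_mem (mul_mem hgU hgU) k) hgU) hc hic

end Iso

theorem not_mem_of_delta [Finite G] (h : Setup G Ω z) {p : ℕ} (hd : Dag G Ω z p) {U : Subgroup G}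
    (hU : IsPGroup p U) {w : G} (hw : IsConj z w) (hiU : Inv w U) {e f : Ω} (he : e ∈ Fx Ω U)
    (hf : f ∈ Fx Ω U) (hef : e ≠ f)
    (hdel : ∀ c : Ω, p ^ (Nat.card (At z c)).factorization p ≤ delta w U) {c : Ω}
    (hwc : w • c = c) : c ∉ Fx Ω U := by
  intro hc
  obtain ⟨b, hb, hcb⟩ : ∃ b ∈ Fx Ω U, c ≠ b := by
    by_cases hce : c = e
    · exact ⟨f, hf, by rw [hce]; exact hef⟩
    · exact ⟨e, he, hce⟩
  have h1 := dagger h hd hcb (v := w) ⟨hw, hwc⟩ hU hiU (le_stab2 hc hb)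
  exact absurd (hdel c) (not_le.mpr h1)

/-- elements of odd order stabilising a pair fix both points -/
theorem fix_of_pair {g : G} (hg : Odd (orderOf g)) {a b : Ω} (hab : a ≠ b)
    (ha : g • a = a ∨ g • a = b) (hb : g • b = a ∨ g • b = b) : g • a = a ∧ g • b = b := by
  have hinj : g • a ≠ g • b := fun hh => hab (smul_left_cancel g hh)
  rcases ha with ha | ha
  · rcases hb with hb | hb
    · exact absurd (ha.trans hb.symm) hinj
    · exact ⟨ha, hb⟩
  · rcases hb with hb | hb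
    · exfalso
      obtain ⟨k, hk⟩ := hg
      have h1 : ∀ j : ℕ, (g * g) ^ j • b = b := by
        intro j
        induction j with
        | zero => simp
        | succ j ih => rw [pow_succ, mul_smul, mul_smul, hb, ha, ih]
      have h2 : (g * g) ^ k * g = 1 := by
        have : (g * g) ^ k * g = g ^ (2 * k + 1) := by
          rw [← pow_two, ← pow_mul, ← pow_succ]
        rw [this, ← hk]; exact pow_orderOf_eq_one g
      apply hab
      calc a = ((g * g) ^ k * g) • a := by rw [h2, one_smul]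
        _ = b := by rw [mul_smul, ha, h1]
    · exact absurd (ha.trans hb.symm) hinj

/-- a maximal `p`-subgroup of `G_{ab}` with exactly two fixed points is a Sylow subgroup of `G` -/
theorem isMaxP_top_of_pair [Finite G] {p : ℕ} [hp : Fact p.Prime] (hpo : Odd p) {a b : Ω}
    (hab : a ≠ b) {R : Subgroup G} (hR : IsMaxP p (stab2 G a b) R)
    (hF : ∀ c ∈ Fx Ω R, c = a ∨ c = b) : IsMaxP p ⊤ R := by
  refine ⟨hR.1, le_top, ?_⟩
  intro S hS _ hRS
  by_contra hne
  obtain ⟨x, hxS, hxn, hxR⟩ := exists_mem_normalizer hS hRS hne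
  have key : ∀ g ∈ S, g ∈ normalizer (R : Set G) → g ∈ stab2 G a b := by
    intro g hg hgn
    have ho : Odd (orderOf g) := by
      refine (odd_of_isPGroup hpo hS).of_dvd_nat ?_
      exact (Subgroup.orderOf_mk _ hg) ▸ orderOf_dvd_natCard (⟨g, hg⟩ : S)
    exact fix_of_pair ho hab (hF _ (smul_mem_Fx hgn (left_mem_Fx hR.2.1)))
      (hF _ (smul_mem_Fx hgn (right_mem_Fx hR.2.1)))
  have h1 : S ⊓ normalizer (R : Set G) ≤ R := by
    refine hR.2.2 _ (hS.to_le inf_le_left) (fun g hg => key g hg.1 hg.2) ?_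
    exact le_inf hRS le_normalizer
  exact hxR (h1 ⟨hxS, hxn⟩)

/-- the number of points modulo `p` -/
theorem card_modEq_of_pair [Finite G] (h : Setup G Ω z) {p : ℕ} [hp : Fact p.Prime] {a b : Ω}
    (hab : a ≠ b) {R : Subgroup G} (hR : IsMaxP p (stab2 G a b) R)
    (hF : ∀ c ∈ Fx Ω R, c = a ∨ c = b) : Nat.card Ω ≡ 2 [MOD p] := by
  have hfin : Finite Ω := h.finite_points
  have h1 := hR.1.card_modEq_card_fixedPoints Ω
  have h2 : Nat.card (MulAction.fixedPoints R Ω) = 2 := by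
    have h3 : MulAction.fixedPoints R Ω = {a, b} := by
      ext c
      rw [MulAction.mem_fixedPoints, Set.mem_insert_iff, Set.mem_singleton_iff]
      constructor
      · intro hc
        exact hF c (fun u hu => hc ⟨u, hu⟩)
      · rintro (rfl | rfl) ⟨u, hu⟩
        · exact left_mem_Fx hR.2.1 u hu
        · exact right_mem_Fx hR.2.1 u hu
    rw [h3, Nat.card_coe_set_eq, Set.ncard_pair hab]
  rwa [h2] at h1

/-- there is a pair `a ≠ b` and a Sylow `p`-subgroup `R` of `G_{ab}` fixing only `a` and `b` -/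
theorem exists_pair [Finite G] (h : Setup G Ω z) {p : ℕ} (hd : Dag G Ω z p) :
    ∃ (a b : Ω) (R : Subgroup G), a ≠ b ∧ IsMaxP p (stab2 G a b) R ∧
      ∀ c ∈ Fx Ω R, c = a ∨ c = b := by
  have hp : Fact p.Prime := ⟨hd.prime⟩
  have hfin : Finite Ω := h.finite_points
  -- choose the pair with maximal `|R|`
  let Pr : ℕ → Prop := fun n => ∃ (a b : Ω) (R : Subgroup G), a ≠ b ∧
    IsMaxP p (stab2 G a b) R ∧ Nat.card R = n
  have hex : ∃ n, Pr n := by
    obtain ⟨a, b, hab⟩ := h.nontriv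
    obtain ⟨R, hR, -⟩ := exists_isMaxP (p := p) (C := stab2 G a b) (W := ⊥) IsPGroup.of_bot bot_le
    exact ⟨_, a, b, R, hab, hR, rfl⟩
  have hbd : ∀ n, Pr n → n ≤ Nat.card G := by
    rintro n ⟨a, b, R, -, -, rfl⟩
    exact card_le_card_group R
  obtain ⟨n, ⟨a, b, R, hab, hR, rfl⟩, hmax⟩ : ∃ n, Pr n ∧ ∀ k, Pr k → k ≤ n := by
    classical
    refine ⟨Nat.findGreatest Pr (Nat.card G), ?_, fun k hk => Nat.le_findGreatest (hbd k hk) hk⟩
    obtain ⟨n, hn⟩ := hex
    exact Nat.findGreatest_spec (hbd n hn) hn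
  refine ⟨a, b, R, hab, hR, ?_⟩
  have hcard : ∀ c d : Ω, Nat.card (At z c) = Nat.card (At z d) := h.card_at_eq
  -- every pair in `Fix(R)` has `R` as Sylow subgroup
  have hall : ∀ c ∈ Fx Ω R, ∀ d ∈ Fx Ω R, c ≠ d → IsMaxP p (stab2 G c d) R := by
    intro c hc d hd' hcd
    obtain ⟨R', hR', hRR'⟩ := exists_isMaxP (p := p) (C := stab2 G c d) hR.1 (le_stab2 hc hd')
    have h1 : Nat.card R' ≤ Nat.card R := hmax _ ⟨c, d, R', hcd, hR', rfl⟩
    have h2 : R = R' := eq_of_le_of_card_ge hRR' h1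
    rwa [h2]
  have hsw : ∀ c ∈ Fx Ω R, ∀ d ∈ Fx Ω R, c ≠ d → ∃ x ∈ Sw z c d, Inv x R ∧
      ∀ e : Ω, p ^ (Nat.card (At z e)).factorization p ≤ delta x R := by
    intro c hc d hd' hcd
    obtain ⟨x, hx, hxR, hdel⟩ := exists_sw_inv h hd.odd hcd (hall c hc d hd' hcd)
    exact ⟨x, hx, hxR, fun e => by rw [hdel, hcard e c]⟩
  intro c hc
  by_contra hne
  push Not at hne
  have ha : a ∈ Fx Ω R := left_mem_Fx hR.2.1
  have hb : b ∈ Fx Ω R := right_mem_Fx hR.2.1
  obtain ⟨x₁, hx₁, hi₁, hd₁⟩ := hsw a ha b hb hab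
  obtain ⟨x₂, hx₂, hi₂, -⟩ := hsw b hb c hc (Ne.symm hne.2)
  obtain ⟨x₃, hx₃, hi₃, -⟩ := hsw c hc a ha hne.1
  obtain ⟨c₀, hc₀⟩ := h.ex hx₁.1
  exact triangle h (odd_of_isPGroup hd.odd hR.1) hx₁.1 (hi₁.mem_normalizer (h.mul_self hx₁.1)) hc₀
    (not_mem_of_delta h hd hR.1 hx₁.1 hi₁ ha hb hab hd₁ hc₀) ha hx₁.1 hx₂.1 hx₃.1
    (hi₁.mem_normalizer (h.mul_self hx₁.1)) (hi₂.mem_normalizer (h.mul_self hx₂.1))
    (hi₃.mem_normalizer (h.mul_self hx₃.1)) hx₁.2 hx₂.2 hx₃.2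

theorem Dag.not_dvd [Finite G] (h : Setup G Ω z) {p : ℕ} (hd : Dag G Ω z p) :
    ¬ p ∣ Nat.card Ω := by
  have hp : Fact p.Prime := ⟨hd.prime⟩
  obtain ⟨a, b, R, hab, hR, hF⟩ := exists_pair h hd
  have h1 := card_modEq_of_pair h hab hR hF
  intro hdvd
  have h2 : p ∣ 2 := (Nat.modEq_zero_iff_dvd.mp (h1.symm.trans (Nat.modEq_zero_iff_dvd.mpr hdvd)))
  have h3 := (Nat.prime_dvd_prime_iff_eq hd.prime Nat.prime_two).mp h2
  have := hd.odd
  rw [h3] at this
  exact absurd this (by decide)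

/-- main recursion: a `p`-subgroup `X` with at least two fixed points, normalised by `u ∈ D` with
`delta u X = m_p`, has exactly two fixed points -/
theorem Dag.no_three [Finite G] (h : Setup G Ω z) {p : ℕ} (hd : Dag G Ω z p) (X : Subgroup G) :
    IsPGroup p X → ∀ u : G, IsConj z u → Inv u X →
    (∀ c : Ω, p ^ (Nat.card (At z c)).factorization p ≤ delta u X) →
    ∀ a ∈ Fx Ω X, ∀ b ∈ Fx Ω X, ∀ c ∈ Fx Ω X, a ≠ b → b ≠ c → c ≠ a → False := by
  have hp : Fact p.Prime := ⟨hd.prime⟩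
  have hfin : Finite Ω := h.finite_points
  induction X using WellFoundedGT.induction with
  | ind X ih =>
  intro hX u hu hiX hdel a ha b hb c hc hab hbc hca
  have huu := h.mul_self hu
  obtain ⟨c₀, hc₀⟩ := h.ex hu
  have hcX : c₀ ∉ Fx Ω X := not_mem_of_delta h hd hX hu hiX ha hb hab hdel hc₀
  have hXo := odd_of_isPGroup hd.odd hX
  have huN : u ∈ normalizer (X : Set G) := hiX.mem_normalizer huu
  -- every pair in `Fix(X)` is swapped by an element of `D ∩ N(X)`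
  have hsw : ∀ e ∈ Fx Ω X, ∀ f ∈ Fx Ω X, e ≠ f →
      ∃ x, IsConj z x ∧ x ∈ normalizer (X : Set G) ∧ x • e = f := by
    intro e he f hf hef
    obtain ⟨Q, hQ, hXQ⟩ := exists_isMaxP (p := p) (C := stab2 G e f) hX (le_stab2 he hf)
    by_cases hQX : Q ≤ X
    · have hQX' : X = Q := le_antisymm hXQ hQX
      subst hQX'
      obtain ⟨x, hx, hxX, -⟩ := exists_sw_inv h hd.odd hef hQ
      exact ⟨x, hx.1, hxX.mem_normalizer (h.mul_self hx.1), hx.2⟩
    · obtain ⟨g, hgQ, hgN, hgX⟩ := exists_mem_normalizer hQ.1 hXQ hQX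
      set N := normalizer (X : Set G) with hN
      set X₁ := Q ⊓ N with hX₁
      have hXX₁ : X ≤ X₁ := le_inf hXQ le_normalizer
      have hX₁p : IsPGroup p X₁ := hQ.1.to_le inf_le_left
      obtain ⟨K, hKN, hNK, hKo, hK⟩ := exists_core h hXo hu huN hc₀ hcX
      obtain ⟨Y₀, hY₀, hXY₀⟩ := exists_isMaxP (p := p) (C := N) hX₁p inf_le_right
      set H : Subgroup G := K ⊔ Y₀ with hH
      have hHN : H ≤ N := sup_le hKN hY₀.2.1
      have hHo : Odd (Nat.card H) := odd_sup hKo (odd_of_isPGroup hd.odd hY₀.1)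
        (hY₀.2.1.trans hNK)
      have hiH : Inv u H := by
        have h1 : H ≤ H.comap (MulAut.conj u).toMonoidHom := by
          rw [hH, sup_le_iff]
          constructor
          · intro y hy
            exact le_sup_left (a := K) ((mem_normalizer_iff.mp (hNK huN) y).mp hy)
          · intro y hy
            show u * y * u⁻¹ ∈ K ⊔ Y₀
            have e1 : u * y * u⁻¹ = (u * y * u⁻¹ * y⁻¹) * y := by group
            rw [e1]
            exact mul_mem (le_sup_left (a := K) (hK y (hY₀.2.1 hy))) (le_sup_right (a := K) hy)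
        exact fun y hy => h1 hy
      have hXH : X ≤ H := hXX₁.trans (hXY₀.trans le_sup_right)
      obtain ⟨Y, hY, hiY, hXY⟩ := exists_isMaxP_ge huu hHo hiH hXH hX hiX
      have hY₀H : IsMaxP p H Y₀ :=
        ⟨hY₀.1, le_sup_right, fun R h1 h2 h3 => hY₀.2.2 R h1 (h2.trans hHN) h3⟩
      obtain ⟨k, hk, hkY⟩ := hY₀H.exists_conj hY
      have hkN : k ∈ N := hHN hk
      -- `Y` fixes a point
      have hYfix : ∃ a' : Ω, a' ∈ Fx Ω Y := by
        have h1 := hY.1.nonempty_fixed_point_of_prime_not_dvd_card Ω (Dag.not_dvd h hd)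
        obtain ⟨a', ha'⟩ := h1
        exact ⟨a', fun y hy => ha' ⟨y, hy⟩⟩
      obtain ⟨a', ha'⟩ := hYfix
      have hua' : u • a' ∈ Fx Ω Y := smul_mem_Fx (hiY.mem_normalizer huu) ha'
      have hne : a' ≠ u • a' := by
        intro hh
        apply hcX
        rw [h.uniq hu hc₀ hh.symm]
        exact Fx_anti hXY ha'
      have hdY := delta_le h hd.odd hne (x := u) ⟨hu, rfl⟩ (le_stab2 ha' hua') hY.1 hiY
      have hcomm : ∀ y ∈ Y, u * y * u⁻¹ * y⁻¹ ∈ X := fun y hy =>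
        commutator_mem huu hXY (odd_of_isPGroup hd.odd hY.1) hiX hiY (hdY.trans (hdel a')) hy
      -- the conjugate of `X₁` in `Y`
      set X₂ := X₁.map (MulAut.conj k).toMonoidHom with hX₂
      have hX₂Y : X₂ ≤ Y := by
        rw [← hkY]; exact map_mono hXY₀
      have hXX₂ : X ≤ X₂ := by
        intro x hx
        rw [hX₂, mem_map_conj]
        apply hXX₁
        have h1 := (mem_normalizer_iff.mp (inv_mem hkN) x).mp hx
        rwa [inv_inv] at h1
      have hlt : X < X₂ := by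
        refine lt_of_le_of_ne hXX₂ ?_
        intro heq
        apply hgX
        have h1 : k * g * k⁻¹ ∈ X₂ := by
          rw [hX₂, mem_map_conj]
          have e1 : k⁻¹ * (k * g * k⁻¹) * k = g := by group
          rw [e1]; exact ⟨hgQ, hgN⟩
        rw [← heq] at h1
        exact (mem_normalizer_iff.mp hkN g).mpr h1
      have hiX₂ : Inv u X₂ := by
        intro x hx
        have e1 : u * x * u⁻¹ = (u * x * u⁻¹ * x⁻¹) * x := by group
        rw [e1]
        exact mul_mem (hXX₂ (hcomm x (hX₂Y hx))) hx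
      have hF : ∀ q : Ω, (∀ x ∈ X₁, x • q = q) → k • q ∈ Fx Ω X₂ := by
        intro q hq x hx
        rw [hX₂, mem_map_conj] at hx
        have h1 := hq _ hx
        rw [mul_smul, mul_smul, inv_smul_eq_iff] at h1
        exact h1
      have hke : k • e ∈ Fx Ω X₂ := hF e (fun x hx => (hQ.2.1 hx.1).1)
      have hkf : k • f ∈ Fx Ω X₂ := hF f (fun x hx => (hQ.2.1 hx.1).2)
      have huke : u • k • e ∈ Fx Ω X₂ := smul_mem_Fx (hiX₂.mem_normalizer huu) hke
      have hne1 : u • k • e ≠ k • e := by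
        intro hh
        apply hcX
        rw [h.uniq hu hc₀ hh]
        exact Fx_anti hXX₂ hke
      have hne2 : k • e ≠ k • f := fun hh => hef (smul_left_cancel k hh)
      have hkey : u • k • e = k • f := by
        by_contra hne3
        exact ih X₂ hlt (hY.1.to_le hX₂Y) u hu hiX₂ (fun c => (hdel c).trans (delta_mono hXX₂))
          _ hke _ hkf _ huke hne2 (Ne.symm hne3) hne1
      refine ⟨k⁻¹ * u * k, conj_mem_inv hu k, mul_mem (mul_mem (inv_mem hkN) huN) hkN, ?_⟩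
      rw [mul_smul, mul_smul, hkey, inv_smul_smul]
  obtain ⟨x₁, hx₁, hi₁, hxa⟩ := hsw a ha b hb hab
  obtain ⟨x₂, hx₂, hi₂, hxb⟩ := hsw b hb c hc hbc
  obtain ⟨x₃, hx₃, hi₃, hxc⟩ := hsw c hc a ha hca
  exact triangle h hXo hu huN hc₀ hcX ha hx₁ hx₂ hx₃ hi₁ hi₂ hi₃ hxa hxb hxc

/-- a Sylow `p`-subgroup of `G_{ab}` fixes only `a` and `b` -/
theorem Dag.fx_pair [Finite G] (h : Setup G Ω z) {p : ℕ} (hd : Dag G Ω z p) {a b : Ω}
    (hab : a ≠ b) {R : Subgroup G} (hR : IsMaxP p (stab2 G a b) R) :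
    ∀ c ∈ Fx Ω R, c = a ∨ c = b := by
  have hp : Fact p.Prime := ⟨hd.prime⟩
  obtain ⟨x, hx, hxR, hdel⟩ := exists_sw_inv h hd.odd hab hR
  intro c hc
  by_contra hne
  push Not at hne
  exact Dag.no_three h hd R hR.1 x hx.1 hxR (fun e => by rw [hdel, h.card_at_eq e a]) a
    (left_mem_Fx hR.2.1) b (right_mem_Fx hR.2.1) c hc hab (Ne.symm hne.2) hne.1

/-- a Sylow `p`-subgroup of `G_{ab}` is a Sylow `p`-subgroup of `G` -/
theorem Dag.isMaxP_top [Finite G] (h : Setup G Ω z) {p : ℕ} (hd : Dag G Ω z p) {a b : Ω}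
    (hab : a ≠ b) {R : Subgroup G} (hR : IsMaxP p (stab2 G a b) R) : IsMaxP p ⊤ R := by
  have hp : Fact p.Prime := ⟨hd.prime⟩
  exact isMaxP_top_of_pair hd.odd hab hR (Dag.fx_pair h hd hab hR)

theorem Dag.card_modEq [Finite G] (h : Setup G Ω z) {p : ℕ} (hd : Dag G Ω z p) :
    Nat.card Ω ≡ 2 [MOD p] := by
  have hp : Fact p.Prime := ⟨hd.prime⟩
  obtain ⟨a, b, R, hab, hR, hF⟩ := exists_pair h hd
  exact card_modEq_of_pair h hab hR hF

/-- `G` is 2-transitive -/
theorem Dag.two_trans [Finite G] (h : Setup G Ω z) {p : ℕ} (hd : Dag G Ω z p) {a b c : Ω}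
    (hab : a ≠ b) (hac : a ≠ c) : ∃ g : G, g • a = a ∧ g • b = c := by
  have hp : Fact p.Prime := ⟨hd.prime⟩
  obtain ⟨R, hR, -⟩ := exists_isMaxP (p := p) (C := stab2 G a b) (W := ⊥) IsPGroup.of_bot bot_le
  obtain ⟨R', hR', -⟩ := exists_isMaxP (p := p) (C := stab2 G a c) (W := ⊥) IsPGroup.of_bot bot_le
  have h1 : IsMaxP p (MulAction.stabilizer G a) R :=
    ⟨hR.1, hR.2.1.trans inf_le_left, fun S h1 _ h3 => (Dag.isMaxP_top h hd hab hR).2.2 S h1 le_top h3⟩
  have h2 : IsMaxP p (MulAction.stabilizer G a) R' :=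
    ⟨hR'.1, hR'.2.1.trans inf_le_left,
      fun S h1 _ h3 => (Dag.isMaxP_top h hd hac hR').2.2 S h1 le_top h3⟩
  obtain ⟨g, hg, hgR⟩ := h1.exists_conj h2
  have hga : g • a = a := hg
  refine ⟨g, hga, ?_⟩
  have h3 : g • b ∈ Fx Ω R' := by
    intro x hx
    rw [← hgR, mem_map_conj] at hx
    have h4 := right_mem_Fx hR.2.1 _ hx
    rw [mul_smul, mul_smul, inv_smul_eq_iff] at h4
    exact h4
  rcases Dag.fx_pair h hd hac hR' _ h3 with h4 | h4
  · exact absurd (smul_left_cancel g (h4.trans hga.symm)) (Ne.symm hab)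
  · exact h4

/-- if `D_a` contains two distinct commuting elements there is a prime `p` with `Dag G Ω z p` -/
theorem exists_dag [Finite G] (h : Setup G Ω z) (hf : ∀ g : G, (∀ a : Ω, g • a = a) → g = 1)
    (a : Ω) (hnc : ∃ d ∈ At z a, ∃ e ∈ At z a, d ≠ e ∧ Commute d e) : ∃ p : ℕ, Dag G Ω z p := by
  obtain ⟨p, hp, hCP⟩ := Cfsg.Agent.AschCrit.CommonPrime.exists_prime h hf a hnc
  have hp' : Fact p.Prime := ⟨hp⟩
  have hCP' : CP z p a := hCP
  obtain ⟨b, hab⟩ : ∃ b : Ω, a ≠ b := by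
    obtain ⟨c, d, hcd⟩ := h.nontriv
    by_cases hac : a = c
    · exact ⟨d, by rw [hac]; exact hcd⟩
    · exact ⟨c, hac⟩
  obtain ⟨v, hv⟩ := h.nonempty_At a
  have hpo : Odd p := by
    refine Cfsg.Agent.AschCrit.CommonPrime.odd_of_dvd_relIndex (odd_oc a b)
      (hCP (oc G a b) (oc_le_left a b) (odd_oc a b) ?_ v hv)
    intro s hs t ht
    exact exists_conj_at_oc h hab hs ht
  exact ⟨p, hp, hpo, fun c d hcd w hw => dvd_of_CP h hpo (hCP'.all h c) hcd hw⟩

/-- **Double transitivity.** -/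
theorem two_trans_of_commute [Finite G] (h : Setup G Ω z)
    (hf : ∀ g : G, (∀ a : Ω, g • a = a) → g = 1) (a₀ : Ω)
    (hnc : ∃ d ∈ At z a₀, ∃ e ∈ At z a₀, d ≠ e ∧ Commute d e) {a b c : Ω}
    (hab : a ≠ b) (hac : a ≠ c) : ∃ g : G, g • a = a ∧ g • b = c := by
  obtain ⟨p, hd⟩ := exists_dag h hf a₀ hnc
  exact Dag.two_trans h hd hab hac

end Cfsg.Agent.AschCrit.TwoTrans
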