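import Mathlib
import Cfsg.Agent.AschCrit.TwoTrans
import Cfsg.Agent.S0552
import Cfsg.Agent.Lib.Cores

/-!
# Aschbacher's criterion: `D_a` centralises `O(G_a)`

* `commutator_mem_stab2` : `[v, V] ≤ G_{ab}` for `v ∈ D_a` and a normal `r`-subgroup `V` of `G_a` if the odd
  prime `r` does not divide `|G_{ab} : G_{a,b,vb}|`
* `commute_of_normal` : if `G` is 2-transitive then `D_a` centralises every normal `r`-subgroup of `G_a`, `r` odd
* `commute_core` : if moreover `O(G_a)` is solvable then `D_a` centralises `O(G_a)`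
-/

set_option autoImplicit false

open Subgroup

namespace Cfsg.Agent.AschCrit.CoreCentral

open Cfsg.Agent.TwoFusion.StronglyEmbeddedBasic Cfsg.Agent.AschCrit.Basic
open Cfsg.Agent.AschCrit.Basic.Setup Cfsg.Agent.AschCrit.Closed Cfsg.Agent.AschCrit.IsolatedSwap
open Cfsg.Agent.AschCrit.OddInv Cfsg.Agent.SignalizersComponents.RelSylow
open Cfsg.Agent.SignalizersComponents.PLayerAut Cfsg.Agent.AschCrit.Dagger
open Cfsg.Agent.AschCrit.TwoTrans

variable {G Ω : Type*} [Group G] [MulAction G Ω] {z : G}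

theorem mem_inf_map_conj {t : G} (ht : t * t = 1) {H : Subgroup G} {x : G} :
    x ∈ H ⊓ H.map (MulAut.conj t).toMonoidHom ↔ x ∈ H ∧ t * x * t⁻¹ ∈ H := by
  have hi : t⁻¹ = t := inv_eq_of_mul_eq_one_right ht
  rw [mem_inf, mem_map_conj, hi]

theorem inv_inf_map_conj {t : G} (ht : t * t = 1) (H : Subgroup G) :
    Inv t (H ⊓ H.map (MulAut.conj t).toMonoidHom) := by
  intro x hx
  obtain ⟨h1, h2⟩ := (mem_inf_map_conj ht).mp hx
  refine (mem_inf_map_conj ht).mpr ⟨h2, ?_⟩
  have e1 : t * (t * x * t⁻¹) * t⁻¹ = (t * t) * x * (t * t)⁻¹ := by group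
  rw [e1, ht]; simpa using h1

theorem delta_inf_dvd {t : G} (ht : t * t = 1) (H : Subgroup G) :
    delta t (H ⊓ H.map (MulAut.conj t).toMonoidHom) ∣ delta t H := by
  set H₀ : Subgroup G := H ⊓ H.map (MulAut.conj t).toMonoidHom with hH₀
  have hC : H ⊓ centralizer ({t} : Set G) = H₀ ⊓ centralizer ({t} : Set G) := by
    ext x
    constructor
    · rintro ⟨h1, h2⟩
      refine ⟨(mem_inf_map_conj ht).mpr ⟨h1, ?_⟩, h2⟩
      have h3 := mem_centralizer_singleton_iff.mp h2
      rw [← h3]; simpa using h1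
    · rintro ⟨h1, h2⟩
      exact ⟨h1.1, h2⟩
  have hmul : delta t H = delta t H₀ * H₀.relIndex H := by
    rw [delta, delta, hC]
    exact (relIndex_mul_relIndex _ _ _ inf_le_left inf_le_left).symm
  exact ⟨_, hmul⟩

/-- `[v, V] ≤ G_{ab}` if the odd prime `r` does not divide `|G_{ab} : G_{a,b,vb}|` -/
theorem commutator_mem_stab2 [Finite G] (h : Setup G Ω z) {a b : Ω} (hab : a ≠ b) {v : G}
    (hv : v ∈ At z a) {r : ℕ} [hr' : Fact r.Prime] (hr : Odd r)
    (hnd : ¬ r ∣ (st3 G v a b).relIndex (stab2 G a b)) {V : Subgroup G}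
    (hVa : V ≤ MulAction.stabilizer G a) (hVn : MulAction.stabilizer G a ≤ normalizer (V : Set G))
    (hV : IsPGroup r V) {x : G} (hx : x ∈ V) : v * x * v⁻¹ * x⁻¹ ∈ stab2 G a b := by
  have hvv := h.mul_self hv.1
  obtain ⟨B, P, hXB, hBJ, hBo, hP, hiP⟩ := exists_odd_maxP h hv hr hnd
  have hBa : B ≤ MulAction.stabilizer G a := hBJ.trans inf_le_left
  set H : Subgroup G := V ⊔ B with hH
  have hHo : Odd (Nat.card H) := odd_sup (odd_of_isPGroup hr hV) hBo (hBa.trans hVn)
  set H₀ : Subgroup G := H ⊓ H.map (MulAut.conj v).toMonoidHom with hH₀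
  have hiV : Inv v V := Inv.of_mem_normalizer (hVn hv.2)
  have hPn : P ≤ normalizer (V : Set G) := (hP.2.1.trans hBa).trans hVn
  have hVH : V ≤ H := le_sup_left
  have hPH : P ≤ H := hP.2.1.trans le_sup_right
  set Q : Subgroup G := V ⊔ P with hQ
  have hQp : IsPGroup r Q := IsPGroup.to_sup_of_normal_left' hV hP.1 hPn
  have hiQ : Inv v Q := hiV.sup hiP
  have hQH : Q ≤ H := sup_le hVH hPH
  have hQH₀ : Q ≤ H₀ := fun y hy => (mem_inf_map_conj hvv).mpr ⟨hQH hy, hQH (hiQ y hy)⟩
  have hH₀o : Odd (Nat.card H₀) := hHo.of_dvd_nat (card_dvd_of_le inf_le_left)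
  obtain ⟨P', hP', hiP', hQP'⟩ := exists_isMaxP_ge hvv hH₀o (inv_inf_map_conj hvv H) hQH₀ hQp hiQ
  have hH₁ : delta v H = Nat.card (At z a) :=
    delta_eq_at h hab hv (hXB.trans le_sup_right) (sup_le hVa hBa)
  have h1 : delta v Q ≤ delta v P := by
    refine (delta_mono hQP').trans ?_
    rw [delta_isMaxP hvv hH₀o (inv_inf_map_conj hvv H) hP' hiP',
      delta_isMaxP' hvv hBo hP hiP, delta_eq_at h hab hv hXB hBa, ← hH₁]
    refine Nat.pow_le_pow_right hr'.out.pos ?_
    exact (Nat.factorization_le_iff_dvd (delta_pos v H₀).ne' (delta_pos v H).ne').mpr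
      (delta_inf_dvd hvv H) r
  have h2 := commutator_mem hvv (le_sup_right : P ≤ Q) (odd_of_isPGroup hr hQp) hiP hiQ h1
    (le_sup_left (a := V) hx)
  exact hBJ (hP.2.1 h2)

theorem map_conj_st3 (k v : G) (a b : Ω) :
    (st3 G v a b).map (MulAut.conj k).toMonoidHom = st3 G (k * v * k⁻¹) (k • a) (k • b) := by
  ext x
  rw [mem_map_conj, mem_st3, mem_st3]
  have e : ∀ c : Ω, (k⁻¹ * x * k) • c = c ↔ x • k • c = k • c := by
    intro c
    rw [mul_smul, mul_smul, inv_smul_eq_iff]
  have e2 : (k * v * k⁻¹) • k • b = k • v • b := by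
    rw [mul_smul, mul_smul, inv_smul_smul]
  rw [e, e, e, e2]

theorem map_conj_stab2 (k : G) (a b : Ω) :
    (stab2 G a b).map (MulAut.conj k).toMonoidHom = stab2 G (k • a) (k • b) := by
  ext x
  rw [mem_map_conj, mem_stab2, mem_stab2]
  have e : ∀ c : Ω, (k⁻¹ * x * k) • c = c ↔ x • k • c = k • c := by
    intro c
    rw [mul_smul, mul_smul, inv_smul_eq_iff]
  rw [e, e]

theorem relIndex_st3_conj (k v : G) (a b : Ω) :
    (st3 G (k * v * k⁻¹) (k • a) (k • b)).relIndex (stab2 G (k • a) (k • b)) =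
      (st3 G v a b).relIndex (stab2 G a b) := by
  rw [← map_conj_st3, ← map_conj_stab2,
    relIndex_map_map_of_injective _ _ (MulAut.conj k).injective]

/-- in the 2-transitive case the indices `|G_{ab} : G_{a,b,vb}|` are equal -/
theorem dag_of_dvd [Finite G] (h : Setup G Ω z)
    (htt : ∀ a b c : Ω, a ≠ b → a ≠ c → ∃ g : G, g • a = a ∧ g • b = c) {r : ℕ}
    (hr' : r.Prime) (hr : Odd r) {a b : Ω} (hab : a ≠ b) {v : G} (hv : v ∈ At z a)
    (hdvd : r ∣ (st3 G v a b).relIndex (stab2 G a b)) : Dag G Ω z r := by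
  refine ⟨hr', hr, fun c d hcd u hu => ?_⟩
  obtain ⟨g₁, hg₁⟩ := h.trans a c
  have hne : c ≠ g₁ • b := by
    rw [← hg₁]
    exact fun hh => hab (smul_left_cancel g₁ hh)
  obtain ⟨g₂, hg₂c, hg₂b⟩ := htt c (g₁ • b) d hne hcd
  have hga : (g₂ * g₁) • a = c := by rw [mul_smul, hg₁, hg₂c]
  have hgb : (g₂ * g₁) • b = d := by rw [mul_smul, hg₂b]
  have hv' : (g₂ * g₁) * v * (g₂ * g₁)⁻¹ ∈ At z c := by
    have := conj_mem_At (g₂ * g₁) hv
    rwa [hga] at this
  obtain ⟨n, hn, hnu⟩ := exists_conj_at_oc h hcd hv' hu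
  have hka : (n * (g₂ * g₁)) • a = c := by rw [mul_smul, hga, smul_left_of_mem_oc hn]
  have hkb : (n * (g₂ * g₁)) • b = d := by rw [mul_smul, hgb, smul_right_of_mem_oc hn]
  have hkv : (n * (g₂ * g₁)) * v * (n * (g₂ * g₁))⁻¹ = u := by
    rw [← hnu]; group
  have h1 := relIndex_st3_conj (n * (g₂ * g₁)) v a b
  rw [hka, hkb, hkv] at h1
  rw [h1]
  exact hdvd

/-- `D_a` centralises the normal `r`-subgroups of `G_a` -/
theorem commute_of_normal [Finite G] (h : Setup G Ω z)
    (hf : ∀ g : G, (∀ a : Ω, g • a = a) → g = 1)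
    (htt : ∀ a b c : Ω, a ≠ b → a ≠ c → ∃ g : G, g • a = a ∧ g • b = c) {a : Ω} {r : ℕ}
    [hr' : Fact r.Prime] (hr : Odd r) {V : Subgroup G} (hVa : V ≤ MulAction.stabilizer G a)
    (hVn : MulAction.stabilizer G a ≤ normalizer (V : Set G)) (hV : IsPGroup r V) {v : G}
    (hv : v ∈ At z a) {x : G} (hx : x ∈ V) : Commute v x := by
  by_cases hA : ∀ b, a ≠ b → ¬ r ∣ (st3 G v a b).relIndex (stab2 G a b)
  · have h1 : v * x * v⁻¹ * x⁻¹ = 1 := by
      apply hf
      intro b
      by_cases hab : a = b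
      · rw [← hab]
        have hva : v ∈ MulAction.stabilizer G a := hv.2
        exact mul_mem (mul_mem (mul_mem hva (hVa hx)) (inv_mem hva)) (inv_mem (hVa hx))
      · exact (commutator_mem_stab2 h hab hv hr (hA b hab) hVa hVn hV hx).2
    show v * x = x * v
    calc v * x = (v * x * v⁻¹ * x⁻¹) * x * v := by group
      _ = x * v := by rw [h1, one_mul]
  · push Not at hA
    obtain ⟨b, hab, hdvd⟩ := hA
    have hd := dag_of_dvd h htt hr'.out hr hab hv hdvd
    have hx1 : x = 1 := by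
      apply hf
      intro c
      by_cases hac : a = c
      · rw [← hac]; exact hVa hx
      · obtain ⟨R, hR, -⟩ := exists_isMaxP (p := r) (C := stab2 G a c) (W := ⊥) IsPGroup.of_bot
          bot_le
        have h1 := Dag.isMaxP_top h hd hac hR
        have h2 : V ⊔ R ≤ R := h1.2.2 _ (IsPGroup.to_sup_of_normal_left' hV hR.1
          ((hR.2.1.trans inf_le_left).trans hVn)) le_top le_sup_right
        exact (hR.2.1 (h2 (le_sup_left (a := V) hx))).2
    rw [hx1]
    exact Commute.one_right v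

/-- an involution centralising the `O_r(K)`, `K` solvable of odd order, centralises `K` -/
theorem commute_of_solvable [Finite G] {K : Subgroup G} (hK : Odd (Nat.card K))
    (hs : Group.IsSolvable K) {v : G} (hv : v * v = 1) (hvK : v ∈ normalizer (K : Set G))
    (hc : ∀ r : ℕ, r.Prime → Odd r → ∀ x ∈ (Cfsg.pCore r K).map K.subtype, Commute v x) {x : G}
    (hx : x ∈ K) : Commute v x := by
  set σ : MulAut K := K.normalizerMonoidHom ⟨v, hvK⟩ with hσ
  have hσx : ∀ y : K, ((σ y : K) : G) = v * y * v⁻¹ := fun y => rfl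
  by_contra hne
  have hσ1 : σ ≠ MulEquiv.refl K := by
    intro h1
    apply hne
    have h2 := hσx ⟨x, hx⟩
    rw [h1] at h2
    have h3 : x = v * x * v⁻¹ := h2
    show v * x = x * v
    conv_rhs => rw [h3]
    group
  refine Cfsg.Agent.S0552.result σ ?_ hσ1 ?_
  · -- `σ` fixes the Fitting subgroup
    let F : Subgroup K :=
      { carrier := {y | σ y = y}
        one_mem' := map_one σ
        mul_mem' := by
          intro y y' hy hy'
          show σ (y * y') = y * y'
          rw [map_mul, show σ y = y from hy, show σ y' = y' from hy']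
        inv_mem' := by
          intro y hy
          show σ y⁻¹ = y⁻¹
          rw [map_inv, show σ y = y from hy] }
    have h1 : Cfsg.fittingSubgroup K ≤ F := by
      rw [Cfsg.Agent.Lib.Cores.fittingSubgroup_eq_iSup_pCore]
      refine iSup_le fun p y hy => ?_
      have hp := p.2
      show σ y = y
      by_cases hpo : Odd (p : ℕ)
      · have h2 := hc p hp hpo y ⟨y, hy, rfl⟩
        apply Subtype.ext
        rw [hσx, h2.eq]; group
      · have hp2 : (p : ℕ) = 2 := by
          rcases hp.eq_two_or_odd' with h3 | h3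
          · exact h3
          · exact absurd h3 hpo
        have h3 : IsPGroup 2 (Cfsg.pCore (p : ℕ) K) := by
          rw [← hp2]
          exact Cfsg.Agent.Lib.Cores.pCore_isPGroup _
        have h4 : Odd (Nat.card (Cfsg.pCore (p : ℕ) K)) :=
          hK.of_dvd_nat (card_subgroup_dvd_card _)
        have hf2 : Fact (Nat.Prime 2) := ⟨Nat.prime_two⟩
        obtain ⟨n, hn⟩ := IsPGroup.iff_card.mp h3
        have h5 : n = 0 := by
          by_contra hn0
          rw [hn] at h4
          exact (Nat.not_even_iff_odd.mpr h4) ((Nat.even_pow.mpr ⟨even_two, hn0⟩))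
        rw [h5, pow_zero] at hn
        have h6 : y = 1 := by
          have := (Subgroup.card_eq_one.mp hn) ▸ hy
          exact mem_bot.mp this
        rw [h6, map_one]
    intro y hy
    exact h1 hy
  · have h1 : orderOf σ ∣ 2 := by
      apply orderOf_dvd_of_pow_eq_one
      rw [hσ, ← map_pow]
      have : (⟨v, hvK⟩ : normalizer (K : Set G)) ^ 2 = 1 := Subtype.ext (by
        show v ^ 2 = 1
        rw [pow_two, hv])
      rw [this, map_one]
    exact Nat.Coprime.coprime_dvd_left h1 (Nat.coprime_two_left.mpr hK)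

/-- The normaliser of `K` normalises each characteristic subgroup of `K`. -/
theorem normalizer_le_map_char {H : Subgroup G} {K : Subgroup H} (hK : K.Characteristic) :
    normalizer (H : Set G) ≤ normalizer (K.map H.subtype : Set G) := by
  rw [le_normalizer_iff]
  rintro g hg _ ⟨x, hx, rfl⟩
  have h1 := hK.fixed (MulDistribMulAction.toMulAut (normalizer (H : Set G)) H ⟨g, hg⟩)
  have h2 : x ∈ K.comap
      (MulDistribMulAction.toMulAut (normalizer (H : Set G)) H ⟨g, hg⟩).toMonoidHom := by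
    rw [h1]; exact hx
  exact ⟨_, h2, rfl⟩

/-- `D_a` centralises `O(G_a)` -/
theorem commute_core [Finite G] (h : Setup G Ω z)
    (hf : ∀ g : G, (∀ a : Ω, g • a = a) → g = 1)
    (htt : ∀ a b c : Ω, a ≠ b → a ≠ c → ∃ g : G, g • a = a ∧ g • b = c) {a : Ω}
    (hs : Group.IsSolvable (relCore 2 (MulAction.stabilizer G a))) {v : G} (hv : v ∈ At z a)
    {x : G} (hx : x ∈ relCore 2 (MulAction.stabilizer G a)) : Commute v x := by
  set M := MulAction.stabilizer G a with hM
  set K := relCore 2 M with hK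
  have hMK : M ≤ normalizer (K : Set G) :=
    le_normalizer.trans (normalizer_le_normalizer_relCore 2 M)
  refine commute_of_solvable (odd_relCore M) hs (h.mul_self hv.1) (hMK hv.2) ?_ hx
  intro r hr hro y hy
  have hr' : Fact r.Prime := ⟨hr⟩
  refine commute_of_normal h hf htt hro (V := (Cfsg.pCore r K).map K.subtype)
    ((map_subtype_le _).trans (relCore_le 2 M)) ?_
    ((Cfsg.Agent.Lib.Cores.pCore_isPGroup r).map _) hv hy
  refine hMK.trans ?_
  exact normalizer_le_map_char (Cfsg.Agent.Lib.Cores.pCore_characteristic r)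

end Cfsg.Agent.AschCrit.CoreCentral
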