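import Cfsg.Agent.AschCrit.Section
import Cfsg.Agent.AschCrit.NonIso
import Cfsg.Agent.AschCrit.CoreCentral

/-!
# Aschbacher's criterion: reduction of the main claim to the big simple case

* `BigStep` : the claim "the elements of `D` at a point commute" for simple `G` such that `D_a` and `D_b` generate
  `G` for all `a ≠ b`, given the claim for smaller groups
* `mainBelow_of_big` : `BigStep` implies the claim for all groups
-/

set_option autoImplicit false

universe u

open Subgroup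

namespace Cfsg.Agent.AschCrit.MainReduce

open Cfsg.Agent.TwoFusion.StronglyEmbeddedBasic Cfsg.Agent.AschCrit.Basic
open Cfsg.Agent.AschCrit.Basic.Setup Cfsg.Agent.AschCrit.Closed Cfsg.Agent.AschCrit.Descent
open Cfsg.Agent.AschCrit.NonIso Cfsg.Agent.AschCrit.IsolatedSwap Cfsg.Agent.AschCrit.OddInv
open Cfsg.Agent.SignalizersComponents.PLayerAut Cfsg.Agent.AschCrit.Dagger
open Cfsg.Agent.AschCrit.TwoTrans Cfsg.Agent.AschCrit.CoreCentral Cfsg.Agent.AschCrit.Section

/-- the step of the induction in the big simple case -/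
def BigStep : Prop :=
  ∀ (G Ω : Type u) [Group G] [Finite G] [MulAction G Ω] (z : G), MainBelow.{u} (Nat.card G) →
    IsSimpleGroup G → Setup G Ω z → (∀ g : G, (∀ a : Ω, g • a = a) → g = 1) →
    (∃ a : Ω, ∃ d ∈ At z a, ∃ e ∈ At z a, d ≠ e ∧ Commute d e) →
    (∀ a b : Ω, a ≠ b → closure (At z a ∪ At z b) = ⊤) →
    ∀ a : Ω, ∀ d ∈ At z a, ∀ e ∈ At z a, Commute d e

/-- a commuting pair in `D_a` gives one at every point -/
theorem exists_pair_at {G Ω : Type*} [Group G] [MulAction G Ω] {z : G} (h : Setup G Ω z)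
    (hp : ∃ a : Ω, ∃ d ∈ At z a, ∃ e ∈ At z a, d ≠ e ∧ Commute d e) (b : Ω) :
    ∃ d ∈ At z b, ∃ e ∈ At z b, d ≠ e ∧ Commute d e := by
  obtain ⟨a, d, hd, e, he, hne, hc⟩ := hp
  obtain ⟨g, rfl⟩ := h.trans a b
  refine ⟨_, conj_mem_At g hd, _, conj_mem_At g he, ?_, ?_⟩
  · intro hh
    apply hne
    have : g⁻¹ * (g * d * g⁻¹) * g = g⁻¹ * (g * e * g⁻¹) * g := by rw [hh]
    simpa [mul_assoc] using this
  · show g * d * g⁻¹ * (g * e * g⁻¹) = g * e * g⁻¹ * (g * d * g⁻¹)
    calc g * d * g⁻¹ * (g * e * g⁻¹) = g * (d * e) * g⁻¹ := by group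
      _ = g * (e * d) * g⁻¹ := by rw [hc.eq]
      _ = _ := by group

theorem nonIso_of_pair {G Ω : Type*} [Group G] [MulAction G Ω] {z : G} (h : Setup G Ω z)
    (hp : ∃ a : Ω, ∃ d ∈ At z a, ∃ e ∈ At z a, d ≠ e ∧ Commute d e) : NonIso z := by
  obtain ⟨a, d, hd, e, he, hne, hc⟩ := hp
  obtain ⟨g, rfl⟩ := isConj_iff.mp hd.1
  refine ⟨g⁻¹ * e * g, conj_mem_inv he.1 g, ?_, ?_⟩
  · show z * (g⁻¹ * e * g) = g⁻¹ * e * g * z
    calc z * (g⁻¹ * e * g) = g⁻¹ * ((g * z * g⁻¹) * e) * g := by group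
      _ = g⁻¹ * (e * (g * z * g⁻¹)) * g := by rw [hc.eq]
      _ = _ := by group
  · intro hh
    apply hne
    rw [← hh]; group

/-- the elements of `D_a` commute if they commute for one point -/
theorem commute_all {G Ω : Type*} [Group G] [MulAction G Ω] {z : G} (h : Setup G Ω z) (a : Ω)
    (ha : ∀ d ∈ At z a, ∀ e ∈ At z a, Commute d e) (b : Ω) :
    ∀ d ∈ At z b, ∀ e ∈ At z b, Commute d e := by
  obtain ⟨g, rfl⟩ := h.trans a b
  intro d hd e he
  have key : ∀ s ∈ At z (g • a), g⁻¹ * s * g ∈ At z a := by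
    intro s hs
    have := conj_mem_At g⁻¹ hs
    rwa [inv_smul_smul, inv_inv] at this
  have h1 := (ha _ (key d hd) _ (key e he)).eq
  show d * e = e * d
  calc d * e = g * ((g⁻¹ * d * g) * (g⁻¹ * e * g)) * g⁻¹ := by group
    _ = g * ((g⁻¹ * e * g) * (g⁻¹ * d * g)) * g⁻¹ := by rw [h1]
    _ = e * d := by group

/-- the case of a pair which is not big -/
theorem commute_of_not_big {G Ω : Type u} [Group G] [Finite G] [MulAction G Ω] {z : G}
    (hFT : ∀ K : Subgroup G, Odd (Nat.card K) → Group.IsSolvable K)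
    (hIH : MainBelow.{u} (Nat.card G)) (h : Setup G Ω z)
    (hf : ∀ g : G, (∀ a : Ω, g • a = a) → g = 1)
    (hp : ∃ a : Ω, ∃ d ∈ At z a, ∃ e ∈ At z a, d ≠ e ∧ Commute d e) {a b : Ω} (hab : a ≠ b)
    (hbig : closure (At z a ∪ At z b) ≠ ⊤) : ∀ d ∈ At z a, ∀ e ∈ At z a, Commute d e := by
  set H : Subgroup G := closure (At z a ∪ At z b) with hH
  have haH : ∀ d ∈ At z a, d ∈ H := fun d hd => subset_closure (Or.inl hd)
  have hbH : ∀ d ∈ At z b, d ∈ H := fun d hd => subset_closure (Or.inr hd)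
  obtain ⟨d₀, hd₀⟩ := h.nonempty_At a
  obtain ⟨e₀, he₀⟩ := h.nonempty_At b
  have h2 : TwoPts Ω z H := ⟨a, b, hab, ⟨d₀, haH _ hd₀, hd₀⟩, ⟨e₀, hbH _ he₀, he₀⟩⟩
  obtain ⟨p, hp1, q, hq1, hpq, hcpq⟩ := exists_pair_at h hp a
  have hc : CPair z H := ⟨p, haH _ hp1, q, haH _ hq1, hp1.1, hq1.1, hcpq, hpq⟩
  have hsq : ∀ x ∈ At z a, ∀ y ∈ At z a, x * y * (x * y) ∈ ok Ω z H := fun x hx y hy =>
    sq_mem_ok h hf hIH hbig h2 hc hx (haH _ hx) hy (haH _ hy)
  -- the subgroup generated by the squares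
  set W : Subgroup G := closure {g | ∃ x ∈ At z a, ∃ y ∈ At z a, g = x * y * (x * y)} with hW
  have hWok : W ≤ ok Ω z H := by
    rw [hW, closure_le]
    rintro _ ⟨x, hx, y, hy, rfl⟩
    exact hsq x hx y hy
  have hWodd : Odd (Nat.card W) := (odd_ok (Ω := Ω) (z := z) H).of_dvd_nat (card_dvd_of_le hWok)
  have hWM : W ≤ MulAction.stabilizer G a := by
    rw [hW, closure_le]
    rintro _ ⟨x, hx, y, hy, rfl⟩
    exact mul_mem (mul_mem (show x ∈ MulAction.stabilizer G a from hx.2) hy.2)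
      (mul_mem (show x ∈ MulAction.stabilizer G a from hx.2) hy.2)
  have hWn : MulAction.stabilizer G a ≤ normalizer (W : Set G) := by
    rw [le_normalizer_iff]
    intro g hg w hw
    have hga : g • a = a := hg
    have hle : W ≤ W.comap (MulAut.conj g).toMonoidHom := by
      conv_lhs => rw [hW]
      rw [closure_le]
      rintro _ ⟨x, hx, y, hy, rfl⟩
      have hx' := conj_mem_At g hx
      have hy' := conj_mem_At g hy
      rw [hga] at hx' hy'
      refine subset_closure ⟨_, hx', _, hy', ?_⟩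
      show g * (x * y * (x * y)) * g⁻¹ = _
      group
    exact hle hw
  have hWc : W ≤ relCore 2 (MulAction.stabilizer G a) := le_relCore hWM hWodd hWn
  have htt : ∀ a b c : Ω, a ≠ b → a ≠ c → ∃ g : G, g • a = a ∧ g • b = c := fun a b c h1 h2 =>
    two_trans_of_commute h hf a (exists_pair_at h hp a) h1 h2
  intro x hx y hy
  have hxx := h.mul_self hx.1
  have hyy := h.mul_self hy.1
  have hmem : x * y * (x * y) ∈ W := subset_closure ⟨x, hx, y, hy, rfl⟩
  have h1 := commute_core h hf htt (hFT _ (odd_relCore _)) hx (hWc hmem)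
  -- `x` inverts `(x y)²`
  have h3 : (x * y * (x * y)) * (x * y * (x * y)) = 1 := by
    have e1 : x * (x * y * (x * y)) = (x * x) * y * x * y := by group
    have e2 : (x * y * (x * y)) * x = x * (x * y * (x * y)) := h1.symm.eq
    calc (x * y * (x * y)) * (x * y * (x * y)) = ((x * y * (x * y)) * x) * (y * x * y) := by group
      _ = (x * (x * y * (x * y))) * (y * x * y) := by rw [e2]
      _ = (x * x) * y * x * (y * y) * x * y := by group
      _ = 1 := by simp [mul_assoc, hxx, hyy]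
  have hodd : Odd (orderOf (x * y * (x * y))) := by
    refine hWodd.of_dvd_nat ?_
    exact (Subgroup.orderOf_mk _ hmem) ▸ orderOf_dvd_natCard (⟨_, hmem⟩ : W)
  have h4 : x * y * (x * y) = 1 := by
    obtain ⟨k, hk⟩ := hodd
    have h5 := pow_orderOf_eq_one (x * y * (x * y))
    rw [hk, pow_succ, pow_mul, pow_two, h3, one_pow, one_mul] at h5
    exact h5
  show x * y = y * x
  have h5 : (x * y)⁻¹ = x * y := inv_eq_of_mul_eq_one_right h4
  rw [← h5, mul_inv_rev, h.inv_eq hx.1, h.inv_eq hy.1]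

/-- the induction step -/
theorem step_of_big (hFT : ∀ (K : Type u) [Group K] [Finite K], Odd (Nat.card K) → Group.IsSolvable K)
    (hbs : BigStep.{u}) {G Ω : Type u} [Group G] [Finite G] [MulAction G Ω] {z : G}
    (hIH : MainBelow.{u} (Nat.card G)) (h : Setup G Ω z)
    (hf : ∀ g : G, (∀ a : Ω, g • a = a) → g = 1)
    (hp : ∃ a : Ω, ∃ d ∈ At z a, ∃ e ∈ At z a, d ≠ e ∧ Commute d e) :
    ∀ a : Ω, ∀ d ∈ At z a, ∀ e ∈ At z a, Commute d e := by
  have hn := nonIso_of_pair h hp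
  have hsimple := isSimpleGroup_closure h hf hn
  set L := Subgroup.normalClosure ({z} : Set G) with hL
  have hzL : z ∈ L := Subgroup.subset_normalClosure rfl
  have hDL : ∀ d : G, IsConj z d → d ∈ L := by
    intro d hd
    obtain ⟨g, rfl⟩ := isConj_iff.mp hd
    exact Subgroup.normalClosure_normal.conj_mem z hzL g
  by_cases hLt : L = ⊤
  · have hG : IsSimpleGroup G := by
      have h1 := hsimple
      rw [hLt] at h1
      exact (Subgroup.topEquiv (G := G)).symm.isSimpleGroup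
    by_cases hbig : ∀ a b : Ω, a ≠ b → closure (At z a ∪ At z b) = ⊤
    · exact hbs G Ω z hIH hG h hf hp hbig
    · push Not at hbig
      obtain ⟨a, b, hab, hne⟩ := hbig
      exact commute_all h a (commute_of_not_big (fun K hK => hFT K hK) hIH h hf hp hab hne)
  · -- pass to `L`
    obtain ⟨a, ha⟩ := h.exists_fix
    obtain ⟨b, hab⟩ : ∃ b : Ω, a ≠ b := by
      obtain ⟨p, q, hpq⟩ := h.nontriv
      by_cases hap : a = p
      · exact ⟨q, by rw [hap]; exact hpq⟩
      · exact ⟨p, hap⟩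
    obtain ⟨e, he⟩ := h.nonempty_At b
    have heL := hDL e he.1
    have hza : z ∈ At z a := ⟨IsConj.refl z, ha⟩
    have hS := setup_pts h hab hza he hzL heL
    have hconj := isConj_subgroup_iff h hab hza he hzL heL
    have hf' : ∀ g : L, (∀ c : pts Ω z L, g • c = c) → g = 1 := by
      intro g hg
      apply Subtype.ext
      apply hf
      intro c
      obtain ⟨d, hd⟩ := h.nonempty_At c
      exact congrArg Subtype.val (hg ⟨c, d, hDL d hd.1, hd⟩)
    have hcard : Nat.card L < Nat.card G := by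
      refine lt_of_le_of_ne (card_le_card_group L) ?_
      intro hh
      exact hLt (eq_top_of_card_eq L hh)
    have hmem : ∀ (c : Ω) (d : G) (hd : d ∈ At z c),
        (⟨d, hDL d hd.1⟩ : L) ∈ At (⟨z, hzL⟩ : L) (⟨c, d, hDL d hd.1, hd⟩ : pts Ω z L) :=
      fun c d hd => ⟨(hconj _).mpr hd.1, Subtype.ext hd.2⟩
    have hpL : ∃ c : pts Ω z L, ∃ d ∈ At (⟨z, hzL⟩ : L) c, ∃ e ∈ At (⟨z, hzL⟩ : L) c,
        d ≠ e ∧ Commute d e := by
      obtain ⟨c, d, hd, e, he, hne, hc⟩ := hp
      exact ⟨_, _, hmem c d hd, _, hmem c e he, fun hh => hne (congrArg Subtype.val hh),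
        Subtype.ext hc.eq⟩
    have hmain := hIH L (pts Ω z L) (⟨z, hzL⟩ : L) hcard hS hf' hpL
    intro c d hd e he
    have h1 := hmain _ _ (hmem c d hd) _ (hmem c e he)
    exact congrArg Subtype.val h1.eq

/-- **Reduction.** -/
theorem mainBelow_of_big
    (hFT : ∀ (K : Type u) [Group K] [Finite K], Odd (Nat.card K) → Group.IsSolvable K)
    (hbs : BigStep.{u}) (N : ℕ) : MainBelow.{u} N := by
  induction N with
  | zero =>
    intro K Ψ _ _ _ z hcard
    exact absurd hcard (Nat.not_lt_zero _)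
  | succ N ih =>
    intro K Ψ _ _ _ z hcard h hf hp
    refine step_of_big hFT hbs ?_ h hf hp
    intro K' Ψ' _ _ _ z' hcard'
    exact ih K' Ψ' z' (by omega)

end Cfsg.Agent.AschCrit.MainReduce
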