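import Cfsg.Agent.AschCrit.Frame
import Cfsg.Agent.AschCrit.MainReduce

/-!
# Aschbacher's criterion: `CommuteHolds` from the big simple case
-/

set_option autoImplicit false

universe u

open Subgroup

namespace Cfsg.Agent.AschCrit.CommuteGlue

open Cfsg.Agent.TwoFusion.StronglyEmbeddedBasic Cfsg.Agent.AschCrit.Basic
open Cfsg.Agent.AschCrit.Basic.Setup Cfsg.Agent.AschCrit.Closed Cfsg.Agent.AschCrit.Descent
open Cfsg.Agent.AschCrit.NonIso Cfsg.Agent.AschCrit.BGroup

/-- if `z` is not isolated there are two commuting elements of `D` at a point -/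
theorem exists_pair_of_nonIso {G Ω : Type*} [Group G] [MulAction G Ω] {z : G} (h : Setup G Ω z)
    (hn : NonIso z) : ∃ a : Ω, ∃ d ∈ At z a, ∃ e ∈ At z a, d ≠ e ∧ Commute d e := by
  obtain ⟨d, hd, hc, hne⟩ := hn
  obtain ⟨a, ha⟩ := h.exists_fix
  exact ⟨a, z, ⟨IsConj.refl z, ha⟩, d, ⟨hd, h.fix_of_commute (IsConj.refl z) hc.symm ha⟩,
    Ne.symm hne, hc⟩

/-- the first half of the step, from the big simple case -/
theorem commuteHolds_of_big
    (hFT : ∀ (K : Type u) [Group K] [Finite K], Odd (Nat.card K) → Group.IsSolvable K)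
    (hbs : MainReduce.BigStep.{u}) : Frame.CommuteHolds.{u} := by
  intro G Ω _ _ _ z _ _ h hf hn _
  exact MainReduce.mainBelow_of_big hFT hbs (Nat.card G + 1) G Ω z (Nat.lt_succ_self _) h hf
    (exists_pair_of_nonIso h hn)

end Cfsg.Agent.AschCrit.CommuteGlue
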