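import Cfsg.Agent.AschCrit.Closed

/-!
# Aschbacher's criterion: descent to subgroups and quotients

* `pts z H` : the points `c` with `D_c ∩ H ≠ ∅`, as a `SubMulAction H Ω`
* `setup_pts` : a subgroup `H` meeting `D_a` and `D_b`, `a ≠ b`, acts on `pts z H` as in the set-up
* `isConj_subgroup_iff` : the class of `z'` in `H` is `D ∩ H`
* `setup_map` : the set-up passes to the quotients acting on `Ω`
* `commute_of_normalizes` : (A4) `T` a 2-subgroup with two fixed points, `d ∈ D ∩ N(T)` ⟹ `[d, T] = 1`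
* `mem_pts_centralizer`, `mem_pts_normalizer` : `pts z C(T) = pts z N(T) = Fix(T)`
-/

set_option autoImplicit false

namespace Cfsg.Agent.AschCrit.Descent

open Cfsg.Agent.TwoFusion.StronglyEmbeddedBasic Cfsg.Agent.AschCrit.Basic
open Cfsg.Agent.AschCrit.Basic.Setup Cfsg.Agent.AschCrit.Closed

theorem odd_card_of_involutive {α : Type*} [Finite α] (f : α → α) (hf : ∀ x, f (f x) = x) (x₀ : α)
    (h1 : f x₀ = x₀) (h2 : ∀ x, f x = x → x = x₀) : Odd (Nat.card α) := by
  classical
  have : Fintype α := Fintype.ofFinite α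
  let g : Function.End α := f
  have h3 : g ^ 2 ^ 1 = 1 := by
    rw [pow_one, pow_two]
    funext x
    exact hf x
  have h4 := Equiv.Perm.card_fixedPoints_modEq (α := α) (f := g) (p := 2) (n := 1) h3
  have h5 : Fintype.card (Function.fixedPoints f) = 1 := by
    rw [Fintype.card_eq_one_iff]
    exact ⟨⟨x₀, h1⟩, fun y => Subtype.ext (h2 _ y.2)⟩
  have h6 : Fintype.card α ≡ 1 [MOD 2] := by
    rw [← h5]; exact h4
  rw [Nat.card_eq_fintype_card, Nat.odd_iff]
  exact h6

/-- an involution with a class of odd size is central in a Sylow 2-subgroup -/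
theorem exists_central_sylow {G : Type*} [Group G] [Finite G] {z : G} (hz : orderOf z = 2)
    (hodd : Odd (Nat.card {d : G // IsConj z d})) :
    ∃ S : Sylow 2 G, z ∈ S ∧ ∀ s ∈ S, Commute s z := by
  have h1 : Nat.card {d : G // IsConj z d} = (Subgroup.centralizer ({z} : Set G)).index := by
    have h2 : Nat.card {d : G // IsConj z d} = (MulAction.orbit (ConjAct G) z).ncard := by
      rw [← Nat.card_coe_set_eq]
      apply Nat.card_congr
      refine Equiv.subtypeEquivRight (fun d => ?_)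
      rw [ConjAct.mem_orbit_conjAct]
      exact isConj_comm
    rw [h2, ← MulAction.index_stabilizer, ConjAct.stabilizer_eq_centralizer]
    rfl
  rw [h1] at hodd
  set C := Subgroup.centralizer ({z} : Set G) with hC
  have hzC : z ∈ C := by
    rw [hC, Subgroup.mem_centralizer_singleton_iff]
  have hzC' : orderOf (⟨z, hzC⟩ : C) = 2 := by rw [Subgroup.orderOf_mk]; exact hz
  have hp : IsPGroup 2 (Subgroup.zpowers (⟨z, hzC⟩ : C)) :=
    isPGroup_zpowers (mul_self_of_orderOf hzC')
  obtain ⟨P, hP⟩ := hp.exists_le_sylow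
  have hpg : IsPGroup 2 ((P : Subgroup C).map C.subtype) := P.isPGroup'.map _
  have hind : ¬ 2 ∣ ((P : Subgroup C).map C.subtype).index := by
    have h3 : ((P : Subgroup C).map C.subtype).index = (P : Subgroup C).index * C.index := by
      rw [Subgroup.index_map_subtype]
    rw [h3]
    intro h4
    rcases (Nat.Prime.dvd_mul Nat.prime_two).mp h4 with h5 | h5
    · exact P.not_dvd_index h5
    · exact (Nat.not_even_iff_odd.mpr hodd) (even_iff_two_dvd.mpr h5)
  refine ⟨hpg.toSylow hind, ?_, ?_⟩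
  · have h6 : z ∈ (P : Subgroup C).map C.subtype :=
      ⟨⟨z, hzC⟩, hP (Subgroup.mem_zpowers _), rfl⟩
    exact h6
  · intro s hs
    have h6 : s ∈ (P : Subgroup C).map C.subtype := hs
    obtain ⟨⟨t, ht⟩, -, rfl⟩ := h6
    rw [hC, Subgroup.mem_centralizer_singleton_iff] at ht
    exact ht

variable {G Ω : Type*} [Group G] [MulAction G Ω] {z : G}

/-- the points `c` with `D_c ∩ H ≠ ∅` -/
def pts (Ω : Type*) [MulAction G Ω] (z : G) (H : Subgroup G) : SubMulAction H Ω where
  carrier := {c | ∃ d ∈ H, d ∈ At z c}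
  smul_mem' := by
    rintro ⟨g, hg⟩ c ⟨d, hd, hdc⟩
    exact ⟨g * d * g⁻¹, H.mul_mem (H.mul_mem hg hd) (H.inv_mem hg), conj_mem_At g hdc⟩

theorem mem_pts {H : Subgroup G} {c : Ω} : c ∈ pts Ω z H ↔ ∃ d ∈ H, d ∈ At z c := Iff.rfl

theorem coe_smul_pts {H : Subgroup G} (g : H) (c : pts Ω z H) :
    ((g • c : pts Ω z H) : Ω) = (g : G) • (c : Ω) := rfl

/-- in a subgroup meeting `D` at two points, `D ∩ H` is one class -/
theorem isConj_subgroup_iff [Finite G] (h : Setup G Ω z) {H : Subgroup G} {a b : Ω} (hab : a ≠ b)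
    {d e : G} (hd : d ∈ At z a) (he : e ∈ At z b) (hdH : d ∈ H) (heH : e ∈ H) (y : H) :
    IsConj (⟨d, hdH⟩ : H) y ↔ IsConj z (y : G) := by
  constructor
  · intro hy
    obtain ⟨c, hc⟩ := isConj_iff.mp hy
    have h1 : (c : G) * d * (c : G)⁻¹ = y := by rw [← hc]; rfl
    rw [← h1]
    exact conj_mem hd.1 _
  · intro hy
    obtain ⟨c, hcH, hc⟩ := h.exists_conj_mem H hab hd he hdH heH hd.1 hy hdH y.2
    exact isConj_iff.mpr ⟨⟨c, hcH⟩, Subtype.ext hc⟩

/-- the number of elements of `D ∩ H` is odd -/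
theorem odd_card_pts [Finite G] (h : Setup G Ω z) {H : Subgroup G} {a : Ω}
    {d : G} (hd : d ∈ At z a) (hdH : d ∈ H) :
    Odd (Nat.card (pts Ω z H)) := by
  have := h.finite_points
  have hfin : Finite (pts Ω z H) := Subtype.finite
  refine odd_card_of_involutive (fun c : pts Ω z H => (⟨d, hdH⟩ : H) • c) ?_
    ⟨a, d, hdH, hd⟩ ?_ ?_
  · intro c
    apply Subtype.ext
    show d • d • (c : Ω) = c
    exact h.smul_smul_self hd.1 _
  · exact Subtype.ext hd.2
  · intro c hc
    apply Subtype.ext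
    have : d • (c : Ω) = c := congrArg Subtype.val hc
    exact h.uniq hd.1 this hd.2

theorem odd_card_at_inter [Finite G] (h : Setup G Ω z) {H : Subgroup G} {a b : Ω} (hab : a ≠ b)
    {d e : G} (hd : d ∈ At z a) (he : e ∈ At z b) (hdH : d ∈ H) (heH : e ∈ H) :
    Odd (Nat.card {f : G // f ∈ H ∧ f ∈ At z b}) := by
  -- the elements of `D ∩ H` swapping `a` and `b`
  have h1 : Nat.card {x : G // x ∈ H ∧ x ∈ Sw z a b} = Nat.card {f : G // f ∈ H ∧ f ∈ At z b} := by
    refine Nat.card_congr (Equiv.ofBijective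
      (fun x => ⟨x.1 * d * x.1⁻¹, H.mul_mem (H.mul_mem x.2.1 hdH) (H.inv_mem x.2.1), ?_⟩) ?_)
    · have := conj_mem_At x.1 hd
      rwa [x.2.2.2] at this
    constructor
    · rintro ⟨x, hxH, hx⟩ ⟨y, hyH, hy⟩ hxy
      have hxy' : x * d * x⁻¹ = y * d * y⁻¹ := congrArg Subtype.val hxy
      refine Subtype.ext (h.swap_unique hd.1 hx.1 hy.1 hd.2 ?_ hxy')
      rw [hx.2]; exact Ne.symm hab
    · rintro ⟨f, hfH, hf⟩
      obtain ⟨x, hxH, hx, hxd, -⟩ := h.exists_swap_mem H hab hd hf hdH hfH
      exact ⟨⟨x, hxH, hx⟩, Subtype.ext hxd⟩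
  rw [← h1]
  obtain ⟨x, hxH, hx, -, -⟩ := h.exists_swap_mem H hab hd he hdH heH
  have hfin : Finite {x : G // x ∈ H ∧ x ∈ Sw z a b} := Subtype.finite
  have key : ∀ y : G, y ∈ Sw z a b → x * y * x⁻¹ ∈ Sw z a b := by
    intro y hy
    have := conj_mem_Sw x hy
    have hxb : x • b = a := by rw [← hx.2, h.smul_smul_self hx.1]
    rw [hx.2, hxb, h.Sw_symm] at this
    exact this
  refine odd_card_of_involutive
    (fun y : {x : G // x ∈ H ∧ x ∈ Sw z a b} => ⟨x * y.1 * x⁻¹,
      H.mul_mem (H.mul_mem hxH y.2.1) (H.inv_mem hxH), key _ y.2.2⟩) ?_ ⟨x, hxH, hx⟩ ?_ ?_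
  · rintro ⟨y, hyH, hy⟩
    apply Subtype.ext
    show x * (x * y * x⁻¹) * x⁻¹ = y
    calc x * (x * y * x⁻¹) * x⁻¹ = (x * x) * y * (x * x)⁻¹ := by group
      _ = y := by rw [h.mul_self hx.1]; group
  · apply Subtype.ext
    show x * x * x⁻¹ = x
    group
  · rintro ⟨y, hyH, hy⟩ hxy
    have h2 : x * y * x⁻¹ = y := congrArg Subtype.val hxy
    apply Subtype.ext
    refine (h.eq_of_commute_swap hab hx hy ?_).symm
    show x * y = y * x
    calc x * y = x * y * x⁻¹ * x := by group
      _ = y * x := by rw [h2]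

/-- a subgroup meeting `D_a` and `D_b`, `a ≠ b`, inherits the set-up -/
theorem setup_pts [Finite G] (h : Setup G Ω z) {H : Subgroup G} {a b : Ω} (hab : a ≠ b)
    {d e : G} (hd : d ∈ At z a) (he : e ∈ At z b) (hdH : d ∈ H) (heH : e ∈ H) :
    Setup H (pts Ω z H) (⟨d, hdH⟩ : H) where
  invol := by rw [Subgroup.orderOf_mk]; exact h.orderOf_eq hd.1
  central := by
    refine exists_central_sylow (by rw [Subgroup.orderOf_mk]; exact h.orderOf_eq hd.1) ?_
    have := h.finite_points
    have hfp : Finite (pts Ω z H) := Subtype.finite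
    have : Fintype (pts Ω z H) := Fintype.ofFinite _
    -- the class is the disjoint union of the `D_c ∩ H`
    have h1 : Nat.card {y : H // IsConj (⟨d, hdH⟩ : H) y} =
        Nat.card (Σ c : pts Ω z H, {f : G // f ∈ H ∧ f ∈ At z (c : Ω)}) := by
      refine Nat.card_congr
        { toFun := fun y =>
            have hy : IsConj z (y.1 : G) := (isConj_subgroup_iff h hab hd he hdH heH y.1).mp y.2
            ⟨⟨(h.ex hy).choose, y.1.1, y.1.2, hy, (h.ex hy).choose_spec⟩,
              y.1.1, y.1.2, hy, (h.ex hy).choose_spec⟩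
          invFun := fun p => ⟨⟨p.2.1, p.2.2.1⟩,
            (isConj_subgroup_iff h hab hd he hdH heH _).mpr p.2.2.2.1⟩
          left_inv := fun y => rfl
          right_inv := ?_ }
      rintro ⟨⟨c, hc⟩, f, hfH, hf⟩
      have key : ∀ (c' : Ω) (hc' : c' ∈ pts Ω z H) (hf' : f ∈ H ∧ f ∈ At z c'), c' = c →
          (⟨⟨c', hc'⟩, ⟨f, hf'⟩⟩ : Σ c : pts Ω z H, {f : G // f ∈ H ∧ f ∈ At z (c : Ω)}) =
            ⟨⟨c, hc⟩, ⟨f, hfH, hf⟩⟩ := by
        rintro c' hc' hf' rfl
        rfl
      exact key _ _ _ (h.uniq hf.1 (h.ex hf.1).choose_spec hf.2)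
    rw [h1, Nat.card_sigma]
    have h3 : ∀ c : pts Ω z H, Nat.card {f : G // f ∈ H ∧ f ∈ At z (c : Ω)} =
        Nat.card {f : G // f ∈ H ∧ f ∈ At z b} := by
      rintro ⟨c, f, hfH, hf⟩
      -- an element of `H` mapping `c` to `b`
      obtain ⟨g, hgH, hg⟩ : ∃ g ∈ H, g • c = b := by
        by_cases hcb : c = b
        · exact ⟨1, H.one_mem, by rw [one_smul, hcb]⟩
        · obtain ⟨x, hxH, hx, -, -⟩ := h.exists_swap_mem H hcb hf he hfH heH
          exact ⟨x, hxH, hx.2⟩
      refine Nat.card_congr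
        { toFun := fun y => ⟨g * y.1 * g⁻¹,
            H.mul_mem (H.mul_mem hgH y.2.1) (H.inv_mem hgH), ?_⟩
          invFun := fun y => ⟨g⁻¹ * y.1 * g,
            H.mul_mem (H.mul_mem (H.inv_mem hgH) y.2.1) hgH, ?_⟩
          left_inv := fun y => by ext; simp [mul_assoc]
          right_inv := fun y => by ext; simp [mul_assoc] }
      · have h4 := conj_mem_At g y.2.2
        have h5 : g • ((⟨c, f, hfH, hf⟩ : pts Ω z H) : Ω) = b := hg
        rwa [h5] at h4
      · have h4 := conj_mem_At g⁻¹ y.2.2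
        have h5 : g⁻¹ • b = ((⟨c, f, hfH, hf⟩ : pts Ω z H) : Ω) := by
          rw [← hg, inv_smul_smul]
        rwa [h5, inv_inv] at h4
    rw [Finset.sum_congr rfl (fun c _ => h3 c), Finset.sum_const, Finset.card_univ, smul_eq_mul]
    refine Odd.mul ?_ (odd_card_at_inter h hab hd he hdH heH)
    rw [← Nat.card_eq_fintype_card]
    exact odd_card_pts h hd hdH
  nontriv := ⟨⟨a, d, hdH, hd⟩, ⟨b, e, heH, he⟩, fun hh => hab (congrArg Subtype.val hh)⟩
  trans := by
    rintro ⟨p, f, hfH, hf⟩ ⟨q, g, hgH, hg⟩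
    by_cases hpq : p = q
    · subst hpq
      exact ⟨1, one_smul _ _⟩
    · obtain ⟨x, hxH, hx, -, -⟩ := h.exists_swap_mem H hpq hf hg hfH hgH
      exact ⟨⟨x, hxH⟩, Subtype.ext hx.2⟩
  exists_fix := ⟨⟨a, d, hdH, hd⟩, Subtype.ext hd.2⟩
  fix_unique := by
    intro p q hp hq
    apply Subtype.ext
    exact h.uniq hd.1 (congrArg Subtype.val hp) (congrArg Subtype.val hq)
  comm := by
    intro g hg hne c hc p hp
    apply Subtype.ext
    show (c : G) • (p : Ω) = p
    have hp' : d • (p : Ω) = p := congrArg Subtype.val hp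
    refine h.comm' (d := d) (e := (g : G) * d * (g : G)⁻¹) hd.1 (conj_mem hd.1 _) ?_ ?_ ?_ hp'
    · show d * ((g : G) * d * (g : G)⁻¹) = ((g : G) * d * (g : G)⁻¹) * d
      exact congrArg Subtype.val hg.eq
    · intro hh
      exact hne (Subtype.ext hh.symm)
    · show (c : G) * (d * ((g : G) * d * (g : G)⁻¹)) = d * ((g : G) * d * (g : G)⁻¹) * (c : G)
      exact congrArg Subtype.val hc.eq

/-- the set-up passes to quotients acting on `Ω` -/
theorem setup_map {Q : Type*} [Group Q] [MulAction Q Ω] [Finite G] (h : Setup G Ω z) (π : G →* Q)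
    (hπ : Function.Surjective π) (hc : ∀ (g : G) (a : Ω), π g • a = g • a) : Setup Q Ω (π z) where
  invol := by
    refine orderOf_eq_two_of_mul_self ?_ ?_
    · rw [← map_mul, mul_self_of_orderOf h.invol, map_one]
    · intro h1
      obtain ⟨a, b, hab⟩ := h.nontriv
      apply hab
      refine h.fix_unique a b ?_ ?_
      · rw [← hc, h1, one_smul]
      · rw [← hc, h1, one_smul]
  central := by
    obtain ⟨S, hzS, hS⟩ := h.central
    refine ⟨S.mapSurjective hπ, ⟨z, hzS, rfl⟩, ?_⟩
    rintro _ ⟨s, hs, rfl⟩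
    exact (hS s hs).map π
  nontriv := h.nontriv
  trans := by
    intro a b
    obtain ⟨g, hg⟩ := h.trans a b
    exact ⟨π g, by rw [hc, hg]⟩
  exists_fix := by
    obtain ⟨a, ha⟩ := h.exists_fix
    exact ⟨a, by rw [hc, ha]⟩
  fix_unique := by
    intro a b ha hb
    rw [hc] at ha hb
    exact h.fix_unique a b ha hb
  comm := by
    intro q hq hne y hy a ha
    obtain ⟨g, rfl⟩ := hπ q
    obtain ⟨c, rfl⟩ := hπ y
    rw [hc] at ha
    rw [hc]
    have he : IsConj z (g * z * g⁻¹) := isConj_iff.mpr ⟨g, rfl⟩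
    set e := g * z * g⁻¹ with hedef
    have hπe : π e = π g * π z * (π g)⁻¹ := by rw [hedef, map_mul, map_mul, map_inv]
    rw [← hπe] at hq hne hy
    -- `e` fixes `a`
    have hea : e • a = a := by
      rw [← hc]
      have h1 : π z • (π e • a) = π e • a := by
        rw [smul_smul, hq.eq, mul_smul, hc z, ha]
      refine h.fix_unique _ _ ?_ ha
      rwa [hc] at h1
    -- powers of `(z e)^2` act trivially
    have hker : π ((z * e) * (z * e)) = 1 := by
      rw [map_mul, map_mul, hq.symm.mul_mul_mul_comm, ← map_mul, ← map_mul,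
        mul_self_of_orderOf h.invol, h.mul_self he, map_one, one_mul]
    by_cases hodd : Odd (orderOf (z * e))
    · -- then `z e ∈ ⟨(z e)^2⟩`
      exfalso
      apply hne
      obtain ⟨k, hk⟩ := hodd
      have h1 : z * e = ((z * e) * (z * e)) ^ (k + 1) := by
        rw [← pow_two, ← pow_mul, show 2 * (k + 1) = (2 * k + 1) + 1 by ring, pow_succ, ← hk,
          pow_orderOf_eq_one, one_mul]
      have h2 : π (z * e) = 1 := by rw [h1, map_pow, hker, one_pow]
      rw [map_mul] at h2
      have h3 : π z * π z = 1 := by rw [← map_mul, mul_self_of_orderOf h.invol, map_one]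
      calc π e = π z * π z * π e := by rw [h3, one_mul]
        _ = π z * (π z * π e) := by rw [mul_assoc]
        _ = π z := by rw [h2, mul_one]
    · obtain ⟨w, hw, hw2, hwz, hwe, hwc⟩ :=
        exists_central z e h.invol (h.orderOf_eq he) (orderOf_pos _) hodd
      have hzw : IsConj z (z * w) := by
        rcases hwc with h1 | h1
        · exact h1
        · exact he.trans h1
      have hw1 : w ≠ 1 := by
        intro h1; rw [h1, orderOf_one] at hw2; exact absurd hw2 (by norm_num)
      have hzne : z ≠ z * w := fun hh => hw1 (by simpa using hh.symm)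
      have hzcomm : Commute z (z * w) := (Commute.refl z).mul_right hwz.symm
      have hprod : z * (z * w) = w := by rw [← mul_assoc, mul_self_of_orderOf h.invol, one_mul]
      have hwa : w • a = a := by
        have : w • a = (z * (z * w)) • a := by rw [hprod]
        rw [this]
        exact h.comm' (IsConj.refl z) hzw hzcomm hzne (Commute.refl _) ha
      have hwuniq : ∀ b : Ω, w • b = b → b = a := by
        intro b hb
        refine mul_fix_unique h (IsConj.refl z) hzw hzcomm hzne ha ?_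
        rw [hprod]; exact hb
      -- `π w = π (z e)`
      have hpw : π w = π (z * e) := by
        obtain ⟨k, hk⟩ := Subgroup.mem_zpowers_iff.mp hw
        have h4 : π w = π (z * e) ^ k := by rw [← hk, map_zpow]
        have h5 : π (z * e) * π (z * e) = 1 := by rw [← map_mul]; exact hker
        rcases Int.even_or_odd' k with ⟨j, hj | hj⟩
        · exfalso
          have h6 : π w = 1 := by rw [h4, hj, zpow_mul, zpow_ofNat, pow_two, h5, one_zpow]
          obtain ⟨p, q, hpq⟩ := h.nontriv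
          apply hpq
          rw [hwuniq p (by rw [← hc, h6, one_smul]), hwuniq q (by rw [← hc, h6, one_smul])]
        · rw [h4, hj, zpow_add, zpow_mul, zpow_ofNat, pow_two, h5, one_zpow, one_mul, zpow_one]
      -- `c a` is the fixed point of `c w c⁻¹`, which acts as `w`
      have h7 : π (c * w * c⁻¹) = π w := by
        rw [map_mul, map_mul, map_inv, hpw, map_mul π z e, hy.eq]
        group
      refine hwuniq _ ?_
      rw [← hc w, ← h7, hc, mul_smul, mul_smul, inv_smul_smul, hwa]

/-- (A4): elements of `D` normalising a 2-subgroup with two fixed points centralise it -/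
theorem commute_of_normalizes [Finite G] (h : Setup G Ω z) (T : Subgroup G) (hT : IsPGroup 2 T)
    {a b : Ω} (hab : a ≠ b) (hTa : ∀ t ∈ T, t • a = a) (hTb : ∀ t ∈ T, t • b = b) {d : G}
    (hd : IsConj z d) (hdT : ∀ t ∈ T, d * t * d⁻¹ ∈ T) : ∀ t ∈ T, Commute d t := by
  intro t ht
  by_contra hcon
  -- `d * (t d t⁻¹) ∈ T`
  have he : IsConj z (t * d * t⁻¹) := conj_mem hd t
  have hmem : d * (t * d * t⁻¹) ∈ T := by
    have h1 : d * (t * d * t⁻¹) = (d * t * d⁻¹) * (d * d) * t⁻¹ := by group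
    rw [h1, h.mul_self hd, mul_one]
    exact T.mul_mem (hdT t ht) (T.inv_mem ht)
  have hne : d * (t * d * t⁻¹) ≠ 1 := by
    intro h1
    apply hcon
    have h2 : t * d * t⁻¹ = d := by
      have h3 := eq_inv_of_mul_eq_one_right h1
      rw [h3, h.inv_eq hd]
    show d * t = t * d
    calc d * t = t * d * t⁻¹ * t := by rw [h2]
      _ = t * d := by group
  have hodd : ¬ Odd (orderOf (d * (t * d * t⁻¹))) := by
    obtain ⟨k, hk⟩ := hT ⟨_, hmem⟩
    have hk' : (d * (t * d * t⁻¹)) ^ 2 ^ k = 1 := congrArg Subtype.val hk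
    have h1 := orderOf_dvd_of_pow_eq_one hk'
    obtain ⟨j, hj, hj'⟩ := (Nat.dvd_prime_pow Nat.prime_two).mp h1
    rw [hj']
    intro hodd
    have : j = 0 := by
      by_contra hj0
      exact (Nat.not_even_iff_odd.mpr hodd) ((Nat.even_pow.mpr ⟨even_two, hj0⟩))
    subst this
    rw [pow_zero, orderOf_eq_one_iff] at hj'
    exact hne hj'
  obtain ⟨w, hw, hw2, hwd, hwe, hwc⟩ :=
    exists_central d (t * d * t⁻¹) (h.orderOf_eq hd) (h.orderOf_eq he) (orderOf_pos _) hodd
  have hwT : w ∈ T := by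
    have : Subgroup.zpowers (d * (t * d * t⁻¹)) ≤ T := by rw [Subgroup.zpowers_le]; exact hmem
    exact this hw
  have hdw : IsConj z (d * w) := by
    rcases hwc with h1 | h1
    · exact hd.trans h1
    · exact he.trans h1
  have hw1 : w ≠ 1 := by
    intro h1; rw [h1, orderOf_one] at hw2; exact absurd hw2 (by norm_num)
  have hdne : d ≠ d * w := fun hh => hw1 (by simpa using hh.symm)
  have hdcomm : Commute d (d * w) := (Commute.refl d).mul_right hwd.symm
  have hprod : d * (d * w) = w := by rw [← mul_assoc, h.mul_self hd, one_mul]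
  obtain ⟨c, hc⟩ := h.ex hd
  have hu : ∀ p : Ω, w • p = p → p = c := by
    intro p hp
    refine mul_fix_unique h hd hdw hdcomm hdne hc ?_
    rw [hprod]; exact hp
  exact hab ((hu a (hTa w hwT)).trans (hu b (hTb w hwT)).symm)

/-- the points of `C(T)` are the fixed points of `T` -/
theorem mem_pts_centralizer [Finite G] (h : Setup G Ω z) (T : Subgroup G) (hT : IsPGroup 2 T)
    (c : Ω) : c ∈ pts Ω z (Subgroup.centralizer (T : Set G)) ↔ ∀ t ∈ T, t • c = c := by
  rw [mem_pts]
  constructor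
  · rintro ⟨d, hd, hdc⟩ t ht
    rw [Subgroup.mem_centralizer_iff] at hd
    exact h.fix_of_commute hdc.1 (show Commute t d from hd t ht) hdc.2
  · intro hc
    obtain ⟨d, hd, hdT⟩ := h.exists_commute_of_fix T hT hc
    refine ⟨d, ?_, hd⟩
    rw [Subgroup.mem_centralizer_iff]
    intro t ht
    exact (hdT t ht).symm.eq

/-- `D ∩ N(T) = D ∩ C(T)` for a 2-subgroup `T` with two fixed points -/
theorem mem_normalizer_iff_mem_centralizer [Finite G] (h : Setup G Ω z) (T : Subgroup G)
    (hT : IsPGroup 2 T) {a b : Ω} (hab : a ≠ b) (hTa : ∀ t ∈ T, t • a = a)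
    (hTb : ∀ t ∈ T, t • b = b) {d : G} (hd : IsConj z d) :
    d ∈ Subgroup.normalizer (T : Set G) ↔ d ∈ Subgroup.centralizer (T : Set G) := by
  constructor
  · intro hdN
    rw [Subgroup.mem_centralizer_iff]
    intro t ht
    refine (commute_of_normalizes h T hT hab hTa hTb hd ?_ t ht).symm.eq
    intro s hs
    exact (Subgroup.mem_normalizer_iff.mp hdN s).mp hs
  · intro hdC
    exact Subgroup.centralizer_le_normalizer _ hdC

/-- the points of `N(T)` are the fixed points of `T`, if there are at least two -/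
theorem mem_pts_normalizer [Finite G] (h : Setup G Ω z) (T : Subgroup G) (hT : IsPGroup 2 T)
    {a b : Ω} (hab : a ≠ b) (hTa : ∀ t ∈ T, t • a = a)
    (hTb : ∀ t ∈ T, t • b = b) (c : Ω) :
    c ∈ pts Ω z (Subgroup.normalizer (T : Set G)) ↔ ∀ t ∈ T, t • c = c := by
  rw [← mem_pts_centralizer h T hT, mem_pts, mem_pts]
  constructor
  · rintro ⟨d, hd, hdc⟩
    exact ⟨d, (mem_normalizer_iff_mem_centralizer h T hT hab hTa hTb hdc.1).mp hd, hdc⟩
  · rintro ⟨d, hd, hdc⟩
    exact ⟨d, (mem_normalizer_iff_mem_centralizer h T hT hab hTa hTb hdc.1).mpr hd, hdc⟩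

end Cfsg.Agent.AschCrit.Descent
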