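import Mathlib
import Cfsg.Agent.AschCrit.TwoTrans
import Cfsg.Agent.AschCrit.Descent

/-!
# Aschbacher's criterion: Claim N and its first consequences

`ClaimN Ω z` : an element `k` of odd order inverted by `v ∈ D`, fixing the point of `v` and a second
point, is trivial.

* `ClaimN.commute_of_mem_st3` : `G_{a,b,vb}` centralises `v ∈ D_a`
* `ClaimN.card_at_eq` : `|D_a| = |G_{ab} : G_{a,b,vb}|`
* `ClaimN.dag` : `Dag G Ω z ℓ` for every prime `ℓ` dividing `|D_a|`
* `ClaimN.two_trans` : `G` is 2-transitive if `|D_a| ≠ 1`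
* `ClaimN.pts`, `ClaimN.map` : Claim N passes to subgroups and to quotients acting on `Ω`
-/

set_option autoImplicit false

open Subgroup

namespace Cfsg.Agent.AschCrit

open Cfsg.Agent.TwoFusion.StronglyEmbeddedBasic Cfsg.Agent.AschCrit.Basic
open Cfsg.Agent.AschCrit.Basic.Setup Cfsg.Agent.AschCrit.Closed Cfsg.Agent.AschCrit.IsolatedSwap
open Cfsg.Agent.AschCrit.OddInv Cfsg.Agent.SignalizersComponents.RelSylow
open Cfsg.Agent.SignalizersComponents.PLayerAut Cfsg.Agent.AschCrit.Dagger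
open Cfsg.Agent.AschCrit.TwoTrans Cfsg.Agent.AschCrit.Descent

/-- **Claim N**: an element `k` of odd order inverted by `v ∈ D`, fixing the point of `v` and a second
point, is trivial. -/
def ClaimN {G : Type*} (Ω : Type*) [Group G] [MulAction G Ω] (z : G) : Prop :=
  ∀ v : G, IsConj z v → ∀ k : G, Odd (orderOf k) → v * k * v⁻¹ = k⁻¹ →
    ∀ x g : Ω, v • g = g → k • g = g → k • x = x → x ≠ g → k = 1

namespace ClaimN

variable {G Ω : Type*} [Group G] [MulAction G Ω] {z : G}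

/-- a `v`-invariant subgroup of odd order fixing `a` and `b ≠ a` centralises `v ∈ D_a` -/
theorem commute_of_inv [Finite G] (h : Setup G Ω z) (hN : ClaimN Ω z) {a b : Ω} (hab : a ≠ b)
    {v : G} (hv : v ∈ At z a) {N : Subgroup G} (ho : Odd (Nat.card N)) (hi : Inv v N)
    (hs : N ≤ stab2 G a b) {n : G} (hn : n ∈ N) : Commute n v := by
  have hvv := h.mul_self hv.1
  have hvi := h.inv_eq hv.1
  have hk : v * n * v⁻¹ * n⁻¹ ∈ N := mul_mem (hi n hn) (inv_mem hn)
  have h1 : v * n * v⁻¹ * n⁻¹ = 1 := by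
    refine hN v hv.1 _ ?_ ?_ b a hv.2 (hs hk).1 (hs hk).2 (Ne.symm hab)
    · refine ho.of_dvd_nat ?_
      exact (Subgroup.orderOf_mk _ hk) ▸ orderOf_dvd_natCard (⟨_, hk⟩ : N)
    · calc v * (v * n * v⁻¹ * n⁻¹) * v⁻¹ = (v * v) * n * v⁻¹ * n⁻¹ * v⁻¹ := by group
        _ = n * v⁻¹ * n⁻¹ * v⁻¹ := by rw [hvv, one_mul]
        _ = n * v * n⁻¹ * v⁻¹ := by rw [hvi]
        _ = (v * n * v⁻¹ * n⁻¹)⁻¹ := by group
  show n * v = v * n
  calc n * v = (v * n * v⁻¹ * n⁻¹)⁻¹ * (v * n) := by group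
    _ = v * n := by rw [h1, inv_one, one_mul]

/-- `G_{a,b,vb}` centralises `v ∈ D_a` -/
theorem commute_of_mem_st3 [Finite G] (h : Setup G Ω z) (hN : ClaimN Ω z) {a b : Ω} (hab : a ≠ b)
    {v : G} (hv : v ∈ At z a) {g : G} (hg : g ∈ st3 G v a b) : Commute g v := by
  obtain ⟨n, hn, hnv⟩ := exists_conj_relCore h hab hv hg
  have hvv := h.mul_self hv.1
  have h1 : Commute n v := by
    refine commute_of_inv h hN hab hv (odd_relCore (st3 G v a b)) ?_
      ((relCore_le 2 _).trans (st3_le v a b)) hn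
    exact Inv.of_mem_normalizer
      (normalizer_le_normalizer_relCore 2 _ ((inv_st3 h hv).mem_normalizer hvv))
  show g * v = v * g
  have h2 : n * v * n⁻¹ = v := by rw [h1.eq]; group
  calc g * v = (g * v * g⁻¹) * g := by group
    _ = v * g := by rw [← hnv, h2]

/-- elements fixing `a`, `b ≠ a` and `vb` commute with `v ∈ D_a` -/
theorem commute_of_fix3 [Finite G] (h : Setup G Ω z) (hN : ClaimN Ω z) {a b : Ω} (hab : a ≠ b)
    {v : G} (hv : v ∈ At z a) {g : G} (h1 : g • a = a) (h2 : g • b = b) (h3 : g • v • b = v • b) :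
    Commute g v :=
  commute_of_mem_st3 h hN hab hv (mem_st3.mpr ⟨⟨h1, h2⟩, h3⟩)

theorem delta_st3 [Finite G] (h : Setup G Ω z) (hN : ClaimN Ω z) {a b : Ω} (hab : a ≠ b)
    {v : G} (hv : v ∈ At z a) : delta v (st3 G v a b) = 1 := by
  rw [delta_eq_card_conj, Nat.card_eq_one_iff_unique]
  refine ⟨⟨?_⟩, ⟨⟨v, 1, one_mem _, by group⟩⟩⟩
  have key : ∀ w : {w : G // ∃ u ∈ st3 G v a b, u * v * u⁻¹ = w}, w.1 = v := by
    rintro ⟨w, u, hu, rfl⟩
    show u * v * u⁻¹ = v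
    rw [(commute_of_mem_st3 h hN hab hv hu).eq]; group
  intro w w'
  exact Subtype.ext ((key w).trans (key w').symm)

/-- `|D_a| = |G_{ab} : G_{a,b,vb}|` -/
theorem card_at_eq [Finite G] (h : Setup G Ω z) (hN : ClaimN Ω z) {a b : Ω} (hab : a ≠ b)
    {v : G} (hv : v ∈ At z a) :
    Nat.card (At z a) = (st3 G v a b).relIndex (stab2 G a b) := by
  rw [card_at_eq_mul h hab hv, delta_st3 h hN hab hv, one_mul]

theorem dag [Finite G] (h : Setup G Ω z) (hN : ClaimN Ω z) {l : ℕ} (hl : l.Prime) {a : Ω}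
    (hd : l ∣ Nat.card (At z a)) : Dag G Ω z l where
  prime := hl
  odd := (h.odd_card_at a).of_dvd_nat hd
  dvd := by
    intro c d hcd v hv
    rw [← card_at_eq h hN hcd hv, h.card_at_eq c a]
    exact hd

/-- `G` is 2-transitive if `|D_a| ≠ 1` -/
theorem two_trans [Finite G] (h : Setup G Ω z) (hN : ClaimN Ω z) {a₀ : Ω}
    (hm : Nat.card (At z a₀) ≠ 1) {a b c : Ω} (hab : a ≠ b) (hac : a ≠ c) :
    ∃ g : G, g • a = a ∧ g • b = c := by
  obtain ⟨l, hl, hd⟩ := Nat.exists_prime_and_dvd hm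
  exact Dag.two_trans h (dag h hN hl hd) hab hac

/-- any ordered pair of distinct points can be mapped to any other one if `|D_a| ≠ 1` -/
theorem two_trans' [Finite G] (h : Setup G Ω z) (hN : ClaimN Ω z) {a₀ : Ω}
    (hm : Nat.card (At z a₀) ≠ 1) {a b c d : Ω} (hab : a ≠ b) (hcd : c ≠ d) :
    ∃ g : G, g • a = c ∧ g • b = d := by
  obtain ⟨g, hg⟩ := h.trans a c
  have hne : c ≠ g • b := by
    intro hh
    rw [← hg] at hh
    exact hab (smul_left_cancel g hh)
  obtain ⟨k, hk, hkb⟩ := two_trans h hN hm hne hcd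
  exact ⟨k * g, by rw [mul_smul, hg, hk], by rw [mul_smul, hkb]⟩

/-- a prime dividing `|D_a|`: `|Ω| ≡ 2` -/
theorem card_modEq [Finite G] (h : Setup G Ω z) (hN : ClaimN Ω z) {l : ℕ} (hl : l.Prime) {a : Ω}
    (hd : l ∣ Nat.card (At z a)) : Nat.card Ω ≡ 2 [MOD l] :=
  Dag.card_modEq h (dag h hN hl hd)

/-- Claim N passes to subgroups -/
theorem pts (hN : ClaimN Ω z) {H : Subgroup G} {d : G} (hd : IsConj z d) (hdH : d ∈ H) :
    ClaimN (pts Ω z H) (⟨d, hdH⟩ : H) := by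
  intro v hv k hk hvk x g hg hkg hkx hne
  have hv' : IsConj z (v : G) := hd.trans (by
    obtain ⟨c, hc⟩ := isConj_iff.mp hv
    refine isConj_iff.mpr ⟨c, ?_⟩
    rw [← hc]; rfl)
  apply Subtype.ext
  refine hN v hv' k ?_ ?_ x g (congrArg Subtype.val hg) (congrArg Subtype.val hkg)
    (congrArg Subtype.val hkx) (fun hh => hne (Subtype.ext hh))
  · rwa [Subgroup.orderOf_coe]
  · exact congrArg Subtype.val hvk

/-- Claim N passes to the quotients acting on `Ω` -/
theorem map {Q : Type*} [Group Q] [MulAction Q Ω] [Finite G] (h : Setup G Ω z) (hN : ClaimN Ω z)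
    (π : G →* Q) (hπ : Function.Surjective π) (hc : ∀ (g : G) (a : Ω), π g • a = g • a) :
    ClaimN Ω (π z) := by
  intro v' hv' k' hk' hvk' x g hg hkg hkx hne
  obtain ⟨q, hq⟩ := isConj_iff.mp hv'
  obtain ⟨s, rfl⟩ := hπ q
  obtain ⟨k, rfl⟩ := hπ k'
  set v := s * z * s⁻¹ with hvdef
  have hv : IsConj z v := isConj_iff.mpr ⟨s, rfl⟩
  have hπv : π v = v' := by rw [← hq, hvdef, map_mul, map_mul, map_inv]
  subst hπv
  rw [hc] at hg hkg hkx
  have h3 : k • v • x = v • x := by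
    have h4 : (π k) • (π v)⁻¹ • x = (π v)⁻¹ • x := by
      have h5 : π k = (π v)⁻¹ * (π k)⁻¹ * π v := by
        calc π k = (π v)⁻¹ * (π v * π k * (π v)⁻¹) * π v := by group
          _ = _ := by rw [hvk']
      have h6 : (π k)⁻¹ • x = x := by
        rw [inv_smul_eq_iff, hc, hkx]
      calc (π k) • (π v)⁻¹ • x = ((π v)⁻¹ * (π k)⁻¹ * π v) • (π v)⁻¹ • x := by rw [← h5]
        _ = (π v)⁻¹ • (π k)⁻¹ • x := by rw [mul_smul, mul_smul, smul_inv_smul]
        _ = (π v)⁻¹ • x := by rw [h6]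
    rw [← map_inv, h.inv_eq hv, hc, hc] at h4
    exact h4
  have hcomm := commute_of_fix3 h hN (Ne.symm hne) (v := v) ⟨hv, hg⟩ hkg hkx h3
  have h5 : π k = (π k)⁻¹ := by
    rw [← hvk', (hcomm.map π).symm.eq]; group
  have h6 : (π k) ^ 2 = 1 := by
    rw [pow_two]
    nth_rewrite 2 [h5]
    exact mul_inv_cancel _
  have h7 := orderOf_dvd_of_pow_eq_one h6
  rcases (Nat.dvd_prime Nat.prime_two).mp h7 with h8 | h8
  · exact orderOf_eq_one_iff.mp h8
  · rw [h8] at hk'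
    exact absurd hk' (by decide)

end ClaimN

end Cfsg.Agent.AschCrit
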