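import Mathlib
import Cfsg.Agent.AschCrit.CoreCentral
import Cfsg.Agent.AschCrit.Descent

/-!
# Aschbacher's criterion: Claim N and (Iso) imply that the elements of `D_a` commute

* `commute_trans` : the parity argument: commuting is an equivalence relation on `D_a`
* `main` : if `G` is 2-transitive, Claim N holds and `C_X(v) = C_X(x)` for some `v ∈ D_a`,
  `x ∈ D ∩ I(a,b)`, `X = O(G_ab)`, and two different elements of `D_a` commute, then all elements of
  `D_a` commute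
-/

set_option autoImplicit false
set_option linter.unusedSectionVars false

open Subgroup

namespace Cfsg.Agent.AschCrit.Parity

open Cfsg.Agent.TwoFusion.StronglyEmbeddedBasic Cfsg.Agent.AschCrit.Basic
open Cfsg.Agent.AschCrit.Basic.Setup Cfsg.Agent.AschCrit.Closed Cfsg.Agent.AschCrit.IsolatedSwap
open Cfsg.Agent.AschCrit.OddInv Cfsg.Agent.SignalizersComponents.RelSylow
open Cfsg.Agent.SignalizersComponents.PLayerAut Cfsg.Agent.AschCrit.Dagger
open Cfsg.Agent.AschCrit.TwoTrans Cfsg.Agent.AschCrit.Descent Cfsg.Agent.AschCrit.CoreCentral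

theorem exists_fixed_of_odd {α : Type*} [Finite α] (f : α → α) (hf : ∀ x, f (f x) = x)
    (ho : Odd (Nat.card α)) : ∃ x, f x = x := by
  classical
  have : Fintype α := Fintype.ofFinite α
  let g : Function.End α := f
  have h3 : g ^ 2 ^ 1 = 1 := by
    rw [pow_one, pow_two]
    funext x
    exact hf x
  have h4 := Equiv.Perm.card_fixedPoints_modEq (α := α) (f := g) (p := 2) (n := 1) h3
  by_contra hne
  push Not at hne
  have h5 : Fintype.card (Function.fixedPoints f) = 0 := by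
    rw [Fintype.card_eq_zero_iff]
    exact ⟨fun y => hne _ y.2⟩
  have h6 : Fintype.card α ≡ 0 [MOD 2] := by
    rw [← h5]; exact h4
  rw [Nat.card_eq_fintype_card, Nat.odd_iff] at ho
  have : Fintype.card α % 2 = 0 := h6
  omega

variable {G Ω : Type*} [Group G] [MulAction G Ω] {z : G}

/-- products inside `D_a` -/
theorem mul_mem_At [Finite G] (h : Setup G Ω z) (hf : ∀ g : G, (∀ a : Ω, g • a = a) → g = 1)
    {a : Ω} {d e : G} (hd : d ∈ At z a) (he : e ∈ At z a) (hc : Commute d e) (hne : d ≠ e) :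
    d * e ∈ At z a :=
  ⟨mul_mem_class h hf hd.1 he.1 hc hne, by rw [mul_smul, he.2, hd.2]⟩

/-- the middle element: `w ∈ D ∩ I(a,b)` with `w u w⁻¹ = u'` -/
theorem exists_mid [Finite G] (h : Setup G Ω z) {a b : Ω} (hab : a ≠ b) {u u' : G}
    (hu : u ∈ Sw z a b) (hu' : u' ∈ Sw z a b) : ∃ w ∈ Sw z a b, w * u * w⁻¹ = u' := by
  have hodd : Odd (orderOf (u * u')) := by
    have h1 := mul_mem_oc h hab hu hu'
    have h2 := odd_oc (G := G) a b
    have h3 : orderOf (u * u') ∣ Nat.card (oc G a b) := by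
      have := orderOf_dvd_natCard (⟨u * u', h1⟩ : oc G a b)
      rwa [← Subgroup.orderOf_coe] at this
    exact Odd.of_dvd_nat h2 h3
  obtain ⟨j, hj, hcj, hju, -⟩ := exists_swap_conj u u' (h.orderOf_eq hu.1) (h.orderOf_eq hu'.1) hodd
  have hzj : IsConj z j := hu.1.trans hcj
  have key : ∀ g ∈ Subgroup.closure ({u, u'} : Set G),
      (g • a = a ∧ g • b = b) ∨ (g • a = b ∧ g • b = a) := by
    intro g hg
    induction hg using Subgroup.closure_induction with
    | mem x hx =>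
      rcases hx with rfl | hx
      · exact Or.inr ⟨hu.2, sw_smul_right h hu⟩
      · rw [Set.mem_singleton_iff] at hx
        subst hx
        exact Or.inr ⟨hu'.2, sw_smul_right h hu'⟩
    | one => exact Or.inl ⟨one_smul _ _, one_smul _ _⟩
    | mul x y _ _ hx hy =>
      rcases hx with ⟨h1, h2⟩ | ⟨h1, h2⟩ <;> rcases hy with ⟨h3, h4⟩ | ⟨h3, h4⟩
      · exact Or.inl ⟨by rw [mul_smul, h3, h1], by rw [mul_smul, h4, h2]⟩
      · exact Or.inr ⟨by rw [mul_smul, h3, h2], by rw [mul_smul, h4, h1]⟩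
      · exact Or.inr ⟨by rw [mul_smul, h3, h1], by rw [mul_smul, h4, h2]⟩
      · exact Or.inl ⟨by rw [mul_smul, h3, h2], by rw [mul_smul, h4, h1]⟩
    | inv x _ hx =>
      rcases hx with ⟨h1, h2⟩ | ⟨h1, h2⟩
      · exact Or.inl ⟨by rw [inv_smul_eq_iff, h1], by rw [inv_smul_eq_iff, h2]⟩
      · exact Or.inr ⟨by rw [inv_smul_eq_iff, h2], by rw [inv_smul_eq_iff, h1]⟩
  rcases key j hj with ⟨h1, h2⟩ | ⟨h1, h2⟩
  · exact absurd (h.uniq hzj h1 h2) hab
  · exact ⟨j, ⟨hzj, h1⟩, hju⟩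

section Par

variable [Finite G] (h : Setup G Ω z) (hf : ∀ g : G, (∀ a : Ω, g • a = a) → g = 1)
  {a b : Ω} (hab : a ≠ b) {s₀ v₀ : G} (hs₀ : s₀ ∈ At z a) (hv₀ : v₀ ∈ Sw z a b)
  (hC : ∀ x ∈ oc G a b, Commute x s₀ ↔ Commute x v₀)

/-- the relation: `u = x v₀ x⁻¹` corresponds to `s = x s₀ x⁻¹` -/
def Cor (a b : Ω) (s₀ v₀ u s : G) : Prop :=
  ∃ x ∈ oc G a b, x * v₀ * x⁻¹ = u ∧ x * s₀ * x⁻¹ = s

include h hab hv₀ in
theorem Cor.exists {u : G} (hu : u ∈ Sw z a b) : ∃ s, Cor a b s₀ v₀ u s := by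
  obtain ⟨n, hn, hnu⟩ := exists_conj_sw h hab hv₀ hu
  exact ⟨_, n, hn, hnu, rfl⟩

include h hab hs₀ in
theorem Cor.exists' {s : G} (hs : s ∈ At z a) : ∃ u, Cor a b s₀ v₀ u s := by
  obtain ⟨n, hn, hnu⟩ := exists_conj_at_oc h hab hs₀ hs
  exact ⟨_, n, hn, rfl, hnu⟩

include hv₀ in
theorem Cor.mem_left {u s : G} (hc : Cor a b s₀ v₀ u s) : u ∈ Sw z a b := by
  obtain ⟨x, hx, rfl, -⟩ := hc
  have := conj_mem_Sw x hv₀
  rwa [smul_left_of_mem_oc hx, smul_right_of_mem_oc hx] at this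

include hs₀ in
theorem Cor.mem_right {u s : G} (hc : Cor a b s₀ v₀ u s) : s ∈ At z a := by
  obtain ⟨x, hx, -, rfl⟩ := hc
  have := conj_mem_At x hs₀
  rwa [smul_left_of_mem_oc hx] at this

theorem conj_eq_iff_commute {x y g : G} : x * g * x⁻¹ = y * g * y⁻¹ ↔ Commute (y⁻¹ * x) g := by
  constructor
  · intro e
    show y⁻¹ * x * g = g * (y⁻¹ * x)
    have : x * g = y * g * y⁻¹ * x := by rw [← e]; group
    calc y⁻¹ * x * g = y⁻¹ * (x * g) := by group
      _ = y⁻¹ * (y * g * y⁻¹ * x) := by rw [this]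
      _ = g * (y⁻¹ * x) := by group
  · intro e
    have e' : y⁻¹ * x * g = g * (y⁻¹ * x) := e
    calc x * g * x⁻¹ = y * (y⁻¹ * x * g) * x⁻¹ := by group
      _ = y * (g * (y⁻¹ * x)) * x⁻¹ := by rw [e']
      _ = y * g * y⁻¹ := by group

include hC in
theorem Cor.right_unique {u s s' : G} (h1 : Cor a b s₀ v₀ u s) (h2 : Cor a b s₀ v₀ u s') :
    s = s' := by
  obtain ⟨x, hx, hxu, rfl⟩ := h1
  obtain ⟨y, hy, hyu, rfl⟩ := h2
  rw [conj_eq_iff_commute]
  rw [hC _ (mul_mem (inv_mem hy) hx), ← conj_eq_iff_commute, hxu, hyu]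

include hC in
theorem Cor.left_unique {u u' s : G} (h1 : Cor a b s₀ v₀ u s) (h2 : Cor a b s₀ v₀ u' s) :
    u = u' := by
  obtain ⟨x, hx, rfl, hxs⟩ := h1
  obtain ⟨y, hy, rfl, hys⟩ := h2
  rw [conj_eq_iff_commute]
  rw [← hC _ (mul_mem (inv_mem hy) hx), ← conj_eq_iff_commute, hxs, hys]

theorem Cor.conj {u s n : G} (hn : n ∈ oc G a b) (h1 : Cor a b s₀ v₀ u s) :
    Cor a b s₀ v₀ (n * u * n⁻¹) (n * s * n⁻¹) := by
  obtain ⟨x, hx, rfl, rfl⟩ := h1
  exact ⟨n * x, mul_mem hn hx, by group, by group⟩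

/-- `u`, `u'` are related if the corresponding elements of `D_a` commute and are different -/
def Rel (a b : Ω) (s₀ v₀ u u' : G) : Prop :=
  ∃ s s', Cor a b s₀ v₀ u s ∧ Cor a b s₀ v₀ u' s' ∧ Commute s s' ∧ s ≠ s'

theorem Rel.symm {u u' : G} (hr : Rel a b s₀ v₀ u u') : Rel a b s₀ v₀ u' u := by
  obtain ⟨s, s', h1, h2, h3, h4⟩ := hr
  exact ⟨s', s, h2, h1, h3.symm, h4.symm⟩

include hv₀ in
theorem Rel.left {u u' : G} (hr : Rel a b s₀ v₀ u u') : u ∈ Sw z a b := by
  obtain ⟨s, s', h1, h2, h3, h4⟩ := hr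
  exact h1.mem_left hv₀

include hv₀ in
theorem Rel.right {u u' : G} (hr : Rel a b s₀ v₀ u u') : u' ∈ Sw z a b := by
  obtain ⟨s, s', h1, h2, h3, h4⟩ := hr
  exact h2.mem_left hv₀

theorem Rel.conj_oc {u u' n : G} (hn : n ∈ oc G a b) (hr : Rel a b s₀ v₀ u u') :
    Rel a b s₀ v₀ (n * u * n⁻¹) (n * u' * n⁻¹) := by
  obtain ⟨s, s', h1, h2, h3, h4⟩ := hr
  refine ⟨_, _, h1.conj hn, h2.conj hn, ?_, ?_⟩
  · have := h3.map (MulAut.conj n)
    simpa using this
  · intro e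
    exact h4 (by simpa using e)

include h hab hv₀ in
/-- the relation is invariant under conjugation by every element of `D ∩ I(a,b)` -/
theorem Rel.conj_sw {u u' v : G} (hv : v ∈ Sw z a b) (hr : Rel a b s₀ v₀ u u') :
    Rel a b s₀ v₀ (v * u * v⁻¹) (v * u' * v⁻¹) := by
  have hu := hr.left (z := z) hv₀
  have hu' := hr.right (z := z) hv₀
  obtain ⟨w, hw, hwu⟩ := exists_mid h hab hu hu'
  have hww := h.mul_self hw.1
  have hwi := h.inv_eq hw.1
  have hwu' : w * u' * w⁻¹ = u := by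
    rw [← hwu, hwi]
    calc w * (w * u * w) * w = (w * w) * u * (w * w) := by group
      _ = u := by rw [hww]; group
  have hd : v * w ∈ oc G a b := mul_mem_oc h hab hv hw
  have h1 := hr.symm.conj_oc hd
  have e1 : v * w * u' * (v * w)⁻¹ = v * u * v⁻¹ := by
    rw [mul_inv_rev]
    calc v * w * u' * (w⁻¹ * v⁻¹) = v * (w * u' * w⁻¹) * v⁻¹ := by group
      _ = v * u * v⁻¹ := by rw [hwu']
  have e2 : v * w * u * (v * w)⁻¹ = v * u' * v⁻¹ := by
    rw [mul_inv_rev]
    calc v * w * u * (w⁻¹ * v⁻¹) = v * (w * u * w⁻¹) * v⁻¹ := by group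
      _ = v * u' * v⁻¹ := by rw [hwu]
  rw [e1, e2] at h1
  exact h1

/-- the common neighbours -/
def Nb (a b : Ω) (s₀ v₀ u u' : G) : Set G := {x | Rel a b s₀ v₀ x u ∧ Rel a b s₀ v₀ x u'}

include h hab hv₀ in
/-- if the number of common neighbours of `u` and `u'` is odd then `w` is one of them -/
theorem rel_of_odd {u u' w : G} (hw : w ∈ Sw z a b)
    (hwu : w * u * w⁻¹ = u') (ho : Odd (Nat.card (Nb a b s₀ v₀ u u'))) :
    Rel a b s₀ v₀ w u := by
  have hww := h.mul_self hw.1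
  have hwi := h.inv_eq hw.1
  have hwu' : w * u' * w⁻¹ = u := by
    rw [← hwu, hwi]
    calc w * (w * u * w) * w = (w * w) * u * (w * w) := by group
      _ = u := by rw [hww]; group
  have hmem : ∀ x ∈ Nb a b s₀ v₀ u u', w * x * w⁻¹ ∈ Nb a b s₀ v₀ u u' := by
    rintro x ⟨h1, h2⟩
    have h3 := h1.conj_sw h hab hv₀ hw
    have h4 := h2.conj_sw h hab hv₀ hw
    rw [hwu] at h3
    rw [hwu'] at h4
    exact ⟨h4, h3⟩
  obtain ⟨x, hx⟩ := exists_fixed_of_odd
    (fun x : Nb a b s₀ v₀ u u' => (⟨w * x.1 * w⁻¹, hmem x.1 x.2⟩ : Nb a b s₀ v₀ u u'))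
    (fun x => by
      apply Subtype.ext
      show w * (w * x.1 * w⁻¹) * w⁻¹ = x.1
      rw [hwi]
      calc w * (w * x.1 * w) * w = (w * w) * x.1 * (w * w) := by group
        _ = x.1 := by rw [hww]; group) ho
  have hxw : w * x.1 * w⁻¹ = x.1 := congrArg Subtype.val hx
  have hcx : Commute w x.1 := by
    show w * x.1 = x.1 * w
    calc w * x.1 = w * x.1 * w⁻¹ * w := by group
      _ = x.1 * w := by rw [hxw]
  have hxs : x.1 ∈ Sw z a b := x.2.1.left hv₀
  have := eq_of_commute_swap h hab hw hxs hcx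
  rw [this]
  exact x.2.1

include hC hs₀ hv₀ in
theorem mem_Nb_iff {u u' s s' x t : G} (h1 : Cor a b s₀ v₀ u s) (h2 : Cor a b s₀ v₀ u' s')
    (h3 : Cor a b s₀ v₀ x t) :
    x ∈ Nb a b s₀ v₀ u u' ↔ (Commute t s ∧ t ≠ s) ∧ (Commute t s' ∧ t ≠ s') := by
  constructor
  · rintro ⟨⟨t1, s1, c1, c2, c3, c4⟩, ⟨t2, s2, c5, c6, c7, c8⟩⟩
    obtain rfl := c1.right_unique hC h3
    obtain rfl := c2.right_unique hC h1
    obtain rfl := c5.right_unique hC h3
    obtain rfl := c6.right_unique hC h2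
    exact ⟨⟨c3, c4⟩, ⟨c7, c8⟩⟩
  · rintro ⟨⟨c3, c4⟩, ⟨c7, c8⟩⟩
    exact ⟨⟨t, s, h3, h1, c3, c4⟩, ⟨t, s', h3, h2, c7, c8⟩⟩

include h hab hC hs₀ hv₀ in
theorem card_Nb {u u' s s' : G} (h1 : Cor a b s₀ v₀ u s) (h2 : Cor a b s₀ v₀ u' s') :
    Nat.card (Nb a b s₀ v₀ u u') =
      ({t | t ∈ At z a ∧ Commute t s ∧ Commute t s'} \ {s, s'} : Set G).ncard := by
  have hex : ∀ x : Nb a b s₀ v₀ u u', ∃ t, Cor a b s₀ v₀ x.1 t := fun x =>
    Cor.exists h hab hv₀ (x.2.1.left hv₀)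
  choose f hf using hex
  have hmem : ∀ x, f x ∈ ({t | t ∈ At z a ∧ Commute t s ∧ Commute t s'} \ {s, s'} : Set G) := by
    intro x
    have h3 := (mem_Nb_iff hs₀ hv₀ hC h1 h2 (hf x)).mp x.2
    refine ⟨⟨(hf x).mem_right hs₀, h3.1.1, h3.2.1⟩, ?_⟩
    rintro (h4 | h4)
    · exact h3.1.2 h4
    · exact h3.2.2 h4
  rw [← Nat.card_coe_set_eq]
  refine Nat.card_eq_of_bijective
    (f := fun x => (⟨f x, hmem x⟩ : ↥({t | t ∈ At z a ∧ Commute t s ∧ Commute t s'} \ {s, s'} : Set G)))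
    ⟨?_, ?_⟩
  · intro x y hxy
    have e : f x = f y := congrArg Subtype.val hxy
    have h3 := hf x
    rw [e] at h3
    exact Subtype.ext (h3.left_unique hC (hf y))
  · rintro ⟨t, ⟨ht, ht1, ht2⟩, ht3⟩
    obtain ⟨x, hx⟩ := Cor.exists' (s₀ := s₀) (v₀ := v₀) h hab hs₀ ht
    have hx' : x ∈ Nb a b s₀ v₀ u u' := (mem_Nb_iff hs₀ hv₀ hC h1 h2 hx).mpr
      ⟨⟨ht1, fun e => ht3 (Or.inl e)⟩, ⟨ht2, fun e => ht3 (Or.inr e)⟩⟩
    exact ⟨⟨x, hx'⟩, Subtype.ext ((hf ⟨x, hx'⟩).right_unique hC hx)⟩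

end Par

theorem odd_of_fixed {α : Type*} [Finite α] (f : α → α) (hf : ∀ x, f (f x) = x)
    (ho : Odd (Nat.card {x // f x = x})) : Odd (Nat.card α) := by
  classical
  have : Fintype α := Fintype.ofFinite α
  let g : Function.End α := f
  have h3 : g ^ 2 ^ 1 = 1 := by
    rw [pow_one, pow_two]
    funext x
    exact hf x
  have h4 := Equiv.Perm.card_fixedPoints_modEq (α := α) (f := g) (p := 2) (n := 1) h3
  have h5 : Fintype.card (Function.fixedPoints f) = Nat.card {x // f x = x} := by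
    rw [Nat.card_eq_fintype_card]
    exact Fintype.card_congr (Equiv.refl _)
  have h6 : Fintype.card α ≡ Nat.card {x // f x = x} [MOD 2] := by
    rw [← h5]; exact h4
  rw [Nat.odd_iff] at ho ⊢
  rw [Nat.card_eq_fintype_card]
  have h7 : Fintype.card α % 2 = Nat.card {x // f x = x} % 2 := h6
  omega

/-- the number of elements of `D_a` centralising a set `S` is `0` or odd -/
theorem odd_centralizing [Finite G] (h : Setup G Ω z) (hf : ∀ g : G, (∀ a : Ω, g • a = a) → g = 1)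
    {a : Ω} (S : Set G) {d : G} (hd : d ∈ At z a) (hdS : ∀ s ∈ S, Commute d s) :
    Odd ({t | t ∈ At z a ∧ ∀ s ∈ S, Commute t s} : Set G).ncard := by
  set T : Set G := {t | t ∈ At z a ∧ ∀ s ∈ S, Commute t s} with hT
  have hdd := h.mul_self hd.1
  have hdi := h.inv_eq hd.1
  have hcl : ∀ t ∈ T, d * t * d⁻¹ ∈ T := by
    rintro t ⟨h1, h2⟩
    refine ⟨?_, fun s hs => ?_⟩
    · have := conj_mem_At d h1
      rwa [hd.2] at this
    · exact ((hdS s hs).mul_left (h2 s hs)).mul_left (hdS s hs).inv_left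
  rw [← Nat.card_coe_set_eq]
  refine odd_of_fixed (fun t : T => (⟨d * t.1 * d⁻¹, hcl t.1 t.2⟩ : T)) (fun t => ?_) ?_
  · apply Subtype.ext
    show d * (d * t.1 * d⁻¹) * d⁻¹ = t.1
    rw [hdi]
    calc d * (d * t.1 * d) * d = (d * d) * t.1 * (d * d) := by group
      _ = t.1 := by rw [hdd]; group
  · classical
    have hfix : ∀ t : {x : T // (⟨d * x.1 * d⁻¹, hcl x.1 x.2⟩ : T) = x}, Commute d t.1.1 := by
      intro t
      have e : d * t.1.1 * d⁻¹ = t.1.1 := congrArg Subtype.val t.2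
      show d * t.1.1 = t.1.1 * d
      calc d * t.1.1 = d * t.1.1 * d⁻¹ * d := by group
        _ = t.1.1 * d := by rw [e]
    have hmul : ∀ t : {x : T // (⟨d * x.1 * d⁻¹, hcl x.1 x.2⟩ : T) = x}, t.1.1 ≠ d →
        d * t.1.1 ∈ T := fun t ht => ⟨mul_mem_At h hf hd t.1.2.1 (hfix t) (Ne.symm ht),
          fun s hs => (hdS s hs).mul_left (t.1.2.2 s hs)⟩
    refine odd_card_of_involutive
      (fun t => if ht : t.1.1 = d then t else ⟨⟨d * t.1.1, hmul t ht⟩, by
        apply Subtype.ext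
        have e : d * t.1.1 * d⁻¹ = t.1.1 := by rw [(hfix t).eq]; group
        show d * (d * t.1.1) * d⁻¹ = d * t.1.1
        calc d * (d * t.1.1) * d⁻¹ = d * (d * t.1.1 * d⁻¹) := by group
          _ = d * t.1.1 := by rw [e]⟩) ?_ ⟨⟨d, hd, hdS⟩, Subtype.ext (by show d * d * d⁻¹ = d; group)⟩ ?_ ?_
    · intro t
      by_cases ht : t.1.1 = d
      · simp [ht]
      · have ht' : ¬ d * t.1.1 = d := by
          intro e
          have e1 : t.1.1 = 1 := by simpa using e
          have e2 := h.orderOf_eq t.1.2.1.1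
          rw [e1, orderOf_one] at e2
          omega
        simp only [ht, dite_false, ht']
        apply Subtype.ext
        apply Subtype.ext
        show d * (d * t.1.1) = t.1.1
        rw [← mul_assoc, hdd, one_mul]
    · simp
    · intro t ht
      by_cases ht' : t.1.1 = d
      · exact Subtype.ext (Subtype.ext ht')
      · simp only [ht', dite_false] at ht
        have e1 : d * t.1.1 = t.1.1 := congrArg (fun y => y.1.1) ht
        have e2 : d = 1 := by simpa using e1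
        have e3 := h.orderOf_eq hd.1
        rw [e2, orderOf_one] at e3
        omega

section Par2

variable [Finite G] (h : Setup G Ω z) (hf : ∀ g : G, (∀ a : Ω, g • a = a) → g = 1)
  {a b : Ω} (hab : a ≠ b) {s₀ v₀ : G} (hs₀ : s₀ ∈ At z a) (hv₀ : v₀ ∈ Sw z a b)
  (hC : ∀ x ∈ oc G a b, Commute x s₀ ↔ Commute x v₀)

include h hf hab hC hs₀ hv₀ in
theorem odd_Nb_of_rel {u u' : G} (hr : Rel a b s₀ v₀ u u') :
    Odd (Nat.card (Nb a b s₀ v₀ u u')) := by
  obtain ⟨s, s', h1, h2, h3, h4⟩ := hr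
  rw [card_Nb h hab hs₀ hv₀ hC h1 h2]
  have hs := h1.mem_right hs₀
  have hs' := h2.mem_right hs₀
  have hodd := odd_centralizing h hf ({s, s'} : Set G) hs (by
    rintro x (rfl | hx)
    · exact Commute.refl _
    · rw [Set.mem_singleton_iff] at hx
      subst hx
      exact h3)
  have e1 : ({t | t ∈ At z a ∧ ∀ x ∈ ({s, s'} : Set G), Commute t x} : Set G) =
      {t | t ∈ At z a ∧ Commute t s ∧ Commute t s'} := by
    ext t
    simp
  rw [e1] at hodd
  have hsub : ({s, s'} : Set G) ⊆ {t | t ∈ At z a ∧ Commute t s ∧ Commute t s'} := by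
    rintro x (rfl | hx)
    · exact ⟨hs, Commute.refl _, h3⟩
    · rw [Set.mem_singleton_iff] at hx
      subst hx
      exact ⟨hs', h3.symm, Commute.refl _⟩
  rw [Set.ncard_sdiff hsub, Set.ncard_pair h4]
  have hle := Set.ncard_le_ncard hsub (Set.toFinite _)
  rw [Set.ncard_pair h4] at hle
  obtain ⟨k, hk⟩ := hodd
  exact ⟨k - 1, by omega⟩

include h hf hab hC hs₀ hv₀ in
theorem odd_Nb_of_not_commute {u u' s s' t : G} (h1 : Cor a b s₀ v₀ u s)
    (h2 : Cor a b s₀ v₀ u' s') (hnc : ¬ Commute s s') (ht : t ∈ At z a) (hts : Commute t s)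
    (hts' : Commute t s') : Odd (Nat.card (Nb a b s₀ v₀ u u')) := by
  rw [card_Nb h hab hs₀ hv₀ hC h1 h2]
  have hodd := odd_centralizing h hf ({s, s'} : Set G) ht (by
    rintro x (rfl | hx)
    · exact hts
    · rw [Set.mem_singleton_iff] at hx
      subst hx
      exact hts')
  have e1 : ({t | t ∈ At z a ∧ ∀ x ∈ ({s, s'} : Set G), Commute t x} : Set G) =
      {t | t ∈ At z a ∧ Commute t s ∧ Commute t s'} \ {s, s'} := by
    ext t
    constructor
    · rintro ⟨c1, c2⟩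
      refine ⟨⟨c1, c2 s (by simp), c2 s' (by simp)⟩, ?_⟩
      rintro (rfl | hx)
      · exact hnc (c2 s' (by simp))
      · rw [Set.mem_singleton_iff] at hx
        subst hx
        exact hnc (c2 s (by simp)).symm
    · rintro ⟨⟨c1, c2, c3⟩, -⟩
      refine ⟨c1, ?_⟩
      rintro x (rfl | hx)
      · exact c2
      · rw [Set.mem_singleton_iff] at hx
        subst hx
        exact c3
  rw [← e1]
  exact hodd

include h hf hab hC hs₀ hv₀ in
/-- **parity**: commuting is an equivalence relation on `D_a` -/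
theorem commute_trans {s t s' : G} (hs : s ∈ At z a) (ht : t ∈ At z a) (hs' : s' ∈ At z a)
    (h1 : Commute s t) (h2 : Commute t s') : Commute s s' := by
  by_contra hnc
  obtain ⟨u, hu⟩ := Cor.exists' (s₀ := s₀) (v₀ := v₀) h hab hs₀ hs
  obtain ⟨u', hu'⟩ := Cor.exists' (s₀ := s₀) (v₀ := v₀) h hab hs₀ hs'
  have hodd := odd_Nb_of_not_commute h hf hab hs₀ hv₀ hC hu hu' hnc ht h1.symm h2
  obtain ⟨w, hw, hwu⟩ := exists_mid h hab (hu.mem_left hv₀) (hu'.mem_left hv₀)
  have hrw := rel_of_odd h hab hv₀ hw hwu hodd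
  -- the map `u'' ↦ w(u,u'')` on the neighbours of `u`
  have hex : ∀ x : {x : G // Rel a b s₀ v₀ u x}, ∃ y : {x : G // Rel a b s₀ v₀ u x},
      y.1 * u * y.1⁻¹ = x.1 := by
    intro x
    obtain ⟨y, hy, hyu⟩ := exists_mid h hab (x.2.left hv₀) (x.2.right hv₀)
    have := rel_of_odd h hab hv₀ hy hyu (odd_Nb_of_rel h hf hab hs₀ hv₀ hC x.2)
    exact ⟨⟨y, this.symm⟩, hyu⟩
  choose f hfx using hex
  have hinj : Function.Injective f := by
    intro x y e
    apply Subtype.ext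
    rw [← hfx x, ← hfx y, e]
  have hsurj : Function.Surjective f := Finite.surjective_of_injective hinj
  obtain ⟨x, hx⟩ := hsurj ⟨w, hrw.symm⟩
  have hxu : x.1 = u' := by
    rw [← hfx x, hx]; exact hwu
  obtain ⟨s1, s2, c1, c2, c3, -⟩ := x.2
  rw [hxu] at c2
  obtain rfl := c1.right_unique hC hu
  obtain rfl := c2.right_unique hC hu'
  exact hnc c3

end Par2

section Classes

/-- commuting is an equivalence relation on `D_a` -/
def TransProp (z : G) (a : Ω) : Prop :=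
  ∀ s ∈ At z a, ∀ t ∈ At z a, ∀ s' ∈ At z a, Commute s t → Commute t s' → Commute s s'

/-- the equivalence relation -/
def cSetoid {a : Ω} (hT : TransProp z a) : Setoid (At z a) where
  r x y := Commute x.1 y.1
  iseqv := ⟨fun x => Commute.refl x.1, fun h => h.symm,
    fun {x y w} h1 h2 => hT x.1 x.2 y.1 y.2 w.1 w.2 h1 h2⟩

/-- the classes -/
def Cls {a : Ω} (hT : TransProp z a) : Type _ := Quotient (cSetoid hT)

/-- the class of an element of `D_a` -/
def cl {a : Ω} (hT : TransProp z a) (d : At z a) : Cls hT := Quotient.mk (cSetoid hT) d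

theorem cl_eq_iff {a : Ω} (hT : TransProp z a) (d e : At z a) :
    cl hT d = cl hT e ↔ Commute d.1 e.1 := Quotient.eq (r := cSetoid hT)

theorem cl_surj {a : Ω} (hT : TransProp z a) (c : Cls hT) : ∃ d, cl hT d = c :=
  Quotient.exists_rep c

/-- conjugation on `D_a` -/
def conjAt {a : Ω} (g : MulAction.stabilizer G a) (d : At z a) : At z a :=
  ⟨g.1 * d.1 * g.1⁻¹, by
    have := conj_mem_At g.1 d.2
    rwa [show g.1 • a = a from g.2] at this⟩

instance instActCls {a : Ω} (hT : TransProp z a) : MulAction (MulAction.stabilizer G a) (Cls hT) where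
  smul g := Quotient.map (sa := cSetoid hT) (sb := cSetoid hT) (conjAt g) (fun x y hxy => by
    have h1 : Commute x.1 y.1 := hxy
    have h2 := h1.map (MulAut.conj g.1)
    show Commute (g.1 * x.1 * g.1⁻¹) (g.1 * y.1 * g.1⁻¹)
    rwa [MulAut.conj_apply, MulAut.conj_apply] at h2)
  one_smul c := by
    obtain ⟨d, rfl⟩ := cl_surj hT c
    refine congrArg (cl hT) (Subtype.ext ?_)
    show (1 : G) * d.1 * 1⁻¹ = d.1
    group
  mul_smul g g' c := by
    obtain ⟨d, rfl⟩ := cl_surj hT c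
    refine congrArg (cl hT) (Subtype.ext ?_)
    show (g.1 * g'.1) * d.1 * (g.1 * g'.1)⁻¹ = g.1 * (g'.1 * d.1 * g'.1⁻¹) * g.1⁻¹
    group

theorem smul_cl {a : Ω} (hT : TransProp z a) (g : MulAction.stabilizer G a) (d : At z a) :
    g • cl hT d = cl hT (conjAt g d) := rfl

theorem isConj_stab_iff [Finite G] (h : Setup G Ω z) {a : Ω} {z' : MulAction.stabilizer G a}
    (hz' : (z' : G) ∈ At z a) (y : MulAction.stabilizer G a) :
    IsConj z' y ↔ (y : G) ∈ At z a := by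
  constructor
  · rintro hc
    obtain ⟨g, hg⟩ := isConj_iff.mp hc
    refine ⟨?_, y.2⟩
    refine hz'.1.trans ?_
    exact isConj_iff.mpr ⟨g.1, congrArg Subtype.val hg⟩
  · intro hy
    obtain ⟨g, hga, hg⟩ := h.exists_conj_at hz' hy
    exact isConj_iff.mpr ⟨⟨g, hga⟩, Subtype.ext hg⟩

/-- an element of `D_a` which normalises a class lies in the class -/
theorem cl_eq_of_smul [Finite G] (h : Setup G Ω z) (hf : ∀ g : G, (∀ a : Ω, g • a = a) → g = 1)
    {a : Ω} (hT : TransProp z a) (d e : At z a)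
    (hde : Commute e.1 (d.1 * e.1 * d.1⁻¹)) : cl hT e = cl hT d := by
  rw [cl_eq_iff]
  have hdd := h.mul_self d.2.1
  have hdi := h.inv_eq d.2.1
  have hodd := odd_centralizing h hf ({e.1} : Set G) e.2 (by simp)
  rw [← Nat.card_coe_set_eq] at hodd
  have hmem : ∀ x ∈ ({t | t ∈ At z a ∧ ∀ s ∈ ({e.1} : Set G), Commute t s} : Set G),
      d.1 * x * d.1⁻¹ ∈ ({t | t ∈ At z a ∧ ∀ s ∈ ({e.1} : Set G), Commute t s} : Set G) := by
    rintro x ⟨h1, h2⟩
    have h3 : Commute x e.1 := h2 e.1 rfl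
    have h4 : d.1 * x * d.1⁻¹ ∈ At z a := by
      have := conj_mem_At d.1 h1
      rwa [d.2.2] at this
    have h5 : d.1 * e.1 * d.1⁻¹ ∈ At z a := by
      have := conj_mem_At d.1 e.2
      rwa [d.2.2] at this
    refine ⟨h4, fun s hs => ?_⟩
    rw [Set.mem_singleton_iff] at hs
    subst hs
    have h6 : Commute (d.1 * x * d.1⁻¹) (d.1 * e.1 * d.1⁻¹) := by
      have := h3.map (MulAut.conj d.1)
      simpa using this
    exact hT _ h4 _ h5 _ e.2 h6 hde.symm
  obtain ⟨x, hx⟩ := exists_fixed_of_odd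
    (fun x : ({t | t ∈ At z a ∧ ∀ s ∈ ({e.1} : Set G), Commute t s} : Set G) =>
      (⟨d.1 * x.1 * d.1⁻¹, hmem x.1 x.2⟩ :
        ({t | t ∈ At z a ∧ ∀ s ∈ ({e.1} : Set G), Commute t s} : Set G)))
    (fun x => by
      apply Subtype.ext
      show d.1 * (d.1 * x.1 * d.1⁻¹) * d.1⁻¹ = x.1
      rw [hdi]
      calc d.1 * (d.1 * x.1 * d.1) * d.1 = (d.1 * d.1) * x.1 * (d.1 * d.1) := by group
        _ = x.1 := by rw [hdd]; group) hodd
  have hxd : d.1 * x.1 * d.1⁻¹ = x.1 := congrArg Subtype.val hx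
  have hcd : Commute x.1 d.1 := by
    show x.1 * d.1 = d.1 * x.1
    calc x.1 * d.1 = d.1 * x.1 * d.1⁻¹ * d.1 := by rw [hxd]
      _ = d.1 * x.1 := by group
  exact hT _ e.2 _ x.2.1 _ d.2 (x.2.2 e.1 rfl).symm hcd

/-- `G_a` acts on the classes as in the set-up -/
theorem setup_cls [Finite G] (h : Setup G Ω z) (hf : ∀ g : G, (∀ a : Ω, g • a = a) → g = 1)
    {a : Ω} (hT : TransProp z a) (d : At z a) (hne : ∃ e : At z a, ¬ Commute d.1 e.1) :
    Setup (MulAction.stabilizer G a) (Cls hT) (⟨d.1, d.2.2⟩ : MulAction.stabilizer G a) where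
  invol := by
    rw [← Subgroup.orderOf_coe]
    exact h.orderOf_eq d.2.1
  central := by
    refine exists_central_sylow ?_ ?_
    · rw [← Subgroup.orderOf_coe]
      exact h.orderOf_eq d.2.1
    · have h1 := h.odd_card_at a
      have h2 : Nat.card {y : MulAction.stabilizer G a //
          IsConj (⟨d.1, d.2.2⟩ : MulAction.stabilizer G a) y} = Nat.card (At z a) := by
        refine Nat.card_congr ⟨fun y => ⟨y.1.1, (isConj_stab_iff h d.2 y.1).mp y.2⟩,
          fun y => ⟨⟨y.1, y.2.2⟩, (isConj_stab_iff h d.2 _).mpr y.2⟩, fun y => rfl, fun y => rfl⟩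
      rw [h2]
      exact h1
  nontriv := by
    obtain ⟨e, he⟩ := hne
    exact ⟨cl hT d, cl hT e, fun e1 => he ((cl_eq_iff hT d e).mp e1)⟩
  trans := by
    intro c c'
    obtain ⟨x, rfl⟩ := cl_surj hT c
    obtain ⟨y, rfl⟩ := cl_surj hT c'
    obtain ⟨g, hga, hg⟩ := h.exists_conj_at x.2 y.2
    exact ⟨⟨g, hga⟩, congrArg (cl hT) (Subtype.ext hg)⟩
  exists_fix := by
    refine ⟨cl hT d, congrArg (cl hT) (Subtype.ext ?_)⟩
    show d.1 * d.1 * d.1⁻¹ = d.1
    group
  fix_unique := by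
    have key : ∀ c : Cls hT, (⟨d.1, d.2.2⟩ : MulAction.stabilizer G a) • c = c → c = cl hT d := by
      intro c hc
      obtain ⟨x, rfl⟩ := cl_surj hT c
      rw [smul_cl, cl_eq_iff] at hc
      exact cl_eq_of_smul h hf hT d x (Commute.symm hc)
    intro c c' hc hc'
    rw [key c hc, key c' hc']
  comm := by
    intro g hg hne' c hc x hx
    have hg1 : (g : G) • a = a := g.2
    have hdg : Commute d.1 (g.1 * d.1 * g.1⁻¹) := by
      have := congrArg Subtype.val hg.eq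
      exact this
    have hne1 : g.1 * d.1 * g.1⁻¹ ≠ d.1 := fun e => hne' (Subtype.ext e)
    have hgd : g.1 * d.1 * g.1⁻¹ ∈ At z a := by
      have := conj_mem_At g.1 d.2
      rwa [hg1] at this
    have hp : d.1 * (g.1 * d.1 * g.1⁻¹) ∈ At z a := mul_mem_At h hf d.2 hgd hdg hne1.symm
    have hcp : Commute c.1 (d.1 * (g.1 * d.1 * g.1⁻¹)) := by
      have := congrArg Subtype.val hc.eq
      exact this
    have hx' : x = cl hT d := by
      obtain ⟨y, rfl⟩ := cl_surj hT x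
      rw [smul_cl, cl_eq_iff] at hx
      exact cl_eq_of_smul h hf hT d y (Commute.symm hx)
    subst hx'
    rw [smul_cl, cl_eq_iff]
    show Commute (c.1 * d.1 * c.1⁻¹) d.1
    have h1 : c.1 * d.1 * c.1⁻¹ ∈ At z a := by
      have := conj_mem_At c.1 d.2
      rwa [show c.1 • a = a from c.2] at this
    have h2 : Commute d.1 (d.1 * (g.1 * d.1 * g.1⁻¹)) := (Commute.refl _).mul_right hdg
    have h3 : Commute (c.1 * d.1 * c.1⁻¹) (d.1 * (g.1 * d.1 * g.1⁻¹)) := by
      have h4 := h2.map (MulAut.conj c.1)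
      rw [MulAut.conj_apply, MulAut.conj_apply] at h4
      have h5 : c.1 * (d.1 * (g.1 * d.1 * g.1⁻¹)) * c.1⁻¹ = d.1 * (g.1 * d.1 * g.1⁻¹) := by
        rw [hcp.eq]; group
      rwa [h5] at h4
    exact hT _ h1 _ hp _ d.2 h3 h2.symm

end Classes

section Main

variable [Finite G] (h : Setup G Ω z) (hf : ∀ g : G, (∀ a : Ω, g • a = a) → g = 1)
  (hCN : ∀ v, IsConj z v → ∀ k : G, Odd (orderOf k) → v * k * v⁻¹ = k⁻¹ →
    ∀ x g : Ω, v • g = g → k • g = g → k • x = x → x ≠ g → k = 1)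

include h hCN in
/-- Claim N: `G_{a,b,vb}` centralises `v ∈ D_a` -/
theorem commute_of_st3 {a b : Ω} (hab : a ≠ b) {v : G} (hv : v ∈ At z a) {y : G}
    (hy : y ∈ st3 G v a b) : Commute y v := by
  have hvv := h.mul_self hv.1
  have hvi := h.inv_eq hv.1
  obtain ⟨n, hn, hnv⟩ := exists_conj_relCore h hab hv hy
  have hiv : Inv v (relCore 2 (st3 G v a b)) := by
    refine Inv.of_mem_normalizer (normalizer_le_normalizer_relCore 2 _ ?_)
    exact (inv_st3 h hv).mem_normalizer hvv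
  have hc : v * n * v⁻¹ * n⁻¹ ∈ relCore 2 (st3 G v a b) := mul_mem (hiv n hn) (inv_mem hn)
  have hcs := relCore_le 2 _ hc
  have hodd : Odd (orderOf (v * n * v⁻¹ * n⁻¹)) := by
    have h3 : orderOf (v * n * v⁻¹ * n⁻¹) ∣ Nat.card (relCore 2 (st3 G v a b)) := by
      have := orderOf_dvd_natCard (⟨_, hc⟩ : relCore 2 (st3 G v a b))
      rwa [← Subgroup.orderOf_coe] at this
    exact Odd.of_dvd_nat (odd_relCore _) h3
  have hinv : v * (v * n * v⁻¹ * n⁻¹) * v⁻¹ = (v * n * v⁻¹ * n⁻¹)⁻¹ := by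
    rw [hvi]
    calc v * (v * n * v * n⁻¹) * v = (v * v) * (n * v * n⁻¹ * v) := by group
      _ = n * v⁻¹ * n⁻¹ * v⁻¹ := by rw [hvv, one_mul, hvi]
      _ = (v * n * v * n⁻¹)⁻¹ := by group
  have h1 := hCN v hv.1 _ hodd hinv b a hv.2 (mem_st3.mp hcs).1.1 (mem_st3.mp hcs).1.2 hab.symm
  have h2 : v * n = n * v := by
    have : v * n * v⁻¹ = n := by rw [← mul_inv_eq_one]; exact h1
    calc v * n = v * n * v⁻¹ * v := by group
      _ = n * v := by rw [this]
  show y * v = v * y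
  have h3 : n * v * n⁻¹ = v := by rw [← h2]; group
  rw [h3] at hnv
  calc y * v = y * v * y⁻¹ * y := by group
    _ = v * y := by rw [← hnv]

include h hCN in
theorem dag_of_dvd_card (htt : ∀ a b c : Ω, a ≠ b → a ≠ c → ∃ g : G, g • a = a ∧ g • b = c)
    {a : Ω} {r : ℕ} (hr' : r.Prime) (hr : Odd r) (hdvd : r ∣ Nat.card (At z a)) :
    Dag G Ω z r := by
  obtain ⟨v, hv⟩ := h.nonempty_At a
  obtain ⟨b, hab⟩ : ∃ b : Ω, a ≠ b := by
    obtain ⟨x, y, hxy⟩ := h.nontriv
    by_cases hx : a = x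
    · exact ⟨y, by rw [hx]; exact hxy⟩
    · exact ⟨x, hx⟩
  refine dag_of_dvd h htt hr' hr hab hv ?_
  rw [card_at_eq_mul h hab hv] at hdvd
  have h1 : delta v (st3 G v a b) = 1 := by
    rw [delta, relIndex_eq_one]
    intro y hy
    exact ⟨hy, mem_centralizer_singleton_iff.mpr (commute_of_st3 h hCN hab hv hy).eq⟩
  rwa [h1, one_mul] at hdvd

include h hf hCN in
/-- a `p`-element inverted by an element of `D_a`, `p` a prime divisor of `|D_a|`, is trivial -/
theorem eq_one_of_inverted (htt : ∀ a b c : Ω, a ≠ b → a ≠ c → ∃ g : G, g • a = a ∧ g • b = c)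
    {a : Ω} {r : ℕ} (hr' : r.Prime) (hr : Odd r) (hdvd : r ∣ Nat.card (At z a)) {w k : G}
    (hw : w ∈ At z a) (hka : k • a = a) (hwk : w * k * w⁻¹ = k⁻¹)
    (hk : IsPGroup r (Subgroup.zpowers k)) : k = 1 := by
  have := h.finite_points
  have : Fact r.Prime := ⟨hr'⟩
  have hd := dag_of_dvd_card h hCN htt hr' hr hdvd
  have h1 := TwoTrans.Dag.card_modEq h hd
  have h2 := hk.card_modEq_card_fixedPoints Ω
  have hodd : Odd (orderOf k) := by
    obtain ⟨n, hn⟩ := IsPGroup.iff_card.mp hk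
    rw [← Nat.card_zpowers, hn]
    exact hr.pow
  by_contra hk1
  have h3 : Nat.card (MulAction.fixedPoints (Subgroup.zpowers k) Ω) = 1 := by
    rw [Nat.card_eq_one_iff_unique]
    have hfa : a ∈ MulAction.fixedPoints (Subgroup.zpowers k) Ω := by
      rintro ⟨y, hy⟩
      have h4 : Subgroup.zpowers k ≤ MulAction.stabilizer G a := by
        rw [zpowers_le]; exact hka
      exact h4 hy
    refine ⟨⟨?_⟩, ⟨⟨a, hfa⟩⟩⟩
    have key : ∀ x ∈ MulAction.fixedPoints (Subgroup.zpowers k) Ω, x = a := by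
      intro x hx
      by_contra hxa
      have h5 : k • x = x := hx ⟨k, mem_zpowers k⟩
      exact hk1 (hCN w hw.1 k hodd hwk x a hw.2 hka h5 hxa)
    rintro ⟨x, hx⟩ ⟨y, hy⟩
    exact Subtype.ext ((key x hx).trans (key y hy).symm)
  rw [h3] at h2
  have h4 : 1 ≡ 2 [MOD r] := h2.symm.trans h1
  have h5 : r ∣ 2 - 1 := (Nat.modEq_iff_dvd' (by norm_num)).mp h4
  have h6 : r = 1 := Nat.dvd_one.mp h5
  exact hr'.one_lt.ne' h6

include h hf hCN in
/-- Claim N and transitivity of commuting on `D_a` imply that the elements of `D_a` commute -/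
theorem commute_of_transProp
    (htt : ∀ a b c : Ω, a ≠ b → a ≠ c → ∃ g : G, g • a = a ∧ g • b = c)
    {a : Ω} (hT : TransProp z a) (hcomm : ∃ d ∈ At z a, ∃ e ∈ At z a, d ≠ e ∧ Commute d e) :
    ∀ s ∈ At z a, ∀ t ∈ At z a, Commute s t := by
  by_contra hne
  push Not at hne
  obtain ⟨s, hs, t, ht, hst⟩ := hne
  have hS := setup_cls h hf hT ⟨s, hs⟩ ⟨⟨t, ht⟩, hst⟩
  set z' : MulAction.stabilizer G a := ⟨s, hs.2⟩ with hz'
  -- the number of elements of a class
  obtain ⟨d, hd, e, he, hde, hcde⟩ := hcomm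
  have hAt : ∀ (x : Cls hT) (y : MulAction.stabilizer G a), y ∈ At z' x ↔
      ∃ hy : (y : G) ∈ At z a, cl hT ⟨y, hy⟩ = x := by
    intro x y
    constructor
    · rintro ⟨h1, h2⟩
      have h3 := (isConj_stab_iff (z' := z') h hs y).mp h1
      refine ⟨h3, ?_⟩
      obtain ⟨x', rfl⟩ := cl_surj hT x
      rw [smul_cl, cl_eq_iff] at h2
      exact (cl_eq_of_smul h hf hT ⟨y, h3⟩ x' (Commute.symm h2)).symm
    · rintro ⟨hy, rfl⟩
      refine ⟨(isConj_stab_iff (z' := z') h hs y).mpr hy, ?_⟩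
      refine congrArg (cl hT) (Subtype.ext ?_)
      show (y : G) * y * (y : G)⁻¹ = y
      group
  set α : Cls hT := cl hT ⟨d, hd⟩ with hα
  have hcard : Nat.card (At z' α) ≠ 1 := by
    intro h1
    rw [Nat.card_eq_one_iff_unique] at h1
    obtain ⟨h2, -⟩ := h1
    have h3 : (⟨d, hd.2⟩ : MulAction.stabilizer G a) ∈ At z' α := (hAt _ _).mpr ⟨hd, rfl⟩
    have h4 : (⟨e, he.2⟩ : MulAction.stabilizer G a) ∈ At z' α :=
      (hAt _ _).mpr ⟨he, (cl_eq_iff hT _ _).mpr hcde.symm⟩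
    have h5 := h2.elim ⟨_, h3⟩ ⟨_, h4⟩
    have h6 : (⟨d, hd.2⟩ : MulAction.stabilizer G a) = ⟨e, he.2⟩ := congrArg Subtype.val h5
    exact hde (congrArg Subtype.val h6)
  obtain ⟨r, hr, hrd⟩ := Nat.exists_prime_and_dvd hcard
  have : Fact r.Prime := ⟨hr⟩
  have hro : Odd r := (hS.odd_card_at α).of_dvd_nat hrd
  -- `r` divides `|D_a|`
  have hrm : r ∣ Nat.card (At z a) := by
    have h1 := hS.card_class α
    have h2 : Nat.card {y : MulAction.stabilizer G a // IsConj z' y} = Nat.card (At z a) := by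
      refine Nat.card_congr ⟨fun y => ⟨y.1.1, (isConj_stab_iff h hs y.1).mp y.2⟩,
        fun y => ⟨⟨y.1, y.2.2⟩, (isConj_stab_iff h hs _).mpr y.2⟩, fun y => rfl, fun y => rfl⟩
    rw [← h2, h1]
    exact Dvd.dvd.mul_left hrd _
  -- an element `x` swapping `α` and another class
  obtain ⟨β, hβ⟩ : ∃ β : Cls hT, α ≠ β := by
    obtain ⟨x, y, hxy⟩ := hS.nontriv
    by_cases hx : α = x
    · exact ⟨y, by rw [hx]; exact hxy⟩
    · exact ⟨x, hx⟩
  obtain ⟨x, hx⟩ := exists_sw hS hβ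
  have hxx := hS.mul_self hx.1
  have hxG : (x : G) ∈ At z a := (isConj_stab_iff (z' := z') h hs x).mp hx.1
  have hin : Inv x (oc (MulAction.stabilizer G a) α β) := by
    have h1 := inv_sup_oc hS hβ hx (Q := ⊥) bot_le
    rwa [sup_bot_eq] at h1
  obtain ⟨P, hP, hiP, -⟩ := exists_isMaxP_ge (p := r) (U := ⊥) hxx (odd_oc α β) hin bot_le
    IsPGroup.of_bot (by
      intro u hu
      rw [Subgroup.mem_bot] at hu ⊢
      rw [hu]; group)
  have hdel := delta_isMaxP hxx (odd_oc α β) hin hP hiP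
  rw [delta_eq_sw hS hβ hx le_rfl (oc_le α β)] at hdel
  have hpos : 0 < Nat.card (At z' α) := (hS.odd_card_at α).pos
  have hfac : 0 < (Nat.card (At z' α)).factorization r :=
    hr.factorization_pos_of_dvd hpos.ne' hrd
  have hgt : 1 < delta x P := by
    rw [hdel]
    exact Nat.one_lt_pow hfac.ne' hr.one_lt
  have hPodd : Odd (Nat.card P) := odd_of_isPGroup hro hP.1
  rw [delta_eq_card_inverted hxx hPodd hiP] at hgt
  have : Nontrivial {y : MulAction.stabilizer G a // y ∈ P ∧ x * y * x⁻¹ = y⁻¹} := by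
    rw [← Finite.one_lt_card_iff_nontrivial]; exact hgt
  obtain ⟨k, hk⟩ := exists_ne (⟨1, P.one_mem, by group⟩ :
    {y : MulAction.stabilizer G a // y ∈ P ∧ x * y * x⁻¹ = y⁻¹})
  have hkp : IsPGroup r (Subgroup.zpowers (k.1 : G)) := by
    obtain ⟨n, hn⟩ := hP.1 ⟨k.1, k.2.1⟩
    have hn1 : (k.1 : MulAction.stabilizer G a) ^ r ^ n = 1 := congrArg Subtype.val hn
    have hn2 : (k.1 : G) ^ r ^ n = 1 := by
      have := congrArg Subtype.val hn1
      simpa using this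
    rintro ⟨y, hy⟩
    obtain ⟨m, rfl⟩ := mem_zpowers_iff.mp hy
    refine ⟨n, Subtype.ext ?_⟩
    show ((k.1 : G) ^ m) ^ r ^ n = 1
    rw [← zpow_natCast, ← zpow_mul, mul_comm, zpow_mul, zpow_natCast, hn2, one_zpow]
  have hk1 := eq_one_of_inverted h hf hCN htt hr hro hrm (w := (x : G)) (k := (k.1 : G)) hxG
    k.1.2 (by have := congrArg Subtype.val k.2.2; simpa using this) hkp
  exact hk (Subtype.ext (Subtype.ext hk1))

include h hf hCN in
/-- **(A3)+(A4)** : Claim N and (Iso) imply that the elements of `D_a` commute -/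
theorem main
    (hIso : ∀ a b : Ω, a ≠ b → ∀ v ∈ At z a, ∃ x ∈ Sw z a b, ∀ y ∈ oc G a b,
      Commute v y → Commute x y)
    (hcomm : ∃ a : Ω, ∃ d ∈ At z a, ∃ e ∈ At z a, d ≠ e ∧ Commute d e) :
    ∀ a : Ω, ∀ s ∈ At z a, ∀ t ∈ At z a, Commute s t := by
  have hcomm' : ∀ a : Ω, ∃ d ∈ At z a, ∃ e ∈ At z a, d ≠ e ∧ Commute d e := by
    intro a
    obtain ⟨b, d, hd, e, he, hne, hc⟩ := hcomm
    obtain ⟨g, rfl⟩ := h.trans b a
    refine ⟨_, conj_mem_At g hd, _, conj_mem_At g he, ?_, ?_⟩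
    · intro e1
      exact hne (by simpa using e1)
    · have := hc.map (MulAut.conj g)
      rwa [MulAut.conj_apply, MulAut.conj_apply] at this
  intro a
  have htt : ∀ a b c : Ω, a ≠ b → a ≠ c → ∃ g : G, g • a = a ∧ g • b = c :=
    fun a b c hab hac => two_trans_of_commute h hf a (hcomm' a) hab hac
  refine commute_of_transProp h hf hCN htt ?_ (hcomm' a)
  obtain ⟨b, hab⟩ : ∃ b : Ω, a ≠ b := by
    obtain ⟨x, y, hxy⟩ := h.nontriv
    by_cases hx : a = x
    · exact ⟨y, by rw [hx]; exact hxy⟩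
    · exact ⟨x, hx⟩
  obtain ⟨v, hv⟩ := h.nonempty_At a
  obtain ⟨x, hx, hvx⟩ := hIso a b hab v hv
  have hC : ∀ y ∈ oc G a b, Commute y v ↔ Commute y x := by
    have h1 := delta_eq_at h hab hv (le_refl (oc G a b)) (oc_le_left a b)
    have h2 := delta_eq_sw h hab hx (le_refl (oc G a b)) (oc_le a b)
    have h3 := card_eq v (oc G a b)
    have h4 := card_eq x (oc G a b)
    rw [h1] at h3
    rw [h2] at h4
    have hpos : 0 < Nat.card (At z a) := (h.odd_card_at a).pos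
    have h5 : Nat.card (oc G a b ⊓ centralizer ({v} : Set G) : Subgroup G) =
        Nat.card (oc G a b ⊓ centralizer ({x} : Set G) : Subgroup G) := by
      have := h3.symm.trans h4
      exact Nat.eq_of_mul_eq_mul_left hpos this
    have h6 : oc G a b ⊓ centralizer ({v} : Set G) ≤ oc G a b ⊓ centralizer ({x} : Set G) := by
      rintro y ⟨hy1, hy2⟩
      refine ⟨hy1, ?_⟩
      have h7 : Commute v y := (mem_centralizer_singleton_iff.mp hy2).symm
      exact mem_centralizer_singleton_iff.mpr (hvx y hy1 h7).symm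
    have h8 := eq_of_le_of_card_ge h6 h5.ge
    intro y hy
    constructor
    · intro hc
      exact (hvx y hy hc.symm).symm
    · intro hc
      have h9 : y ∈ oc G a b ⊓ centralizer ({x} : Set G) :=
        ⟨hy, mem_centralizer_singleton_iff.mpr hc⟩
      rw [← h8] at h9
      exact mem_centralizer_singleton_iff.mp h9.2
  intro s hs t ht s' hs' h1 h2
  exact commute_trans h hf hab hv hx hC hs ht hs' h1 h2

end Main

end Cfsg.Agent.AschCrit.Parity
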