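import Cfsg.Agent.AschCrit.RGood
import Cfsg.Agent.AschCrit.ClaimN.Steps
import Cfsg.Agent.AschCrit.Parity
import Cfsg.Agent.AschCrit.EndClaim
import Cfsg.Agent.AschCrit.CommuteGlue

/-!
# Aschbacher's criterion: the big simple case

`BigStep` from R-GOOD, Claim N, (Iso) and the parity argument.
-/

set_option autoImplicit false

universe u

open Subgroup

namespace Cfsg.Agent.AschCrit.BigStepGlue

open Cfsg.Agent.TwoFusion.StronglyEmbeddedBasic Cfsg.Agent.AschCrit.Basic
open Cfsg.Agent.AschCrit.Basic.Setup Cfsg.Agent.AschCrit.Closed Cfsg.Agent.AschCrit.Descent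
open Cfsg.Agent.SignalizersComponents.PLayerAut Cfsg.Agent.AschCrit.Dagger
open Cfsg.Agent.AschCrit.TwoTrans Cfsg.Agent.AschCrit.IsolatedSwap Cfsg.Agent.AschCrit.OddInv
open Cfsg.Agent.AschCrit.Section

/-- the statement (Iso) -/
def IsoHolds : Prop :=
  ∀ (G Ω : Type u) [Group G] [Finite G] [MulAction G Ω] (z : G), MainBelow.{u} (Nat.card G) →
    IsSimpleGroup G → Setup G Ω z → (∀ g : G, (∀ a : Ω, g • a = a) → g = 1) →
    (∃ a : Ω, ∃ d ∈ At z a, ∃ e ∈ At z a, d ≠ e ∧ Commute d e) →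
    ClaimN Ω z →
    ∀ a b : Ω, a ≠ b → ∀ v ∈ At z a, ∃ x ∈ Sw z a b, ∀ y ∈ oc G a b, Commute v y → Commute x y

/-- the step of the induction in the big simple case, from (Iso) -/
theorem bigStep_of_iso
    (hFT : ∀ (K : Type u) [Group K] [Finite K], Odd (Nat.card K) → Group.IsSolvable K)
    (hIso : IsoHolds.{u}) : MainReduce.BigStep.{u} := by
  intro G Ω _ _ _ z hIH hG h hf hp hbig
  have hFT' : ∀ K : Subgroup G, Odd (Nat.card K) → Group.IsSolvable K := fun K hK => hFT K hK
  have htt : ∀ a b c : Ω, a ≠ b → a ≠ c → ∃ g : G, g • a = a ∧ g • b = c := fun a b c h1 h2 =>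
    two_trans_of_commute h hf a (MainReduce.exists_pair_at h hp a) h1 h2
  have hpair : ∀ a : Ω, ∀ s ∈ At z a, ∃ s' ∈ At z a, s ≠ s' ∧ Commute s s' := by
    intro a s hs
    obtain ⟨d, hd, e, he, hne, hc⟩ := MainReduce.exists_pair_at h hp a
    obtain ⟨g, rfl⟩ := isConj_iff.mp (hd.1.symm.trans hs.1)
    have hga : g • a = a := by
      have h1 : (g * d * g⁻¹) • (g • a) = g • a := by
        rw [mul_smul, inv_smul_smul, mul_smul, hd.2]
      exact h.uniq hs.1 h1 hs.2
    refine ⟨g * e * g⁻¹, ?_, ?_, ?_⟩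
    · have := conj_mem_At g he
      rwa [hga] at this
    · intro hh
      exact hne (by simpa using hh)
    · have := hc.map (MulAut.conj g)
      rwa [MulAut.conj_apply, MulAut.conj_apply] at this
  have hN : ClaimN Ω z := by
    have := ClaimN.Steps.claimN hFT' h hf htt hbig hpair
      (fun p hd U hU x w hw hi hx u hu =>
        RGood.rGood h hf hFT' hIH hbig hd hU hw hi hx u hu)
    exact this
  exact Parity.main h hf hN (hIso G Ω z hIH hG h hf hp hN) hp

end Cfsg.Agent.AschCrit.BigStepGlue
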