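import Cfsg.Agent.AschCrit.BGroup
import Cfsg.Agent.S0215
import Cfsg.Agent.S0224

/-!
# Aschbacher's criterion: reduction of S1175 to the step of the induction

`StepHolds` : the statement that has to be proved for the induction (simple `G` in the set-up,
faithful, `z` not isolated, the inductive hypothesis `NoBadBelow`, then no bad involution).
`criterion` : the frozen statement S1175 from `StepHolds`.
-/

set_option autoImplicit false

universe u

namespace Cfsg.Agent.AschCrit.Frame

open Cfsg.Agent.TwoFusion.StronglyEmbeddedBasic Cfsg.Agent.AschCrit.Basic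
open Cfsg.Agent.AschCrit.Basic.Setup Cfsg.Agent.AschCrit.Closed Cfsg.Agent.AschCrit.Descent
open Cfsg.Agent.AschCrit.NonIso Cfsg.Agent.AschCrit.BGroup

/-- the action on the cosets of `M` is a `Setup` -/
theorem setup_quotient {G : Type*} [Group G] (M : Subgroup G) (hM : M ≠ ⊤) (z : G)
    (hz : orderOf z = 2) (hzM : z ∈ M) (h1 : ∃ S : Sylow 2 G, z ∈ S ∧ ∀ s ∈ S, Commute s z)
    (h2 : ∀ g : G, g * z * g⁻¹ ∈ M → g ∈ M)
    (h3 : ∀ g : G, Commute z (g * z * g⁻¹) → g * z * g⁻¹ ≠ z →
      Subgroup.centralizer ({z * (g * z * g⁻¹)} : Set G) ≤ M) : Setup G (G ⧸ M) z := by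
  have hone : ∀ x : G, x • (QuotientGroup.mk 1 : G ⧸ M) = QuotientGroup.mk 1 ↔ x ∈ M := by
    intro x
    have e : x • (QuotientGroup.mk 1 : G ⧸ M) = QuotientGroup.mk (x * 1) := rfl
    rw [e, mul_one, eq_comm, QuotientGroup.eq]; simp
  have hfix : ∀ a : G ⧸ M, z • a = a → a = QuotientGroup.mk 1 := by
    intro a
    induction a using QuotientGroup.induction_on with
    | H g =>
      intro hg
      have e : z • (QuotientGroup.mk g : G ⧸ M) = QuotientGroup.mk (z * g) := rfl
      rw [e, eq_comm, QuotientGroup.eq] at hg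
      have h4 : g⁻¹ * z * (g⁻¹)⁻¹ ∈ M := by rw [inv_inv, mul_assoc]; exact hg
      have h5 := h2 g⁻¹ h4
      rw [eq_comm, QuotientGroup.eq]
      simpa using h5
  refine ⟨hz, h1, ?_, ?_, ⟨QuotientGroup.mk 1, (hone z).mpr hzM⟩, ?_, ?_⟩
  · by_contra hcon
    push Not at hcon
    apply hM
    rw [Subgroup.eq_top_iff']
    intro g
    have := hcon (QuotientGroup.mk 1 : G ⧸ M) (QuotientGroup.mk g)
    rw [QuotientGroup.eq] at this
    simpa using this
  · intro a b
    obtain ⟨g, hg⟩ := MulAction.exists_smul_eq G a b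
    exact ⟨g, hg⟩
  · intro a b ha hb
    rw [hfix a ha, hfix b hb]
  · intro g hc hne c hcc a ha
    rw [hfix a ha, hone]
    exact h3 g hc hne (Subgroup.mem_centralizer_singleton_iff.mpr hcc.eq)

theorem faithful_quotient {G : Type*} [Group G] [IsSimpleGroup G] (M : Subgroup G) (hM : M ≠ ⊤) :
    ∀ g : G, (∀ a : G ⧸ M, g • a = a) → g = 1 := by
  intro g hg
  have hg' : g ∈ M.normalCore := by
    rw [Subgroup.normalCore_eq_ker, MonoidHom.mem_ker]
    ext a
    exact hg a
  rcases (IsSimpleGroup.eq_bot_or_eq_top_of_normal M.normalCore inferInstance) with h | h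
  · rw [h] at hg'; exact Subgroup.mem_bot.mp hg'
  · exact absurd (top_le_iff.mp (h ▸ M.normalCore_le)) hM

/-- Glauberman: in a simple group in the set-up, `z` commutes with another conjugate -/
theorem nonIso_of_simple {G Ω : Type*} [Group G] [Finite G] [IsSimpleGroup G] [MulAction G Ω]
    {z : G} (h : Setup G Ω z) (hf : ∀ g : G, (∀ a : Ω, g • a = a) → g = 1) : NonIso z := by
  by_contra hcon
  have hiso : ∀ d : G, IsConj z d → Commute z d → d = z := by
    intro d hd hc
    by_contra hne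
    exact hcon ⟨d, hd, hc, hne⟩
  obtain ⟨S, hzS, hS⟩ := h.central
  obtain ⟨N, hN, hodd, hcomm⟩ := Cfsg.Agent.S0215.result S z h.invol hzS (by
    intro g hg
    exact hiso _ (isConj_iff.mpr ⟨g, rfl⟩) (hS _ hg).symm)
  have hz1 : z ≠ 1 := by
    intro h1
    have := h.invol
    rw [h1, orderOf_one] at this
    exact absurd this (by norm_num)
  rcases IsSimpleGroup.eq_bot_or_eq_top_of_normal N hN with h1 | h1
  · have hcen : z ∈ Subgroup.center G := by
      rw [Subgroup.mem_center_iff]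
      intro g
      have h2 := hcomm g
      rw [h1, Subgroup.mem_bot] at h2
      have h3 : z * g = g * z := by
        calc z * g = (z * g * z⁻¹ * g⁻¹) * (g * z) := by group
          _ = g * z := by rw [h2, one_mul]
      exact h3.symm
    obtain ⟨a, ha⟩ := h.exists_fix
    obtain ⟨p, q, hpq⟩ := h.nontriv
    have hall : ∀ b : Ω, z • b = b := by
      intro b
      obtain ⟨g, rfl⟩ := h.trans a b
      rw [smul_smul, ← Subgroup.mem_center_iff.mp hcen g, mul_smul, ha]
    exact hz1 (hf z hall)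
  · have : Nat.card N = Nat.card G := by rw [h1, Subgroup.card_top]
    have h2 : 2 ∣ Nat.card G := by rw [← h.invol]; exact orderOf_dvd_natCard z
    rw [this] at hodd
    rw [← even_iff_two_dvd, ← Nat.not_odd_iff_even] at h2
    exact h2 hodd

theorem stronglyEmbedded_of_no_bad {G : Type*} [Group G] [Finite G] (M : Subgroup G) (hM : M ≠ ⊤)
    (z : G) (hz : orderOf z = 2) (hzM : z ∈ M) (hb : ∀ v : G, ¬ Bad (G ⧸ M) v) :
    Cfsg.IsStronglyEmbedded M := by
  have heven : Even (Nat.card M) := by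
    rw [even_iff_two_dvd, ← hz, ← Subgroup.orderOf_mk z hzM]
    exact orderOf_dvd_natCard _
  rw [Cfsg.Agent.S0224.result M hM heven]
  intro t ht ht2
  have hone : t • (QuotientGroup.mk 1 : G ⧸ M) = QuotientGroup.mk 1 := by
    have e : t • (QuotientGroup.mk 1 : G ⧸ M) = QuotientGroup.mk (t * 1) := rfl
    rw [e, mul_one, eq_comm, QuotientGroup.eq]; simpa using ht
  rw [Nat.card_eq_one_iff_unique]
  refine ⟨⟨?_⟩, ⟨⟨_, hone⟩⟩⟩
  rintro ⟨a, ha⟩ ⟨b, hb'⟩
  by_contra hne
  exact hb t ⟨ht2, a, b, fun hh => hne (Subtype.ext hh), ha, hb'⟩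

/-- The step of the induction: what has to be proved. -/
def StepHolds : Prop :=
  ∀ (G Ω : Type u) [Group G] [Finite G] [MulAction G Ω] (z : G), NoBadBelow.{u} (Nat.card G) →
    IsSimpleGroup G → Setup G Ω z → (∀ g : G, (∀ a : Ω, g • a = a) → g = 1) → NonIso z →
    ∀ v : G, ¬ Bad Ω v

/-- First half of the step (Claim N and Theorem Z): if there is a bad involution, the elements of `D`
at a point commute. -/
def CommuteHolds : Prop :=
  ∀ (G Ω : Type u) [Group G] [Finite G] [MulAction G Ω] (z : G), NoBadBelow.{u} (Nat.card G) →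
    IsSimpleGroup G → Setup G Ω z → (∀ g : G, (∀ a : Ω, g • a = a) → g = 1) → NonIso z →
    (∃ v : G, Bad Ω v) → ∀ a : Ω, ∀ d ∈ At z a, ∀ e ∈ At z a, Commute d e

/-- Second half of the step (the commutative case): the elements of `D` at a point commute and there is
a bad involution: impossible. -/
def CommCaseFalse : Prop :=
  ∀ (G Ω : Type u) [Group G] [Finite G] [MulAction G Ω] (z : G), NoBadBelow.{u} (Nat.card G) →
    IsSimpleGroup G → Setup G Ω z → (∀ g : G, (∀ a : Ω, g • a = a) → g = 1) → NonIso z →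
    (∃ v : G, Bad Ω v) → (∀ a : Ω, ∀ d ∈ At z a, ∀ e ∈ At z a, Commute d e) → False

theorem stepHolds (h1 : CommuteHolds.{u}) (h2 : CommCaseFalse.{u}) : StepHolds.{u} :=
  fun G Ω _ _ _ z hind hs h hf hn v hv =>
    h2 G Ω z hind hs h hf hn ⟨v, hv⟩ (h1 G Ω z hind hs h hf hn ⟨v, hv⟩)

theorem noBadBelow_of_step (hs : StepHolds.{u}) (N : ℕ) : NoBadBelow.{u} N := by
  induction N with
  | zero =>
    intro K Ψ _ _ _ z hcard
    exact absurd hcard (Nat.not_lt_zero _)
  | succ N ih =>
    intro K Ψ _ _ _ z hcard hsimple h hf hn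
    refine hs K Ψ z ?_ hsimple h hf hn
    intro K' Ψ' _ _ _ z' hcard'
    exact ih K' Ψ' z' (by omega)

/-- S1175 from the step of the induction -/
theorem criterion (hs : StepHolds.{u}) {G : Type u} [Group G] [Finite G] [IsSimpleGroup G]
    (M : Subgroup G) (hM : M ≠ ⊤) (z : G) (hz : orderOf z = 2) (hzM : z ∈ M)
    (h1 : ∃ S : Sylow 2 G, z ∈ S ∧ ∀ s ∈ S, Commute s z) (h2 : ∀ g : G, g * z * g⁻¹ ∈ M → g ∈ M)
    (h3 : ∀ g : G, Commute z (g * z * g⁻¹) → g * z * g⁻¹ ≠ z →
      Subgroup.centralizer ({z * (g * z * g⁻¹)} : Set G) ≤ M) :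
    ∃ H : Subgroup G, Cfsg.IsStronglyEmbedded H := by
  have h := setup_quotient M hM z hz hzM h1 h2 h3
  have hf := faithful_quotient M hM
  exact ⟨M, stronglyEmbedded_of_no_bad M hM z hz hzM
    (hs G (G ⧸ M) z (noBadBelow_of_step hs _) inferInstance h hf (nonIso_of_simple h hf))⟩

end Cfsg.Agent.AschCrit.Frame
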