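import Cfsg.Agent.AschCrit.CommFrame
import Cfsg.Agent.AschCrit.Frame
import Cfsg.Agent.AschCrit.Induct

/-!
# Aschbacher's criterion: the commutative case, case distinction

`CaseHyp G Ω z k i` : the common hypotheses of the cases (c2)-(c5).
`commCaseFalse` : `Frame.CommCaseFalse` from the four cases.
-/

set_option autoImplicit false

universe u

open Subgroup

namespace Cfsg.Agent.AschCrit.CommCase

open Cfsg.Agent.TwoFusion.StronglyEmbeddedBasic Cfsg.Agent.AschCrit.Basic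
open Cfsg.Agent.AschCrit.Basic.Setup Cfsg.Agent.AschCrit.Closed Cfsg.Agent.AschCrit.Descent
open Cfsg.Agent.AschCrit.NonIso Cfsg.Agent.AschCrit.BGroup Cfsg.Agent.AschCrit.CommTypes
open Cfsg.Agent.AschCrit.CommFrame Cfsg.Agent.AschCrit.Frame
open Cfsg.Agent.StrongEmb.Split

/-- The hypotheses of the commutative case, with the numbers `k`, `i` of the bad involutions. -/
structure CaseHyp (G Ω : Type u) [Group G] [Finite G] [MulAction G Ω] (z : G) (k i : ℕ) : Prop where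
  noBadBelow : NoBadBelow.{u} (Nat.card G)
  bender : ∀ (X : Type u) [Group X] [Finite X], BenderHolds X
  simple : IsSimpleGroup G
  setup : Setup G Ω z
  faithful : ∀ g : G, (∀ a : Ω, g • a = a) → g = 1
  nonIso : NonIso z
  exists_bad : ∃ v : G, Bad Ω v
  comm : ∀ a : Ω, ∀ d ∈ At z a, ∀ e ∈ At z a, Commute d e
  two_le : 2 ≤ k
  two_trans : ∀ a b c d : Ω, a ≠ b → c ≠ d → ∃ g : G, g • a = c ∧ g • b = d
  exists_bad_pair : ∀ a b : Ω, a ≠ b → ∃ v : G, Bad Ω v ∧ v • a = a ∧ v • b = b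
  bgroup : ∀ u : G, Bad Ω u → BGroup Ω z (centralizer ({u} : Set G)) k i
  card_fix : ∀ u : G, Bad Ω u → Nat.card {c : Ω // u • c = c} = (2 ^ k) ^ i + 1
  card_atC : ∀ u : G, Bad Ω u → ∀ c : Ω, u • c = c → Nat.card (AtC z u c) + 1 = 2 ^ k

theorem bgroups {G Ω : Type u} [Group G] [Finite G] [MulAction G Ω] {z : G}
    (hN : NoBadBelow.{u} (Nat.card G)) (hB : ∀ (X : Type u) [Group X] [Finite X], BenderHolds X)
    (h : Setup G Ω z) : BGroups Ω z := by
  intro H hH hD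
  have hlt : Nat.card H < Nat.card G := by
    have h1 := H.card_mul_index
    have h2 : 1 < H.index := by
      have h3 : H.index ≠ 1 := fun h4 => hH (index_eq_one.mp h4)
      have h4 : H.index ≠ 0 := index_ne_zero_of_finite
      omega
    have h3 : 0 < Nat.card H := Nat.card_pos
    nlinarith
  obtain ⟨k, i, hB, -⟩ := Cfsg.Agent.AschCrit.Induct.bgroup hN hB h hD hlt
  exact ⟨k, i, hB⟩

/-- **The commutative case** from the cases (c2)-(c5). -/
theorem commCaseFalse (hB : ∀ (X : Type u) [Group X] [Finite X], BenderHolds X)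
    (h2 : ∀ (G Ω : Type u) [Group G] [Finite G] [MulAction G Ω] (z : G) (k : ℕ),
      CaseHyp G Ω z k 3 → (∀ a : Ω, Nat.card (At z a) + 1 = (2 ^ k) ^ 2) →
      Nat.card Ω = (2 ^ k) ^ 4 * ((2 ^ k - 1) ^ 2 + 1) + 1 → False)
    (h3 : ∀ (G Ω : Type u) [Group G] [Finite G] [MulAction G Ω] (z : G) (k : ℕ),
      CaseHyp G Ω z k 1 → (∀ a : Ω, Nat.card (At z a) + 1 = 2 ^ k) →
      Nat.card Ω = (2 ^ k) ^ 3 + 1 → False)
    (h4 : ∀ (G Ω : Type u) [Group G] [Finite G] [MulAction G Ω] (z : G) (k : ℕ),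
      CaseHyp G Ω z k 2 → (∀ a : Ω, Nat.card (At z a) + 1 = 2 ^ k) →
      Nat.card Ω = (2 ^ k) ^ 3 * (2 ^ k * (2 ^ k - 1) + 1) + 1 → False)
    (h5 : ∀ (G Ω : Type u) [Group G] [Finite G] [MulAction G Ω] (z : G) (k : ℕ),
      CaseHyp G Ω z k 3 → (∀ a : Ω, Nat.card (At z a) + 1 = 2 ^ k) →
      Nat.card Ω = (2 ^ k) ^ 4 * ((2 ^ k) ^ 2 * (2 ^ k - 1) + 1) + 1 → False) :
    CommCaseFalse.{u} := by
  intro G Ω _ _ _ z hN hsimple h hf hn hK hcomm
  have hK' := hK
  obtain ⟨v, hv⟩ := hK'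
  obtain ⟨a, ha⟩ : ∃ c : Ω, v • c = c := by
    obtain ⟨-, c, -, -, hc, -⟩ := hv
    exact ⟨c, hc⟩
  have hV : ∀ x, x ∈ vGrp h hf hcomm a ↔ x = 1 ∨ x ∈ At z a := fun x => mem_vGrp h hf hcomm
  obtain ⟨k, i, hk, -, -, hnt, hall⟩ :=
    exists_type h hf hn hcomm (bgroups hN hB h) hK (V := vGrp h hf hcomm a) hV
  have hC : CaseHyp G Ω z k i :=
    { noBadBelow := hN
      bender := hB
      simple := hsimple
      setup := h
      faithful := hf
      nonIso := hn
      exists_bad := hK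
      comm := hcomm
      two_le := hk
      two_trans := fun a b c d hab hcd => CommFrame.two_trans h hf hn hab hcd
      exists_bad_pair := fun a b hab => CommFrame.exists_bad_pair h hf hn hK hab
      bgroup := fun u hu => (hall u hu).1
      card_fix := fun u hu => (hall u hu).2.1
      card_atC := fun u hu => (hall u hu).2.2 }
  have hcV := card_V h hV
  have hat : ∀ b : Ω, Nat.card (At z b) + 1 = Nat.card (vGrp h hf hcomm a) := by
    intro b
    rw [hcV, h.card_at_eq b a]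
  rcases hnt with ⟨e1, rfl, e3⟩ | ⟨e1, rfl, e3⟩ | ⟨e1, rfl, e3⟩ | ⟨e1, rfl, e3⟩ | ⟨e1, rfl, e3⟩
  · exact case_one h hv ha hV hk e1 ((hall v hv).2.2 a ha) e3
  · exact h2 G Ω z k hC (fun b => by rw [hat, e1]) e3
  · exact h3 G Ω z k hC (fun b => by rw [hat, e1]) e3
  · exact h4 G Ω z k hC (fun b => by rw [hat, e1]) e3
  · exact h5 G Ω z k hC (fun b => by rw [hat, e1]) e3

end Cfsg.Agent.AschCrit.CommCase
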