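import Cfsg.Agent.AschCrit.Closed
import Cfsg.Agent.TwoFusion.OneClass
import Cfsg.Agent.TwoFusion.NoNormalFour
import Cfsg.Agent.TwoFusion.DihedralFusion
import Cfsg.Agent.SmallSimple.SylowPrimeCount

/-!
# Aschbacher's criterion: a normal four-group inside `D ∪ {1}`

`G` has no subgroup of index two, `S` is a Sylow 2-subgroup centralising `z`, `z` commutes with
another element of `D` (`hni`, from the Z*-theorem), and for every bad `u` commuting elements of `D`
generating a 2-subgroup of `C(u)` commute (`hComm`, from the induction hypothesis).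

* `isConj_mul_of_commute` : `u` bad, `y ≠ b` commuting elements of `D ∩ C(u)` ⟹ `u ∼ u y`
* `not_bad_center` : no bad involution centralises a Sylow 2-subgroup containing it
* `exists_four` : some `v ∈ D ∩ S`, `v ≠ z`, has `s v s⁻¹ ∈ {v, v z}` for all `s ∈ S`
* `isConj_mul` (R1) : `u ∼ u y` for all bad `u` and `y ∈ D ∩ C(u)`
* `exists_bad_commute` (R3) : some bad `u ∈ S` commutes with `v`
* `exists_max_pair` : there are `a ≠ b` with `|G_{ab}|₂` maximal, `R ∈ Syl₂(G_{ab})` and a bad
  involution `w ∈ Z(R)` centralising two different commuting elements of `D`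
-/

set_option autoImplicit false

namespace Cfsg.Agent.AschCrit.FourGroup

open Cfsg.Agent.TwoFusion.StronglyEmbeddedBasic Cfsg.Agent.AschCrit.Basic
open Cfsg.Agent.AschCrit.Basic.Setup Cfsg.Agent.AschCrit.Closed

/-! ### 2-groups -/

/-- No normal four-group in the Sylow 2-subgroup and no subgroup of index two: one class of
involutions. -/
theorem isConj_of_no_normal_four {G : Type*} [Group G] [Finite G]
    (hG2 : ∀ H : Subgroup G, H.index ≠ 2) (S : Sylow 2 G)
    (hfour : ∃ E : Subgroup (S : Subgroup G), IsKleinFour E)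
    (hno : ∀ E : Subgroup (S : Subgroup G), E.Normal → ¬ IsKleinFour E) {x y : G}
    (hx : orderOf x = 2) (hy : orderOf y = 2) : IsConj x y := by
  rcases Cfsg.Agent.TwoFusion.NoNormalFour.dihedral_or_qd_of_no_normal_four S.isPGroup' hfour hno
    with ⟨m, hm, ⟨e⟩⟩ | hqd
  · obtain ⟨k, hk⟩ := IsPGroup.iff_card.mp S.isPGroup'
    have hcard : Nat.card (S : Subgroup G) = 2 * m := by
      rw [Nat.card_congr e.toEquiv, DihedralGroup.nat_card]
    have heven : ∃ q, m = 2 * q := by
      have h1 : 2 * m = 2 ^ k := by rw [← hcard]; exact hk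
      obtain ⟨j, rfl⟩ : ∃ j, k = j + 2 := by
        refine ⟨k - 2, ?_⟩
        have : 2 ≤ k := by
          by_contra hlt
          have : k = 0 ∨ k = 1 := by omega
          rcases this with rfl | rfl <;> omega
        omega
      exact ⟨2 ^ j, by rw [pow_add] at h1; omega⟩
    obtain ⟨q, rfl⟩ := heven
    obtain ⟨r, z, hD⟩ := Cfsg.Agent.TwoFusion.DihedralSylow.exists_dihData (S : Subgroup G) q
      (by omega) e
    exact (Cfsg.Agent.TwoFusion.DihedralFusion.isConj_z_of_no_index_two S hD hG2 x hx).trans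
      (Cfsg.Agent.TwoFusion.DihedralFusion.isConj_z_of_no_index_two S hD hG2 y hy).symm
  · obtain ⟨n, u, t, h⟩ := Cfsg.Agent.TwoFusion.QDBasic.exists_qdcoord hqd
    have key : ∀ w : G, orderOf w = 2 → IsConj w (u (2 ^ (n - 1)) : G) := by
      intro w hw
      have hww := mul_self_of_orderOf hw
      obtain ⟨g, hg⟩ := Cfsg.Agent.TwoFusion.DihedralFusion.exists_conj_mem_sylow S w hww
      refine (isConj_iff.mpr ⟨g, rfl⟩).trans
        (Cfsg.Agent.TwoFusion.OneClass.isConj_of_qd S hG2 h ⟨g * w * g⁻¹, hg⟩ ?_ ?_)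
      · intro h1
        have h2 : g * w * g⁻¹ = 1 := congrArg Subtype.val h1
        have h3 : orderOf (g * w * g⁻¹) = 2 := by rw [orderOf_conj, hw]
        rw [h2, orderOf_one] at h3
        exact absurd h3 (by norm_num)
      · apply Subtype.ext
        show g * w * g⁻¹ * (g * w * g⁻¹) = 1
        calc g * w * g⁻¹ * (g * w * g⁻¹) = g * (w * w) * g⁻¹ := by group
          _ = 1 := by rw [hww]; group
    exact (key x hx).trans (key y hy).symm

/-- A normal subgroup `N` of a finite 2-group containing a central element `z` of order two and an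
element outside `⟨z⟩` contains an element outside `⟨z⟩` which is central modulo `⟨z⟩`. -/
theorem exists_central_mod {P : Type*} [Group P] [Finite P] (hP : IsPGroup 2 P) (N : Subgroup P)
    [hN : N.Normal] {z : P} (hz2 : z * z = 1) (hzc : ∀ x : P, x * z = z * x)
    (hx : ∃ x ∈ N, x ≠ 1 ∧ x ≠ z) :
    ∃ v ∈ N, v ≠ 1 ∧ v ≠ z ∧ ∀ s : P, s * v * s⁻¹ = v ∨ s * v * s⁻¹ = v * z := by
  have hzn : (Subgroup.zpowers z).Normal := by
    refine ⟨fun n hn g => ?_⟩
    have : g * n * g⁻¹ = n := by
      obtain ⟨k, rfl⟩ := hn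
      have hc : Commute g (z ^ k) := (show Commute g z from hzc g).zpow_right k
      show g * z ^ k * g⁻¹ = z ^ k
      rw [hc.eq]; group
    rwa [this]
  have hmem : ∀ x ∈ Subgroup.zpowers z, x = 1 ∨ x = z := by
    rintro _ ⟨k, rfl⟩
    rcases Int.even_or_odd' k with ⟨j, rfl | rfl⟩
    · left
      show z ^ (2 * j) = 1
      rw [zpow_mul, zpow_ofNat, pow_two, hz2, one_zpow]
    · right
      show z ^ (2 * j + 1) = z
      rw [zpow_add, zpow_mul, zpow_ofNat, pow_two, hz2, one_zpow, one_mul, zpow_one]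
  have : Fact (Nat.Prime 2) := ⟨Nat.prime_two⟩
  let Q := P ⧸ Subgroup.zpowers z
  have hQ : IsPGroup 2 Q := hP.to_quotient _
  let N' : Subgroup Q := N.map (QuotientGroup.mk' _)
  have hN' : N'.Normal := hN.map _ (QuotientGroup.mk'_surjective _)
  have hne : N' ≠ ⊥ := by
    intro h0
    obtain ⟨x, hxN, hx1, hxz⟩ := hx
    have h1 : QuotientGroup.mk' (Subgroup.zpowers z) x ∈ N' := ⟨x, hxN, rfl⟩
    rw [h0, Subgroup.mem_bot, ← MonoidHom.mem_ker, QuotientGroup.ker_mk'] at h1
    rcases hmem x h1 with h2 | h2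
    · exact hx1 h2
    · exact hxz h2
  obtain ⟨w, hwN, hwc, hw1⟩ :=
    Cfsg.Agent.SmallSimple.SylowPrimeCount.exists_mem_center_of_normal hQ N' hne
  obtain ⟨v, hvN, rfl⟩ := hwN
  have hv : v ∉ Subgroup.zpowers z := by
    intro hv
    apply hw1
    rw [← MonoidHom.mem_ker, QuotientGroup.ker_mk']
    exact hv
  refine ⟨v, hvN, ?_, ?_, ?_⟩
  · rintro rfl; exact hv (Subgroup.one_mem _)
  · rintro rfl; exact hv (Subgroup.mem_zpowers v)
  · intro s
    have h1 := Subgroup.mem_center_iff.mp hwc (QuotientGroup.mk' _ s)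
    have h2 : v⁻¹ * (s * v * s⁻¹) ∈ Subgroup.zpowers z := by
      rw [← QuotientGroup.ker_mk' (Subgroup.zpowers z), MonoidHom.mem_ker, map_mul, map_mul,
        map_mul, map_inv, map_inv, h1]
      group
    rcases hmem _ h2 with h3 | h3
    · left
      have := congrArg (fun y => v * y) h3
      simpa [mul_assoc] using this
    · right
      have := congrArg (fun y => v * y) h3
      simpa [mul_assoc] using this

variable {G Ω : Type*} [Group G] [MulAction G Ω] {z : G}

/-! ### `u ∼ u y`, first case -/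

/-- (R1), first case: `u` bad, `y ≠ b` commuting elements of `D ∩ C(u)` ⟹ `u ∼ u y` -/
theorem isConj_mul_of_commute [Finite G] (h : Setup G Ω z)
    (hf : ∀ g : G, (∀ a : Ω, g • a = a) → g = 1) {u y b : G} (hu : Bad Ω u) (hy : IsConj z y)
    (hb : IsConj z b) (hyu : Commute y u) (hbu : Commute b u) (hby : Commute b y)
    (hne : b ≠ y) : IsConj u (u * y) := by
  have hv := bad_mul h hf hu hy hyu
  obtain ⟨-, p, q, hpq, hp, hq⟩ := id hv
  obtain ⟨-, p', q', hpq', hp', hq'⟩ := id hu
  obtain ⟨c, hc, hcb⟩ := exists_conj_commute h hv.mul_self hpq hp hq hb hy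
    (hbu.mul_right hby) (hyu.mul_right (Commute.refl y))
  -- `u y b ∼ u y y = u`
  have h1 : IsConj (u * y * b) u := by
    refine isConj_iff.mpr ⟨c, ?_⟩
    calc c * (u * y * b) * c⁻¹ = (c * (u * y)) * b * c⁻¹ := by group
      _ = u * y * (c * b * c⁻¹) := by rw [hc.eq]; group
      _ = u * (y * y) := by rw [hcb]; group
      _ = u := by rw [h.mul_self hy, mul_one]
  have hyb : IsConj z (y * b) := mul_mem_class h hf hy hb hby.symm (Ne.symm hne)
  have hybu : Commute (y * b) u := hyu.mul_left hbu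
  obtain ⟨c', hc', hcb'⟩ := exists_conj_commute h hu.mul_self hpq' hp' hq' hyb hy hybu hyu
  have h2 : IsConj (u * y * b) (u * y) := by
    refine isConj_iff.mpr ⟨c', ?_⟩
    calc c' * (u * y * b) * c'⁻¹ = (c' * u) * (y * b) * c'⁻¹ := by group
      _ = u * (c' * (y * b) * c'⁻¹) := by rw [hc'.eq]; group
      _ = u * y := by rw [hcb']
  exact h1.symm.trans h2

/-! ### No bad involution is 2-central -/

section

variable [Finite G] (h : Setup G Ω z) (hf : ∀ g : G, (∀ a : Ω, g • a = a) → g = 1)
  (S : Sylow 2 G) (hzS : z ∈ S) (hSz : ∀ s ∈ S, Commute s z)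
  (hni : ∃ d : G, IsConj z d ∧ d ≠ z ∧ Commute d z)

include hSz in
/-- an element of `C(z)` generating with `z` a 2-group is conjugate into `S` under `C(z)` -/
theorem exists_conj_mem_S {d : G} (hd : d * d = 1) (hdz : Commute d z) :
    ∃ c : G, Commute c z ∧ c * d * c⁻¹ ∈ S := by
  have h1 : (S : Subgroup G) ≤ Subgroup.centralizer ({z} : Set G) := by
    intro s hs
    rw [Subgroup.mem_centralizer_singleton_iff]; exact (hSz s hs).eq
  have h2 : Subgroup.zpowers d ≤ Subgroup.centralizer ({z} : Set G) := by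
    rw [Subgroup.zpowers_le, Subgroup.mem_centralizer_singleton_iff]; exact hdz.eq
  obtain ⟨c, hc, hcd⟩ := Cfsg.Agent.TwoFusion.DihedralFusion.exists_conj_mem S _ _ h1 h2
    (isPGroup_zpowers hd)
  rw [Subgroup.mem_centralizer_singleton_iff] at hc
  exact ⟨c, hc, hcd d (Subgroup.mem_zpowers d)⟩

include h hSz hni in
/-- `D ∩ S` contains an element different from `z` -/
theorem exists_mem_S : ∃ d ∈ S, IsConj z d ∧ d ≠ z := by
  obtain ⟨d, hd, hdz, hc⟩ := hni
  obtain ⟨c, hcz, hcd⟩ := exists_conj_mem_S S hSz (h.mul_self hd) hc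
  refine ⟨_, hcd, conj_mem hd c, ?_⟩
  intro h1
  apply hdz
  calc d = c⁻¹ * (c * d * c⁻¹) * c := by group
    _ = c⁻¹ * (z * c) := by rw [h1]; group
    _ = z := by rw [← hcz.eq]; group

include h hf hzS hSz hni in
/-- (5): a bad involution does not centralise `S` -/
theorem not_bad_center {r : G} (hr : Bad Ω r) (hrS : ∀ s ∈ S, Commute s r) : False := by
  classical
  obtain ⟨b, hbS, hb, hbz⟩ := exists_mem_S h S hSz hni
  -- the conjugates of `r` centralising `S`
  let X : Set G := {x | IsConj r x}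
  let O : Set G := {x | IsConj r x ∧ ∀ s ∈ S, Commute s x}
  let O' : Set G := {x | IsConj r x ∧ ¬ ∀ s ∈ S, Commute s x}
  have hX : Odd (Nat.card X) := by
    have h1 : Nat.card X = (Subgroup.centralizer ({r} : Set G)).index := by
      have h2 : Nat.card X = (MulAction.orbit (ConjAct G) r).ncard := by
        rw [← Nat.card_coe_set_eq]
        apply Nat.card_congr
        refine Equiv.subtypeEquivRight (fun d => ?_)
        rw [ConjAct.mem_orbit_conjAct]
        exact isConj_comm
      rw [h2, ← MulAction.index_stabilizer, ConjAct.stabilizer_eq_centralizer]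
      rfl
    rw [h1]
    have hle : (S : Subgroup G) ≤ Subgroup.centralizer ({r} : Set G) := by
      intro s hs
      rw [Subgroup.mem_centralizer_singleton_iff]
      exact (hrS s hs).eq
    have h3 : ¬ 2 ∣ (S : Subgroup G).index := S.not_dvd_index
    rw [← Nat.not_even_iff_odd, even_iff_two_dvd]
    intro h4
    exact h3 (dvd_trans h4 (Subgroup.index_dvd_of_le hle))
  have hO' : 2 ∣ Nat.card O' := by
    by_contra hcard
    obtain ⟨x, hx, hxS⟩ := Cfsg.Agent.S0029.exists_conj_fixed (S : Subgroup G) S.isPGroup' O'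
      (by
        rintro a ha x ⟨hx, hxn⟩
        refine ⟨hx.trans (isConj_iff.mpr ⟨a, rfl⟩), fun hcon => hxn fun s hs => ?_⟩
        have h1 := hcon (a * s * a⁻¹) (S.mul_mem (S.mul_mem ha hs) (S.inv_mem ha))
        have h2 : a * s * a⁻¹ * (a * x * a⁻¹) = a * x * a⁻¹ * (a * s * a⁻¹) := h1.eq
        show s * x = x * s
        calc s * x = a⁻¹ * (a * s * a⁻¹ * (a * x * a⁻¹)) * a := by group
          _ = a⁻¹ * (a * x * a⁻¹ * (a * s * a⁻¹)) * a := by rw [h2]
          _ = x * s := by group) hcard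
    refine hx.2 fun s hs => ?_
    have := hxS s hs
    show s * x = x * s
    calc s * x = s * x * s⁻¹ * s := by group
      _ = x * s := by rw [this]
  have hO : Odd (Nat.card O) := by
    have h1 : Nat.card X = Nat.card O + Nat.card O' := by
      rw [Nat.card_coe_set_eq, Nat.card_coe_set_eq, Nat.card_coe_set_eq,
        ← Set.ncard_union_eq ?_ (Set.toFinite _) (Set.toFinite _)]
      · congr 1
        ext x
        simp only [X, O, O', Set.mem_ofPred_eq, Set.mem_union]
        tauto
      · rw [Set.disjoint_left]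
        rintro x ⟨-, hx⟩ ⟨-, hx'⟩
        exact hx' hx
    rw [h1] at hX
    rw [← Nat.not_even_iff_odd] at hX ⊢
    intro h2
    exact hX (h2.add (even_iff_two_dvd.mpr hO'))
  -- the involution `x ↦ x z` of `O`
  have hmap : ∀ x ∈ O, x * z ∈ O := by
    rintro x ⟨hx, hxS⟩
    have hxb : Bad Ω x := hr.of_isConj hx
    refine ⟨hx.trans (isConj_mul_of_commute h hf hxb (IsConj.refl z) hb (hxS z hzS) (hxS b hbS)
      (hSz b hbS) hbz), fun s hs => (hxS s hs).mul_right (hSz s hs)⟩
  let F : O → O := fun x => ⟨x.1 * z, hmap x.1 x.2⟩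
  have hzz : z * z = 1 := h.mul_self (IsConj.refl z)
  have hF : Function.Involutive F := by
    rintro ⟨x, hx⟩
    apply Subtype.ext
    show x * z * z = x
    rw [mul_assoc, hzz, mul_one]
  have : Finite O := inferInstance
  have hodd : Odd (Nat.card {x : O // F x = x}) := by
    have : Fintype O := Fintype.ofFinite O
    have hp : (show Function.End O from F) ^ 2 ^ 1 = 1 := by
      rw [pow_one, pow_two]
      funext x
      exact hF x
    have h1 := Equiv.Perm.card_fixedPoints_modEq hp
    have h2 : Nat.card {x : O // F x = x} =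
        Fintype.card (Function.fixedPoints (show Function.End O from F)) := by
      rw [← Nat.card_eq_fintype_card]
      rfl
    rw [h2, Nat.odd_iff]
    rw [Nat.card_eq_fintype_card, Nat.odd_iff] at hO
    rw [← hO]
    exact h1.symm
  have hpos : 0 < Nat.card {x : O // F x = x} := hodd.pos
  obtain ⟨⟨x, hx⟩⟩ := (Nat.card_pos_iff.mp hpos).1
  have h1 : x.1 * z = x.1 := congrArg Subtype.val hx
  have h2 : z = 1 := by simpa using h1
  have h3 := h.invol
  rw [h2, orderOf_one] at h3
  exact absurd h3 (by norm_num)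

end

/-! ### A normal four-group of `S` inside `D ∪ {1}` -/

/-- the elements of `D ∩ T`, together with `1`, form a subgroup if they commute pairwise -/
def dSubgroup [Finite G] (h : Setup G Ω z) (hf : ∀ g : G, (∀ a : Ω, g • a = a) → g = 1)
    (T : Subgroup G)
    (hT : ∀ d ∈ T, ∀ e ∈ T, IsConj z d → IsConj z e → Commute d e) : Subgroup G where
  carrier := {x | x = 1 ∨ (x ∈ T ∧ IsConj z x)}
  one_mem' := Or.inl rfl
  mul_mem' := by
    rintro x y (rfl | ⟨hxT, hx⟩) (rfl | ⟨hyT, hy⟩)
    · left; simp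
    · right; rw [one_mul]; exact ⟨hyT, hy⟩
    · right; rw [mul_one]; exact ⟨hxT, hx⟩
    · by_cases hxy : x = y
      · left; rw [hxy, h.mul_self hy]
      · right
        exact ⟨T.mul_mem hxT hyT, mul_mem_class h hf hx hy (hT x hxT y hyT hx hy) hxy⟩
  inv_mem' := by
    rintro x (rfl | ⟨hxT, hx⟩)
    · left; simp
    · right; rw [h.inv_eq hx]; exact ⟨hxT, hx⟩

section

variable [Finite G] (h : Setup G Ω z) (hf : ∀ g : G, (∀ a : Ω, g • a = a) → g = 1)
  (hG2 : ∀ H : Subgroup G, H.index ≠ 2)
  (S : Sylow 2 G) (hzS : z ∈ S) (hSz : ∀ s ∈ S, Commute s z)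
  (hni : ∃ d : G, IsConj z d ∧ d ≠ z ∧ Commute d z)
  (hComm : ∀ u : G, Bad Ω u → ∀ T : Subgroup G, IsPGroup 2 T → (∀ t ∈ T, Commute t u) →
    ∀ d ∈ T, ∀ e ∈ T, IsConj z d → IsConj z e → Commute d e)

include h hf hG2 hzS hSz hni in
/-- Either the conclusion of `exists_four` holds, or there is a bad `u₁ ∈ S` with
`s u₁ s⁻¹ ∈ {u₁, u₁ z}` for all `s ∈ S`. -/
theorem exists_bad_or (hK : ∃ u : G, Bad Ω u) :
    (∃ v ∈ S, IsConj z v ∧ v ≠ z ∧ ∀ s ∈ S, s * v * s⁻¹ = v ∨ s * v * s⁻¹ = v * z) ∨
    (∃ u ∈ S, Bad Ω u ∧ ∀ s ∈ S, s * u * s⁻¹ = u ∨ s * u * s⁻¹ = u * z) := by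
  have hzz : z * z = 1 := h.mul_self (IsConj.refl z)
  have hz1 : z ≠ 1 := by
    intro h1
    have := h.invol
    rw [h1, orderOf_one] at this
    exact absurd this (by norm_num)
  obtain ⟨b, hbS, hb, hbz⟩ := exists_mem_S h S hSz hni
  have hbb := h.mul_self hb
  have hb1 : b ≠ 1 := by
    intro h1
    have := h.orderOf_eq hb
    rw [h1, orderOf_one] at this
    exact absurd this (by norm_num)
  -- there is a normal four-group
  obtain ⟨E, hEn, hE⟩ : ∃ E : Subgroup (S : Subgroup G), E.Normal ∧ IsKleinFour E := by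
    by_contra hcon
    push Not at hcon
    obtain ⟨u, hu⟩ := hK
    refine hu.not_isConj h (isConj_of_no_normal_four hG2 S ?_ hcon h.invol hu.1)
    have e1 : (⟨z, hzS⟩ : (S : Subgroup G)) * ⟨z, hzS⟩ = 1 := Subtype.ext hzz
    have e2 : (⟨b, hbS⟩ : (S : Subgroup G)) * ⟨b, hbS⟩ = 1 := Subtype.ext hbb
    have e3 : (⟨z, hzS⟩ : (S : Subgroup G)) * ⟨b, hbS⟩ = ⟨b, hbS⟩ * ⟨z, hzS⟩ :=
      Subtype.ext (hSz b hbS).symm.eq
    exact ⟨_, Cfsg.Agent.TwoFusion.DihedralFusion.isKleinFour_fourGroup e1 e2 e3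
      (fun hh => hz1 (congrArg Subtype.val hh)) (fun hh => hb1 (congrArg Subtype.val hh))
      (fun hh => hbz (congrArg Subtype.val hh).symm)⟩
  have : Fact (Nat.Prime 2) := ⟨Nat.prime_two⟩
  have hEne : E ≠ ⊥ := by
    intro h0
    have h4 : Nat.card E = 4 := hE.card_four
    rw [h0, Subgroup.card_bot] at h4
    exact absurd h4 (by norm_num)
  obtain ⟨t, htE, htc, ht1⟩ :=
    Cfsg.Agent.SmallSimple.SylowPrimeCount.exists_mem_center_of_normal S.isPGroup' E hEne
  have htt : (t : G) * t = 1 := congrArg Subtype.val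
    (Cfsg.Agent.TwoFusion.DihedralFusion.sq_of_isKleinFour hE htE)
  have ht1' : (t : G) ≠ 1 := fun hh => ht1 (Subtype.ext hh)
  have htS : ∀ s ∈ S, Commute s (t : G) := by
    intro s hs
    exact congrArg Subtype.val (Subgroup.mem_center_iff.mp htc ⟨s, hs⟩)
  have htD : IsConj z (t : G) := by
    rcases isConj_or_bad h hf (orderOf_eq_two_of_mul_self htt ht1') with h1 | h1
    · exact h1
    · exact (not_bad_center h hf S hzS hSz hni h1 htS).elim
  by_cases htz : (t : G) = z
  swap
  · left
    refine ⟨t, t.2, htD, htz, fun s hs => Or.inl ?_⟩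
    rw [(htS s hs).eq]; group
  -- now `z ∈ E`
  obtain ⟨w, hwE, hw1, hwt⟩ : ∃ w ∈ E, w ≠ 1 ∧ w ≠ t := by
    by_contra hcon
    push Not at hcon
    have h4 : Nat.card E = 4 := hE.card_four
    have hle : (E : Set (S : Subgroup G)) ⊆ ({1, t} : Set (S : Subgroup G)) := by
      intro x hx
      by_cases hx1 : x = 1
      · left; exact hx1
      · right; exact hcon x hx hx1
    have h5 : Set.ncard (E : Set (S : Subgroup G)) ≤ Set.ncard ({1, t} : Set (S : Subgroup G)) :=
      Set.ncard_le_ncard hle (Set.toFinite _)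
    have h6 : Set.ncard ({1, t} : Set (S : Subgroup G)) ≤ 2 := Set.ncard_insert_le _ _ |>.trans
      (by rw [Set.ncard_singleton])
    have h7 : Set.ncard (E : Set (S : Subgroup G)) = 4 := by
      rw [← h4]; exact (Nat.card_coe_set_eq _).symm
    omega
  have hww : (w : G) * w = 1 := congrArg Subtype.val
    (Cfsg.Agent.TwoFusion.DihedralFusion.sq_of_isKleinFour hE hwE)
  have hw1' : (w : G) ≠ 1 := fun hh => hw1 (Subtype.ext hh)
  have hwz : (w : G) ≠ z := fun hh => hwt (Subtype.ext (by rw [hh, htz]))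
  have hconj : ∀ s ∈ S, s * (w : G) * s⁻¹ = w ∨ s * (w : G) * s⁻¹ = w * z := by
    intro s hs
    have h1 : (⟨s, hs⟩ : (S : Subgroup G)) * w * ⟨s, hs⟩⁻¹ ∈ E := hEn.conj_mem w hwE _
    set x : (S : Subgroup G) := ⟨s, hs⟩ * w * ⟨s, hs⟩⁻¹ with hx
    have hxv : (x : G) = s * w * s⁻¹ := rfl
    have hx1 : x ≠ 1 := by
      intro hh
      apply hw1
      have : (⟨s, hs⟩ : (S : Subgroup G)) * w * ⟨s, hs⟩⁻¹ = 1 := hh
      calc w = (⟨s, hs⟩ : (S : Subgroup G))⁻¹ * ((⟨s, hs⟩ : (S : Subgroup G)) * w * ⟨s, hs⟩⁻¹) *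
            ⟨s, hs⟩ := by group
        _ = 1 := by rw [this]; group
    have hxt : x ≠ t := by
      intro hh
      apply hwz
      have h2 : s * (w : G) * s⁻¹ = z := by rw [← hxv, hh, htz]
      calc (w : G) = s⁻¹ * (s * w * s⁻¹) * s := by group
        _ = s⁻¹ * (z * s) := by rw [h2]; group
        _ = z := by rw [← (hSz s hs).eq]; group
    -- `E = {1, t, w, w t}`
    by_cases hxw : x = w
    · left; rw [← hxv, hxw]
    · right
      have h2 : x = w * t := by
        have hmul : w * t ∈ E := E.mul_mem hwE htE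
        by_contra hxwt
        have h4 : Nat.card E = 4 := hE.card_four
        have h8 : ({1, t, w, w * t, x} : Set (S : Subgroup G)) ⊆ (E : Set (S : Subgroup G)) := by
          rintro y (rfl | rfl | rfl | rfl | rfl)
          · exact E.one_mem
          · exact htE
          · exact hwE
          · exact hmul
          · exact h1
        have h9 : Set.ncard ({1, t, w, w * t, x} : Set (S : Subgroup G)) = 5 := by
          have a1 : x ≠ w * t := hxwt
          have a2 : w ≠ w * t := fun hh => ht1 (by simpa using hh.symm)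
          have a3 : t ≠ w * t := fun hh => hw1 (by simpa using hh.symm)
          have a4 : (1 : (S : Subgroup G)) ≠ w * t := by
            intro hh
            apply hwt
            have htt' : t * t = 1 := Subtype.ext htt
            calc w = w * (t * t) := by rw [htt', mul_one]
              _ = (w * t) * t := by group
              _ = t := by rw [← hh, one_mul]
          rw [Set.ncard_insert_of_notMem, Set.ncard_insert_of_notMem,
            Set.ncard_insert_of_notMem, Set.ncard_insert_of_notMem, Set.ncard_singleton]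
          · simpa using Ne.symm a1
          · simp only [Set.mem_insert_iff, Set.mem_singleton_iff, not_or]
            exact ⟨a2, Ne.symm hxw⟩
          · simp only [Set.mem_insert_iff, Set.mem_singleton_iff, not_or]
            exact ⟨Ne.symm hwt, a3, Ne.symm hxt⟩
          · simp only [Set.mem_insert_iff, Set.mem_singleton_iff, not_or]
            exact ⟨Ne.symm ht1, Ne.symm hw1, a4, Ne.symm hx1⟩
        have h10 := Set.ncard_le_ncard h8 (Set.toFinite _)
        have h7 : Set.ncard (E : Set (S : Subgroup G)) = 4 := by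
          rw [← h4]; exact (Nat.card_coe_set_eq _).symm
        omega
      rw [← hxv, h2, ← htz]; rfl
  rcases isConj_or_bad h hf (orderOf_eq_two_of_mul_self hww hw1') with h1 | h1
  · left; exact ⟨w, w.2, h1, hwz, hconj⟩
  · right; exact ⟨w, w.2, h1, hconj⟩

include h hf hG2 hzS hSz hni hComm in
/-- (R4): `S` has a normal four-group `{1, z, v, v z}` inside `D ∪ {1}`. -/
theorem exists_four (hK : ∃ u : G, Bad Ω u) :
    ∃ v ∈ S, IsConj z v ∧ v ≠ z ∧ ∀ s ∈ S, s * v * s⁻¹ = v ∨ s * v * s⁻¹ = v * z := by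
  rcases exists_bad_or h hf hG2 S hzS hSz hni hK with h0 | ⟨u, huS, hu, huc⟩
  · exact h0
  by_contra hno
  push Not at hno
  have hzz : z * z = 1 := h.mul_self (IsConj.refl z)
  have hzi : z⁻¹ = z := h.inv_eq (IsConj.refl z)
  have hz1 : z ≠ 1 := by
    intro h1
    have := h.invol
    rw [h1, orderOf_one] at this
    exact absurd this (by norm_num)
  have huz : Commute u z := hSz u huS
  -- Claim A: `D ∩ C_S(u) = {z}`
  have hA : ∀ e ∈ S, IsConj z e → Commute e u → e = z := by
    intro e heS he heu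
    by_contra hez
    let S1 : Subgroup G := (S : Subgroup G) ⊓ Subgroup.centralizer ({u} : Set G)
    have hS1 : ∀ x, x ∈ S1 ↔ x ∈ S ∧ Commute x u := by
      intro x
      rw [Subgroup.mem_inf, Subgroup.mem_centralizer_singleton_iff]
      exact Iff.rfl
    have hS1p : IsPGroup 2 S1 := S.isPGroup'.to_le inf_le_left
    have hS1c := hComm u hu S1 hS1p (fun t ht => ((hS1 t).mp ht).2)
    let N := dSubgroup h hf S1 hS1c
    have hN : ∀ x, x ∈ N ↔ x = 1 ∨ (x ∈ S1 ∧ IsConj z x) := fun x => Iff.rfl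
    have hnorm : (N.subgroupOf (S : Subgroup G)).Normal := by
      refine ⟨fun n hn s => ?_⟩
      rw [Subgroup.mem_subgroupOf] at hn ⊢
      rcases (hN _).mp hn with h1 | ⟨h1, h2⟩
      · refine (hN _).mpr (Or.inl ?_)
        show (s : G) * n * (s : G)⁻¹ = 1
        rw [h1]; group
      · refine (hN _).mpr (Or.inr ⟨?_, conj_mem h2 (s : G)⟩)
        rw [hS1] at h1 ⊢
        refine ⟨(s * n * s⁻¹ : (S : Subgroup G)).2, ?_⟩
        show (s : G) * n * (s : G)⁻¹ * u = u * ((s : G) * n * (s : G)⁻¹)
        have hnz : Commute (n : G) z := hSz n n.2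
        have key : (n : G) * ((s : G)⁻¹ * u * s) = ((s : G)⁻¹ * u * s) * n := by
          have := huc (s : G)⁻¹ (S.inv_mem s.2)
          rw [inv_inv] at this
          rcases this with h3 | h3
          · rw [h3]; exact h1.2.eq
          · rw [h3]; exact (h1.2.mul_right hnz).eq
        calc (s : G) * n * (s : G)⁻¹ * u = s * (n * ((s : G)⁻¹ * u * s)) * (s : G)⁻¹ := by group
          _ = s * (((s : G)⁻¹ * u * s) * n) * (s : G)⁻¹ := by rw [key]
          _ = _ := by group
    have hzN : z ∈ N := (hN z).mpr (Or.inr ⟨(hS1 z).mpr ⟨hzS, huz.symm⟩, IsConj.refl z⟩)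
    have heN : e ∈ N := (hN e).mpr (Or.inr ⟨(hS1 e).mpr ⟨heS, heu⟩, he⟩)
    have he1 : e ≠ 1 := by
      intro h1
      have := h.orderOf_eq he
      rw [h1, orderOf_one] at this
      exact absurd this (by norm_num)
    obtain ⟨v, hvN, hv1, hvz, hvs⟩ := exists_central_mod (z := (⟨z, hzS⟩ : (S : Subgroup G)))
      S.isPGroup' (N.subgroupOf (S : Subgroup G)) (Subtype.ext hzz)
      (fun x => Subtype.ext (hSz x x.2).eq)
      ⟨⟨e, heS⟩, heN, fun hh => he1 (congrArg Subtype.val hh),
        fun hh => hez (congrArg Subtype.val hh)⟩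
    rw [Subgroup.mem_subgroupOf] at hvN
    rcases (hN _).mp hvN with h1 | ⟨-, h1⟩
    · exact hv1 (Subtype.ext h1)
    · obtain ⟨s, hs, hs1, hs2⟩ := hno v v.2 h1 (fun hh => hvz (Subtype.ext hh))
      rcases hvs ⟨s, hs⟩ with h2 | h2
      · exact hs1 (congrArg Subtype.val h2)
      · exact hs2 (congrArg Subtype.val h2)
  -- elements of `D ∩ S`, `≠ z`, move `u`
  have hA' : ∀ e ∈ S, IsConj z e → e ≠ z → e * u * e⁻¹ = u * z := by
    intro e heS he hez
    rcases huc e heS with h1 | h1
    · refine absurd (hA e heS he ?_) hez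
      show e * u = u * e
      calc e * u = e * u * e⁻¹ * e := by group
        _ = u * e := by rw [h1]
    · exact h1
  obtain ⟨d, hdS, hd, hdz⟩ := exists_mem_S h S hSz hni
  have hdd := h.mul_self hd
  have hdi := h.inv_eq hd
  have hduc := hA' d hdS hd hdz
  -- Claim C: `D ∩ C_S(d) = {z, d, dz}`
  have hC : ∀ e ∈ S, IsConj z e → Commute e d → e = z ∨ e = d ∨ e = d * z := by
    intro e heS he hed
    by_cases hez : e = z
    · exact Or.inl hez
    by_cases hed' : e = d
    · exact Or.inr (Or.inl hed')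
    right; right
    have h1 := hA' e heS he hez
    have h2 : Commute (e * d) u := by
      have h3 : e * d * u * (e * d)⁻¹ = u := by
        calc e * d * u * (e * d)⁻¹ = e * (d * u * d⁻¹) * e⁻¹ := by group
          _ = (e * u * e⁻¹) * (e * z * e⁻¹) := by rw [hduc]; group
          _ = u * z * (z * e * e⁻¹) := by rw [h1, (hSz e heS).eq]
          _ = u * (z * z) := by group
          _ = u := by rw [hzz, mul_one]
      show e * d * u = u * (e * d)
      calc e * d * u = e * d * u * (e * d)⁻¹ * (e * d) := by group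
        _ = u * (e * d) := by rw [h3]
    have h3 : e * d = z := hA _ (S.mul_mem heS hdS) (mul_mem_class h hf he hd hed hed') h2
    calc e = e * (d * d) := by rw [hdd, mul_one]
      _ = (e * d) * d := by group
      _ = z * d := by rw [h3]
      _ = d * z := (hSz d hdS).symm.eq
  -- Claim D: elements of `D ∩ S`, `≠ z`, are not squares in `S`
  have hD : ∀ e ∈ S, IsConj z e → e ≠ z → ∀ p ∈ S, p * p ≠ e := by
    intro e heS he hez p hp hpe
    apply hez
    refine hA e heS he ?_
    have h1 : e * u * e⁻¹ = u := by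
      rw [← hpe]
      rcases huc p hp with h2 | h2
      · calc p * p * u * (p * p)⁻¹ = p * (p * u * p⁻¹) * p⁻¹ := by group
          _ = u := by rw [h2, h2]
      · calc p * p * u * (p * p)⁻¹ = p * (p * u * p⁻¹) * p⁻¹ := by group
          _ = p * (u * z) * p⁻¹ := by rw [h2]
          _ = (p * u * p⁻¹) * (p * z * p⁻¹) := by group
          _ = u * z * (z * p * p⁻¹) := by rw [h2, (hSz p hp).eq]
          _ = u * (z * z) := by group
          _ = u := by rw [hzz, mul_one]
    show e * u = u * e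
    calc e * u = e * u * e⁻¹ * e := by group
      _ = u * e := by rw [h1]
  -- Claim E: `z` is not a square in `C_S(d)`
  have hE : ∀ p ∈ S, Commute p d → p * p ≠ z := by
    intro p hp hpd hpz
    obtain ⟨g₀, hg₀⟩ := isConj_iff.mp hd.symm
    let P1 : Subgroup G := (S : Subgroup G) ⊓ Subgroup.centralizer ({d} : Set G)
    have hP1 : ∀ x, x ∈ P1 ↔ x ∈ S ∧ Commute x d := by
      intro x
      rw [Subgroup.mem_inf, Subgroup.mem_centralizer_singleton_iff]
      exact Iff.rfl
    have hP1p : IsPGroup 2 P1 := S.isPGroup'.to_le inf_le_left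
    let V : Subgroup G := P1.map (MulAut.conj g₀).toMonoidHom
    have hVp : IsPGroup 2 V := hP1p.map _
    have hVC : V ≤ Subgroup.centralizer ({z} : Set G) := by
      rintro _ ⟨x, hx, rfl⟩
      rw [Subgroup.mem_centralizer_singleton_iff]
      show g₀ * x * g₀⁻¹ * z = z * (g₀ * x * g₀⁻¹)
      have h1 := ((hP1 x).mp hx).2.eq
      rw [← hg₀]
      calc g₀ * x * g₀⁻¹ * (g₀ * d * g₀⁻¹) = g₀ * (x * d) * g₀⁻¹ := by group
        _ = g₀ * (d * x) * g₀⁻¹ := by rw [h1]
        _ = _ := by group
    have hSC : (S : Subgroup G) ≤ Subgroup.centralizer ({z} : Set G) := by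
      intro s hs
      rw [Subgroup.mem_centralizer_singleton_iff]; exact (hSz s hs).eq
    obtain ⟨c, hc, hcV⟩ := Cfsg.Agent.TwoFusion.DihedralFusion.exists_conj_mem S _ V hSC hVC hVp
    rw [Subgroup.mem_centralizer_singleton_iff] at hc
    have hgS : ∀ x ∈ P1, (c * g₀) * x * (c * g₀)⁻¹ ∈ S := by
      intro x hx
      have := hcV (g₀ * x * g₀⁻¹) ⟨x, hx, rfl⟩
      have e1 : (c * g₀) * x * (c * g₀)⁻¹ = c * (g₀ * x * g₀⁻¹) * c⁻¹ := by group
      rw [e1]; exact this
    have hzP1 : z ∈ P1 := (hP1 z).mpr ⟨hzS, (hSz d hdS).symm⟩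
    have hpP1 : p ∈ P1 := (hP1 p).mpr ⟨hp, hpd⟩
    refine hD _ (hgS z hzP1) (conj_mem (IsConj.refl z) (c * g₀)) ?_ _ (hgS p hpP1) ?_
    · intro h1
      apply hdz
      have h2 : (c * g₀) * d * (c * g₀)⁻¹ = z := by
        calc (c * g₀) * d * (c * g₀)⁻¹ = c * (g₀ * d * g₀⁻¹) * c⁻¹ := by group
          _ = z := by rw [hg₀, hc]; group
      calc d = (c * g₀)⁻¹ * ((c * g₀) * d * (c * g₀)⁻¹) * (c * g₀) := by group
        _ = (c * g₀)⁻¹ * ((c * g₀) * z * (c * g₀)⁻¹) * (c * g₀) := by rw [h2, h1]
        _ = z := by group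
    · calc (c * g₀) * p * (c * g₀)⁻¹ * ((c * g₀) * p * (c * g₀)⁻¹)
          = (c * g₀) * (p * p) * (c * g₀)⁻¹ := by group
        _ = (c * g₀) * z * (c * g₀)⁻¹ := by rw [hpz]
  -- Claim F
  have hcd : ∀ x ∈ S, x * z * x⁻¹ = z := by
    intro x hx
    rw [(hSz x hx).eq]; group
  have hF : ∀ e ∈ S, IsConj z e → (e * d * e⁻¹ = d ∨ e * d * e⁻¹ = d * z) →
      e = z ∨ e = d ∨ e = d * z := by
    intro e heS he hed
    rcases hed with h1 | h1
    · refine hC e heS he ?_
      show e * d = d * e
      calc e * d = e * d * e⁻¹ * e := by group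
        _ = d * e := by rw [h1]
    · exfalso
      have hee := h.mul_self he
      have hei := h.inv_eq he
      have huu := hu.mul_self
      have hui := hu.inv_eq
      have hez : e ≠ z := by
        rintro rfl
        rw [← (hSz d hdS).eq] at h1
        have h2 : d = d * e := by
          rw [← h1]; group
        exact hz1 (by simpa using h2.symm)
      have h2 := hA' e heS he hez
      -- `u d u⁻¹ = d z`
      have h3 : u * d * u⁻¹ = d * z := by
        have h4 : d * u = u * z * d := by
          calc d * u = d * u * d⁻¹ * d := by group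
            _ = u * z * d := by rw [hduc]
        have h5 : u * (d * z) = d * u := by
          rw [h4, (hSz d hdS).eq, mul_assoc]
        calc u * d * u⁻¹ = u * d * (z * z) * u⁻¹ := by rw [hzz]; group
          _ = (u * (d * z)) * (z * u⁻¹) := by group
          _ = d * (u * z) * u⁻¹ := by rw [h5]; group
          _ = d * (z * u) * u⁻¹ := by rw [huz.eq]
          _ = d * z := by group
      have h6 : e * d * u = u * (e * d) := by
        have h7 : e * d * u * (e * d)⁻¹ = u := by
          calc e * d * u * (e * d)⁻¹ = e * (d * u * d⁻¹) * e⁻¹ := by group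
            _ = (e * u * e⁻¹) * (e * z * e⁻¹) := by rw [hduc]; group
            _ = u * z * z := by rw [h2, hcd e heS]
            _ = u := by rw [mul_assoc, hzz, mul_one]
        calc e * d * u = e * d * u * (e * d)⁻¹ * (e * d) := by group
          _ = u * (e * d) := by rw [h7]
      refine hE (e * d * u) (S.mul_mem (S.mul_mem heS hdS) huS) ?_ ?_
      · show e * d * u * d = d * (e * d * u)
        have h8 : (e * d * u) * d * (e * d * u)⁻¹ = d := by
          calc (e * d * u) * d * (e * d * u)⁻¹ = e * d * (u * d * u⁻¹) * d⁻¹ * e⁻¹ := by group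
            _ = e * d * (d * z) * d⁻¹ * e⁻¹ := by rw [h3]
            _ = (e * d * e⁻¹) * (e * (d * z * d⁻¹) * e⁻¹) := by group
            _ = d * z * z := by rw [h1, hcd d hdS, hcd e heS]
            _ = d := by rw [mul_assoc, hzz, mul_one]
        calc e * d * u * d = (e * d * u) * d * (e * d * u)⁻¹ * (e * d * u) := by group
          _ = d * (e * d * u) := by rw [h8]
      · calc e * d * u * (e * d * u) = e * d * u * (u * (e * d)) := by rw [h6]
          _ = e * d * (u * u) * (e * d) := by group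
          _ = e * d * e * d := by rw [huu]; group
          _ = e * d * e⁻¹ * d := by rw [hei]
          _ = d * z * d := by rw [h1]
          _ = d * (z * d) := by group
          _ = d * (d * z) := by rw [(hSz d hdS).eq]
          _ = (d * d) * z := by group
          _ = z := by rw [hdd, one_mul]
  -- Claim G: the stabiliser of `{d, dz}` is self-normalising in `S`
  let S2 : Subgroup (S : Subgroup G) :=
    { carrier := {x | (x : G) * d * (x : G)⁻¹ = d ∨ (x : G) * d * (x : G)⁻¹ = d * z}
      one_mem' := by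
        left
        show (1 : G) * d * (1 : G)⁻¹ = d
        group
      mul_mem' := by
        rintro x y hx hy
        have e1 : (((x * y : (S : Subgroup G)) : G)) * d * (((x * y : (S : Subgroup G)) : G))⁻¹ =
            (x : G) * ((y : G) * d * (y : G)⁻¹) * (x : G)⁻¹ := by
          show ((x : G) * y) * d * ((x : G) * y)⁻¹ = _
          group
        have hx' : (x : G) * d * (x : G)⁻¹ = d ∨ (x : G) * d * (x : G)⁻¹ = d * z := hx
        have hy' : (y : G) * d * (y : G)⁻¹ = d ∨ (y : G) * d * (y : G)⁻¹ = d * z := hy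
        show _ ∨ _
        rw [e1]
        have e2 : (x : G) * (d * z) * (x : G)⁻¹ = ((x : G) * d * (x : G)⁻¹) * z := by
          calc (x : G) * (d * z) * (x : G)⁻¹ =
              ((x : G) * d * (x : G)⁻¹) * ((x : G) * z * (x : G)⁻¹) := by group
            _ = _ := by rw [hcd x x.2]
        rcases hy' with h2 | h2 <;> rcases hx' with h1 | h1
        · left; rw [h2, h1]
        · right; rw [h2, h1]
        · right; rw [h2, e2, h1]
        · left; rw [h2, e2, h1, mul_assoc, hzz, mul_one]
      inv_mem' := by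
        rintro x hx
        have hx' : (x : G) * d * (x : G)⁻¹ = d ∨ (x : G) * d * (x : G)⁻¹ = d * z := hx
        show _ ∨ _
        have e1 : (((x⁻¹ : (S : Subgroup G)) : G)) = (x : G)⁻¹ := rfl
        rw [e1, inv_inv]
        rcases hx' with h1 | h1
        · left
          calc (x : G)⁻¹ * d * x = (x : G)⁻¹ * ((x : G) * d * (x : G)⁻¹) * x := by rw [h1]
            _ = d := by group
        · right
          have h2 : (x : G)⁻¹ * z * x = z := by
            have := hcd (x : G)⁻¹ (S.inv_mem x.2)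
            rwa [inv_inv] at this
          have h3 : (x : G)⁻¹ * (d * z) * x = d := by
            rw [← h1]; group
          calc (x : G)⁻¹ * d * x = (x : G)⁻¹ * d * x * (z * z) := by rw [hzz, mul_one]
            _ = (x : G)⁻¹ * d * x * ((x : G)⁻¹ * z * x) * z := by rw [h2]; group
            _ = ((x : G)⁻¹ * (d * z) * x) * z := by group
            _ = d * z := by rw [h3] }
  have hS2 : ∀ x : (S : Subgroup G), x ∈ S2 ↔
      ((x : G) * d * (x : G)⁻¹ = d ∨ (x : G) * d * (x : G)⁻¹ = d * z) := fun x => Iff.rfl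
  have htop : S2 = ⊤ := by
    by_contra hne
    have hnil : Group.IsNilpotent (S : Subgroup G) := S.isPGroup'.isNilpotent
    have hlt := Group.normalizerCondition_of_isNilpotent S2 (lt_top_iff_ne_top.mpr hne)
    obtain ⟨n, hn, hnS2⟩ := SetLike.exists_of_lt hlt
    apply hnS2
    rw [hS2]
    have hdS2 : (⟨d, hdS⟩ : (S : Subgroup G)) ∈ S2 := by
      rw [hS2]; left
      show d * d * d⁻¹ = d
      group
    have h1 : n * ⟨d, hdS⟩ * n⁻¹ ∈ S2 := (Subgroup.mem_normalizer_iff.mp hn _).mp hdS2
    rcases hF ((n : G) * d * (n : G)⁻¹) (n * ⟨d, hdS⟩ * n⁻¹ : (S : Subgroup G)).2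
      (conj_mem hd n) ((hS2 _).mp h1) with h2 | h2
    · exfalso
      apply hdz
      calc d = (n : G)⁻¹ * ((n : G) * d * (n : G)⁻¹) * n := by group
        _ = (n : G)⁻¹ * (z * n) := by rw [h2]; group
        _ = z := by rw [← (hSz n n.2).eq]; group
    · exact h2
  obtain ⟨s, hs, hs1, hs2⟩ := hno d hdS hd hdz
  have : (⟨s, hs⟩ : (S : Subgroup G)) ∈ S2 := by rw [htop]; exact Subgroup.mem_top _
  rcases (hS2 _).mp this with h1 | h1
  · exact hs1 h1
  · exact hs2 h1

include h hf hG2 hzS hSz hni hComm in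
/-- (R1): `u ∼ u y` for all bad `u` and all `y ∈ D ∩ C(u)` -/
theorem isConj_mul {u y : G} (hu : Bad Ω u) (hy : IsConj z y) (hyu : Commute y u) :
    IsConj u (u * y) := by
  obtain ⟨v, hvS, hv, hvz, hvs⟩ := exists_four h hf hG2 S hzS hSz hni hComm ⟨u, hu⟩
  -- first for `u ∈ S` and `y = z`
  have key : ∀ w ∈ S, Bad Ω w → IsConj w (w * z) := by
    intro w hwS hw
    rcases hvs w hwS with h1 | h1
    · have hvw : Commute v w := by
        show v * w = w * v
        calc v * w = (w * v * w⁻¹) * w := by rw [h1]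
          _ = w * v := by group
      exact isConj_mul_of_commute h hf hw (IsConj.refl z) hv (hSz w hwS).symm hvw (hSz v hvS) hvz
    · refine isConj_iff.mpr ⟨v, ?_⟩
      have hvi := h.inv_eq hv
      have h2 : w * v = v * z * w := by
        calc w * v = w * v * w⁻¹ * w := by group
          _ = v * z * w := by rw [h1]
      calc v * w * v⁻¹ = v * (w * v) := by rw [hvi]; group
        _ = v * (v * z * w) := by rw [h2]
        _ = (v * v) * (z * w) := by group
        _ = w * z := by rw [h.mul_self hv, one_mul, (hSz w hwS).eq]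
  obtain ⟨g, hg⟩ := Cfsg.Agent.TwoFusion.DihedralFusion.exists_conj_mem_sylow S u hu.mul_self
  have hw : Bad Ω (g * u * g⁻¹) := hu.conj g
  have h1 := key _ hg hw
  obtain ⟨-, p, q, hpq, hp, hq⟩ := id hw
  have hyw : Commute (g * y * g⁻¹) (g * u * g⁻¹) := by
    show g * y * g⁻¹ * (g * u * g⁻¹) = g * u * g⁻¹ * (g * y * g⁻¹)
    calc g * y * g⁻¹ * (g * u * g⁻¹) = g * (y * u) * g⁻¹ := by group
      _ = g * (u * y) * g⁻¹ := by rw [hyu.eq]
      _ = _ := by group
  obtain ⟨c, hc, hcy⟩ := exists_conj_commute h hw.mul_self hpq hp hq (IsConj.refl z)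
    (conj_mem hy g) (hSz _ hg).symm hyw
  have h2 : IsConj (g * u * g⁻¹ * z) (u * y) := by
    refine isConj_iff.mpr ⟨g⁻¹ * c, ?_⟩
    have hc' : c * (g * u * g⁻¹) * c⁻¹ = g * u * g⁻¹ := by rw [hc.eq]; group
    calc g⁻¹ * c * (g * u * g⁻¹ * z) * (g⁻¹ * c)⁻¹
        = g⁻¹ * ((c * (g * u * g⁻¹) * c⁻¹) * (c * z * c⁻¹)) * g := by group
      _ = g⁻¹ * ((g * u * g⁻¹) * (g * y * g⁻¹)) * g := by rw [hc', hcy]
      _ = u * y := by group
  exact (isConj_iff.mpr ⟨g, rfl⟩ : IsConj u (g * u * g⁻¹)).trans (h1.trans h2)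

include h hG2 hSz in
omit hf hzS hni hComm in
/-- (R3): some bad involution of `S` centralises a normal four-group `{1, z, v, vz}` of `S` inside
`D ∪ {1}`. -/
theorem exists_bad_commute (hK : ∃ u : G, Bad Ω u) {v : G}
    (hvs : ∀ s ∈ S, s * v * s⁻¹ = v ∨ s * v * s⁻¹ = v * z) :
    ∃ u ∈ S, Bad Ω u ∧ Commute v u := by
  by_contra hcon
  push Not at hcon
  have hzz : z * z = 1 := h.mul_self (IsConj.refl z)
  obtain ⟨u₀, hu₀⟩ := hK
  obtain ⟨g, hg⟩ := Cfsg.Agent.TwoFusion.DihedralFusion.exists_conj_mem_sylow S u₀ hu₀.mul_self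
  have hw := hu₀.conj g
  set w := g * u₀ * g⁻¹ with hwdef
  have hwv : ¬ Commute v w := hcon w hg hw
  let S0 : Subgroup G := (S : Subgroup G) ⊓ Subgroup.centralizer ({v} : Set G)
  have hS0 : ∀ x, x ∈ S0 ↔ x ∈ S ∧ Commute x v := by
    intro x
    rw [Subgroup.mem_inf, Subgroup.mem_centralizer_singleton_iff]
    exact Iff.rfl
  have hcomm : ∀ x ∈ S, (x * v * x⁻¹ = v ↔ Commute x v) := by
    intro x _
    constructor
    · intro h1
      show x * v = v * x
      calc x * v = x * v * x⁻¹ * x := by group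
        _ = v * x := by rw [h1]
    · intro h1
      rw [h1.eq]; group
  have hidx : S0.relIndex (S : Subgroup G) = 2 := by
    have h1 : S0.relIndex (S : Subgroup G) = (S0.subgroupOf (S : Subgroup G)).index := rfl
    rw [h1, Subgroup.index_eq_two_iff]
    refine ⟨⟨w, hg⟩, fun b => ?_⟩
    rw [Subgroup.mem_subgroupOf, Subgroup.mem_subgroupOf, hS0, hS0]
    have hb : (b : G) ∈ S := b.2
    have hwc : w * v * w⁻¹ = v * z := by
      rcases hvs w hg with h2 | h2
      · exact absurd ((hcomm w hg).mp h2).symm hwv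
      · exact h2
    have hbw : ((b * ⟨w, hg⟩ : (S : Subgroup G)) : G) = (b : G) * w := rfl
    rw [hbw]
    have hbz : (b : G) * z * (b : G)⁻¹ = z := by rw [(hSz b hb).eq]; group
    have e1 : (b : G) * w * v * ((b : G) * w)⁻¹ = ((b : G) * v * (b : G)⁻¹) * z := by
      calc (b : G) * w * v * ((b : G) * w)⁻¹ = (b : G) * (w * v * w⁻¹) * (b : G)⁻¹ := by group
        _ = ((b : G) * v * (b : G)⁻¹) * ((b : G) * z * (b : G)⁻¹) := by rw [hwc]; group
        _ = _ := by rw [hbz]
    have hz1 : z ≠ 1 := by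
      intro h1
      have := h.invol
      rw [h1, orderOf_one] at this
      exact absurd this (by norm_num)
    rcases hvs b hb with h2 | h2
    · right
      refine ⟨⟨hb, (hcomm b hb).mp h2⟩, fun hh => ?_⟩
      have h3 := (hcomm _ (S.mul_mem hb hg)).mpr hh.2
      rw [e1, h2] at h3
      exact hz1 (by simpa using h3)
    · left
      refine ⟨⟨S.mul_mem hb hg, (hcomm _ (S.mul_mem hb hg)).mp ?_⟩, fun hh => ?_⟩
      · rw [e1, h2, mul_assoc, hzz, mul_one]
      · have h3 := (hcomm b hb).mpr hh.2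
        rw [h2] at h3
        exact hz1 (by simpa using h3)
  rcases Cfsg.Agent.Transfer.ThompsonTransfer.thompson_transfer S S0 inf_le_left hidx w
    (by rw [pow_two]; exact hw.mul_self) with ⟨M, -, hM, -⟩ | ⟨c, hc⟩
  · exact hG2 M hM
  · rw [hS0] at hc
    exact hcon _ hc.1 (hw.conj c) hc.2.symm

include h hf hG2 hzS hSz hni hComm in
/-- There is a 2-subgroup `R` of maximal order among the 2-subgroups with at least two fixed points
and a bad involution `w ∈ Z(R)` centralising two different commuting elements of `D`. -/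
theorem exists_max_pair (hK : ∃ u : G, Bad Ω u) :
    ∃ (R : Subgroup G) (a b : Ω), a ≠ b ∧ IsPGroup 2 R ∧ (∀ r ∈ R, r • a = a ∧ r • b = b) ∧
      (∀ R' : Subgroup G, IsPGroup 2 R' →
        (∃ c d : Ω, c ≠ d ∧ ∀ r ∈ R', r • c = c ∧ r • d = d) → Nat.card R' ≤ Nat.card R) ∧
      ∃ w ∈ R, Bad Ω w ∧ (∀ r ∈ R, Commute r w) ∧
        ∃ y y' : G, IsConj z y ∧ IsConj z y' ∧ y ≠ y' ∧ Commute y y' ∧ Commute y w ∧
          Commute y' w := by
  classical
  obtain ⟨v, hvS, hv, hvz, hvs⟩ := exists_four h hf hG2 S hzS hSz hni hComm hK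
  let 𝓡 : Set (Subgroup G) := {R' | IsPGroup 2 R' ∧
    ∃ c d : Ω, c ≠ d ∧ ∀ r ∈ R', r • c = c ∧ r • d = d}
  have hz : ∀ u : G, Bad Ω u → Subgroup.zpowers u ∈ 𝓡 ∧ Nat.card (Subgroup.zpowers u) = 2 := by
    intro u hu
    obtain ⟨-, a, b, hab, ha, hb⟩ := id hu
    refine ⟨⟨isPGroup_zpowers hu.mul_self, a, b, hab, fun r hr => ⟨?_, ?_⟩⟩, ?_⟩
    · have : Subgroup.zpowers u ≤ MulAction.stabilizer G a := by
        rw [Subgroup.zpowers_le]; exact ha
      exact this hr
    · have : Subgroup.zpowers u ≤ MulAction.stabilizer G b := by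
        rw [Subgroup.zpowers_le]; exact hb
      exact this hr
    · rw [Nat.card_zpowers, hu.1]
  have hne : 𝓡.Nonempty := by
    obtain ⟨u, hu⟩ := hK
    exact ⟨_, (hz u hu).1⟩
  obtain ⟨R₀, hR₀, hmax⟩ := Set.exists_max_image 𝓡 (fun R' => Nat.card R') (Set.toFinite _) hne
  obtain ⟨hR₀p, a₀, b₀, hab₀, hR₀f⟩ := hR₀
  -- move `R₀` into `S`
  obtain ⟨g, -, hg⟩ := Cfsg.Agent.TwoFusion.DihedralFusion.exists_conj_mem S ⊤ R₀ le_top le_top
    hR₀p
  let R : Subgroup G := R₀.map (MulAut.conj g).toMonoidHom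
  have hRp : IsPGroup 2 R := hR₀p.map _
  have hRcard : Nat.card R = Nat.card R₀ :=
    Nat.card_congr (R₀.equivMapOfInjective _ (MulAut.conj g).injective).symm.toEquiv
  have hRS : R ≤ S := by
    rintro _ ⟨x, hx, rfl⟩
    exact hg x hx
  have hRf : ∀ r ∈ R, r • (g • a₀) = g • a₀ ∧ r • (g • b₀) = g • b₀ := by
    rintro _ ⟨x, hx, rfl⟩
    show (g * x * g⁻¹) • (g • a₀) = g • a₀ ∧ (g * x * g⁻¹) • (g • b₀) = g • b₀
    rw [mul_smul, mul_smul, inv_smul_smul, mul_smul, mul_smul, inv_smul_smul,
      (hR₀f x hx).1, (hR₀f x hx).2]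
    exact ⟨rfl, rfl⟩
  have hab : g • a₀ ≠ g • b₀ := fun hh => hab₀ (smul_left_cancel g hh)
  have hmaxR : ∀ R' : Subgroup G, IsPGroup 2 R' →
      (∃ c d : Ω, c ≠ d ∧ ∀ r ∈ R', r • c = c ∧ r • d = d) → Nat.card R' ≤ Nat.card R := by
    intro R' h1 h2
    rw [hRcard]
    exact hmax R' ⟨h1, h2⟩
  have hbad : ∀ w ∈ R, orderOf w = 2 → Bad Ω w :=
    fun w hw h2 => ⟨h2, _, _, hab, (hRf w hw).1, (hRf w hw).2⟩
  let R1 : Subgroup G := R ⊓ Subgroup.centralizer ({v} : Set G)
  have hR1 : ∀ x, x ∈ R1 ↔ x ∈ R ∧ Commute x v := by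
    intro x
    rw [Subgroup.mem_inf, Subgroup.mem_centralizer_singleton_iff]
    exact Iff.rfl
  have hzz : z * z = 1 := h.mul_self (IsConj.refl z)
  by_cases h0 : R1 = ⊥
  · -- `|R| ≤ 2`
    have hR2 : Nat.card R ≤ 2 := by
      have h1 : R1.relIndex R ≤ 2 := by
        by_contra hcon
        push Not at hcon
        -- three different cosets
        have h2 : 2 < (R1.subgroupOf R).index := hcon
        have hz1 : z ≠ 1 := by
          intro h1
          have := h.invol
          rw [h1, orderOf_one] at this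
          exact absurd this (by norm_num)
        by_cases hall : ∀ r ∈ R, Commute r v
        · have : R1.subgroupOf R = ⊤ := by
            rw [eq_top_iff]
            intro x _
            rw [Subgroup.mem_subgroupOf, hR1]
            exact ⟨x.2, hall x x.2⟩
          rw [this, Subgroup.index_top] at h2
          omega
        · push Not at hall
          obtain ⟨w, hwR, hwv⟩ := hall
          have hcomm : ∀ x : G, (x * v * x⁻¹ = v ↔ Commute x v) := by
            intro x
            constructor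
            · intro h1
              show x * v = v * x
              calc x * v = x * v * x⁻¹ * x := by group
                _ = v * x := by rw [h1]
            · intro h1
              rw [h1.eq]; group
          have hwc : w * v * w⁻¹ = v * z := by
            rcases hvs w (hRS hwR) with h3 | h3
            · exact absurd ((hcomm w).mp h3) hwv
            · exact h3
          have : (R1.subgroupOf R).index = 2 := by
            rw [Subgroup.index_eq_two_iff]
            refine ⟨⟨w, hwR⟩, fun b => ?_⟩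
            rw [Subgroup.mem_subgroupOf, Subgroup.mem_subgroupOf, hR1, hR1]
            have hb : (b : G) ∈ R := b.2
            have hbw : ((b * ⟨w, hwR⟩ : R) : G) = (b : G) * w := rfl
            rw [hbw]
            have hbz : (b : G) * z * (b : G)⁻¹ = z := by rw [(hSz b (hRS hb)).eq]; group
            have e1 : (b : G) * w * v * ((b : G) * w)⁻¹ = ((b : G) * v * (b : G)⁻¹) * z := by
              calc (b : G) * w * v * ((b : G) * w)⁻¹ =
                  (b : G) * (w * v * w⁻¹) * (b : G)⁻¹ := by group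
                _ = ((b : G) * v * (b : G)⁻¹) * ((b : G) * z * (b : G)⁻¹) := by rw [hwc]; group
                _ = _ := by rw [hbz]
            rcases hvs b (hRS hb) with h3 | h3
            · right
              refine ⟨⟨hb, (hcomm b).mp h3⟩, fun hh => ?_⟩
              have h4 := (hcomm _).mpr hh.2
              rw [e1, h3] at h4
              exact hz1 (by simpa using h4)
            · left
              refine ⟨⟨R.mul_mem hb hwR, (hcomm _).mp ?_⟩, fun hh => ?_⟩
              · rw [e1, h3, mul_assoc, hzz, mul_one]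
              · have h4 := (hcomm b).mpr hh.2
                rw [h3] at h4
                exact hz1 (by simpa using h4)
          omega
      rw [h0, Subgroup.relIndex_bot_left] at h1
      exact h1
    obtain ⟨u, huS, hu, hvu⟩ := exists_bad_commute h hG2 S hSz hK hvs
    obtain ⟨-, p, q, hpq, hp, hq⟩ := id hu
    refine ⟨Subgroup.zpowers u, p, q, hpq, (hz u hu).1.1, ?_, ?_, u, Subgroup.mem_zpowers u, hu,
      ?_, z, v, IsConj.refl z, hv, Ne.symm hvz, (hSz v hvS).symm, (hSz u huS).symm, hvu⟩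
    · intro r hr
      constructor
      · have : Subgroup.zpowers u ≤ MulAction.stabilizer G p := by
          rw [Subgroup.zpowers_le]; exact hp
        exact this hr
      · have : Subgroup.zpowers u ≤ MulAction.stabilizer G q := by
          rw [Subgroup.zpowers_le]; exact hq
        exact this hr
    · intro R' h1 h2
      rw [(hz u hu).2]
      exact (hmaxR R' h1 h2).trans hR2
    · rintro _ ⟨k, rfl⟩
      exact (Commute.refl u).zpow_left k
  · -- a central involution of `R` centralising `v`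
    have : Fact (Nat.Prime 2) := ⟨Nat.prime_two⟩
    have hnorm : (R1.subgroupOf R).Normal := by
      refine ⟨fun n hn s => ?_⟩
      rw [Subgroup.mem_subgroupOf, hR1] at hn ⊢
      refine ⟨(s * n * s⁻¹ : R).2, ?_⟩
      show (s : G) * n * (s : G)⁻¹ * v = v * ((s : G) * n * (s : G)⁻¹)
      have hnz : Commute (n : G) z := hSz n (hRS n.2)
      have key : (n : G) * ((s : G)⁻¹ * v * s) = ((s : G)⁻¹ * v * s) * n := by
        have := hvs (s : G)⁻¹ (S.inv_mem (hRS s.2))
        rw [inv_inv] at this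
        rcases this with h3 | h3
        · rw [h3]; exact hn.2.eq
        · rw [h3]; exact (hn.2.mul_right hnz).eq
      calc (s : G) * n * (s : G)⁻¹ * v = s * (n * ((s : G)⁻¹ * v * s)) * (s : G)⁻¹ := by group
        _ = s * (((s : G)⁻¹ * v * s) * n) * (s : G)⁻¹ := by rw [key]
        _ = _ := by group
    have hne1 : R1.subgroupOf R ≠ ⊥ := by
      intro hh
      apply h0
      rw [Subgroup.subgroupOf_eq_bot, disjoint_iff, inf_of_le_left inf_le_left] at hh
      exact hh
    obtain ⟨t, htR1, htc, ht1⟩ :=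
      Cfsg.Agent.SmallSimple.SylowPrimeCount.exists_mem_center_of_normal hRp _ hne1
    -- an involution in `⟨t⟩`
    obtain ⟨k, hk⟩ := hRp t
    have hord : ∃ j, orderOf t = 2 ^ (j + 1) := by
      obtain ⟨i, -, hi⟩ := (Nat.dvd_prime_pow Nat.prime_two).mp (orderOf_dvd_of_pow_eq_one hk)
      cases i with
      | zero =>
        exfalso
        rw [pow_zero, orderOf_eq_one_iff] at hi
        exact ht1 hi
      | succ j => exact ⟨j, hi⟩
    obtain ⟨j, hj⟩ := hord
    let w : R := t ^ (2 ^ j)
    have hw2 : orderOf w = 2 := by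
      have h1 : orderOf w = orderOf t / Nat.gcd (orderOf t) (2 ^ j) := orderOf_pow t
      rw [h1, hj, Nat.gcd_eq_right (pow_dvd_pow 2 (Nat.le_succ j)), pow_succ]
      exact Nat.mul_div_cancel_left 2 (by positivity)
    have hw2' : orderOf (w : G) = 2 := by rw [← hw2]; exact Subgroup.orderOf_coe w
    have hwR1 : w ∈ R1.subgroupOf R := Subgroup.pow_mem _ htR1 _
    have hwc : w ∈ Subgroup.center R := Subgroup.pow_mem _ htc _
    rw [Subgroup.mem_subgroupOf, hR1] at hwR1
    refine ⟨R, g • a₀, g • b₀, hab, hRp, hRf, hmaxR, w, w.2, hbad w w.2 hw2', ?_, z, v,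
      IsConj.refl z, hv, Ne.symm hvz, (hSz v hvS).symm, (hSz w (hRS w.2)).symm, hwR1.2.symm⟩
    intro r hr
    exact congrArg Subtype.val (Subgroup.mem_center_iff.mp hwc ⟨r, hr⟩)

end

end Cfsg.Agent.AschCrit.FourGroup
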