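import Cfsg.Agent.AschCrit.CommTypes
import Cfsg.Agent.AschCrit.BGroup
import Cfsg.Agent.AschCrit.FourGroup
import Cfsg.Agent.AschCrit.Count
import Cfsg.Agent.AschCrit.TwoTrans

/-!
# Aschbacher's criterion, commutative case: the common frame

The elements of `D` at a point commute.

* `vGrp`, `mem_vGrp` : the subgroup `V_a = D_a ∪ {1}`
* `two_trans` : `G` is 2-transitive
* `exists_bgroup` : for a bad `u`, `C(u)` is a `BGroup` with `2 ^ k = |C_{V_a}(u)|`, `|Fix u| = (2^k)^i + 1`,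
  and `NumType |Ω| |V_a| (2 ^ k) i`
* `exists_type` : the same `k`, `i` for all bad involutions
-/

set_option autoImplicit false

universe u

open Subgroup

namespace Cfsg.Agent.AschCrit.CommFrame

open Cfsg.Agent.TwoFusion.StronglyEmbeddedBasic Cfsg.Agent.AschCrit.Basic
open Cfsg.Agent.AschCrit.Basic.Setup Cfsg.Agent.AschCrit.Closed Cfsg.Agent.AschCrit.Descent
open Cfsg.Agent.AschCrit.NonIso Cfsg.Agent.AschCrit.BGroup Cfsg.Agent.AschCrit.CommTypes
open Cfsg.Agent.AschCrit.IsolatedSwap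

variable {G Ω : Type*} [Group G] [MulAction G Ω] {z : G}

/-! ### The subgroup `V_a` -/

/-- `V_a = D_a ∪ {1}` -/
def vGrp [Finite G] (h : Setup G Ω z) (hf : ∀ g : G, (∀ a : Ω, g • a = a) → g = 1)
    (hcomm : ∀ a : Ω, ∀ d ∈ At z a, ∀ e ∈ At z a, Commute d e) (a : Ω) : Subgroup G where
  carrier := {x | x = 1 ∨ x ∈ At z a}
  one_mem' := Or.inl rfl
  mul_mem' := by
    rintro x y (rfl | hx) (rfl | hy)
    · left; simp
    · right; rwa [one_mul]
    · right; rwa [mul_one]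
    · by_cases hxy : x = y
      · left; rw [hxy, h.mul_self hy.1]
      · right
        exact ⟨mul_mem_class h hf hx.1 hy.1 (hcomm a x hx y hy) hxy, by
          rw [mul_smul, hy.2, hx.2]⟩
  inv_mem' := by
    rintro x (rfl | hx)
    · left; simp
    · right; rwa [h.inv_eq hx.1]

section

variable [Finite G] (h : Setup G Ω z) (hf : ∀ g : G, (∀ a : Ω, g • a = a) → g = 1)
  (hcomm : ∀ a : Ω, ∀ d ∈ At z a, ∀ e ∈ At z a, Commute d e)

theorem mem_vGrp {a : Ω} {x : G} : x ∈ vGrp h hf hcomm a ↔ x = 1 ∨ x ∈ At z a := Iff.rfl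

include hcomm in
omit [Finite G] in
/-- the members of `V_a` commute -/
theorem commute_of_mem_V {a : Ω} {V : Subgroup G} (hV : ∀ x, x ∈ V ↔ x = 1 ∨ x ∈ At z a) {x y : G}
    (hx : x ∈ V) (hy : y ∈ V) : Commute x y := by
  rcases (hV x).mp hx with rfl | hx
  · exact Commute.one_left y
  rcases (hV y).mp hy with rfl | hy
  · exact Commute.one_right x
  exact hcomm a x hx y hy

include h in
omit [Finite G] in
/-- two commuting elements of `D` at a given point -/
theorem exists_two (hn : NonIso z) (a : Ω) : ∃ d ∈ At z a, ∃ e ∈ At z a, d ≠ e ∧ Commute d e := by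
  obtain ⟨y, hy⟩ := h.nonempty_At a
  obtain ⟨d, hd, hc, hne⟩ := hn.exists_of_isConj hy.1
  exact ⟨y, hy, d, ⟨hd, h.fix_of_commute hy.1 hc.symm hy.2⟩, Ne.symm hne, hc⟩

include h hf in
/-- `G` is 2-transitive -/
theorem two_trans (hn : NonIso z) {a b c d : Ω} (hab : a ≠ b) (hcd : c ≠ d) :
    ∃ g : G, g • a = c ∧ g • b = d := by
  obtain ⟨g, hg⟩ := h.trans a c
  have h1 : c ≠ g • b := by
    intro hh
    exact hab (smul_left_cancel g (hg.trans hh))
  obtain ⟨k, hk, hkb⟩ := Cfsg.Agent.AschCrit.TwoTrans.two_trans_of_commute h hf a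
    (exists_two h hn a) h1 hcd
  exact ⟨k * g, by rw [mul_smul, hg, hk], by rw [mul_smul, hkb]⟩

include h hf in
/-- every pair of points is fixed by a bad involution -/
theorem exists_bad_pair (hn : NonIso z) (hK : ∃ v : G, Bad Ω v) {a b : Ω} (hab : a ≠ b) :
    ∃ v : G, Bad Ω v ∧ v • a = a ∧ v • b = b := by
  obtain ⟨v, hv⟩ := hK
  obtain ⟨-, c, d, hcd, hc, hd⟩ := id hv
  obtain ⟨g, hga, hgb⟩ := two_trans h hf hn hcd hab
  refine ⟨g * v * g⁻¹, hv.conj g, ?_, ?_⟩
  · rw [← hga, mul_smul, mul_smul, inv_smul_smul, hc]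
  · rw [← hgb, mul_smul, mul_smul, inv_smul_smul, hd]

include h in
theorem card_at_three (hn : NonIso z) (a : Ω) : 3 ≤ Nat.card (At z a) := by
  obtain ⟨d, hd, e, he, hne, -⟩ := exists_two h hn a
  have h1 := h.odd_card_at a
  have h2 : 1 < Nat.card (At z a) := by
    have : Nontrivial (At z a) := ⟨⟨d, hd⟩, ⟨e, he⟩, fun hh => hne (congrArg Subtype.val hh)⟩
    exact Finite.one_lt_card
  obtain ⟨k, hk⟩ := h1
  omega

include h in
omit [Finite G] in
/-- `|V_a|` is a power of two -/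
theorem card_vGrp_pow {a : Ω} {V : Subgroup G} (hV : ∀ x, x ∈ V ↔ x = 1 ∨ x ∈ At z a) :
    IsPGroup 2 V := by
  intro x
  refine ⟨1, ?_⟩
  rw [pow_one, pow_two]
  exact mul_self_V h hV x

/-! ### Points of `C(u)` -/

omit [Finite G] in
theorem centralizer_zpowers (t : G) :
    centralizer ((zpowers t : Subgroup G) : Set G) = centralizer ({t} : Set G) := by
  rw [zpowers_eq_closure, centralizer_closure]

include h in
theorem mem_pts_centralizer_singleton {u : G} (hu : u * u = 1) (c : Ω) :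
    c ∈ pts Ω z (centralizer ({u} : Set G)) ↔ u • c = c := by
  rw [← centralizer_zpowers, mem_pts_centralizer h _ (isPGroup_zpowers hu)]
  constructor
  · intro h1; exact h1 u (mem_zpowers u)
  · intro h1 t ht
    have hle : zpowers u ≤ MulAction.stabilizer G c := by rw [zpowers_le]; exact h1
    exact hle ht

include h in
theorem card_pts_centralizer {u : G} (hu : u * u = 1) :
    Nat.card (pts Ω z (centralizer ({u} : Set G))) = Nat.card {c : Ω // u • c = c} :=
  Nat.card_congr (Equiv.subtypeEquivRight (fun c => mem_pts_centralizer_singleton h hu c))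

include h in
theorem dSub_centralizer {u : G} (hu : Bad Ω u) {a : Ω}
    (h3 : 1 < Nat.card (AtC z u a))
    (hcomm : ∀ a : Ω, ∀ d ∈ At z a, ∀ e ∈ At z a, Commute d e) :
    DSub Ω z (centralizer ({u} : Set G)) := by
  obtain ⟨-, c, d, hcd, hc, hd⟩ := id hu
  refine ⟨⟨c, d, hcd, (mem_pts_centralizer_singleton h hu.mul_self c).mpr hc,
    (mem_pts_centralizer_singleton h hu.mul_self d).mpr hd⟩, ?_⟩
  obtain ⟨x, y, hxy⟩ := Finite.one_lt_card_iff_nontrivial.mp h3
  refine ⟨x.1, y.1, ?_, ?_, x.2.1.1, y.2.1.1, hcomm a _ x.2.1 _ y.2.1,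
    fun hh => hxy (Subtype.ext hh)⟩
  · exact mem_centralizer_singleton_iff.mpr x.2.2.eq
  · exact mem_centralizer_singleton_iff.mpr y.2.2.eq

theorem eq_of_sylTwo {H P Q : Subgroup G} (hP : SylTwo H P) (hPQ : P ≤ Q) (hQH : Q ≤ H)
    (hQ : IsPGroup 2 Q) : Q = P := by
  have hf2 : Fact (Nat.Prime 2) := ⟨Nat.prime_two⟩
  have h1 : P.relIndex Q ∣ P.relIndex H := by
    refine ⟨Q.relIndex H, ?_⟩
    exact (relIndex_mul_relIndex P Q H hPQ hQH).symm
  obtain ⟨n, hn⟩ := (IsPGroup.iff_card.mp hQ)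
  have h2 : P.relIndex Q ∣ 2 ^ n := by
    rw [← hn]; exact relIndex_dvd_card P Q
  obtain ⟨j, -, hj⟩ := (Nat.dvd_prime_pow Nat.prime_two).mp h2
  have h3 : j = 0 := by
    by_contra hj0
    apply hP.2.2
    refine dvd_trans ?_ h1
    rw [hj]
    exact dvd_pow_self 2 hj0
  rw [h3, pow_zero, relIndex_eq_one] at hj
  exact le_antisymm hj hPQ

include h hf hcomm in
/-- `|C_{V_a}(u)| = 2 ^ k` in a `BGroup` `C(u)` -/
theorem card_atC {u : G} (hu : Bad Ω u) {k i : ℕ} (hB : BGroup Ω z (centralizer ({u} : Set G)) k i)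
    {a : Ω} (ha : u • a = a) : Nat.card (AtC z u a) + 1 = 2 ^ k := by
  have hf2 : Fact (Nat.Prime 2) := ⟨Nat.prime_two⟩
  set H := centralizer ({u} : Set G) with hH
  obtain ⟨P₀⟩ : Nonempty (Sylow 2 H) := inferInstance
  set P : Subgroup G := (P₀ : Subgroup H).map H.subtype with hP
  have hPH : P ≤ H := map_subtype_le _
  have hPs : SylTwo H P := by
    refine ⟨hPH, P₀.isPGroup'.map _, ?_⟩
    have h1 : P.relIndex H = (P₀ : Subgroup H).index := by
      have h2 : P.subgroupOf H = (P₀ : Subgroup H) :=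
        comap_map_eq_self_of_injective H.subtype_injective _
      rw [relIndex, h2]
    rw [h1]
    exact P₀.not_dvd_index
  obtain ⟨c, hc, hPc, -⟩ := hB.trans_sylow P hPs
  have hcu : u • c = c := (mem_pts_centralizer_singleton h hu.mul_self c).mp hc
  set V := vGrp h hf hcomm c with hVdef
  have hV : ∀ x, x ∈ V ↔ x = 1 ∨ x ∈ At z c := fun x => mem_vGrp h hf hcomm
  set V' := V ⊓ H with hV'
  have hPV' : P ≤ normalizer (V' : Set G) := by
    rw [le_normalizer_iff]
    intro p hp x hx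
    refine ⟨?_, H.mul_mem (H.mul_mem (hPH hp) hx.2) (H.inv_mem (hPH hp))⟩
    exact (mem_normalizer_iff.mp (stab_le_normalizer hV (hPc p hp)) x).mp hx.1
  have hV'2 : IsPGroup 2 V' := (card_vGrp_pow h hV).to_le inf_le_left
  have hQ : IsPGroup 2 (P ⊔ V' : Subgroup G) := by
    rw [sup_comm]
    exact IsPGroup.to_sup_of_normal_left' hV'2 hPs.2.1 hPV'
  have hVP : V' ≤ P := by
    have h1 := eq_of_sylTwo hPs (Q := P ⊔ V') le_sup_left (sup_le hPH inf_le_right) hQ
    rw [← h1]; exact le_sup_right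
  have h2 : Nat.card {d : G // d ∈ P ∧ IsConj z d} = Nat.card (AtC z u c) := by
    refine Nat.card_congr (Equiv.subtypeEquivRight (fun d => ?_))
    constructor
    · rintro ⟨hdP, hd⟩
      exact ⟨⟨hd, hPc d hdP⟩, mem_centralizer_singleton_iff.mp (hPH hdP)⟩
    · rintro ⟨hd, hdu⟩
      exact ⟨hVP ⟨(hV d).mpr (Or.inr hd), mem_centralizer_singleton_iff.mpr hdu.eq⟩, hd.1⟩
  have h3 := hB.card_sylow P hPs
  rw [h2] at h3
  rw [card_atC_eq h hu.mul_self ha hcu]
  exact h3

end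

/-! ### `|C_V(u)| > 2` -/

section

variable [Finite G]

/-- if `|V_a| = 4` and `G` is simple, no involution `u ∈ G_a` has `|C_{V_a}(u)| = 2` -/
theorem false_of_card_four [IsSimpleGroup G] (h : Setup G Ω z) {a : Ω} {V : Subgroup G}
    (hV : ∀ x, x ∈ V ↔ x = 1 ∨ x ∈ At z a) (h4 : Nat.card V = 4) {u : G} (hu : u * u = 1)
    (ha : u • a = a) (hC : Nat.card (AtC z u a) = 1) : False := by
  classical
  have : Fintype V := Fintype.ofFinite V
  -- the sign of the permutation of `V` induced by `u`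
  let φ : MulAction.stabilizer G a →* ℤˣ :=
    (Equiv.Perm.sign (α := V)).comp ((MulAut.toPerm V).comp (act hV))
  have hφ : φ = 1 := by
    refine Cfsg.Agent.AschCrit.Transfer.hom_stabilizer_eq_one h ?_ φ
    intro x
    exact ⟨1, by rw [pow_one]; exact Int.units_sq x⟩
  have h1 : Equiv.Perm.sign (MulAut.toPerm V (act hV ⟨u, ha⟩)) = 1 :=
    congrArg (fun ψ : MulAction.stabilizer G a →* ℤˣ => ψ ⟨u, ha⟩) hφ
  set σ := MulAut.toPerm V (act hV ⟨u, ha⟩) with hσ
  have hσσ : σ * σ = 1 := by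
    rw [hσ, ← map_mul, ← map_mul]
    have : (⟨u, ha⟩ : MulAction.stabilizer G a) * ⟨u, ha⟩ = 1 := Subtype.ext hu
    rw [this, map_one, map_one]
  have hfix : Nat.card {x : V // σ x = x} = 2 := by
    have h2 := card_CV h hV u
    rw [hC] at h2
    rw [← card_fix_act hV ⟨u, ha⟩] at h2
    exact h2
  have hsup : σ.support.card = 2 := by
    have h3 : σ.support.card + Nat.card {x : V // σ x = x} = 4 := by
      rw [Nat.card_eq_fintype_card, Fintype.card_subtype, ← h4, Nat.card_eq_fintype_card]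
      have : σ.support = Finset.univ.filter (fun x => ¬ σ x = x) := by
        ext x; simp [Equiv.Perm.mem_support]
      rw [this, add_comm, Finset.card_filter_add_card_filter_not]
      rfl
    omega
  have hswap : σ.IsSwap := Equiv.Perm.card_support_eq_two.mp hsup
  rw [hswap.sign_eq] at h1
  exact absurd h1 (by decide)

/-! ### The types -/

variable (h : Setup G Ω z) (hf : ∀ g : G, (∀ a : Ω, g • a = a) → g = 1) (hn : NonIso z)
  (hcomm : ∀ a : Ω, ∀ d ∈ At z a, ∀ e ∈ At z a, Commute d e)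

include h hf hn hcomm in
/-- `|D_a ∩ C(u)| > 1` for a bad involution `u` of `G_a` -/
theorem one_lt_card_atC [IsSimpleGroup G] {u : G} (hu : Bad Ω u) {a : Ω} (ha : u • a = a) :
    1 < Nat.card (AtC z u a) := by
  have h1 := Cfsg.Agent.AschCrit.Count.odd_card_atC h hu.mul_self ha
  by_contra hcon
  have h2 : Nat.card (AtC z u a) = 1 := by
    obtain ⟨k, hk⟩ := h1
    omega
  obtain ⟨b, hab, hb⟩ : ∃ b : Ω, a ≠ b ∧ u • b = b := by
    obtain ⟨-, c, d, hcd, hc, hd⟩ := hu
    by_cases hac : a = c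
    · exact ⟨d, by rw [hac]; exact hcd, hd⟩
    · exact ⟨c, hac, hc⟩
  have hV : ∀ x, x ∈ vGrp h hf hcomm a ↔ x = 1 ∨ x ∈ At z a := fun x => mem_vGrp h hf hcomm
  have h3 := card_at_three h hn a
  rcases card_eq_or_sq h hab hV hu.mul_self ha hb with h4 | h4
  · have := card_atC_of_commute h hV h4
    omega
  · rw [h2] at h4
    exact false_of_card_four h hV h4 hu.mul_self ha h2

/-- Every proper subgroup containing elements of `D` at two points and two commuting elements of `D` is a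
`BGroup` (the inductive theorem). -/
def BGroups (Ω : Type*) {G : Type*} [Group G] [MulAction G Ω] (z : G) : Prop :=
  ∀ H : Subgroup G, H ≠ ⊤ → DSub Ω z H → ∃ k i, BGroup Ω z H k i

omit [Finite G] in
theorem centralizer_ne_top [IsSimpleGroup G] (h : Setup G Ω z) {u : G} (hu1 : u ≠ 1) :
    centralizer ({u} : Set G) ≠ ⊤ := by
  intro htop
  have h1 : u ∈ center G := by
    rw [mem_center_iff]
    intro g
    have : g ∈ centralizer ({u} : Set G) := by rw [htop]; exact mem_top g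
    exact mem_centralizer_singleton_iff.mp this
  rcases IsSimpleGroup.eq_bot_or_eq_top_of_normal (center G) inferInstance with h2 | h2
  · rw [h2, mem_bot] at h1
    exact hu1 h1
  · obtain ⟨x, y, hxy⟩ := Cfsg.Agent.AschCrit.Transfer.exists_noncomm h
    have : x ∈ center G := by rw [h2]; exact mem_top x
    exact hxy (mem_center_iff.mp this y).symm

include h hf hn hcomm in
/-- **The local data of a bad involution.** -/
theorem exists_bgroup [IsSimpleGroup G] (hT : BGroups Ω z) {u : G} (hu : Bad Ω u) {a : Ω}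
    (ha : u • a = a) {V : Subgroup G} (hV : ∀ x, x ∈ V ↔ x = 1 ∨ x ∈ At z a) :
    ∃ k i : ℕ, 2 ≤ k ∧ 1 ≤ i ∧ i ≤ 3 ∧ BGroup Ω z (centralizer ({u} : Set G)) k i ∧
      Nat.card (AtC z u a) + 1 = 2 ^ k ∧ Nat.card {c : Ω // u • c = c} = (2 ^ k) ^ i + 1 ∧
      NumType (Nat.card Ω) (Nat.card V) (2 ^ k) i := by
  have h1 := one_lt_card_atC h hf hn hcomm hu ha
  obtain ⟨k, i, hB⟩ := hT _ (centralizer_ne_top h hu.ne_one) (dSub_centralizer h hu h1 hcomm)
  have h2 := card_atC h hf hcomm hu hB ha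
  have h3 : Nat.card {c : Ω // u • c = c} = (2 ^ k) ^ i + 1 := by
    rw [← card_pts_centralizer h hu.mul_self, hB.card_pts]
  refine ⟨k, i, hB.two_le, hB.one_le, hB.le_three, hB, h2, h3, ?_⟩
  obtain ⟨b, hab, hb⟩ : ∃ b : Ω, a ≠ b ∧ u • b = b := by
    obtain ⟨-, c, d, hcd, hc, hd⟩ := hu
    by_cases hac : a = c
    · exact ⟨d, by rw [hac]; exact hcd, hd⟩
    · exact ⟨c, hac, hc⟩
  obtain ⟨e, he⟩ : ∃ e : Ω, u • e ≠ e := by
    by_contra hcon
    push Not at hcon
    exact hu.ne_one (hf u hcon)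
  have hR1 : ∀ y : G, IsConj z y → Commute y u → IsConj u (u * y) :=
    fun y hy hyu => isConj_mul h hf hn hu hy hyu
  have hc := Cfsg.Agent.AschCrit.Count.count h hu.mul_self hR1 ha he a
  have hm := card_V h hV
  have hpow : 2 ≤ 2 ^ k := by
    calc 2 = 2 ^ 1 := (pow_one 2).symm
      _ ≤ 2 ^ k := Nat.pow_le_pow_right (by norm_num) (by have := hB.two_le; omega)
  have hfin := h.finite_points
  refine numType_of_count hpow ?_ hB.one_le hB.le_three ?_ ?_ ?_
  · exact (Nat.even_pow' (by have := hB.two_le; omega)).mpr even_two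
  · rcases card_eq_or_sq h hab hV hu.mul_self ha hb with h4 | h4
    · left
      rw [hm, ← card_atC_of_commute h hV h4, h2]
    · right
      rw [h4, h2]
  · rw [← h3]
    exact Nat.card_le_card_of_injective _ Subtype.val_injective
  · rw [← h3, hm, Nat.add_sub_cancel, ← h2, Nat.add_sub_cancel]
    exact hc

include h hf hn hcomm in
/-- **The types.** All bad involutions have the same `k` and `i`. -/
theorem exists_type [IsSimpleGroup G] (hT : BGroups Ω z) (hK : ∃ v : G, Bad Ω v) {a : Ω}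
    {V : Subgroup G} (hV : ∀ x, x ∈ V ↔ x = 1 ∨ x ∈ At z a) :
    ∃ k i : ℕ, 2 ≤ k ∧ 1 ≤ i ∧ i ≤ 3 ∧ NumType (Nat.card Ω) (Nat.card V) (2 ^ k) i ∧
      ∀ u : G, Bad Ω u → BGroup Ω z (centralizer ({u} : Set G)) k i ∧
        Nat.card {c : Ω // u • c = c} = (2 ^ k) ^ i + 1 ∧
        ∀ c : Ω, u • c = c → Nat.card (AtC z u c) + 1 = 2 ^ k := by
  obtain ⟨v, hv⟩ := hK
  obtain ⟨c, hc⟩ : ∃ c : Ω, v • c = c := by
    obtain ⟨-, c, -, -, hc, -⟩ := hv
    exact ⟨c, hc⟩
  have hVc : ∀ x, x ∈ vGrp h hf hcomm c ↔ x = 1 ∨ x ∈ At z c := fun x => mem_vGrp h hf hcomm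
  have hcard : ∀ c : Ω, Nat.card (vGrp h hf hcomm c) = Nat.card V := by
    intro c
    rw [card_V h (fun x => mem_vGrp h hf hcomm : ∀ x, x ∈ vGrp h hf hcomm c ↔ x = 1 ∨ x ∈ At z c),
      card_V h hV, h.card_at_eq c a]
  obtain ⟨k, i, hk, hi1, hi3, hB, h1, h2, h3⟩ := exists_bgroup h hf hn hcomm hT hv hc hVc
  rw [hcard] at h3
  refine ⟨k, i, hk, hi1, hi3, h3, ?_⟩
  intro u hu
  obtain ⟨d, hd⟩ : ∃ d : Ω, u • d = d := by
    obtain ⟨-, c, -, -, hc, -⟩ := hu
    exact ⟨c, hc⟩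
  have hVd : ∀ x, x ∈ vGrp h hf hcomm d ↔ x = 1 ∨ x ∈ At z d := fun x => mem_vGrp h hf hcomm
  obtain ⟨k', i', hk', -, -, hB', h1', h2', h3'⟩ := exists_bgroup h hf hn hcomm hT hu hd hVd
  rw [hcard] at h3'
  have hpow : ∀ k : ℕ, 2 ≤ k → 2 ≤ 2 ^ k := by
    intro k hk
    calc 2 = 2 ^ 1 := (pow_one 2).symm
      _ ≤ 2 ^ k := Nat.pow_le_pow_right (by norm_num) (by omega)
  obtain ⟨h4, rfl⟩ := NumType.unique (hpow k' hk') (hpow k hk) h3' h3
  have h5 : k' = k := Nat.pow_right_injective (le_refl 2) h4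
  subst h5
  refine ⟨hB', h2', ?_⟩
  intro e he
  rw [card_atC_eq h hu.mul_self he hd]
  exact h1'

include h in
/-- In the types with `|V| = q` every bad involution of `G_c` centralises `V_c`. -/
theorem commute_of_card {u : G} {k : ℕ} {c : Ω} {V : Subgroup G}
    (hV : ∀ x, x ∈ V ↔ x = 1 ∨ x ∈ At z c) (hcard : Nat.card V = 2 ^ k)
    (hu : Nat.card (AtC z u c) + 1 = 2 ^ k) : ∀ x ∈ V, Commute x u := by
  have h1 := card_CV h hV u
  rw [hu, ← hcard] at h1
  have h2 : V ⊓ centralizer {u} = V := eq_of_le_of_card_ge inf_le_left (by rw [h1])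
  intro x hx
  have h3 : x ∈ V ⊓ centralizer {u} := by rw [h2]; exact hx
  exact mem_centralizer_singleton_iff.mp h3.2

include h in
/-- In the types with `|V| = q²` no bad involution of `G_c` centralises `V_c`. -/
theorem not_commute_of_card {u : G} {k : ℕ} {c : Ω} {V : Subgroup G}
    (hV : ∀ x, x ∈ V ↔ x = 1 ∨ x ∈ At z c) (hk : 2 ≤ k) (hcard : Nat.card V = (2 ^ k) ^ 2)
    (hu : Nat.card (AtC z u c) + 1 = 2 ^ k) : ¬ ∀ x ∈ V, Commute x u := by
  intro h1
  have h2 := card_atC_of_commute h hV h1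
  have h3 := card_V h hV
  rw [← h2, hu, hcard] at h3
  have h4 : 2 ≤ 2 ^ k := by
    calc 2 = 2 ^ 1 := (pow_one 2).symm
      _ ≤ 2 ^ k := Nat.pow_le_pow_right (by norm_num) (by omega)
  nlinarith

include h in
/-- **Type (c1) does not occur.** -/
theorem case_one [IsSimpleGroup G] {u : G} (hu : Bad Ω u) {a : Ω} (ha : u • a = a)
    {V : Subgroup G} (hV : ∀ x, x ∈ V ↔ x = 1 ∨ x ∈ At z a) {k : ℕ} (hk : 2 ≤ k)
    (hcard : Nat.card V = (2 ^ k) ^ 2) (hC : Nat.card (AtC z u a) + 1 = 2 ^ k)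
    (hΩ : Nat.card Ω = (2 ^ k) ^ 2 + 1) : False := by
  obtain ⟨b, hab⟩ : ∃ b : Ω, a ≠ b := by
    obtain ⟨-, c, d, hcd, -, -⟩ := hu
    by_cases hac : a = c
    · exact ⟨d, by rw [hac]; exact hcd⟩
    · exact ⟨c, hac⟩
  exact regular_false h hab hV (by rw [hΩ, hcard]) hu.mul_self ha
    (not_commute_of_card h hV hk hcard hC)

end

end Cfsg.Agent.AschCrit.CommFrame
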