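import Cfsg.Agent.SuzukiRankOne.Reduction

/-!
# The 2-elements of the point stabiliser in a rank-one set-up

`mem_Q` : in a rank-one set-up the 2-elements of `G_a` lie in `Q`.
-/

set_option autoImplicit false

open Cfsg MulAction

namespace Cfsg.Agent.AschCrit.RankOneTwo

/-- in a rank-one set-up the 2-elements of `G_a` lie in `Q` -/
theorem mem_Q {G Ω : Type*} [Group G] [Finite G] [MulAction G Ω] {a : Ω} {t : G} {Q : Subgroup G}
    (hS : IsRankOneSetup G Ω a t Q) {x : G} (hx : x • a = a) (hx2 : ∃ n : ℕ, orderOf x = 2 ^ n) :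
    x ∈ Q := by
  set K := stabilizer G a with hK
  have hxK : x ∈ K := hx
  have hidx : Odd Q.index := Cfsg.Agent.SuzukiRankOne.Reduction.odd_index_of_le hS le_rfl
  have hrel : Odd (Q.relIndex K) := by
    have h1 := Subgroup.relIndex_mul_index hS.le
    rw [← h1] at hidx
    exact (Nat.odd_mul.mp hidx).1
  obtain ⟨n, hn⟩ := hx2
  have hn' : (Q.subgroupOf K).Normal := by
    constructor
    intro y hy g
    exact hS.conj_mem g g.2 y hy
  have h2 : (QuotientGroup.mk' (Q.subgroupOf K)) ⟨x, hxK⟩ = 1 := by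
    rw [← orderOf_eq_one_iff]
    have h3 : orderOf ((QuotientGroup.mk' (Q.subgroupOf K)) ⟨x, hxK⟩) ∣ 2 ^ n := by
      rw [← hn]
      have := orderOf_map_dvd (QuotientGroup.mk' (Q.subgroupOf K)) (⟨x, hxK⟩ : K)
      rwa [Subgroup.orderOf_mk] at this
    have h4 : orderOf ((QuotientGroup.mk' (Q.subgroupOf K)) ⟨x, hxK⟩) ∣ Q.relIndex K := by
      have : Q.relIndex K = Nat.card (K ⧸ Q.subgroupOf K) := rfl
      rw [this]
      exact orderOf_dvd_natCard _
    have h5 : Nat.Coprime (2 ^ n) (Q.relIndex K) :=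
      Nat.Coprime.pow_left n (Nat.coprime_two_left.mpr hrel)
    exact Nat.Coprime.eq_one_of_dvd (h5.coprime_dvd_left h3) h4
  rw [← MonoidHom.mem_ker, QuotientGroup.ker_mk'] at h2
  exact h2

end Cfsg.Agent.AschCrit.RankOneTwo
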