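import Cfsg.Agent.AschCrit.Induct
import Cfsg.Agent.AschCrit.RankOneTwo

/-!
# Aschbacher's criterion: the simple group acting on the points of a `D`-subgroup

`dGen z H` is generated by the elements of `D` in `H`.  `exists_line` : for a `D`-subgroup `H` of small
order, `dGen z H` has a simple quotient `X` acting faithfully on `pts Ω z H` as in the rank-one set-up
(`Line`).
-/

set_option autoImplicit false

universe u

namespace Cfsg.Agent.AschCrit.InductLine

open Cfsg MulAction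
open Cfsg.Agent.TwoFusion.StronglyEmbeddedBasic Cfsg.Agent.AschCrit.Basic
open Cfsg.Agent.AschCrit.Basic.Setup Cfsg.Agent.AschCrit.Closed Cfsg.Agent.AschCrit.Descent
open Cfsg.Agent.AschCrit.NonIso Cfsg.Agent.AschCrit.InductFaithful
open Cfsg.Agent.AschCrit.InductAct Cfsg.Agent.AschCrit.BGroup Cfsg.Agent.AschCrit.Induct
open Cfsg.Agent.StrongEmb.Split

/-- the subgroup generated by the elements of `D` in `H` -/
def dGen {G : Type*} [Group G] (z : G) (H : Subgroup G) : Subgroup G :=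
  Subgroup.closure {d | IsConj z d ∧ d ∈ H}

theorem dGen_le {G : Type*} [Group G] (z : G) (H : Subgroup G) : dGen z H ≤ H := by
  rw [dGen, Subgroup.closure_le]
  exact fun d hd => hd.2

theorem mem_dGen {G : Type*} [Group G] {z : G} {H : Subgroup G} {d : G} (hd : IsConj z d)
    (hdH : d ∈ H) : d ∈ dGen z H := Subgroup.subset_closure ⟨hd, hdH⟩

/-- `φ` maps the subgroup generated by `D ∩ H` onto a simple group acting on `pts Ω z H` as in the
rank-one set-up -/
structure Line {G Ω : Type u} [Group G] [MulAction G Ω] (z : G) (H : Subgroup G) (k i : ℕ)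
    (X : Type u) [Group X] [MulAction X (pts Ω z H)] (φ : dGen z H →* X) : Prop where
  finite : Finite X
  faithful : FaithfulSMul X (pts Ω z H)
  simple : IsSimpleGroup X
  surj : Function.Surjective φ
  compat : ∀ (g : dGen z H) (c : pts Ω z H), ((φ g • c : pts Ω z H) : Ω) = (g : G) • (c : Ω)
  four : ∃ x y : X, x ≠ 1 ∧ y ≠ 1 ∧ x ≠ y ∧ x * x = 1 ∧ y * y = 1 ∧ x * y = y * x
  invol : ∀ x : X, x ≠ 1 → x * x = 1 → ∃ g : dGen z H, IsConj z (g : G) ∧ φ g = x
  rank : ∀ a : pts Ω z H, ∃ (t : X) (Q : Subgroup X), IsRankOneSetup X (pts Ω z H) a t Q ∧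
    IsPGroup 2 Q ∧ Nat.card Q = (2 ^ k) ^ i ∧
    Nat.card (involutionsIn (stabilizer X a : Set X)) + 1 = 2 ^ k

section

variable {K Ψ : Type u} [Group K] [Finite K] [MulAction K Ψ] {z : K} {N : ℕ}

/-- the image of `K` on `Ψ`, without bad involutions -/
theorem image_facts (hN : NoBadBelow.{u} N) (h : Setup K Ψ z) (hn : NonIso z)
    (hcard : Nat.card K < N) :
    IsSimpleGroup (L (pr K Ψ z)) ∧
    (∃ x y : L (pr K Ψ z), x ≠ 1 ∧ y ≠ 1 ∧ x ≠ y ∧ x * x = 1 ∧ y * y = 1 ∧ x * y = y * x) ∧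
    (∀ x : L (pr K Ψ z), x ≠ 1 → x * x = 1 → ∃ d : K, IsConj z d ∧ pr K Ψ d = x) := by
  have hsurj : Function.Surjective (pr K Ψ) := (toPermHom K Ψ).rangeRestrict_surjective
  have hc : ∀ (g : K) (a : Ψ), pr K Ψ g • a = g • a := fun g a => rfl
  have hfin : Finite (Im K Ψ) := Finite.of_surjective _ hsurj
  have hf : ∀ g : Im K Ψ, (∀ a : Ψ, g • a = a) → g = 1 := by
    intro g hg
    apply Subtype.ext
    ext a
    exact hg a
  have hQ : Setup (Im K Ψ) Ψ (pr K Ψ z) := setup_map h (pr K Ψ) hsurj hc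
  have hnQ : NonIso (pr K Ψ z) := by
    obtain ⟨d, hd, hzd, hne⟩ := id hn
    exact ⟨pr K Ψ d, (pr K Ψ).map_isConj hd, hzd.map (pr K Ψ), fun hh =>
      hne (eq_of_map_eq (pr K Ψ) h hc (IsConj.refl z) hd hzd hh.symm).symm⟩
  have hlt : Nat.card (Im K Ψ) < N :=
    lt_of_le_of_lt (Nat.card_le_card_of_surjective _ hsurj) hcard
  have hno := noBad_of_below hN hQ hf hnQ hlt
  have hne1 : ∀ {d : Im K Ψ}, IsConj (pr K Ψ z) d → d ≠ 1 := by
    intro d hd hh
    have h1 := hQ.orderOf_eq hd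
    rw [hh, orderOf_one] at h1
    omega
  refine ⟨isSimpleGroup_closure hQ hf hnQ, ?_, ?_⟩
  · obtain ⟨d, hd, hzd, hne⟩ := id hnQ
    refine ⟨⟨pr K Ψ z, mem_L (IsConj.refl _)⟩, ⟨d, mem_L hd⟩, ?_, ?_, ?_, ?_, ?_, ?_⟩
    · intro hh
      exact hne1 (IsConj.refl _) (congrArg Subtype.val hh)
    · intro hh
      exact hne1 hd (congrArg Subtype.val hh)
    · intro hh
      exact hne (congrArg Subtype.val hh).symm
    · exact Subtype.ext (hQ.mul_self (IsConj.refl _))
    · exact Subtype.ext (hQ.mul_self hd)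
    · exact Subtype.ext hzd.eq
  · intro x hx1 hxx
    have hx2 : orderOf (x : Im K Ψ) = 2 := by
      refine orderOf_eq_prime ?_ (fun hh => hx1 (Subtype.ext hh))
      rw [pow_two]
      exact congrArg Subtype.val hxx
    have h1 : IsConj (pr K Ψ z) (x : Im K Ψ) :=
      (isConj_or_bad hQ hf hx2).resolve_right (hno x x.2)
    obtain ⟨c, hcx⟩ := isConj_iff.mp h1
    obtain ⟨g, rfl⟩ := hsurj c
    exact ⟨g * z * g⁻¹, isConj_iff.mpr ⟨g, rfl⟩, by rw [map_mul, map_mul, map_inv]; exact hcx⟩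

end

section

variable {G Ω : Type u} [Group G] [Finite G] [MulAction G Ω] {z : G} {N : ℕ}

theorem exists_line (hN : NoBadBelow.{u} N)
    (hB : ∀ (X : Type u) [Group X] [Finite X], BenderHolds X) (h : Setup G Ω z)
    {H : Subgroup G} (hH : DSub Ω z H) (hcard : Nat.card H < N) : ∃ k i : ℕ, BGroup Ω z H k i ∧
      ∃ (X : Type u) (_ : Group X) (_ : MulAction X (pts Ω z H)) (φ : dGen z H →* X),
        Line (Ω := Ω) z H k i X φ := by
  obtain ⟨⟨a, b, hab, ⟨d₀, hd₀H, hd₀⟩, e₀, he₀H, he₀⟩, hp⟩ := hH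
  obtain ⟨k, i, h1, -, hrank⟩ := main hN hB h hab hd₀ he₀ hd₀H he₀H hp hcard
  refine ⟨k, i, h1, ?_⟩
  have hS := setup_pts h hab hd₀ he₀ hd₀H he₀H
  have hconj := isConj_subgroup_iff h hab hd₀ he₀ hd₀H he₀H
  obtain ⟨hsim, hfour, hinv⟩ := image_facts hN hS (nonIso_mk h hab hd₀ he₀ hd₀H he₀H hp) hcard
  -- the map
  let ψ : H →* Im H (pts Ω z H) := pr H (pts Ω z H)
  have hsurj : Function.Surjective ψ := (toPermHom H (pts Ω z H)).rangeRestrict_surjective
  have hmem : ∀ g : dGen z H, ψ ⟨g, dGen_le z H g.2⟩ ∈ L (ψ ⟨d₀, hd₀H⟩) := by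
    have hle : dGen z H ≤ ((L (ψ ⟨d₀, hd₀H⟩)).comap ψ).map H.subtype := by
      rw [dGen, Subgroup.closure_le]
      rintro d ⟨hd, hdH⟩
      refine ⟨⟨d, hdH⟩, ?_, rfl⟩
      show ψ ⟨d, hdH⟩ ∈ L (ψ ⟨d₀, hd₀H⟩)
      exact mem_L (ψ.map_isConj ((hconj _).mpr hd))
    rintro ⟨g, hg⟩
    obtain ⟨y, hy, hyg⟩ := hle hg
    have : y = ⟨g, dGen_le z H hg⟩ := Subtype.ext hyg
    rw [← this]
    exact hy
  let φ : dGen z H →* L (ψ ⟨d₀, hd₀H⟩) :=
    { toFun := fun g => ⟨ψ ⟨g, dGen_le z H g.2⟩, hmem g⟩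
      map_one' := Subtype.ext (map_one ψ)
      map_mul' := fun g g' => Subtype.ext
        (map_mul ψ ⟨g, dGen_le z H g.2⟩ ⟨g', dGen_le z H g'.2⟩) }
  refine ⟨L (ψ ⟨d₀, hd₀H⟩), inferInstance, inferInstance, φ, ?_⟩
  have hfin : Finite (Im H (pts Ω z H)) := Finite.of_surjective _ hsurj
  exact
    { finite := inferInstance
      faithful := by
        constructor
        intro g g' hgg
        apply Subtype.ext
        apply Subtype.ext
        ext c
        exact congrArg Subtype.val (hgg c)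
      simple := hsim
      surj := by
        rintro ⟨x, hx⟩
        have hle : L (ψ ⟨d₀, hd₀H⟩) ≤ ((dGen z H).subgroupOf H).map ψ := by
          show Subgroup.closure (Group.conjugatesOfSet {ψ ⟨d₀, hd₀H⟩}) ≤ _
          rw [Subgroup.closure_le]
          intro y hy
          rw [Group.mem_conjugatesOfSet_iff] at hy
          obtain ⟨w, rfl, hw⟩ := hy
          obtain ⟨c, hcy⟩ := isConj_iff.mp hw
          obtain ⟨g, rfl⟩ := hsurj c
          refine ⟨g * ⟨d₀, hd₀H⟩ * g⁻¹, ?_, by rw [map_mul, map_mul, map_inv]; exact hcy⟩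
          exact mem_dGen (conj_mem hd₀.1 (g : G)) (H.mul_mem (H.mul_mem g.2 hd₀H) (H.inv_mem g.2))
        obtain ⟨y, hy, hyx⟩ := hle hx
        exact ⟨⟨y, hy⟩, Subtype.ext hyx⟩
      compat := fun g c => rfl
      four := hfour
      invol := by
        intro x hx1 hxx
        obtain ⟨d, hd, hdx⟩ := hinv x hx1 hxx
        have hd' := (hconj d).mp hd
        exact ⟨⟨d, mem_dGen hd' d.2⟩, hd', Subtype.ext hdx⟩
      rank := hrank }

end

end Cfsg.Agent.AschCrit.InductLine
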