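import Cfsg.Agent.AschCrit.RankOneTypes

/-!
# Simple rank-one set-ups of Suzuki type: `Q` is not commutative
-/

set_option autoImplicit false

open Cfsg

namespace Cfsg.Agent.AschCrit.RankOneNoncomm

open MulAction Subgroup Cfsg.Agent Cfsg.Agent.SuzukiRankOne
  Cfsg.Agent.SuzukiRankOne.Assembly Cfsg.Agent.LieRecognition Cfsg.Agent.AschCrit.RankOneTypes

variable {G Ω : Type*} [Group G] [Finite G] [MulAction G Ω] {a : Ω} {t : G} {Q : Subgroup G}

/-- If `|Q| = q ^ 2` then `Q` is not commutative. -/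
theorem exists_noncomm [FaithfulSMul G Ω] [IsSimpleGroup G] (hS : IsRankOneSetup G Ω a t Q)
    (h2 : ∃ x y : G, x ≠ 1 ∧ y ≠ 1 ∧ x ≠ y ∧ x * x = 1 ∧ y * y = 1 ∧ x * y = y * x)
    {k i : ℕ} (hk : 2 ≤ k)
    (hq : Nat.card (involutionsIn (stabilizer G a : Set G)) + 1 = 2 ^ k)
    (hi : Nat.card Q = (2 ^ k) ^ i) (hi2 : i = 2) : ∃ x ∈ Q, ∃ y ∈ Q, x * y ≠ y * x := by
  by_contra hcon
  push Not at hcon
  obtain ⟨hcen, hclosed⟩ := S1130.result hS h2
  obtain ⟨C, hC, hCc, -⟩ := S1131.result hS h2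
  obtain ⟨⟨s, r⟩, ⟨hs, hr, hsr⟩, -⟩ := S1123.result hS
  simp only at hs hr hsr
  have hQ2 := M1.isPGroup_Q hS h2
  have hrs : r = s := AbelianCase.r_eq_s hS h2 C hC hQ2 hcon s r hs hr hsr
  subst hrs
  have hinv : r⁻¹ = r := inv_eq_of_mul_eq_one_left hs.2.2
  rw [hinv] at hsr
  obtain ⟨F, iF, iFt, iFc, κ, iA, δ, T, hδ1⟩ :=
    SingerField.exists_torus hS hcen C hC hCc r hs
  obtain ⟨hsq, -, hcard⟩ := TranslationMain.main hS h2 T (by rw [hδ1]; exact hsr)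
  have hnall : ¬ ∀ x ∈ Q, x * x = 1 := by
    intro h
    have := (one_iff hS h2 hq hi hk).mpr h
    omega
  have hcard' := hcard.resolve_left hnall
  rw [UThreeMain.card_field hS T, hq, hi] at hcard'
  have := pow_two_inj hk hcard'
  omega

end Cfsg.Agent.AschCrit.RankOneNoncomm
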