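import Mathlib
import Cfsg.Agent.Lib.Zsigmondy

/-!
# Aschbacher's criterion, case (C4): number theory

`q = 2^k`, `N = q^2 - q + 1`.

* `eq_of_modEq` : a divisor `l` of `q * N` congruent to `1` modulo `q - 1` is `1`, `q`, `N` or `q * N`
* `eq_of_prime` : if moreover an odd prime divides `l` then `l = N` or `l = q * N`
* `three_dvd`, `not_nine_dvd` : `3` divides `N` exactly once (`k` odd)
* `exists_prime_six` : a prime `r ∣ N` with `r ∣ 2^m - 1 ↔ 6k ∣ m` (`k ≥ 2`)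
* `exists_prime_k` : a prime `p` with `p ∣ 2^m - 1 ↔ k ∣ m` (`k ≥ 3` odd)
-/

set_option autoImplicit false

namespace Cfsg.Agent.AschCrit.CommFourArith

theorem sq_sub_eq {k : ℕ} : (2 ^ k) ^ 2 - 2 ^ k + 1 = (2 ^ k - 1) ^ 2 + (2 ^ k - 1) + 1 := by
  obtain ⟨m, hm⟩ : ∃ m, 2 ^ k = m + 1 := ⟨2 ^ k - 1, by
    have : 0 < 2 ^ k := by positivity
    omega⟩
  rw [hm]
  simp only [Nat.add_sub_cancel]
  have h1 : (m + 1) ^ 2 = m ^ 2 + m + (m + 1) := by ring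
  rw [h1, Nat.add_sub_cancel]

theorem eq_add_of_modEq {M d c : ℕ} (h : d ≡ c [MOD M]) (hc : c < M) : ∃ s, d = c + s * M := by
  refine ⟨d / M, ?_⟩
  have h1 : d % M = c := by
    have h2 : d % M = c % M := h
    rw [h2, Nat.mod_eq_of_lt hc]
  have h3 := Nat.mod_add_div d M
  rw [h1] at h3
  rw [mul_comm]
  exact h3.symm

/-- a divisor of `q (q^2 - q + 1)` congruent to one modulo `q - 1` -/
theorem eq_of_modEq {k l : ℕ} (hk : 2 ≤ k) (hd : l ∣ 2 ^ k * ((2 ^ k) ^ 2 - 2 ^ k + 1))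
    (hm : l ≡ 1 [MOD 2 ^ k - 1]) :
    l = 1 ∨ l = 2 ^ k ∨ l = (2 ^ k) ^ 2 - 2 ^ k + 1 ∨ l = 2 ^ k * ((2 ^ k) ^ 2 - 2 ^ k + 1) := by
  rw [sq_sub_eq] at hd ⊢
  have h4 : 4 ≤ 2 ^ k := by
    calc 4 = 2 ^ 2 := by norm_num
      _ ≤ 2 ^ k := Nat.pow_le_pow_right (by norm_num) hk
  set M := 2 ^ k - 1 with hM
  have hq : 2 ^ k = M + 1 := by omega
  have hM3 : 3 ≤ M := by omega
  set N := M ^ 2 + M + 1 with hN
  have hMo : ¬ 2 ∣ M := by
    intro h2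
    have h3 : 2 ∣ 2 ^ k := dvd_pow_self 2 (by omega)
    omega
  have hNo : ¬ 2 ∣ N := by
    intro h2
    have h3 : M ^ 2 + M = M * (M + 1) := by ring
    have h5 : 2 ∣ M ^ 2 + M := by rw [h3]; exact (Nat.even_mul_succ_self M).two_dvd
    omega
  have hN0 : 0 < N := by omega
  have hl0 : l ≠ 0 := by
    rintro rfl
    rw [zero_dvd_iff] at hd
    have : 0 < 2 ^ k * N := by positivity
    omega
  obtain ⟨j, d, hdo, hl⟩ := Nat.exists_eq_two_pow_mul_odd hl0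
  -- `d ∣ N`, `j ≤ k`
  have hdN : d ∣ N := by
    have h1 : d ∣ 2 ^ k * N := (Dvd.intro_left _ hl.symm).trans hd
    have h2 : d.Coprime (2 ^ k) := Nat.Coprime.pow_right k (Nat.coprime_two_right.mpr hdo)
    exact h2.dvd_of_dvd_mul_left h1
  have hjk : j ≤ k := by
    have h1 : 2 ^ j ∣ 2 ^ k * N := (Dvd.intro _ hl.symm).trans hd
    have h2 : (2 ^ j).Coprime N :=
      Nat.Coprime.pow_left j ((Nat.prime_two.coprime_iff_not_dvd).mpr hNo)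
    exact (Nat.pow_dvd_pow_iff_le_right (by norm_num)).mp (h2.dvd_of_dvd_mul_right h1)
  obtain ⟨e, he⟩ := hdN
  -- congruences
  have hN1 : N ≡ 1 [MOD M] := by
    have h1 : N = 1 + M * (M + 1) := by rw [hN]; ring
    rw [h1]
    exact (Nat.ModEq.add_left 1 ((Nat.modEq_zero_iff_dvd).mpr (Dvd.intro _ rfl)))
  have hq1 : 2 ^ k ≡ 1 [MOD M] := by
    rw [hq]
    exact (Nat.ModEq.add_right 1 ((Nat.modEq_zero_iff_dvd).mpr (dvd_refl M)) :
      M + 1 ≡ 0 + 1 [MOD M])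
  have hd1 : 2 ^ j * d ≡ 1 [MOD M] := by rw [← hl]; exact hm
  have hemod : e ≡ 2 ^ j [MOD M] := by
    have h1 : (2 ^ j * d) * e ≡ 1 * e [MOD M] := hd1.mul_right e
    have h2 : (2 ^ j * d) * e = 2 ^ j * N := by rw [he]; ring
    rw [h2, one_mul] at h1
    have h3 : 2 ^ j * N ≡ 2 ^ j * 1 [MOD M] := hN1.mul_left _
    rw [mul_one] at h3
    exact h1.symm.trans h3
  have hdmod : d ≡ 2 ^ (k - j) [MOD M] := by
    have h1 : 2 ^ (k - j) * (2 ^ j * d) ≡ 2 ^ (k - j) * 1 [MOD M] := hd1.mul_left _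
    have h2 : 2 ^ (k - j) * (2 ^ j * d) = 2 ^ k * d := by
      rw [← mul_assoc, ← pow_add, Nat.sub_add_cancel hjk]
    rw [h2, mul_one] at h1
    have h3 : 2 ^ k * d ≡ 1 * d [MOD M] := hq1.mul_right d
    rw [one_mul] at h3
    exact h3.symm.trans h1
  have hone : d ≡ 1 [MOD M] → e ≡ 1 [MOD M] → d = 1 ∨ d = N := by
    intro h1 h2
    obtain ⟨s, hs⟩ := eq_add_of_modEq h1 (by omega)
    obtain ⟨t, ht⟩ := eq_add_of_modEq h2 (by omega)
    rcases Nat.eq_zero_or_pos s with rfl | hs0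
    · left; omega
    rcases Nat.eq_zero_or_pos t with rfl | ht0
    · right
      rw [he, ht]; ring
    exfalso
    have h3 : M ^ 2 + M + 1 = 1 + (s + t + s * t * M) * M := by
      rw [← hN, he, hs, ht]; ring
    have h5 : M * (M + 1) = M * (s + t + s * t * M) := by nlinarith
    have h6 : M + 1 = s + t + s * t * M := Nat.eq_of_mul_eq_mul_left (by omega) h5
    have h7 : 1 * M ≤ s * t * M := Nat.mul_le_mul_right M (Nat.mul_pos hs0 ht0)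
    omega
  rcases Nat.eq_zero_or_pos j with rfl | hj0
  · -- `j = 0`
    have h1 : d ≡ 1 [MOD M] := hdmod.trans (by simpa using hq1)
    have h2 : e ≡ 1 [MOD M] := by simpa using hemod
    rw [pow_zero, one_mul] at hl
    rcases hone h1 h2 with h3 | h3
    · left; rw [hl, h3]
    · right; right; left; rw [hl, h3]
  rcases Nat.eq_or_lt_of_le hjk with rfl | hjk'
  · -- `j = k`
    have h1 : d ≡ 1 [MOD M] := by simpa using hdmod
    have h2 : e ≡ 1 [MOD M] := hemod.trans hq1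
    rcases hone h1 h2 with h3 | h3
    · right; left; rw [hl, h3, mul_one]
    · right; right; right; rw [hl, h3]
  exfalso
  have hhalf : ∀ i, i < k → 2 ^ i < M := by
    intro i hi
    have h1 : 2 ^ (i + 1) ≤ 2 ^ k := Nat.pow_le_pow_right (by norm_num) hi
    rw [pow_succ] at h1
    have h2 : 2 ^ i ≤ 2 ^ k / 2 := by omega
    omega
  obtain ⟨s, hs⟩ := eq_add_of_modEq hdmod (hhalf _ (by omega))
  obtain ⟨t, ht⟩ := eq_add_of_modEq hemod (hhalf _ hjk')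
  have hjj : 2 ^ (k - j) * 2 ^ j = M + 1 := by rw [← pow_add, Nat.sub_add_cancel hjk, hq]
  have h3 : M ^ 2 + M + 1 = M + 1 + (s * 2 ^ j + t * 2 ^ (k - j) + s * t * M) * M := by
    rw [← hN, he, hs, ht, ← hjj]; ring
  have h5 : M * M = M * (s * 2 ^ j + t * 2 ^ (k - j) + s * t * M) := by nlinarith
  have h6 : M = s * 2 ^ j + t * 2 ^ (k - j) + s * t * M := Nat.eq_of_mul_eq_mul_left (by omega) h5
  have h2j : 2 ∣ 2 ^ j := dvd_pow_self 2 (by omega)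
  have h2kj : 2 ∣ 2 ^ (k - j) := dvd_pow_self 2 (by omega)
  rcases Nat.eq_zero_or_pos s with rfl | hs0
  · apply hMo
    rw [h6]
    simpa using Dvd.dvd.mul_left h2kj t
  rcases Nat.eq_zero_or_pos t with rfl | ht0
  · apply hMo
    rw [h6]
    simpa using Dvd.dvd.mul_left h2j s
  have h7 : 1 * M ≤ s * t * M := Nat.mul_le_mul_right M (Nat.mul_pos hs0 ht0)
  have h8 : 0 < s * 2 ^ j := Nat.mul_pos hs0 (by positivity)
  omega

/-- if moreover an odd prime divides `l` -/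
theorem eq_of_prime {k l r : ℕ} (hk : 2 ≤ k) (hd : l ∣ 2 ^ k * ((2 ^ k) ^ 2 - 2 ^ k + 1))
    (hm : l ≡ 1 [MOD 2 ^ k - 1]) (hr : r.Prime) (hr2 : r ≠ 2) (hrl : r ∣ l) :
    l = (2 ^ k) ^ 2 - 2 ^ k + 1 ∨ l = 2 ^ k * ((2 ^ k) ^ 2 - 2 ^ k + 1) := by
  rcases eq_of_modEq hk hd hm with h | h | h | h
  · rw [h] at hrl
    exact absurd (Nat.dvd_one.mp hrl) hr.one_lt.ne'
  · rw [h] at hrl
    exact absurd ((Nat.prime_dvd_prime_iff_eq hr Nat.prime_two).mp (hr.dvd_of_dvd_pow hrl)) hr2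
  · exact Or.inl h
  · exact Or.inr h

theorem mod_nine {k : ℕ} (hk : Odd k) : 2 ^ k % 9 = 2 ∨ 2 ^ k % 9 = 8 ∨ 2 ^ k % 9 = 5 := by
  obtain ⟨m, rfl⟩ := hk
  induction m with
  | zero => left; norm_num
  | succ m ih =>
    have h1 : 2 ^ (2 * (m + 1) + 1) = 4 * 2 ^ (2 * m + 1) := by ring
    rw [h1]
    generalize 2 ^ (2 * m + 1) = x at ih
    omega

theorem mod_nine' {k : ℕ} (hk : Odd k) : ((2 ^ k) ^ 2 - 2 ^ k + 1) % 9 = 3 ∨
    ((2 ^ k) ^ 2 - 2 ^ k + 1) % 9 = 3 := by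
  left
  rw [sq_sub_eq]
  have h0 : 0 < 2 ^ k := by positivity
  have h1 : (2 ^ k - 1) % 9 = 1 ∨ (2 ^ k - 1) % 9 = 7 ∨ (2 ^ k - 1) % 9 = 4 := by
    rcases mod_nine hk with h | h | h <;> omega
  set M := 2 ^ k - 1
  rw [Nat.add_mod, Nat.add_mod (M ^ 2), Nat.pow_mod]
  rcases h1 with h | h | h <;> rw [h]

/-- `3` divides `q^2 - q + 1` -/
theorem three_dvd {k : ℕ} (hk : Odd k) : 3 ∣ (2 ^ k) ^ 2 - 2 ^ k + 1 := by
  rcases mod_nine' hk with h | h <;> omega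

/-- `9` does not divide `q^2 - q + 1` -/
theorem not_nine_dvd {k : ℕ} (hk : Odd k) : ¬ 9 ∣ (2 ^ k) ^ 2 - 2 ^ k + 1 := by
  rcases mod_nine' hk with h | h <;> omega

/-- a prime divisor of `q^2 - q + 1` dividing `2^m - 1` only if `6k ∣ m` -/
theorem exists_prime_six {k : ℕ} (hk : 2 ≤ k) : ∃ r : ℕ, r.Prime ∧ r ≠ 2 ∧
    r ∣ (2 ^ k) ^ 2 - 2 ^ k + 1 ∧ ∀ m, r ∣ 2 ^ m - 1 ↔ 6 * k ∣ m := by
  obtain ⟨r, hr, h1, -, h2⟩ := Cfsg.Agent.Lib.Zsigmondy.exists_primitive (a := 2) (n := 6 * k)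
    le_rfl (by omega) (by omega) (by omega)
  refine ⟨r, hr, fun h => h2 (by rw [h]), ?_, h1⟩
  have h3 : r ∣ 2 ^ (6 * k) - 1 := (h1 _).mpr dvd_rfl
  have h4 : ¬ r ∣ 2 ^ (3 * k) - 1 := by
    rw [h1]
    intro h
    have := Nat.le_of_dvd (by omega) h
    omega
  have h5 : ¬ r ∣ 2 ^ (2 * k) - 1 := by
    rw [h1]
    intro h
    have := Nat.le_of_dvd (by omega) h
    omega
  have h0 : 1 ≤ 2 ^ k := Nat.one_le_two_pow
  -- `2^{6k} - 1 = (2^{3k} - 1) (2^k + 1) (q^2 - q + 1)`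
  have h6 : 2 ^ (6 * k) - 1 = (2 ^ (3 * k) - 1) * ((2 ^ k + 1) * ((2 ^ k) ^ 2 - 2 ^ k + 1)) := by
    rw [sq_sub_eq]
    obtain ⟨M, hM⟩ : ∃ M, 2 ^ k = M + 1 := ⟨2 ^ k - 1, by omega⟩
    have e6 : 2 ^ (6 * k) = (M + 1) ^ 6 := by rw [← hM, ← pow_mul, mul_comm]
    have e3 : 2 ^ (3 * k) = (M + 1) ^ 3 := by rw [← hM, ← pow_mul, mul_comm]
    rw [e6, e3, hM, Nat.add_sub_cancel]
    have e1 : (M + 1) ^ 3 = (M ^ 3 + 3 * M ^ 2 + 3 * M) + 1 := by ring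
    have e2 : (M + 1) ^ 6 = ((M ^ 3 + 3 * M ^ 2 + 3 * M) * ((M + 1 + 1) * (M ^ 2 + M + 1))) + 1 := by
      ring
    rw [e1, e2, Nat.add_sub_cancel, Nat.add_sub_cancel]
  rw [h6] at h3
  rcases (Nat.Prime.dvd_mul hr).mp h3 with h7 | h7
  · exact absurd h7 h4
  rcases (Nat.Prime.dvd_mul hr).mp h7 with h8 | h8
  · exfalso
    apply h5
    have e1 : 2 ^ (2 * k) - 1 = (2 ^ k - 1) * (2 ^ k + 1) := by
      obtain ⟨M, hM⟩ : ∃ M, 2 ^ k = M + 1 := ⟨2 ^ k - 1, by omega⟩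
      have e2 : 2 ^ (2 * k) = (M + 1) ^ 2 := by rw [← hM, ← pow_mul, mul_comm]
      rw [e2, hM, Nat.add_sub_cancel]
      have e3 : (M + 1) ^ 2 = M * (M + 1 + 1) + 1 := by ring
      rw [e3, Nat.add_sub_cancel]
    rw [e1]
    exact Dvd.dvd.mul_left h8 _
  · exact h8

/-- a prime `p` dividing `2^m - 1` exactly for the multiples `m` of `k` -/
theorem exists_prime_k {k : ℕ} (hk : Odd k) (hk3 : 3 ≤ k) : ∃ p : ℕ, p.Prime ∧ p ≠ 2 ∧
    p ∣ 2 ^ k - 1 ∧ ∀ m, p ∣ 2 ^ m - 1 ↔ k ∣ m := by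
  have h6 : k ≠ 6 := by
    rintro rfl
    exact absurd hk (by decide)
  obtain ⟨r, hr, h1, -, h2⟩ := Cfsg.Agent.Lib.Zsigmondy.exists_primitive (a := 2) (n := k)
    le_rfl (by omega) (by omega) (by omega)
  exact ⟨r, hr, fun h => h2 (by rw [h]), (h1 _).mpr dvd_rfl, h1⟩

end Cfsg.Agent.AschCrit.CommFourArith
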