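import Mathlib

/-!
# Aschbacher's criterion, commutative case, Suzuki type: the end

`end_false` : `W` a normal subgroup of `G_a` with a Sylow 3-subgroup of order 3, `p` a prime divisor of
`q - 1` and of `|G_a : W|`; elements of order 3 of `W` fix one point only; `p`-elements of `G_a` outside
`W` fixing another point have `2` or `q + 1` fixed points; then `False`.
-/

set_option autoImplicit false

open Subgroup

namespace Cfsg.Agent.AschCrit.CommFourEnd

/-- A `p`-element of the normalizer of a subgroup of order `3` centralises it, `p` odd. -/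
theorem commute_of_card_three {G : Type*} [Group G] [Finite G] {P : Subgroup G}
    (hP : Nat.card P = 3) {y : G} (hy : y ∈ normalizer (P : Set G)) (hodd : Odd (orderOf y))
    {w : G} (hw : w ∈ P) : Commute y w := by
  classical
  have hf3 : Fact (Nat.Prime 3) := ⟨Nat.prime_three⟩
  by_cases hw1 : w = 1
  · rw [hw1]; exact Commute.one_right y
  -- the conjugate of `w` is `w` or `w⁻¹`
  have hpow : ∀ v ∈ P, v ≠ 1 → ∀ x ∈ P, x = 1 ∨ x = v ∨ x = v⁻¹ := by
    intro v hv hv1 x hx
    have h3 : orderOf (⟨v, hv⟩ : P) = 3 := by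
      have h1 : orderOf (⟨v, hv⟩ : P) ∣ 3 := by rw [← hP]; exact orderOf_dvd_natCard _
      rcases (Nat.dvd_prime Nat.prime_three).mp h1 with h2 | h2
      · rw [orderOf_eq_one_iff] at h2
        exact absurd (congrArg Subtype.val h2) hv1
      · exact h2
    have htop : zpowers (⟨v, hv⟩ : P) = ⊤ := by
      apply eq_top_of_card_eq
      rw [Nat.card_zpowers, h3, hP]
    have hx' : (⟨x, hx⟩ : P) ∈ zpowers (⟨v, hv⟩ : P) := by rw [htop]; exact mem_top _
    rw [mem_zpowers_iff_mem_range_orderOf, h3] at hx'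
    simp only [Finset.mem_image, Finset.mem_range] at hx'
    obtain ⟨n, hn, hnx⟩ := hx'
    have hnx' : v ^ n = x := by
      have := congrArg Subtype.val hnx
      simpa using this
    have hv3 : v ^ 3 = 1 := by
      have := congrArg Subtype.val (pow_orderOf_eq_one (⟨v, hv⟩ : P))
      rw [h3] at this
      simpa using this
    have hn' : n = 0 ∨ n = 1 ∨ n = 2 := by omega
    rcases hn' with rfl | rfl | rfl
    · left; rw [← hnx', pow_zero]
    · right; left; rw [← hnx', pow_one]
    · right; right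
      rw [← hnx', eq_inv_iff_mul_eq_one, ← pow_succ]
      exact hv3
  have hc : y * w * y⁻¹ ∈ P := (mem_normalizer_iff.mp hy w).mp hw
  rcases hpow w hw hw1 _ hc with h1 | h1 | h1
  · exfalso; apply hw1
    have : w = y⁻¹ * (y * w * y⁻¹) * y := by group
    rw [this, h1]; group
  · change y * w = w * y
    calc y * w = (y * w * y⁻¹) * y := by group
      _ = w * y := by rw [h1]
  · -- the odd power of `y` inverts `w`
    exfalso
    have h2 : ∀ n : ℕ, y ^ (2 * n) * w * (y ^ (2 * n))⁻¹ = w := by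
      intro n
      induction n with
      | zero => simp
      | succ n ih =>
        have : y ^ (2 * (n + 1)) * w * (y ^ (2 * (n + 1)))⁻¹
            = y * (y * (y ^ (2 * n) * w * (y ^ (2 * n))⁻¹) * y⁻¹) * y⁻¹ := by
          rw [show 2 * (n + 1) = (2 * n) + 1 + 1 by ring, pow_succ', pow_succ']
          group
        rw [this, ih, h1]
        have h3 : y * w⁻¹ * y⁻¹ = (y * w * y⁻¹)⁻¹ := by group
        rw [h3, h1, inv_inv]
    obtain ⟨m, hm⟩ := hodd
    have h3 : y ^ (2 * m + 1) = 1 := by rw [← hm]; exact pow_orderOf_eq_one y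
    have h4 : w = w⁻¹ := by
      have h5 := h2 m
      have h6 : y * (y ^ (2 * m) * w * (y ^ (2 * m))⁻¹) * y⁻¹
          = y ^ (2 * m + 1) * w * (y ^ (2 * m + 1))⁻¹ := by
        rw [pow_succ']; group
      rw [h5, h1, h3] at h6
      simpa using h6.symm
    have h5 : w * w = 1 := by
      calc w * w = w * w⁻¹ := by rw [← h4]
        _ = 1 := mul_inv_cancel w
    have h6 : orderOf (⟨w, hw⟩ : P) ∣ 2 := by
      rw [orderOf_dvd_iff_pow_eq_one]
      apply Subtype.ext
      simp only [SubmonoidClass.mk_pow, OneMemClass.coe_one]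
      rw [pow_two]; exact h5
    have h7 : orderOf (⟨w, hw⟩ : P) ∣ 3 := by rw [← hP]; exact orderOf_dvd_natCard _
    have h8 : orderOf (⟨w, hw⟩ : P) = 1 := by
      have := Nat.dvd_gcd h6 h7
      simpa using this
    rw [orderOf_eq_one_iff] at h8
    exact hw1 (congrArg Subtype.val h8)

/-- Frattini: a `p`-element outside `N` commuting with an element of order `3` of `N`. -/
theorem exists_commuting {M : Type*} [Group M] [Finite M] (N : Subgroup M) [N.Normal] {p : ℕ}
    (hp : p.Prime) (hodd : Odd p) (hpN : p ∣ N.index) (h3 : 3 ∣ Nat.card N) (h9 : ¬ 9 ∣ Nat.card N) :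
    ∃ w ∈ N, orderOf w = 3 ∧ ∃ y : M, y ∉ N ∧ (∃ j, y ^ p ^ j = 1) ∧ Commute y w := by
  classical
  have hf3 : Fact (Nat.Prime 3) := ⟨Nat.prime_three⟩
  have hfp : Fact p.Prime := ⟨hp⟩
  obtain ⟨P₀⟩ : Nonempty (Sylow 3 N) := inferInstance
  have hcP : Nat.card (P₀ : Subgroup N) = 3 := by
    rw [P₀.card_eq_multiplicity]
    have h1 : (Nat.card N).factorization 3 = 1 := by
      have hne : Nat.card N ≠ 0 := Nat.card_pos.ne'
      have h2 : 1 ≤ (Nat.card N).factorization 3 :=
        (Nat.prime_three.pow_dvd_iff_le_factorization hne).mp (by simpa using h3)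
      have h4 : ¬ 2 ≤ (Nat.card N).factorization 3 := by
        intro h5
        exact h9 (by simpa using (Nat.prime_three.pow_dvd_iff_le_factorization hne).mpr h5)
      omega
    rw [h1, pow_one]
  set P : Subgroup M := (P₀ : Subgroup N).map N.subtype with hP
  have hcP' : Nat.card P = 3 := by
    rw [hP, card_map_of_injective N.subtype_injective, hcP]
  have hPN : P ≤ N := map_subtype_le _
  set K : Subgroup M := normalizer (P : Set M) with hK
  have hKN : K ⊔ N = ⊤ := P₀.normalizer_sup_eq_top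
  have h1 : N.relIndex K = N.index := by
    rw [← relIndex_sup_right K N, hKN, relIndex_top_right]
  -- a Sylow `p`-subgroup of `K` is not contained in `N`
  obtain ⟨T⟩ : Nonempty (Sylow p K) := inferInstance
  obtain ⟨y, hyT, hyN⟩ : ∃ y : K, y ∈ T ∧ (y : M) ∉ N := by
    by_contra hcon
    push Not at hcon
    have h2 : (T : Subgroup K) ≤ N.subgroupOf K := fun y hy => hcon y hy
    have h4 : N.relIndex K ∣ (T : Subgroup K).index := index_dvd_of_le h2
    exact T.not_dvd_index (dvd_trans (by rw [h1]; exact hpN) h4)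
  obtain ⟨j, hj⟩ := T.isPGroup' ⟨y, hyT⟩
  have hj' : (y : M) ^ p ^ j = 1 := by
    have := congrArg (fun x : T => ((x : K) : M)) hj
    simpa using this
  have hyodd : Odd (orderOf (y : M)) := by
    have h5 : orderOf (y : M) ∣ p ^ j := orderOf_dvd_of_pow_eq_one hj'
    exact Odd.of_dvd_nat hodd.pow h5
  obtain ⟨w, hw⟩ := exists_prime_orderOf_dvd_card' (G := P) 3 (by rw [hcP'])
  have hw' : orderOf (w : M) = 3 := by rw [orderOf_coe]; exact hw
  exact ⟨w, hPN w.2, hw', y, hyN, ⟨j, hj'⟩, commute_of_card_three hcP' y.2 hyodd w.2⟩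

/-- fixed points of a `p`-element on an invariant set -/
theorem card_modEq {G Ω : Type*} [Group G] [Finite Ω] [MulAction G Ω] {p : ℕ} (hp : p.Prime)
    {x : G} {j : ℕ} (hx : x ^ p ^ j = 1) (F : Set Ω) (hF : ∀ c ∈ F, x • c ∈ F) :
    Nat.card F ≡ Nat.card {c : Ω // c ∈ F ∧ x • c = c} [MOD p] := by
  classical
  have hfp : Fact p.Prime := ⟨hp⟩
  have : Fintype F := Fintype.ofFinite F
  let f : Function.End F := fun c => ⟨x • c.1, hF c c.2⟩
  have hfn : ∀ n : ℕ, ∀ c : F, ((f ^ n) c : Ω) = x ^ n • (c : Ω) := by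
    intro n
    induction n with
    | zero => intro c; rw [pow_zero, pow_zero, one_smul]; rfl
    | succ n ih =>
      intro c
      rw [pow_succ', pow_succ', mul_smul, ← ih c]
      rfl
  have hf : f ^ p ^ j = 1 := by
    funext c
    apply Subtype.ext
    rw [hfn, hx, one_smul]
    rfl
  have h1 := Equiv.Perm.card_fixedPoints_modEq hf
  rw [Nat.card_eq_fintype_card]
  refine h1.trans ?_
  have h2 : Fintype.card f.fixedPoints = Nat.card {c : Ω // c ∈ F ∧ x • c = c} := by
    rw [← Nat.card_eq_fintype_card]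
    refine Nat.card_congr ⟨fun c => ⟨c.1.1, c.1.2, congrArg Subtype.val c.2⟩,
      fun c => ⟨⟨c.1, c.2.1⟩, Subtype.ext c.2.2⟩, fun c => rfl, fun c => rfl⟩
  rw [h2]

theorem end_false {G Ω : Type*} [Group G] [Finite G] [Finite Ω] [MulAction G Ω] {q p : ℕ}
    (hq3 : q % 3 = 2) (hqe : Even q) (hp : p.Prime) (hpq : p ∣ q - 1)
    (hcard : Nat.card Ω = q ^ 3 * (q ^ 2 - q + 1) + 1) {a : Ω} {W : Subgroup G}
    (hWa : W ≤ MulAction.stabilizer G a)
    (hWn : MulAction.stabilizer G a ≤ normalizer (W : Set G))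
    (h3 : 3 ∣ Nat.card W) (h9 : ¬ 9 ∣ Nat.card W)
    (hpW : p ∣ W.relIndex (MulAction.stabilizer G a))
    (hw : ∀ w ∈ W, orderOf w = 3 → ∀ b : Ω, w • b = b → b = a)
    (hfix : ∀ y : G, y • a = a → y ∉ W → (∃ j, y ^ p ^ j = 1) → ∀ b : Ω, b ≠ a → y • b = b →
      Nat.card {c : Ω // y • c = c} = 2 ∨ Nat.card {c : Ω // y • c = c} = q + 1) : False := by
  classical
  set M := MulAction.stabilizer G a with hM
  have hN : (W.subgroupOf M).Normal := by
    rw [← normalizer_eq_top_iff, eq_top_iff]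
    intro g _
    rw [mem_normalizer_iff]
    intro x
    exact mem_normalizer_iff.mp (hWn g.2) x
  have hcW : Nat.card (W.subgroupOf M) = Nat.card W :=
    Nat.card_congr (subgroupOfEquivOfLe hWa).toEquiv
  have hq1 : 1 ≤ q := by omega
  have hpodd : Odd p := by
    rcases hp.eq_two_or_odd' with h2 | h2
    · exfalso
      rw [h2] at hpq
      obtain ⟨r, hr⟩ := hqe
      omega
    · exact h2
  have hp3 : 3 ≤ p := by
    have := hp.two_le
    obtain ⟨r, hr⟩ := hpodd
    omega
  obtain ⟨w, hwN, hw3, y, hyN, ⟨j, hj⟩, hcomm⟩ :=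
    exists_commuting (W.subgroupOf M) hp hpodd hpW (by rw [hcW]; exact h3) (by rw [hcW]; exact h9)
  have hya : (y : G) • a = a := y.2
  have hyj : (y : G) ^ p ^ j = 1 := by
    have := congrArg Subtype.val hj
    simpa using this
  have hcomm' : Commute (y : G) (w : G) := by
    have := congrArg Subtype.val hcomm.eq
    exact this
  have hw3' : orderOf (w : G) = 3 := by rw [orderOf_coe]; exact hw3
  have hw31 : (w : G) ^ 3 ^ 1 = 1 := by
    rw [pow_one, ← hw3']; exact pow_orderOf_eq_one _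
  -- the number of fixed points of `y`
  have h1 := card_modEq (Ω := Ω) hp hyj Set.univ (fun _ _ => Set.mem_univ _)
  have h2 : Nat.card {c : Ω // c ∈ (Set.univ : Set Ω) ∧ (y : G) • c = c}
      = Nat.card {c : Ω // (y : G) • c = c} :=
    Nat.card_congr (Equiv.subtypeEquivRight (fun c => by simp))
  rw [h2, Nat.card_congr (Equiv.Set.univ Ω), hcard] at h1
  have h4 : q ^ 3 * (q ^ 2 - q + 1) + 1 ≡ 2 [MOD p] := by
    have h5 : q ≡ 1 [MOD p] := ((Nat.modEq_iff_dvd' hq1).mpr hpq).symm
    have h6 : q ^ 3 * (q ^ 2 - q + 1) + 1 = q ^ 4 * (q - 1) + q ^ 3 + 1 := by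
      obtain ⟨r, rfl⟩ : ∃ r, q = r + 1 := ⟨q - 1, by omega⟩
      have : (r + 1) ^ 2 - (r + 1) = r * (r + 1) := by
        rw [pow_two]
        rw [show (r + 1) * (r + 1) = r * (r + 1) + (r + 1) by ring]
        omega
      rw [this, Nat.add_sub_cancel]
      ring
    rw [h6]
    have h7 : q ^ 4 * (q - 1) ≡ 0 [MOD p] :=
      (Nat.modEq_zero_iff_dvd).mpr (Dvd.dvd.mul_left hpq _)
    have h8 : q ^ 3 ≡ 1 [MOD p] := by simpa using h5.pow 3
    simpa using (h7.add h8).add_right 1
  have h5 : Nat.card {c : Ω // (y : G) • c = c} ≡ 2 [MOD p] := (h4.symm.trans h1).symm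
  obtain ⟨b, hba, hyb⟩ : ∃ b : Ω, b ≠ a ∧ (y : G) • b = b := by
    by_contra hcon
    push Not at hcon
    have h6 : Nat.card {c : Ω // (y : G) • c = c} = 1 := by
      rw [Nat.card_eq_one_iff_unique]
      refine ⟨⟨?_⟩, ⟨⟨a, hya⟩⟩⟩
      rintro ⟨c, hc⟩ ⟨d, hd⟩
      have hc' : c = a := by
        by_contra h7; exact hcon c h7 hc
      have hd' : d = a := by
        by_contra h7; exact hcon d h7 hd
      exact Subtype.ext (hc'.trans hd'.symm)
    rw [h6] at h5
    have h7 : (1 : ℕ) % p = 2 % p := h5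
    rw [Nat.mod_eq_of_lt (by omega), Nat.mod_eq_of_lt (by omega)] at h7
    omega
  have hyW : (y : G) ∉ W := fun h6 => hyN h6
  have h6 := hfix y hya hyW ⟨j, hyj⟩ b hba hyb
  have h7 := card_modEq (Ω := Ω) Nat.prime_three hw31 {c : Ω | (y : G) • c = c} (by
    intro c hc
    change (y : G) • (w : G) • c = (w : G) • c
    have hc' : (y : G) • c = c := hc
    rw [smul_smul, hcomm'.eq, mul_smul, hc'])
  have h8 : Nat.card {c : Ω // c ∈ {c : Ω | (y : G) • c = c} ∧ (w : G) • c = c} = 1 := by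
    rw [Nat.card_eq_one_iff_unique]
    have hwW : (w : G) ∈ W := hwN
    have hwa : (w : G) • a = a := w.2
    refine ⟨⟨?_⟩, ⟨⟨a, hya, hwa⟩⟩⟩
    rintro ⟨c, hc⟩ ⟨d, hd⟩
    exact Subtype.ext ((hw w hwW hw3' c hc.2).trans (hw w hwW hw3' d hd.2).symm)
  rw [h8] at h7
  have h9 : Nat.card {c : Ω | (y : G) • c = c} = Nat.card {c : Ω // (y : G) • c = c} := rfl
  rw [h9] at h7
  rcases h6 with h6 | h6
  · rw [h6] at h7
    exact absurd h7 (by decide)
  · rw [h6] at h7
    have h10 : (q + 1) % 3 = 1 % 3 := h7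
    omega

end Cfsg.Agent.AschCrit.CommFourEnd
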