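import Mathlib
import Cfsg.Agent.AschCrit.Closed
import Cfsg.Agent.OddOrderCharacters.ClassSum

/-!
# Aschbacher's criterion, commutative case (C2)

`V = D_a ∪ 1` a subgroup of order `q ^ 2`, `|Ω| = 1 + q ^ 4 ((q - 1) ^ 2 + 1)`, no bad involution
fixing `a` centralises `V`, and for one bad involution `u` fixing `a` the centraliser of `u` acts on
its fixed points like `PSU₃(q)` (`LocalU`): impossible.
-/

set_option autoImplicit false

namespace Cfsg.Agent.AschCrit.CommTwo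

open Cfsg.Agent.TwoFusion.StronglyEmbeddedBasic Cfsg.Agent.AschCrit.Basic
open Cfsg.Agent.AschCrit.Basic.Setup Cfsg.Agent.AschCrit.Closed
open scoped Pointwise

section General

variable {G : Type*} [Group G]

/-- a nontrivial element of a 2-group has a power of order two -/
theorem exists_pow_orderOf_two {S : Subgroup G} (hS : IsPGroup 2 S) {s : G} (hs : s ∈ S)
    (hs1 : s ≠ 1) : ∃ k : ℕ, orderOf (s ^ k) = 2 := by
  obtain ⟨n, hn⟩ := (IsPGroup.iff_orderOf.mp hS) ⟨s, hs⟩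
  have hn' : orderOf s = 2 ^ n := by rw [← hn]; exact (Subgroup.orderOf_mk s hs).symm
  cases n with
  | zero =>
    rw [pow_zero, orderOf_eq_one_iff] at hn'
    exact absurd hn' hs1
  | succ j =>
    refine ⟨2 ^ j, ?_⟩
    have h2 : orderOf s = 2 ^ j * 2 := by rw [hn', pow_succ]
    rw [orderOf_pow' s (pow_ne_zero j two_ne_zero), h2, Nat.gcd_eq_right (Dvd.intro 2 rfl)]
    exact Nat.mul_div_cancel_left 2 (by positivity)

/-- Frattini argument for a subgroup `W` and an element `g` normalising it -/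
theorem exists_mul_mem_normalizer [Finite G] {W : Subgroup G} {p : ℕ} [Fact p.Prime]
    (Q : Sylow p W) {g : G} (hg : ∀ w : G, w ∈ W ↔ g * w * g⁻¹ ∈ W) :
    ∃ w ∈ W, ∀ x, x ∈ (Q : Subgroup W).map W.subtype ↔
      (w * g) * x * (w * g)⁻¹ ∈ (Q : Subgroup W).map W.subtype := by
  let φ : MulAut W :=
    { toFun := fun w => ⟨g * w * g⁻¹, (hg w).mp w.2⟩
      invFun := fun w => ⟨g⁻¹ * w * g, by
        rw [hg]
        have e : g * (g⁻¹ * (w : G) * g) * g⁻¹ = w := by group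
        rw [e]; exact w.2⟩
      left_inv := fun w => Subtype.ext (by simp [mul_assoc])
      right_inv := fun w => Subtype.ext (by simp [mul_assoc])
      map_mul' := fun w w' => Subtype.ext (by simp [mul_assoc]) }
  obtain ⟨n, hn⟩ := MulAction.exists_smul_eq W (φ • Q) Q
  refine ⟨n, n.2, ?_⟩
  have key : ∀ x : W, x ∈ (Q : Subgroup W) ↔ n * φ x * n⁻¹ ∈ (Q : Subgroup W) := by
    intro x
    have h1 : (n • (φ • Q) : Sylow p W) = Q := hn
    have h2 : n * φ x * n⁻¹ ∈ (n • (φ • Q) : Sylow p W) ↔ x ∈ Q := by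
      have e : n * φ x * n⁻¹ = MulAut.conj n • (φ • x) := rfl
      rw [e, Sylow.smul_def]
      change MulAut.conj n • (φ • x) ∈ MulAut.conj n • (φ • (Q : Subgroup W)) ↔ _
      rw [Subgroup.smul_mem_pointwise_smul_iff, Subgroup.smul_mem_pointwise_smul_iff]
      rfl
    rw [h1] at h2
    exact h2.symm
  intro x
  constructor
  · rintro ⟨y, hy, rfl⟩
    refine ⟨n * φ y * n⁻¹, (key y).mp hy, ?_⟩
    show (n : G) * (g * y * g⁻¹) * (n : G)⁻¹ = _
    simp [mul_assoc]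
  · rintro ⟨y, hy, hyx⟩
    have hxW : x ∈ W := by
      rw [hg]
      have e : g * x * g⁻¹ = (n : G)⁻¹ * y * n := by
        have : (y : G) = n * g * x * (n * g)⁻¹ := hyx
        rw [this]; group
      rw [e]; exact mul_mem (mul_mem (inv_mem n.2) y.2) n.2
    refine ⟨⟨x, hxW⟩, (key ⟨x, hxW⟩).mpr ?_, rfl⟩
    have e : n * φ ⟨x, hxW⟩ * n⁻¹ = y := by
      apply Subtype.ext
      have : (y : G) = n * g * x * (n * g)⁻¹ := hyx
      rw [this]
      show (n : G) * (g * x * g⁻¹) * (n : G)⁻¹ = _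
      group
    rw [e]; exact hy

/-- A finite group `N` acts on a group `V` by automorphisms, transitively on the elements `≠ 1`, and
on a group `S`; `r` is a prime dividing `|V| - 1` and whenever a subgroup `R` of `N` fixes a
nontrivial element of `S`, it fixes a nontrivial element of `V`.  Then `|S| ≡ |V| ≡ 1` modulo `r`. -/
theorem card_modEq_one {N V S : Type*} [Group N] [Finite N] [Group V] [Finite V] [Group S] [Finite S]
    [MulDistribMulAction N V] [MulDistribMulAction N S] {r : ℕ} [Fact r.Prime]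
    (ht : ∀ v w : V, v ≠ 1 → w ≠ 1 → ∃ g : N, g • v = w) (hr : r ∣ Nat.card V - 1)
    (hS : ∀ R : Subgroup N, ∀ s : S, s ≠ 1 → (∀ g ∈ R, g • s = s) →
      ∃ v : V, v ≠ 1 ∧ ∀ g ∈ R, g • v = v) :
    Nat.card S ≡ 1 [MOD r] ∧ Nat.card V ≡ 1 [MOD r] := by
  obtain ⟨R⟩ : Nonempty (Sylow r N) := inferInstance
  have hno : ∀ v : V, v ≠ 1 → ¬ ∀ g ∈ (R : Subgroup N), g • v = v := by
    intro v hv hfix
    have hle : (R : Subgroup N) ≤ MulAction.stabilizer N v := fun g hg => hfix g hg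
    have h1 : (MulAction.stabilizer N v).index = Nat.card V - 1 := by
      rw [MulAction.index_stabilizer]
      have horb : MulAction.orbit N v = (({1} : Set V)ᶜ) := by
        ext w
        constructor
        · rintro ⟨g, rfl⟩ hw
          apply hv
          have h2 : g • v = 1 := hw
          rw [← inv_smul_smul g v, h2, smul_one]
        · intro hw
          obtain ⟨g, hg⟩ := ht v w hv hw
          exact ⟨g, hg⟩
      rw [horb, Set.ncard_compl, Set.ncard_singleton]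
    have h2 : r ∣ (R : Subgroup N).index := by
      refine dvd_trans ?_ (Subgroup.index_dvd_of_le hle)
      rw [h1]; exact hr
    exact R.not_dvd_index h2
  have hV1 : ∀ v : V, v ∈ MulAction.fixedPoints R V ↔ v = 1 := by
    intro v
    constructor
    · intro h
      by_contra hv
      exact hno v hv fun g hg => h ⟨g, hg⟩
    · rintro rfl g
      exact smul_one (g : N)
  have hS1 : ∀ s : S, s ∈ MulAction.fixedPoints R S ↔ s = 1 := by
    intro s
    constructor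
    · intro h
      by_contra hs
      obtain ⟨v, hv, hfix⟩ := hS R s hs fun g hg => h ⟨g, hg⟩
      exact hno v hv hfix
    · rintro rfl g
      exact smul_one (g : N)
  have hcV : Nat.card (MulAction.fixedPoints R V) = 1 := by
    rw [Nat.card_eq_one_iff_unique]
    exact ⟨⟨fun x y => Subtype.ext (by rw [(hV1 _).mp x.2, (hV1 _).mp y.2])⟩, ⟨⟨1, (hV1 1).mpr rfl⟩⟩⟩
  have hcS : Nat.card (MulAction.fixedPoints R S) = 1 := by
    rw [Nat.card_eq_one_iff_unique]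
    exact ⟨⟨fun x y => Subtype.ext (by rw [(hS1 _).mp x.2, (hS1 _).mp y.2])⟩, ⟨⟨1, (hS1 1).mpr rfl⟩⟩⟩
  have h1 := R.2.card_modEq_card_fixedPoints (α := S)
  have h2 := R.2.card_modEq_card_fixedPoints (α := V)
  rw [hcS] at h1
  rw [hcV] at h2
  exact ⟨h1, h2⟩

/-- the conjugation action of a subgroup `N` on a subgroup `V` normalised by it -/
@[reducible] def conjAct (N V : Subgroup G) (h : ∀ g ∈ N, ∀ v ∈ V, g * v * g⁻¹ ∈ V) :
    MulDistribMulAction N V where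
  smul g v := ⟨g * v * (g : G)⁻¹, h g g.2 v v.2⟩
  one_smul v := Subtype.ext (by show (1 : G) * v * (1 : G)⁻¹ = v; simp)
  mul_smul g g' v := Subtype.ext (by
    show ((g : G) * g') * v * ((g : G) * g')⁻¹ = g * (g' * v * (g' : G)⁻¹) * (g : G)⁻¹
    group)
  smul_one g := Subtype.ext (by show (g : G) * 1 * (g : G)⁻¹ = 1; simp)
  smul_mul g v w := Subtype.ext (by
    show (g : G) * (v * w) * (g : G)⁻¹ = (g * v * (g : G)⁻¹) * (g * w * (g : G)⁻¹)
    group)

/-- Subgroup form of `card_modEq_one`. -/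
theorem modEq_one_subgroup [Finite G] (N V S : Subgroup G)
    (hNV : ∀ g ∈ N, ∀ v ∈ V, g * v * g⁻¹ ∈ V) (hNS : ∀ g ∈ N, ∀ v ∈ S, g * v * g⁻¹ ∈ S) {r : ℕ}
    [Fact r.Prime] (ht : ∀ v ∈ V, ∀ w ∈ V, v ≠ 1 → w ≠ 1 → ∃ g ∈ N, g * v * g⁻¹ = w)
    (hr : r ∣ Nat.card V - 1)
    (hS : ∀ R : Subgroup G, R ≤ N → ∀ s ∈ S, s ≠ 1 → (∀ g ∈ R, Commute g s) →
      ∃ v ∈ V, v ≠ 1 ∧ ∀ g ∈ R, Commute g v) :
    Nat.card S ≡ 1 [MOD r] ∧ Nat.card V ≡ 1 [MOD r] := by
  let iV := conjAct N V hNV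
  let iS := conjAct N S hNS
  have hcomm : ∀ g x : G, g * x * g⁻¹ = x ↔ Commute g x := by
    intro g x
    rw [mul_inv_eq_iff_eq_mul]
    exact Iff.rfl
  refine card_modEq_one (N := N) (V := V) (S := S) ?_ hr ?_
  · intro v w hv hw
    obtain ⟨g, hg, hgv⟩ := ht v v.2 w w.2 (fun h => hv (Subtype.ext h)) (fun h => hw (Subtype.ext h))
    exact ⟨⟨g, hg⟩, Subtype.ext hgv⟩
  · intro R s hs hfix
    obtain ⟨v, hv, hv1, hfv⟩ := hS (R.map N.subtype) (by
      rintro _ ⟨g, -, rfl⟩; exact g.2) s s.2 (fun h => hs (Subtype.ext h)) (by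
      rintro _ ⟨g, hg, rfl⟩
      exact (hcomm _ _).mp (congrArg Subtype.val (hfix g hg)))
    refine ⟨⟨v, hv⟩, fun h => hv1 (congrArg Subtype.val h), fun g hg => Subtype.ext ?_⟩
    exact (hcomm _ _).mpr (hfv g ⟨g, hg, rfl⟩)

/-- an element `y` of odd order commuting with `u` and with every element of `V` (elementary abelian)
commuting with `u` centralises `V`, if `v * (u v u⁻¹)` always commutes with `u` -/
theorem commute_of_odd {V : Subgroup G} (hV : ∀ v ∈ V, ∀ w ∈ V, Commute v w)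
    (hV2 : ∀ v ∈ V, v * v = 1) {u y : G} (hu2 : u * u = 1) (huV : ∀ v ∈ V, u * v * u⁻¹ ∈ V)
    (hyV : ∀ v ∈ V, y * v * y⁻¹ ∈ V) (hy : Odd (orderOf y)) (hyu : Commute y u)
    (hyc : ∀ v ∈ V, Commute v u → Commute y v) : ∀ v ∈ V, Commute y v := by
  intro v hv
  have hinv : ∀ w ∈ V, w⁻¹ = w := fun w hw => inv_eq_of_mul_eq_one_right (hV2 w hw)
  have hui : u⁻¹ = u := inv_eq_of_mul_eq_one_right hu2
  have hconj : ∀ g x : G, g * x * g⁻¹ = x → Commute g x := by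
    intro g x hgx
    exact mul_inv_eq_iff_eq_mul.mp hgx
  -- `[v, u]` commutes with `u`
  have hb : Commute (v * (u * v * u⁻¹)) u := by
    refine (hconj u _ ?_).symm
    calc u * (v * (u * v * u⁻¹)) * u⁻¹ = (u * v * u⁻¹) * ((u * u) * v * (u * u)⁻¹) := by group
      _ = (u * v * u⁻¹) * v := by rw [hu2]; group
      _ = v * (u * v * u⁻¹) := (hV _ (huV v hv) v hv).eq
  set v' := y * v * y⁻¹ with hv'
  have hv'V : v' ∈ V := hyV v hv
  have hyb : Commute y (v * (u * v * u⁻¹)) := hyc _ (mul_mem hv (huV v hv)) hb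
  have h1 : v' * (u * v' * u⁻¹) = v * (u * v * u⁻¹) := by
    have h2 : y * (v * (u * v * u⁻¹)) * y⁻¹ = v * (u * v * u⁻¹) := by
      rw [hyb.eq]; group
    rw [← h2]
    have h3 : y * u = u * y := hyu.eq
    have h4 : u⁻¹ * y⁻¹ = y⁻¹ * u⁻¹ := by rw [← mul_inv_rev, ← mul_inv_rev, h3]
    calc v' * (u * v' * u⁻¹) = y * v * y⁻¹ * ((u * y) * v * (y⁻¹ * u⁻¹)) := by rw [hv']; group
      _ = y * v * y⁻¹ * ((y * u) * v * (u⁻¹ * y⁻¹)) := by rw [h3, h4]
      _ = y * (v * (u * v * u⁻¹)) * y⁻¹ := by group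
  -- `c = v * v'` commutes with `u`
  set c := v * v' with hc
  have hcV : c ∈ V := mul_mem hv hv'V
  have hcu : Commute c u := by
    refine (hconj u c ?_).symm
    have h2 : (u * v' * u⁻¹) = v' * (v * (u * v * u⁻¹)) := by
      rw [← h1, ← mul_assoc v' v', hV2 v' hv'V, one_mul]
    calc u * (v * v') * u⁻¹ = (u * v * u⁻¹) * (u * v' * u⁻¹) := by group
      _ = (u * v * u⁻¹) * (v' * (v * (u * v * u⁻¹))) := by rw [h2]
      _ = (u * v * u⁻¹) * ((v' * v) * (u * v * u⁻¹)) := by rw [mul_assoc v']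
      _ = (v' * v) * (u * v * u⁻¹) * (u * v * u⁻¹) := by
          rw [← mul_assoc, (hV _ (huV v hv) _ (mul_mem hv'V hv)).eq]
      _ = v' * v := by rw [mul_assoc, hV2 _ (huV v hv), mul_one]
      _ = v * v' := (hV _ hv'V _ hv).eq
  have hyc' : Commute y c := hyc c hcV hcu
  have hv'c : v' = v * c := by rw [hc, ← mul_assoc, hV2 v hv, one_mul]
  have hpow : ∀ n : ℕ, y ^ n * v * (y ^ n)⁻¹ = v * c ^ n := by
    intro n
    induction n with
    | zero => simp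
    | succ n ih =>
      calc y ^ (n + 1) * v * (y ^ (n + 1))⁻¹ = y * (y ^ n * v * (y ^ n)⁻¹) * y⁻¹ := by
            rw [pow_succ']; group
        _ = y * (v * c ^ n) * y⁻¹ := by rw [ih]
        _ = (y * v * y⁻¹) * (y * c ^ n * y⁻¹) := by group
        _ = v * c * c ^ n := by
            rw [← hv', hv'c, (hyc'.pow_right n).eq]; group
        _ = v * c ^ (n + 1) := by rw [pow_succ']; group
  obtain ⟨m, hm⟩ := hy
  have h2 := hpow (orderOf y)
  rw [pow_orderOf_eq_one] at h2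
  have h3 : c ^ orderOf y = c := by
    rw [hm, pow_succ, pow_mul, pow_two, hV2 c hcV, one_pow, one_mul]
  rw [h3] at h2
  have hc1 : c = 1 := by
    have : v * c = v * 1 := by rw [← h2]; group
    exact mul_left_cancel this
  refine hconj y v ?_
  rw [← hv', hv'c, hc1, mul_one]

end General

section Main

variable {G Ω : Type*} [Group G] [MulAction G Ω] {z : G} {a : Ω} {V : Subgroup G}

/-- The centraliser of the bad involution `u` acts on the fixed points of `u` like `PSU₃(q)`: `P` is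
(over) a Sylow 2-subgroup at `a`, `K` the kernel, `y` an element of order dividing `q + 1` of a torus. -/
def LocalU (V : Subgroup G) (a : Ω) (u : G) (q : ℕ) : Prop :=
  ∃ (P K : Subgroup G) (y : G), IsPGroup 2 P ∧ (∀ x ∈ P, x • a = a ∧ Commute x u) ∧
    (∀ v ∈ V, Commute v u → v ∈ P) ∧ (∃ b : Ω, b ≠ a ∧ ∀ k ∈ K, k • a = a ∧ k • b = b) ∧
    (∀ x ∈ P, ∀ k ∈ K, x * k * x⁻¹ ∈ K) ∧ q ^ 3 * Nat.card (P ⊓ K : Subgroup G) ≤ Nat.card P ∧
    Odd (orderOf y) ∧ Commute y u ∧ y • a = a ∧ (∀ x ∈ P, y⁻¹ * x * y ∈ P) ∧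
    (∀ v ∈ V, Commute v u → Commute y v) ∧
    (∀ p ∈ P, ∃ p' ∈ P, ∃ v ∈ V, ∃ k ∈ K, Commute v u ∧ p = (p'⁻¹ * (y⁻¹ * p' * y)) * v * k) ∧
    (∀ x ∈ P, ∃ v ∈ V, ∃ k ∈ K, Commute v u ∧ x * x = v * k) ∧ ∃ x ∈ P, x * x ∉ K

theorem conj_mem_V (hV : ∀ d : G, d ∈ V ↔ d = 1 ∨ d ∈ At z a) {g : G} (hg : g • a = a) {v : G}
    (hv : v ∈ V) : g * v * g⁻¹ ∈ V := by
  rw [hV] at hv ⊢
  rcases hv with rfl | hv
  · left; simp
  · right; have := conj_mem_At g hv; rwa [hg] at this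

theorem cent_smul (h : Setup G Ω z) (hV : ∀ d : G, d ∈ V ↔ d = 1 ∨ d ∈ At z a) {w : G}
    (hw : w ∈ Subgroup.centralizer (V : Set G)) : w • a = a := by
  obtain ⟨d, hd⟩ := h.nonempty_At a
  refine h.fix_of_commute hd.1 ?_ hd.2
  exact (Subgroup.mem_centralizer_iff.mp hw d ((hV d).mpr (Or.inr hd))).symm

theorem inv_mem_V [Finite G] (h : Setup G Ω z) (hf : ∀ g : G, (∀ a : Ω, g • a = a) → g = 1)
    (hV : ∀ d : G, d ∈ V ↔ d = 1 ∨ d ∈ At z a)
    (hbad : ∀ w : G, Bad Ω w → w • a = a → w ∉ Subgroup.centralizer (V : Set G)) {t : G}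
    (ht : t ∈ Subgroup.centralizer (V : Set G)) (ht2 : orderOf t = 2) : t ∈ V := by
  have hta := cent_smul h hV ht
  rcases isConj_or_bad h hf ht2 with hc | hc
  · exact (hV t).mpr (Or.inr ⟨hc, hta⟩)
  · exact absurd ht (hbad t hc hta)

theorem eq_one_of_fix [Finite G] (h : Setup G Ω z) (hV : ∀ d : G, d ∈ V ↔ d = 1 ∨ d ∈ At z a)
    (hbad : ∀ w : G, Bad Ω w → w • a = a → w ∉ Subgroup.centralizer (V : Set G)) {S : Subgroup G}
    (hS : IsPGroup 2 S) (hSW : S ≤ Subgroup.centralizer (V : Set G)) {s : G} (hs : s ∈ S) {b : Ω}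
    (hb : b ≠ a) (hsb : s • b = b) : s = 1 := by
  by_contra hs1
  obtain ⟨k, hk⟩ := exists_pow_orderOf_two hS hs hs1
  have hmem : s ^ k ∈ Subgroup.centralizer (V : Set G) := pow_mem (hSW hs) k
  have hfa : s ^ k • a = a := cent_smul h hV hmem
  have hfb : s ^ k • b = b := by
    have h1 : s ∈ MulAction.stabilizer G b := hsb
    exact pow_mem h1 k
  exact hbad _ ⟨hk, b, a, hb, hfb, hfa⟩ hfa hmem

/-- the order of a 2-subgroup of `C(V)` divides `|Ω| - 1` -/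
theorem card_dvd [Finite G] (h : Setup G Ω z) (hV : ∀ d : G, d ∈ V ↔ d = 1 ∨ d ∈ At z a)
    (hbad : ∀ w : G, Bad Ω w → w • a = a → w ∉ Subgroup.centralizer (V : Set G)) {S : Subgroup G}
    (hS : IsPGroup 2 S) (hSW : S ≤ Subgroup.centralizer (V : Set G)) :
    Nat.card S ∣ Nat.card Ω - 1 := by
  classical
  have hfin : Finite Ω := h.finite_points
  have := Fintype.ofFinite Ω
  have h1 := Cfsg.Agent.OddOrderCharacters.ClassSum.card_dvd_of_free (H := S) (X := Ω)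
    (Finset.univ.erase a) (by
      intro s x hx
      rw [Finset.mem_erase] at hx ⊢
      refine ⟨fun hc => hx.1 ?_, Finset.mem_univ _⟩
      have h2 : (s : G) • a = a := cent_smul h hV (hSW s.2)
      have h3 : (s : G) • x = (s : G) • a := by rw [h2]; exact hc
      exact smul_left_cancel (s : G) h3) (by
      intro s x hx h1
      rw [Finset.mem_erase] at hx
      exact Subtype.ext (eq_one_of_fix h hV hbad hS hSW s.2 hx.1 h1))
  rw [Finset.card_erase_of_mem (Finset.mem_univ _), Finset.card_univ, ← Nat.card_eq_fintype_card]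
    at h1
  exact h1

theorem mul_self_V (h : Setup G Ω z) (hV : ∀ d : G, d ∈ V ↔ d = 1 ∨ d ∈ At z a) {v : G}
    (hv : v ∈ V) : v * v = 1 := by
  rcases (hV v).mp hv with rfl | hv
  · simp
  · exact h.mul_self hv.1

theorem comm_V (h : Setup G Ω z) (hV : ∀ d : G, d ∈ V ↔ d = 1 ∨ d ∈ At z a) {v w : G}
    (hv : v ∈ V) (hw : w ∈ V) : Commute v w := by
  have h1 := mul_self_V h hV (mul_mem hv hw)
  have h2 := mul_self_V h hV hv
  have h3 := mul_self_V h hV hw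
  have h4 : v⁻¹ = v := inv_eq_of_mul_eq_one_right h2
  have h5 : w⁻¹ = w := inv_eq_of_mul_eq_one_right h3
  have h6 : (v * w)⁻¹ = v * w := inv_eq_of_mul_eq_one_right h1
  rw [mul_inv_rev, h4, h5] at h6
  exact h6.symm

theorem V_le_cent (h : Setup G Ω z) (hV : ∀ d : G, d ∈ V ↔ d = 1 ∨ d ∈ At z a) :
    V ≤ Subgroup.centralizer (V : Set G) := fun _ hv =>
  Subgroup.mem_centralizer_iff.mpr fun _ hw => (comm_V h hV hw hv).eq

theorem mem_cent_conj (hV : ∀ d : G, d ∈ V ↔ d = 1 ∨ d ∈ At z a) {g : G} (hg : g • a = a)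
    {w : G} (hw : w ∈ Subgroup.centralizer (V : Set G)) :
    g * w * g⁻¹ ∈ Subgroup.centralizer (V : Set G) := by
  rw [Subgroup.mem_centralizer_iff] at hw ⊢
  intro v hv
  have hg' : g⁻¹ • a = a := by rw [inv_smul_eq_iff, hg]
  have h1 := hw _ (conj_mem_V hV hg' hv)
  rw [inv_inv] at h1
  calc v * (g * w * g⁻¹) = g * ((g⁻¹ * v * g) * w) * g⁻¹ := by group
    _ = g * (w * (g⁻¹ * v * g)) * g⁻¹ := by rw [h1]
    _ = g * w * g⁻¹ * v := by group

/-- Frattini: the normaliser of a Sylow 2-subgroup `S` of `C(V)` is transitive on `V` minus `1` -/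
theorem frattini [Finite G] (h : Setup G Ω z) (hV : ∀ d : G, d ∈ V ↔ d = 1 ∨ d ∈ At z a)
    (Q : Sylow 2 (Subgroup.centralizer (V : Set G))) {S : Subgroup G}
    (hSQ : S = (Q : Subgroup (Subgroup.centralizer (V : Set G))).map (Subgroup.subtype _)) {v w : G}
    (hv : v ∈ V) (hw : w ∈ V) (hv1 : v ≠ 1) (hw1 : w ≠ 1) :
    ∃ g : G, g • a = a ∧ (∀ x, x ∈ S ↔ g * x * g⁻¹ ∈ S) ∧ g * v * g⁻¹ = w := by
  obtain ⟨g, hg, hgv⟩ := h.exists_conj_at (((hV v).mp hv).resolve_left hv1)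
    (((hV w).mp hw).resolve_left hw1)
  obtain ⟨n, hn, hnS⟩ := exists_mul_mem_normalizer Q (g := g) (by
    intro x
    refine ⟨mem_cent_conj hV hg, fun hx => ?_⟩
    have hg' : g⁻¹ • a = a := by rw [inv_smul_eq_iff, hg]
    have := mem_cent_conj hV hg' hx
    have e : g⁻¹ * (g * x * g⁻¹) * g⁻¹⁻¹ = x := by group
    rwa [e] at this)
  refine ⟨n * g, ?_, ?_, ?_⟩
  · rw [mul_smul, hg]; exact cent_smul h hV hn
  · rw [hSQ]; exact hnS
  · calc n * g * v * (n * g)⁻¹ = n * (g * v * g⁻¹) * n⁻¹ := by group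
      _ = n * w * n⁻¹ := by rw [hgv]
      _ = w := by
        have := Subgroup.mem_centralizer_iff.mp hn w hw
        rw [← this]; group

/-- The order of a Sylow 2-subgroup `S` of `C(V)` is `1` modulo each prime dividing `|V| - 1`. -/
theorem modEq_one [Finite G] (h : Setup G Ω z) (hf : ∀ g : G, (∀ a : Ω, g • a = a) → g = 1)
    (hV : ∀ d : G, d ∈ V ↔ d = 1 ∨ d ∈ At z a)
    (hbad : ∀ w : G, Bad Ω w → w • a = a → w ∉ Subgroup.centralizer (V : Set G))
    (Q : Sylow 2 (Subgroup.centralizer (V : Set G))) {S : Subgroup G}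
    (hSQ : S = (Q : Subgroup (Subgroup.centralizer (V : Set G))).map (Subgroup.subtype _))
    {r : ℕ} [Fact r.Prime] (hr : r ∣ Nat.card V - 1) :
    Nat.card S ≡ 1 [MOD r] ∧ Nat.card V ≡ 1 [MOD r] := by
  have hSp : IsPGroup 2 S := by rw [hSQ]; exact Q.2.map _
  have hSW : S ≤ Subgroup.centralizer (V : Set G) := by
    rw [hSQ]; rintro _ ⟨x, -, rfl⟩; exact x.2
  refine modEq_one_subgroup (MulAction.stabilizer G a ⊓ Subgroup.normalizer (S : Set G)) V S ?_ ?_ ?_ hr ?_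
  · intro g hg v hv
    exact conj_mem_V hV hg.1 hv
  · intro g hg s hs
    exact (Subgroup.mem_normalizer_iff.mp hg.2 s).mp hs
  · intro v hv w hw hv1 hw1
    obtain ⟨g, hg, hgS, hgv⟩ := frattini h hV Q hSQ hv hw hv1 hw1
    exact ⟨g, ⟨hg, Subgroup.mem_normalizer_iff.mpr hgS⟩, hgv⟩
  · intro R hR s hs hs1 hRs
    obtain ⟨k, hk⟩ := exists_pow_orderOf_two hSp hs hs1
    refine ⟨s ^ k, inv_mem_V h hf hV hbad (pow_mem (hSW hs) k) hk, ?_, ?_⟩
    · intro h1
      rw [h1, orderOf_one] at hk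
      exact absurd hk (by norm_num)
    · intro g hg
      exact (hRs g hg).pow_right k

/-- arithmetic: a power of two dividing `q ^ 4 ((q - 1) ^ 2 + 1)` divides `2 q ^ 4` -/
theorem arith {k q s : ℕ} (hk : 2 ≤ k) (hq : q = 2 ^ k)
    (hs : 2 ^ s ∣ q ^ 4 * ((q - 1) ^ 2 + 1)) : s ≤ 4 * k + 1 := by
  obtain ⟨m, rfl⟩ : ∃ m, k = m + 2 := ⟨k - 2, by omega⟩
  have h1 : (q - 1) ^ 2 + 1 = 2 * (2 * (2 ^ (2 * m + 2) - 2 ^ m * 2) + 1) := by
    have h2 : 2 ^ m * 2 ≤ 2 ^ (2 * m + 2) := by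
      rw [← pow_succ]
      exact Nat.pow_le_pow_right (by norm_num) (by omega)
    have h3 : 1 ≤ q := by rw [hq]; exact Nat.one_le_two_pow
    zify [h2, h3]
    rw [hq]; push_cast; ring
  have h4 : q ^ 4 * ((q - 1) ^ 2 + 1) =
      2 ^ (4 * (m + 2) + 1) * (2 * (2 ^ (2 * m + 2) - 2 ^ m * 2) + 1) := by
    rw [h1, hq, ← pow_mul, pow_succ]; ring
  rw [h4] at hs
  have hcop : Nat.Coprime (2 ^ s) (2 * (2 ^ (2 * m + 2) - 2 ^ m * 2) + 1) := by
    apply Nat.Coprime.pow_left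
    rw [Nat.coprime_two_left]
    exact ⟨_, rfl⟩
  have h5 := hcop.dvd_of_dvd_mul_right hs
  exact (Nat.pow_dvd_pow_iff_le_right (by norm_num)).mp h5

/-- a Sylow 2-subgroup of `C(V)` has order at most `q ^ 4` -/
theorem card_le [Finite G] (h : Setup G Ω z) (hf : ∀ g : G, (∀ a : Ω, g • a = a) → g = 1)
    (hV : ∀ d : G, d ∈ V ↔ d = 1 ∨ d ∈ At z a)
    (hbad : ∀ w : G, Bad Ω w → w • a = a → w ∉ Subgroup.centralizer (V : Set G)) {k q : ℕ}
    (hk : 2 ≤ k) (hq : q = 2 ^ k) (hcV : Nat.card V = q ^ 2)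
    (hn : Nat.card Ω = q ^ 4 * ((q - 1) ^ 2 + 1) + 1)
    (Q : Sylow 2 (Subgroup.centralizer (V : Set G))) {S : Subgroup G}
    (hSQ : S = (Q : Subgroup (Subgroup.centralizer (V : Set G))).map (Subgroup.subtype _)) :
    Nat.card S ≤ q ^ 4 := by
  have hSp : IsPGroup 2 S := by rw [hSQ]; exact Q.2.map _
  have hSW : S ≤ Subgroup.centralizer (V : Set G) := by
    rw [hSQ]; rintro _ ⟨x, -, rfl⟩; exact x.2
  obtain ⟨s, hs⟩ := IsPGroup.iff_card.mp hSp
  have h1 := card_dvd h hV hbad hSp hSW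
  rw [hn, Nat.add_sub_cancel, hs] at h1
  have h2 := arith hk hq h1
  rcases Nat.lt_or_ge s (4 * k + 1) with h3 | h3
  · rw [hs, hq, ← pow_mul]
    exact Nat.pow_le_pow_right (by norm_num) (by omega)
  · exfalso
    have h4 : s = 4 * k + 1 := le_antisymm h2 h3
    have hq4 : 4 ≤ q := by
      rw [hq]
      calc 4 = 2 ^ 2 := by norm_num
        _ ≤ 2 ^ k := Nat.pow_le_pow_right (by norm_num) hk
    have h5 : q ^ 2 - 1 ≠ 1 := by
      have : 4 ^ 2 ≤ q ^ 2 := Nat.pow_le_pow_left hq4 2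
      omega
    obtain ⟨r, hr, hrd⟩ := Nat.exists_prime_and_dvd h5
    have : Fact r.Prime := ⟨hr⟩
    obtain ⟨h6, h7⟩ := modEq_one h hf hV hbad Q hSQ (r := r) (by rw [hcV]; exact hrd)
    rw [hcV] at h7
    have h8 : Nat.card S = 2 * (q ^ 2) ^ 2 := by
      rw [hs, h4, hq]; ring
    rw [h8] at h6
    have h9 : 2 * (q ^ 2) ^ 2 ≡ 2 * 1 ^ 2 [MOD r] := (h7.pow 2).mul_left 2
    have h10 : 2 * 1 ^ 2 ≡ 1 [MOD r] := h9.symm.trans h6
    have h11 : r ∣ 2 * 1 ^ 2 - 1 := (Nat.modEq_iff_dvd' (by norm_num)).mp h10.symm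
    have h12 : r = 1 := Nat.dvd_one.mp (by simpa using h11)
    exact hr.one_lt.ne' h12

/-- two commuting 2-subgroups: their product -/
theorem exists_prod {G : Type*} [Group G] [Finite G] {A B : Subgroup G} (hA : IsPGroup 2 A)
    (hB : IsPGroup 2 B) (hAB : ∀ x ∈ A, ∀ y ∈ B, Commute x y) {W : Subgroup G} (hAW : A ≤ W)
    (hBW : B ≤ W) :
    ∃ C : Subgroup G, IsPGroup 2 C ∧ C ≤ W ∧ (∀ x, x ∈ C ↔ ∃ y ∈ A, ∃ w ∈ B, x = y * w) ∧
      Nat.card A * Nat.card B ≤ Nat.card C * Nat.card (A ⊓ B : Subgroup G) := by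
  let f : A × B →* G := MonoidHom.noncommCoprod A.subtype B.subtype fun x y => hAB x x.2 y y.2
  have hfa : ∀ p : A × B, f p = p.1 * p.2 := fun p => rfl
  have hmem : ∀ x, x ∈ f.range ↔ ∃ y ∈ A, ∃ w ∈ B, x = y * w := by
    intro x
    constructor
    · rintro ⟨p, rfl⟩
      exact ⟨p.1, p.1.2, p.2, p.2.2, rfl⟩
    · rintro ⟨y, hy, w, hw, rfl⟩
      exact ⟨(⟨y, hy⟩, ⟨w, hw⟩), rfl⟩
  refine ⟨f.range, ?_, ?_, hmem, ?_⟩
  · rintro ⟨x, hx⟩
    obtain ⟨y, hy, w, hw, rfl⟩ := (hmem x).mp hx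
    obtain ⟨m, hm⟩ := hA ⟨y, hy⟩
    obtain ⟨n, hn⟩ := hB ⟨w, hw⟩
    have hm' : y ^ 2 ^ m = 1 := congrArg Subtype.val hm
    have hn' : w ^ 2 ^ n = 1 := congrArg Subtype.val hn
    refine ⟨m + n, Subtype.ext ?_⟩
    show (y * w) ^ 2 ^ (m + n) = 1
    rw [(hAB y hy w hw).mul_pow, pow_add, pow_mul, hm', one_pow, one_mul, mul_comm, pow_mul, hn',
      one_pow]
  · intro x hx
    obtain ⟨y, hy, w, hw, rfl⟩ := (hmem x).mp hx
    exact mul_mem (hAW hy) (hBW hw)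
  · have h1 : Nat.card (A × B) = Nat.card ((A × B) ⧸ f.ker) * Nat.card f.ker :=
      Subgroup.card_eq_card_quotient_mul_card_subgroup _
    have h2 : Nat.card ((A × B) ⧸ f.ker) = Nat.card f.range :=
      Nat.card_congr (QuotientGroup.quotientKerEquivRange f).toEquiv
    have h3 : Nat.card f.ker ≤ Nat.card (A ⊓ B : Subgroup G) := by
      refine Nat.card_le_card_of_injective
        (fun p => ⟨p.1.1, Subgroup.mem_inf.mpr ⟨p.1.1.2, ?_⟩⟩) ?_
      · have h4 : (p.1.1 : G) * p.1.2 = 1 := p.2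
        rw [eq_inv_of_mul_eq_one_left h4]
        exact inv_mem p.1.2.2
      · rintro ⟨⟨x, y⟩, hp⟩ ⟨⟨x', y'⟩, hp'⟩ hxx
        have h4 : (x : G) * y = 1 := hp
        have h5 : (x' : G) * y' = 1 := hp'
        have h6 : (x : G) = x' := (Subtype.mk.injEq _ _ _ _).mp hxx
        have h7 : (y : G) = y' := by
          rw [eq_inv_of_mul_eq_one_right h4, eq_inv_of_mul_eq_one_right h5, h6]
        exact Subtype.ext (Prod.ext (Subtype.ext h6) (Subtype.ext h7))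
    rw [Nat.card_prod, h2] at h1
    rw [h1]
    exact Nat.mul_le_mul_left _ h3

/-- **Case (C2).** -/
theorem main [Finite G] (h : Setup G Ω z) (hf : ∀ g : G, (∀ a : Ω, g • a = a) → g = 1)
    (hV : ∀ d : G, d ∈ V ↔ d = 1 ∨ d ∈ At z a)
    (hbad : ∀ w : G, Bad Ω w → w • a = a → w ∉ Subgroup.centralizer (V : Set G)) {k q : ℕ}
    (hk : 2 ≤ k) (hq : q = 2 ^ k) (hcV : Nat.card V = q ^ 2)
    (hn : Nat.card Ω = q ^ 4 * ((q - 1) ^ 2 + 1) + 1) {u : G} (hu : Bad Ω u) (hua : u • a = a)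
    (hCu : Nat.card (V ⊓ Subgroup.centralizer ({u} : Set G) : Subgroup G) = q)
    (hL : LocalU V a u q) : False := by
  obtain ⟨P, K, y, hP, hPu, hVP, ⟨b, hba, hK⟩, hKn, hcard, hyodd, hyu, hya, hyP, hyV, hgen, hsq, x₀, hx₀,
    hx₀K⟩ := hL
  set W := Subgroup.centralizer (V : Set G) with hW
  have hVW : V ≤ W := V_le_cent h hV
  -- `y` centralises `V`
  have hyW : y ∈ W := by
    rw [hW, Subgroup.mem_centralizer_iff]
    intro v hv
    refine (commute_of_odd (fun v hv w hw => comm_V h hV hv hw) (fun v hv => mul_self_V h hV hv)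
      hu.mul_self (fun v hv => conj_mem_V hV hua hv) (fun v hv => conj_mem_V hV hya hv) hyodd hyu
      hyV v hv).eq.symm
  -- `P₁ = P ∩ W`
  set P₁ := P ⊓ W with hP₁
  have hP₁p : IsPGroup 2 P₁ := hP.to_le inf_le_left
  have hdec : ∀ p ∈ P, ∃ x ∈ P₁, ∃ k ∈ P ⊓ K, p = x * k := by
    intro p hp
    obtain ⟨p', hp', v, hv, k, hk, hvu, hpe⟩ := hgen p hp
    have h1 : p'⁻¹ * (y⁻¹ * p' * y) * v ∈ P₁ := by
      refine Subgroup.mem_inf.mpr
        ⟨mul_mem (mul_mem (inv_mem hp') (hyP p' hp')) (hVP v hv hvu), ?_⟩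
      have h2 : p'⁻¹ * y⁻¹ * p'⁻¹⁻¹ ∈ W := mem_cent_conj hV
        (by rw [inv_smul_eq_iff]; exact ((hPu p' hp').1).symm) (inv_mem hyW)
      have h3 : p'⁻¹ * (y⁻¹ * p' * y) * v = (p'⁻¹ * y⁻¹ * p'⁻¹⁻¹) * y * v := by group
      rw [h3]
      exact mul_mem (mul_mem h2 hyW) (hVW hv)
    refine ⟨_, h1, k, Subgroup.mem_inf.mpr ⟨?_, hk⟩, hpe⟩
    have h4 : k = (p'⁻¹ * (y⁻¹ * p' * y) * v)⁻¹ * p := by rw [hpe]; group
    rw [h4]
    exact mul_mem (inv_mem (Subgroup.mem_inf.mp h1).1) hp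
  have hcardP₁ : q ^ 3 ≤ Nat.card P₁ := by
    have h1 : Nat.card P ≤ Nat.card P₁ * Nat.card (P ⊓ K : Subgroup G) := by
      rw [← Nat.card_prod]
      refine Nat.card_le_card_of_surjective
        (fun p : P₁ × (P ⊓ K : Subgroup G) => (⟨p.1.1 * p.2.1, mul_mem p.1.2.1 p.2.2.1⟩ : P)) ?_
      rintro ⟨p, hp⟩
      obtain ⟨x, hx, k, hk, hpe⟩ := hdec p hp
      exact ⟨(⟨x, hx⟩, ⟨k, hk⟩), Subtype.ext hpe.symm⟩
    have h2 : 0 < Nat.card (P ⊓ K : Subgroup G) := Nat.card_pos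
    exact Nat.le_of_mul_le_mul_right (hcard.trans h1) h2
  -- `P₁ ∩ K = 1`
  have hP₁K : ∀ x ∈ P₁, x ∈ K → x = 1 := by
    intro x hx hxK
    exact eq_one_of_fix h hV hbad hP₁p inf_le_right hx hba (hK x hxK).2
  -- `C = V P₁`
  have hVp : IsPGroup 2 V := by
    rintro ⟨v, hv⟩
    exact ⟨1, Subtype.ext (by
      show v ^ 2 ^ 1 = 1
      rw [pow_one, pow_two]; exact mul_self_V h hV hv)⟩
  obtain ⟨C, hCp, hCW, hCmem, hCcard⟩ := exists_prod hVp hP₁p (fun v hv x hx =>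
    Subgroup.mem_centralizer_iff.mp hx.2 v hv) hVW inf_le_right
  have hVP₁ : Nat.card (V ⊓ P₁ : Subgroup G) ≤ q := by
    rw [← hCu]
    refine Subgroup.card_le_of_le ?_
    intro v hv
    exact ⟨hv.1, Subgroup.mem_centralizer_singleton_iff.mpr (hPu v hv.2.1).2.eq⟩
  have hq0 : 0 < q := by rw [hq]; positivity
  have hcC : q ^ 4 ≤ Nat.card C := by
    rw [hcV] at hCcard
    have h1 : q ^ 2 * q ^ 3 ≤ Nat.card C * q :=
      (Nat.mul_le_mul_left _ hcardP₁).trans (hCcard.trans (Nat.mul_le_mul_left _ hVP₁))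
    have h2 : q ^ 4 * q ≤ Nat.card C * q := by
      calc q ^ 4 * q = q ^ 2 * q ^ 3 := by ring
        _ ≤ _ := h1
    exact Nat.le_of_mul_le_mul_right h2 hq0
  -- `C` is contained in a Sylow 2-subgroup of `W`, hence equal to it
  obtain ⟨Q, hQ⟩ := IsPGroup.exists_le_sylow (G := W) (P := C.subgroupOf W) (by
    exact hCp.comap_of_injective W.subtype W.subtype_injective)
  set S := (Q : Subgroup W).map W.subtype with hS
  have hCS : C ≤ S := by
    intro x hx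
    exact ⟨⟨x, hCW hx⟩, hQ (Subgroup.mem_subgroupOf.mpr hx), rfl⟩
  have hcS : Nat.card S ≤ q ^ 4 := card_le h hf hV hbad hk hq hcV hn Q hS
  have hSC : C = S := Subgroup.eq_of_le_of_card_ge hCS (hcS.trans hcC)
  -- squares
  have hsqC : ∀ x ∈ C, x * x ∈ V ∧ Commute (x * x) u := by
    intro x hx
    obtain ⟨v, hv, p, hp, rfl⟩ := (hCmem x).mp hx
    have hvp : Commute v p := Subgroup.mem_centralizer_iff.mp hp.2 v hv
    have e : v * p * (v * p) = p * p := by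
      rw [hvp.symm.mul_mul_mul_comm, mul_self_V h hV hv, one_mul]
    rw [e]
    obtain ⟨v', hv', k, hk, hv'u, hpe⟩ := hsq p hp.1
    have hpp : p * p ∈ P₁ := mul_mem hp hp
    have hv'P : v' ∈ P₁ := ⟨hVP v' hv' hv'u, hVW hv'⟩
    have hk1 : k = 1 := by
      refine hP₁K k ?_ hk
      have : k = v'⁻¹ * (p * p) := by rw [hpe]; group
      rw [this]
      exact mul_mem (inv_mem hv'P) hpp
    rw [hpe, hk1, mul_one]
    exact ⟨hv', hv'u⟩
  -- a nontrivial square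
  obtain ⟨x₁, hx₁, κ, hk', hx₀e⟩ := hdec x₀ hx₀
  have hx₁C : x₁ ∈ C := (hCmem x₁).mpr ⟨1, one_mem V, x₁, hx₁, by rw [one_mul]⟩
  have hx₁1 : x₁ * x₁ ≠ 1 := by
    intro h1
    apply hx₀K
    have h2 : x₁⁻¹ = x₁ := inv_eq_of_mul_eq_one_right h1
    have h3 : x₀ * x₀ = (x₁ * κ * x₁⁻¹) * κ := by rw [hx₀e, h2]; group
    rw [h3]
    exact mul_mem (hKn x₁ hx₁.1 κ hk'.2) hk'.2
  -- every element of `V` commutes with `u`
  have hall : ∀ v ∈ V, Commute v u := by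
    intro v hv
    by_cases hv1 : v = 1
    · rw [hv1]; exact Commute.one_left u
    obtain ⟨g, -, hgS, hgv⟩ := frattini h hV Q hS (hsqC x₁ hx₁C).1 hv hx₁1 hv1
    have h1 : g * x₁ * g⁻¹ ∈ C := by
      rw [hSC]; exact (hgS x₁).mp (hCS hx₁C)
    have h2 := (hsqC _ h1).2
    have h3 : g * x₁ * g⁻¹ * (g * x₁ * g⁻¹) = v := by rw [← hgv]; group
    rwa [h3] at h2
  have h1 : Nat.card V ≤ q := by
    rw [← hCu]
    refine Subgroup.card_le_of_le ?_
    intro v hv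
    exact ⟨hv, Subgroup.mem_centralizer_singleton_iff.mpr (hall v hv).eq⟩
  rw [hcV] at h1
  have hq4 : 4 ≤ q := by
    rw [hq]
    calc 4 = 2 ^ 2 := by norm_num
      _ ≤ 2 ^ k := Nat.pow_le_pow_right (by norm_num) hk
  nlinarith

end Main

end Cfsg.Agent.AschCrit.CommTwo
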