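import Cfsg.Agent.AschCrit.CommTwoLift
import Cfsg.Agent.AschCrit.Induct

/-!
# `LocalU` from a rank-one set-up of type `PSU₃(q)` for the image of `C(u)`
-/

set_option autoImplicit false

universe u

namespace Cfsg.Agent.AschCrit.CommTwoBridge

open Cfsg MulAction
open Cfsg.Agent.TwoFusion.StronglyEmbeddedBasic Cfsg.Agent.AschCrit.Basic
open Cfsg.Agent.AschCrit.Basic.Setup Cfsg.Agent.AschCrit.Closed Cfsg.Agent.AschCrit.Descent
open Cfsg.Agent.AschCrit.CommTwo Cfsg.Agent.AschCrit.CommTwoLift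
open Cfsg.Agent.AschCrit.NonIso Cfsg.Agent.AschCrit.InductFaithful
open Cfsg.Agent.AschCrit.InductAct Cfsg.Agent.AschCrit.BGroup Cfsg.Agent.AschCrit.Induct
open Cfsg.Agent.LieRecognition

/-- what is needed from a rank-one set-up of type `PSU₃(q)` -/
def UType (L Ψ : Type*) [Group L] [MulAction L Ψ] (a : Ψ) (Q : Subgroup L) : Prop :=
  (∃ y : L, Odd (orderOf y) ∧ y • a = a ∧
    (∀ s ∈ involutionsIn (stabilizer L a : Set L), Commute s y) ∧
    ∀ x ∈ Q, Commute x y → x = 1 ∨ x ∈ involutionsIn (stabilizer L a : Set L)) ∧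
  (∀ x ∈ Q, x * x = 1 ∨ x * x ∈ involutionsIn (stabilizer L a : Set L)) ∧ ∃ x ∈ Q, x * x ≠ 1

variable {G Ω : Type u} [Group G] [Finite G] [MulAction G Ω] {z : G} {a : Ω} {V : Subgroup G}

/-- `LocalU` from a rank-one set-up for a normal closure in an image of `H = C(w)`, abstract form -/
theorem localU_of_setup {R Ψ : Type*} [Group R] [Finite R] [MulAction R Ψ]
    (h : Setup G Ω z) (hV : ∀ d : G, d ∈ V ↔ d = 1 ∨ d ∈ At z a) {w : G}
    {q : ℕ} {H : Subgroup G} (hHc : ∀ x : G, x ∈ H ↔ Commute x w) (hq : 4 ≤ q)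
    (hVH : Nat.card (V ⊓ H : Subgroup G) = q) (π : H →* R) (hπs : Function.Surjective π)
    (a' : Ψ) (hafix : ∀ x : H, π x • a' = a' ↔ (x : G) • a = a)
    (hker : ∃ b : Ω, b ≠ a ∧ ∀ k : H, π k = 1 → (k : G) • a = a ∧ (k : G) • b = b)
    (L₀ : Subgroup R) (hVL : ∀ v : H, (v : G) ∈ V → π v ∈ L₀) (hfaith : FaithfulSMul L₀ Ψ)
    {t : L₀} {Q : Subgroup L₀} (hS : IsRankOneSetup L₀ Ψ a' t Q)
    (hQ2 : IsPGroup 2 Q) (hQc : Nat.card Q = q ^ 3)
    (hinv : Nat.card (involutionsIn (stabilizer L₀ a' : Set L₀)) + 1 = q)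
    (hU : UType L₀ Ψ a' Q) :
    LocalU V a w q := by
  classical
  have hVa : ∀ v : H, (v : G) ∈ V → (v : G) • a = a := by
    intro v hv
    rcases (hV _).mp hv with h1 | h1
    · rw [h1, one_smul]
    · exact h1.2
  have hVinj : ∀ v : H, (v : G) ∈ V → π v = 1 → v = 1 := by
    intro v hv h1
    obtain ⟨b, hba, hb⟩ := hker
    rcases (hV _).mp hv with h2 | h2
    · exact Subtype.ext h2
    · exact absurd (h.uniq h2.1 (hb v h1).2 h2.2) hba
  -- the embedding of `V ∩ H` minus `1` in the involutions of the stabiliser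
  let f : {v : (V ⊓ H : Subgroup G) // v ≠ 1} →
      involutionsIn (stabilizer L₀ a' : Set L₀) := fun v =>
    ⟨⟨π ⟨v.1.1, (Subgroup.mem_inf.mp v.1.2).2⟩, hVL _ (Subgroup.mem_inf.mp v.1.2).1⟩, by
      refine ⟨?_, ?_, ?_⟩
      · exact (hafix _).mpr (hVa ⟨v.1.1, (Subgroup.mem_inf.mp v.1.2).2⟩
          (Subgroup.mem_inf.mp v.1.2).1)
      · intro h1
        apply v.2
        have h2 := hVinj ⟨v.1.1, (Subgroup.mem_inf.mp v.1.2).2⟩ (Subgroup.mem_inf.mp v.1.2).1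
          (congrArg Subtype.val h1)
        have h3 : (v.1.1 : G) = 1 := congrArg Subtype.val h2
        exact Subtype.ext h3
      · apply Subtype.ext
        show π _ * π _ = 1
        rw [← map_mul]
        have h1 : (⟨v.1.1, (Subgroup.mem_inf.mp v.1.2).2⟩ * ⟨v.1.1, (Subgroup.mem_inf.mp v.1.2).2⟩ : H)
            = 1 := Subtype.ext (mul_self_V h hV (Subgroup.mem_inf.mp v.1.2).1)
        rw [h1, map_one]⟩
  have hfinj : Function.Injective f := by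
    intro v v' hvv
    have h1 : π ⟨v.1.1, (Subgroup.mem_inf.mp v.1.2).2⟩ = π ⟨v'.1.1, (Subgroup.mem_inf.mp v'.1.2).2⟩ :=
      congrArg Subtype.val (congrArg Subtype.val hvv)
    have h2 := hVinj (⟨v.1.1, (Subgroup.mem_inf.mp v.1.2).2⟩ *
      ⟨v'.1.1, (Subgroup.mem_inf.mp v'.1.2).2⟩⁻¹)
      (mul_mem (Subgroup.mem_inf.mp v.1.2).1 (inv_mem (Subgroup.mem_inf.mp v'.1.2).1))
      (by rw [map_mul, map_inv, h1, mul_inv_cancel])
    have h3 := mul_inv_eq_one.mp h2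
    have h4 : (v.1.1 : G) = v'.1.1 := congrArg (fun x : H => (x : G)) h3
    exact Subtype.ext (Subtype.ext h4)
  have hcard1 : Nat.card {v : (V ⊓ H : Subgroup G) // v ≠ 1} + 1 = q := by
    rw [← hVH, ← Nat.card_congr (Equiv.optionSubtypeNe (1 : (V ⊓ H : Subgroup G))),
      Finite.card_option]
  have hfsurj : Function.Surjective f :=
    (Function.Injective.bijective_of_nat_card_le hfinj (by omega)).2
  have hsurj : ∀ s ∈ involutionsIn (stabilizer L₀ a' : Set L₀),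
      ∃ v : H, (v : G) ∈ V ∧ (s : R) = π v := by
    intro s hs
    obtain ⟨v, hv⟩ := hfsurj ⟨s, hs⟩
    exact ⟨⟨v.1.1, (Subgroup.mem_inf.mp v.1.2).2⟩, (Subgroup.mem_inf.mp v.1.2).1,
      (congrArg Subtype.val (congrArg Subtype.val hv)).symm⟩
  have hmemI : ∀ v : H, ∀ hv : (v : G) ∈ V, v ≠ 1 → (⟨π v, hVL v hv⟩ : L₀) ∈
      involutionsIn (stabilizer L₀ a' : Set L₀) := by
    intro v hv hv1
    refine (f ⟨⟨v.1, Subgroup.mem_inf.mpr ⟨hv, v.2⟩⟩, fun h1 => hv1 ?_⟩).2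
    have h2 : (v.1 : G) = 1 := congrArg Subtype.val h1
    exact Subtype.ext h2
  -- two commuting involutions
  have h2 : ∃ x y : L₀, x ≠ 1 ∧ y ≠ 1 ∧ x ≠ y ∧ x * x = 1 ∧ y * y = 1 ∧ x * y = y * x := by
    have h3 : 1 < Nat.card {v : (V ⊓ H : Subgroup G) // v ≠ 1} := by omega
    obtain ⟨v, v', hvv⟩ := Finite.one_lt_card_iff_nontrivial.mp h3
    refine ⟨f v, f v', (f v).2.2.1, (f v').2.2.1, fun h4 => hvv (hfinj (Subtype.ext h4)),
      (f v).2.2.2, (f v').2.2.2, ?_⟩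
    apply Subtype.ext
    show π _ * π _ = π _ * π _
    rw [← map_mul, ← map_mul]
    congr 1
    exact Subtype.ext (comm_V h hV (Subgroup.mem_inf.mp v.1.2).1 (Subgroup.mem_inf.mp v'.1.2).1).eq
  obtain ⟨hcen, -⟩ := Cfsg.Agent.S1130.result hS h2
  obtain ⟨⟨y, hyo, hya, hyI, hyQ⟩, hsq, x₀, hx₀, hx₀1⟩ := hU
  have hya' : y ∈ stabilizer L₀ a' := hya
  -- squares
  have hsq' : ∀ x ∈ Q, ∃ v : H, (v : G) ∈ V ∧ ((x * x : L₀) : R) = π v := by
    intro x hx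
    rcases hsq x hx with h3 | h3
    · exact ⟨1, one_mem V, by rw [h3, map_one]; rfl⟩
    · exact hsurj _ h3
  have hcomm' : ∀ x ∈ Q, ∀ x' ∈ Q, ∃ v : H, (v : G) ∈ V ∧
      ((x⁻¹ * x'⁻¹ * x * x' : L₀) : R) = π v := by
    intro x hx x' hx'
    obtain ⟨v₁, hv₁, h3⟩ := hsq' _ (inv_mem hx)
    obtain ⟨v₂, hv₂, h4⟩ := hsq' _ (mul_mem hx (inv_mem hx'))
    obtain ⟨v₃, hv₃, h5⟩ := hsq' _ hx'
    refine ⟨v₁ * v₂ * v₃, mul_mem (mul_mem hv₁ hv₂) hv₃, ?_⟩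
    rw [map_mul, map_mul, ← h3, ← h4, ← h5]
    have e : x⁻¹ * x'⁻¹ * x * x' = (x⁻¹ * x⁻¹) * ((x * x'⁻¹) * (x * x'⁻¹)) * (x' * x') := by group
    rw [e]; rfl
  have hQbm : ∀ x ∈ Q.map L₀.subtype, ∃ g ∈ Q, (g : R) = x := by
    rintro _ ⟨g, hg, rfl⟩; exact ⟨g, hg, rfl⟩
  have hfixa : ∀ x ∈ Q.map L₀.subtype, x • a' = a' := by
    intro x hx
    obtain ⟨g, hg, rfl⟩ := hQbm x hx
    exact hS.le hg
  have hVQ : ∀ v : H, (v : G) ∈ V → π v ∈ Q.map L₀.subtype := by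
    intro v hv
    by_cases hv1 : v = 1
    · rw [hv1, map_one]; exact one_mem _
    · exact ⟨⟨π v, hVL v hv⟩, (hcen _ (hmemI v hv hv1)).1, rfl⟩
  have hVc : ∀ v : H, (v : G) ∈ V → ∀ x ∈ Q.map L₀.subtype, Commute (π v) x := by
    intro v hv x hx
    obtain ⟨g, hg, rfl⟩ := hQbm x hx
    by_cases hv1 : v = 1
    · rw [hv1, map_one]; exact Commute.one_left _
    · exact congrArg Subtype.val ((hcen _ (hmemI v hv hv1)).2 g hg)
  have hVy : ∀ v : H, (v : G) ∈ V → Commute (π v) (y : R) := by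
    intro v hv
    by_cases hv1 : v = 1
    · rw [hv1, map_one]; exact Commute.one_left _
    · exact congrArg Subtype.val (hyI _ (hmemI v hv hv1)).eq
  have hyn : ∀ x ∈ Q.map L₀.subtype, (y : R) * x * (y : R)⁻¹ ∈ Q.map L₀.subtype := by
    intro x hx
    obtain ⟨g, hg, rfl⟩ := hQbm x hx
    exact ⟨y * g * y⁻¹, hS.conj_mem y hya' g hg, rfl⟩
  have hyn' : ∀ x ∈ Q.map L₀.subtype, (y : R)⁻¹ * x * (y : R) ∈ Q.map L₀.subtype := by
    intro x hx
    obtain ⟨g, hg, rfl⟩ := hQbm x hx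
    have h3 := hS.conj_mem y⁻¹ (inv_mem hya') g hg
    rw [inv_inv] at h3
    exact ⟨y⁻¹ * g * y, h3, rfl⟩
  have hyo' : Odd (orderOf (y : R)) := by
    rw [Subgroup.orderOf_coe]; exact hyo
  have hgen := exists_gen_of_fpf (Q := Q.map L₀.subtype) (E := (V.subgroupOf H).map π)
    (y := (y : R))
    (by
      rintro _ ⟨v, hv, rfl⟩
      rw [← map_mul]
      have h3 : v * v = 1 := Subtype.ext (mul_self_V h hV hv)
      rw [h3, map_one])
    (by rintro _ ⟨v, hv, rfl⟩ x hx; exact hVc v hv x hx)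
    (by
      intro x hx x' hx'
      obtain ⟨g, hg, rfl⟩ := hQbm x hx
      obtain ⟨g', hg', rfl⟩ := hQbm x' hx'
      obtain ⟨v, hv, h3⟩ := hcomm' g hg g' hg'
      exact ⟨v, hv, h3.symm⟩)
    hyo' hyn' (by rintro _ ⟨v, hv, rfl⟩; exact hVy v hv)
    (by
      intro x hx hxy
      obtain ⟨g, hg, rfl⟩ := hQbm x hx
      rcases hyQ g hg (Subtype.ext hxy.eq) with h3 | h3
      · rw [h3]; exact one_mem _
      · obtain ⟨v, hv, h4⟩ := hsurj g h3
        exact ⟨v, hv, h4.symm⟩)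
  refine localU_of_image hV h hHc π (Q.map L₀.subtype) (y : R) hker (hQ2.map _) ?_
    (fun x _ => hπs x) (hπs _) ?_ ?_ hyo' ?_ hVQ hVc hVy ?_ ?_ ?_ ?_
  · rw [Subgroup.card_map_of_injective L₀.subtype_injective, hQc]
  · intro x hx
    exact (hafix x).mp (hfixa _ hx)
  · intro x q' hq' hx
    apply (hafix x).mp
    rw [hx, mul_smul]
    have h4 : (y : R) • a' = a' := hya
    rw [h4]; exact hfixa q' hq'
  · intro x
    refine ⟨hyn x, fun hx => ?_⟩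
    have h3 := hyn' _ hx
    have e : (y : R)⁻¹ * ((y : R) * x * (y : R)⁻¹) * (y : R) = x := by group
    rwa [e] at h3
  · intro x hx x' hx'
    obtain ⟨g, hg, rfl⟩ := hQbm x hx
    obtain ⟨g', hg', rfl⟩ := hQbm x' hx'
    exact hcomm' g hg g' hg'
  · intro x hx
    obtain ⟨g, hg, rfl⟩ := hQbm x hx
    exact hsq' g hg
  · intro p hp
    obtain ⟨p', hp', _, ⟨v, hv, rfl⟩, h3⟩ := hgen p hp
    exact ⟨p', hp', v, hv, h3⟩
  · refine ⟨x₀, ⟨x₀, hx₀, rfl⟩, fun h3 => hx₀1 (Subtype.ext h3)⟩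

/-- `LocalU` from the rank-one set-up of the image of `H = C(w)` on the fixed points of `w` -/
theorem localU_of_rankOne (h : Setup G Ω z) (hV : ∀ d : G, d ∈ V ↔ d = 1 ∨ d ∈ At z a) {w : G}
    {q : ℕ} {H : Subgroup G} (hHc : ∀ x : G, x ∈ H ↔ Commute x w) (hq : 4 ≤ q)
    (hVH : Nat.card (V ⊓ H : Subgroup G) = q) {b : Ω} (hab : a ≠ b) {d₀ e₀ : G}
    (hd₀ : d₀ ∈ At z a) (he₀ : e₀ ∈ At z b) (hd₀H : d₀ ∈ H) (he₀H : e₀ ∈ H)
    (ha : a ∈ pts Ω z H)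
    {t : L (pr H (pts Ω z H) ⟨d₀, hd₀H⟩)} {Q : Subgroup (L (pr H (pts Ω z H) ⟨d₀, hd₀H⟩))}
    (hS : IsRankOneSetup (L (pr H (pts Ω z H) ⟨d₀, hd₀H⟩)) (pts Ω z H) ⟨a, ha⟩ t Q)
    (hQ2 : IsPGroup 2 Q) (hQc : Nat.card Q = q ^ 3)
    (hinv : Nat.card (involutionsIn (stabilizer (L (pr H (pts Ω z H) ⟨d₀, hd₀H⟩))
      (⟨a, ha⟩ : pts Ω z H) : Set (L (pr H (pts Ω z H) ⟨d₀, hd₀H⟩)))) + 1 = q)
    (hU : UType (L (pr H (pts Ω z H) ⟨d₀, hd₀H⟩)) (pts Ω z H) ⟨a, ha⟩ Q) :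
    LocalU V a w q := by
  classical
  have hconj := isConj_subgroup_iff h hab hd₀ he₀ hd₀H he₀H
  have hfin : Finite (Im H (pts Ω z H)) :=
    Finite.of_surjective _ (toPermHom H (pts Ω z H)).rangeRestrict_surjective
  have hb : b ∈ pts Ω z H := ⟨e₀, he₀H, he₀⟩
  refine localU_of_setup h hV hHc hq hVH (pr H (pts Ω z H))
    (toPermHom H (pts Ω z H)).rangeRestrict_surjective (⟨a, ha⟩ : pts Ω z H) ?_
    ⟨b, Ne.symm hab, ?_⟩ _ ?_ ?_ hS hQ2 hQc hinv hU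
  · intro x
    constructor
    · intro h3; exact congrArg Subtype.val h3
    · intro h3; exact Subtype.ext h3
  · intro k hk
    constructor
    · have h3 : pr H (pts Ω z H) k • (⟨a, ha⟩ : pts Ω z H) = ⟨a, ha⟩ := by rw [hk, one_smul]
      exact congrArg Subtype.val h3
    · have h3 : pr H (pts Ω z H) k • (⟨b, hb⟩ : pts Ω z H) = ⟨b, hb⟩ := by rw [hk, one_smul]
      exact congrArg Subtype.val h3
  · intro v hv
    rcases (hV _).mp hv with h1 | h1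
    · have : v = 1 := Subtype.ext h1
      rw [this, map_one]; exact one_mem _
    · exact mem_L ((pr H (pts Ω z H)).map_isConj ((hconj v).mpr h1.1))
  · refine ⟨fun {g₁ g₂} hg => ?_⟩
    apply Subtype.ext
    apply Subtype.ext
    ext c
    exact congrArg Subtype.val (hg c)

end Cfsg.Agent.AschCrit.CommTwoBridge
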