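import Cfsg.Agent.AschCrit.CommTwoBridge
import Cfsg.Agent.AschCrit.CommFrame

/-!
# Case (C2) of the commutative case: `|V| = q²`, `|Fix u| = q³ + 1`

`case_two` : no such simple group, given the inductive hypothesis, Bender's theorem and the structure
`UTypes` of the rank-one groups of type `PSU₃(q)`.
-/

set_option autoImplicit false

universe u

namespace Cfsg.Agent.AschCrit.CommTwoCase

open Cfsg MulAction
open Cfsg.Agent.TwoFusion.StronglyEmbeddedBasic Cfsg.Agent.AschCrit.Basic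
open Cfsg.Agent.AschCrit.Basic.Setup Cfsg.Agent.AschCrit.Closed Cfsg.Agent.AschCrit.Descent
open Cfsg.Agent.AschCrit.CommTwoBridge Cfsg.Agent.AschCrit.CommTypes
open Cfsg.Agent.AschCrit.NonIso Cfsg.Agent.AschCrit.InductFaithful
open Cfsg.Agent.AschCrit.InductAct Cfsg.Agent.AschCrit.BGroup Cfsg.Agent.AschCrit.Induct
open Cfsg.Agent.AschCrit.CommFrame
open Cfsg.Agent.StrongEmb.Basic Cfsg.Agent.StrongEmb.TwoRank Cfsg.Agent.StrongEmb.Split

/-- the structure of the rank-one groups of type `PSU₃(q)` -/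
def UTypes : Prop :=
  ∀ (L Ψ : Type u) [Group L] [Finite L] [MulAction L Ψ] (a : Ψ) (t : L) (Q : Subgroup L) (k : ℕ),
    2 ≤ k → FaithfulSMul L Ψ → IsSimpleGroup L → IsRankOneSetup L Ψ a t Q →
    (∃ x y : L, x ≠ 1 ∧ y ≠ 1 ∧ x ≠ y ∧ x * x = 1 ∧ y * y = 1 ∧ x * y = y * x) → IsPGroup 2 Q →
    Nat.card Q = (2 ^ k) ^ 3 →
    Nat.card (involutionsIn (stabilizer L a : Set L)) + 1 = 2 ^ k → UType L Ψ a Q

variable {G Ω : Type u} [Group G] [Finite G] [MulAction G Ω] {z : G}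

/-- **Case (C2).** -/
theorem case_two [IsSimpleGroup G] (hN : NoBadBelow.{u} (Nat.card G))
    (hB : ∀ (X : Type u) [Group X] [Finite X], BenderHolds X) (hU : UTypes.{u}) (h : Setup G Ω z)
    (hf : ∀ g : G, (∀ a : Ω, g • a = a) → g = 1) (hn : NonIso z)
    (hcomm : ∀ a : Ω, ∀ d ∈ At z a, ∀ e ∈ At z a, Commute d e) {a : Ω} {V : Subgroup G}
    (hV : ∀ x, x ∈ V ↔ x = 1 ∨ x ∈ At z a) {k : ℕ} (hk : 2 ≤ k)
    (hcV : Nat.card V = (2 ^ k) ^ 2)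
    (hΩ : Nat.card Ω = (2 ^ k) ^ 4 * ((2 ^ k - 1) ^ 2 + 1) + 1)
    (hall : ∀ u : G, Bad Ω u → Nat.card {c : Ω // u • c = c} = (2 ^ k) ^ 3 + 1 ∧
      ∀ c : Ω, u • c = c → Nat.card (AtC z u c) + 1 = 2 ^ k)
    (hex : ∃ u : G, Bad Ω u) : False := by
  classical
  obtain ⟨u, hu, hua, b, hab, hub⟩ : ∃ u : G, Bad Ω u ∧ u • a = a ∧ ∃ b : Ω, a ≠ b ∧ u • b = b := by
    obtain ⟨p, q, hpq⟩ := h.nontriv
    obtain ⟨b, hab⟩ : ∃ b : Ω, a ≠ b := by
      by_cases hap : a = p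
      · exact ⟨q, by rw [hap]; exact hpq⟩
      · exact ⟨p, hap⟩
    obtain ⟨v, hv, hva, hvb⟩ := exists_bad_pair h hf hn hex hab
    exact ⟨v, hv, hva, b, hab, hvb⟩
  have h4 : 4 ≤ 2 ^ k := by
    calc 4 = 2 ^ 2 := by norm_num
      _ ≤ 2 ^ k := Nat.pow_le_pow_right (by norm_num) hk
  have hpos : 0 < 2 ^ k := by positivity
  obtain ⟨hfixc, hAtC⟩ := hall u hu
  have hCa := hAtC a hua
  have hCb := hAtC b hub
  -- elements of `D` in `H = C(u)`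
  obtain ⟨⟨d₀, hd₀, hd₀u⟩, ⟨d₁, hd₁, hd₁u⟩, hd01⟩ : ∃ x y : AtC z u a, x ≠ y := by
    have h5 : 1 < Nat.card (AtC z u a) := by omega
    obtain ⟨x, y, hxy⟩ := Finite.one_lt_card_iff_nontrivial.mp h5
    exact ⟨x, y, hxy⟩
  obtain ⟨⟨e₀, he₀, he₀u⟩⟩ : Nonempty (AtC z u b) := by
    have h5 : 0 < Nat.card (AtC z u b) := by omega
    exact (Nat.card_pos_iff.mp h5).1
  set H := Subgroup.centralizer ({u} : Set G) with hH
  have hHc : ∀ x : G, x ∈ H ↔ Commute x u := by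
    intro x
    rw [hH, Subgroup.mem_centralizer_singleton_iff]
    exact ⟨fun h5 => h5, fun h5 => h5⟩
  have hd₀H : d₀ ∈ H := (hHc _).mpr hd₀u
  have hd₁H : d₁ ∈ H := (hHc _).mpr hd₁u
  have he₀H : e₀ ∈ H := (hHc _).mpr he₀u
  have hHtop : H ≠ ⊤ := centralizer_ne_top h hu.ne_one
  have hHlt : Nat.card H < Nat.card G := by
    refine lt_of_le_of_ne (Subgroup.card_le_card_group _) fun h5 => ?_
    exact hHtop (Subgroup.eq_top_of_card_eq H h5)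
  have hp : ∃ d e : G, d ∈ H ∧ e ∈ H ∧ IsConj z d ∧ IsConj z e ∧ Commute d e ∧ d ≠ e :=
    ⟨d₀, d₁, hd₀H, hd₁H, hd₀.1, hd₁.1, hcomm a d₀ hd₀ d₁ hd₁,
      fun hh => hd01 (Subtype.ext hh)⟩
  obtain ⟨k', i', hBG, -, hrank⟩ := Induct.main hN hB h hab hd₀ he₀ hd₀H he₀H hp hHlt
  -- `k' = k` and `i' = 3`
  have hk1 : 2 ^ k' = 2 ^ k := by
    have h5 := card_atC h hf hcomm hu hBG hua
    rw [← h5, hCa]
  have hi1 : i' = 3 := by
    have h5 := hBG.card_pts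
    rw [card_pts_centralizer h hu.mul_self, hfixc, hk1] at h5
    have h6 : (2 ^ k) ^ i' = (2 ^ k) ^ 3 := by omega
    exact Nat.pow_right_injective (by omega : 2 ≤ 2 ^ k) h6
  have ha : a ∈ pts Ω z H := ⟨d₀, hd₀H, hd₀⟩
  obtain ⟨t, Q, hS, hQ2, hQc, hinv⟩ := hrank ⟨a, ha⟩
  rw [hk1] at hQc hinv
  rw [hi1] at hQc
  -- the effective image
  have hfin : Finite (Im H (pts Ω z H)) :=
    Finite.of_surjective _ (toPermHom H (pts Ω z H)).rangeRestrict_surjective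
  have hS0 := setup_pts h hab hd₀ he₀ hd₀H he₀H
  have hn0 := nonIso_mk h hab hd₀ he₀ hd₀H he₀H hp
  have hsurj : Function.Surjective (pr H (pts Ω z H)) :=
    (toPermHom H (pts Ω z H)).rangeRestrict_surjective
  have hc : ∀ (g : H) (a : pts Ω z H), pr H (pts Ω z H) g • a = g • a := fun g a => rfl
  have hf1 : ∀ g : Im H (pts Ω z H), (∀ a : pts Ω z H, g • a = a) → g = 1 := by
    intro g hg
    apply Subtype.ext
    ext a
    exact congrArg Subtype.val (hg a)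
  have hQS := setup_map hS0 (pr H (pts Ω z H)) hsurj hc
  have hnQ : NonIso (pr H (pts Ω z H) ⟨d₀, hd₀H⟩) := by
    obtain ⟨d, hd, hzd, hne⟩ := id hn0
    exact ⟨pr H (pts Ω z H) d, (pr H (pts Ω z H)).map_isConj hd, hzd.map (pr H (pts Ω z H)),
      fun hh => hne (eq_of_map_eq (pr H (pts Ω z H)) hS0 hc (IsConj.refl _) hd hzd hh.symm).symm⟩
  have hsim : IsSimpleGroup (L (pr H (pts Ω z H) ⟨d₀, hd₀H⟩)) := isSimpleGroup_closure hQS hf1 hnQ
  have hfaith : FaithfulSMul (L (pr H (pts Ω z H) ⟨d₀, hd₀H⟩)) (pts Ω z H) := by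
    refine ⟨fun {g₁ g₂} hg => ?_⟩
    apply Subtype.ext
    apply Subtype.ext
    ext c
    exact congrArg Subtype.val (hg c)
  have h2 : ∃ x y : L (pr H (pts Ω z H) ⟨d₀, hd₀H⟩), x ≠ 1 ∧ y ≠ 1 ∧ x ≠ y ∧ x * x = 1 ∧
      y * y = 1 ∧ x * y = y * x := by
    obtain ⟨f, hf1, hf2, hf3⟩ := hnQ
    have hcp : CommPair (L (pr H (pts Ω z H) ⟨d₀, hd₀H⟩)) :=
      commPair_subgroup (mem_L (IsConj.refl _)) (mem_L hf1) hQS.invol
        (hQS.orderOf_eq hf1) (Ne.symm hf3) hf2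
    exact hcp.exists_sq
  have hUT := hU _ _ (⟨a, ha⟩ : pts Ω z H) t Q k hk hfaith hsim hS h2 hQ2 hQc hinv
  have hVH : Nat.card (V ⊓ H : Subgroup G) = 2 ^ k := by
    rw [card_CV h hV u, hCa]
  have hloc := localU_of_rankOne h hV hHc h4 hVH hab hd₀ he₀ hd₀H he₀H ha hS hQ2 hQc hinv hUT
  refine CommTwo.main h hf hV ?_ hk rfl hcV hΩ hu hua hVH hloc
  intro w hw hwa hwc
  refine not_commute_of_card h hV hk hcV ((hall w hw).2 a hwa) fun x hx => ?_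
  exact Subgroup.mem_centralizer_iff.mp hwc x hx

end Cfsg.Agent.AschCrit.CommTwoCase
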