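import Cfsg.Agent.SuzukiRankOne.PSUModel

/-!
# Torus elements of `PSU₃(2^n)`

* `tor α` : the element `diag (α, α⁻², α)` of `SUJ σ` for `α σ(α) = 1`
* `exists_model` : the model of `PSU₃(2^n)` as a rank-one set-up, with the elements induced by `tor α`
-/

set_option autoImplicit false

namespace Cfsg.Agent.AschCrit.PSUTorus

open Matrix Cfsg.Agent.LieRecognition Cfsg.Agent.LieRecognition.HermHeis
  Cfsg.Agent.LieRecognition.PSUThreeSylow Cfsg.Agent.LieRecognition.RankOneAbstract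
  Cfsg.Agent.SuzukiRankOne Cfsg.Agent.SuzukiRankOne.PSUModel

variable {F : Type*} [Field F]

/-- The element `diag (α, α⁻², α)`. -/
def tor {σ : F →+* F} (hσ : ∀ x, σ (σ x) = x) (α : F) (h : α * σ α = 1) : SUJ σ :=
  ⟨⟨!![α, 0, 0; 0, (σ α) ^ 2, 0; 0, 0, α], by
    rw [Matrix.det_fin_three]
    simp
    linear_combination (α * σ α + 1) * h⟩, by
    change (!![α, 0, 0; 0, (σ α) ^ 2, 0; 0, 0, α] : Matrix (Fin 3) (Fin 3) F)ᵀ * Jm F *
      (!![α, 0, 0; 0, (σ α) ^ 2, 0; 0, 0, α] : Matrix (Fin 3) (Fin 3) F).map σ = Jm F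
    ext i j
    fin_cases i <;> fin_cases j <;>
      simp [Jm, Matrix.mul_apply, Fin.sum_univ_three, Matrix.transpose_apply, h, hσ]
    linear_combination (α * σ α + 1) * h⟩

/-- The action of `tor α` on `Heis σ`. -/
def twist {σ : F →+* F} (α : F) (h : α * σ α = 1) (x : Heis σ) : Heis σ :=
  ⟨α ^ 3 * x.a, x.b, by
    rw [x.h, map_mul, map_pow]
    linear_combination (-(x.a * σ x.a)) * ((α * σ α) ^ 2 + α * σ α + 1) * h⟩

variable [CharP F 2] {σ : F →+* F} [hσ : Fact (∀ x, σ (σ x) = x)]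

theorem tor_mul_emb (α : F) (h : α * σ α = 1) (x : Heis σ) :
    tor hσ.out α h * emb σ x = emb σ (twist α h x) * tor hσ.out α h := by
  apply Subtype.ext
  apply Subtype.ext
  change (!![α, 0, 0; 0, (σ α) ^ 2, 0; 0, 0, α] : Matrix (Fin 3) (Fin 3) F) *
    umat x = umat (twist α h x) * !![α, 0, 0; 0, (σ α) ^ 2, 0; 0, 0, α]
  ext i j
  fin_cases i <;> fin_cases j <;>
    simp [umat, twist, Matrix.mul_apply, Fin.sum_univ_three]
  · linear_combination (-(x.a * α)) * (α * σ α + 1) * h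
  · ring
  · linear_combination (-(σ x.a * (σ α) ^ 2)) * h

theorem wel_mul_tor (α : F) (h : α * σ α = 1) :
    wel σ * tor hσ.out α h = tor hσ.out α h * wel σ := by
  apply Subtype.ext
  apply Subtype.ext
  change Jm F * (!![α, 0, 0; 0, (σ α) ^ 2, 0; 0, 0, α] : Matrix (Fin 3) (Fin 3) F) =
    !![α, 0, 0; 0, (σ α) ^ 2, 0; 0, 0, α] * Jm F
  ext i j
  fin_cases i <;> fin_cases j <;> simp [Jm, Matrix.mul_apply, Fin.sum_univ_three]

omit [CharP F 2] in
theorem tor_mem_borel (α : F) (h : α * σ α = 1) : tor hσ.out α h ∈ borel σ := by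
  rw [mem_borel]
  simp [tor]

/-- The action of a general torus element on `Heis σ`. -/
def scal (α : F) (h0 : α ≠ 0) (x : Heis σ) : Heis σ :=
  ⟨α ^ 2 / σ α * x.a, α * σ α * x.b, by
    have h1 : σ α ≠ 0 := (map_ne_zero σ).mpr h0
    have h2 := x.h
    simp only [map_mul, map_div₀, map_pow, HermHeis.sig]
    field_simp
    linear_combination h2⟩

theorem exists_scal {g : SUJ σ} (hg : g ∈ torus σ) :
    ∃ (α : F) (h0 : α ≠ 0), g.1.1 0 0 = α ∧ g.1.1 1 1 = σ α / α ∧ g.1.1 2 2 = (σ α)⁻¹ ∧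
      ∀ x : Heis σ, g * emb σ x = emb σ (scal α h0 x) * g := by
  obtain ⟨h10, h20, h01, h21, h02, h12⟩ := entries_of_mem_torus hg
  have e1 := entry_of_mem_SUJ g.2 0 2
  rw [h10, h20] at e1
  have e1' : g.1.1 0 0 * σ (g.1.1 2 2) = 1 := by
    simpa [Jm] using e1
  have hdet : g.1.1.det = 1 := g.1.2
  rw [Matrix.det_fin_three, h10, h20, h12, h02, h01, h21] at hdet
  have hdet' : g.1.1 0 0 * g.1.1 1 1 * g.1.1 2 2 = 1 := by
    linear_combination hdet
  have h0 : g.1.1 0 0 ≠ 0 := by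
    intro h
    rw [h, zero_mul] at e1'
    exact zero_ne_one e1'
  have hσ0 : σ (g.1.1 0 0) ≠ 0 := (map_ne_zero σ).mpr h0
  have e22 : g.1.1 2 2 = (σ (g.1.1 0 0))⁻¹ := by
    have h := congrArg σ e1'
    rw [map_mul, map_one, HermHeis.sig] at h
    exact eq_inv_of_mul_eq_one_right h
  have e11 : g.1.1 1 1 = σ (g.1.1 0 0) / g.1.1 0 0 := by
    rw [e22] at hdet'
    field_simp at hdet' ⊢
    linear_combination hdet'
  refine ⟨g.1.1 0 0, h0, rfl, e11, e22, fun x => ?_⟩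
  apply Subtype.ext
  apply Subtype.ext
  change g.1.1 * umat x = umat (scal (g.1.1 0 0) h0 x) * g.1.1
  ext i j
  fin_cases i <;> fin_cases j <;>
    simp [umat, scal, Matrix.mul_apply, Fin.sum_univ_three, h10, h20, h01, h21, h02, h12, e11, e22,
      HermHeis.sig]
  · field_simp
  · field_simp
  · field_simp

section PSU

variable [Finite F] {n : ℕ}

/-- `PSUModel.exists_model` with torus elements. -/
theorem exists_model (hn : 1 ≤ n) (hs : ∀ x, σ x = x ^ (2 ^ n)) (hF : Nat.card F = (2 ^ n) ^ 2) :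
    ∃ (H S : Subgroup (Cfsg.PSU 3 F (2 ^ n))) (w : Cfsg.PSU 3 F (2 ^ n)) (ψ : Heis σ ≃* S),
      FaithfulSMul (Cfsg.PSU 3 F (2 ^ n)) (Cfsg.PSU 3 F (2 ^ n) ⧸ H) ∧
      Cfsg.IsRankOneSetup (Cfsg.PSU 3 F (2 ^ n)) (Cfsg.PSU 3 F (2 ^ n) ⧸ H)
        (QuotientGroup.mk 1) w S ∧
      Subgroup.closure ((S : Set (Cfsg.PSU 3 F (2 ^ n))) ∪ {w}) = ⊤ ∧
      (∀ x y : Heis σ, x ≠ 1 → y.a = x.a / x.b → y.b = (x.b)⁻¹ →
        w * (ψ x : Cfsg.PSU 3 F (2 ^ n)) * w * (w * (ψ y : Cfsg.PSU 3 F (2 ^ n)))⁻¹ ∈ H) ∧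
      (∀ (α : F) (h : α * σ α = 1), ∃ y ∈ H, w * y = y * w ∧
        ∀ x : Heis σ, y * (ψ x : Cfsg.PSU 3 F (2 ^ n)) = ψ (twist α h x) * y) ∧
      (∀ y ∈ H, w⁻¹ * y * w ∈ H → ∃ (α : F) (h0 : α ≠ 0),
        ∀ x : Heis σ, y * (ψ x : Cfsg.PSU 3 F (2 ^ n)) = ψ (scal α h0 x) * y) ∧
      ∃ C : Subgroup (Cfsg.PSU 3 F (2 ^ n)), IsCyclic C ∧ ∀ y ∈ H, w⁻¹ * y * w ∈ H → y ∈ C := by
  have hq : 1 < 2 ^ n := Nat.one_lt_two_pow (by omega)
  obtain ⟨x₀, hx₀⟩ := HermHeis.exists_heis_a (σ := σ) hq hs hF 1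
  have hx : ∃ x : Heis σ, x.a ≠ 0 := ⟨x₀, by rw [hx₀]; exact one_ne_zero⟩
  obtain ⟨c, hc⟩ := HermHeis.exists_not_fixed (σ := σ) hq hs hF
  obtain ⟨T, T', hTT', hT⟩ := exists_T hc
  let e : SUJ σ ≃* Cfsg.SU 3 F (2 ^ n) :=
    ((conjT hTT').subgroupMap (SUJ σ)).trans (MulEquiv.subgroupCongr (SU_eq_map hs hTT' hT))
  let π : SUJ σ →* Cfsg.PSU 3 F (2 ^ n) :=
    (QuotientGroup.mk' (Subgroup.center (Cfsg.SU 3 F (2 ^ n)))).comp e.toMonoidHom
  have hπ : Function.Surjective π := (QuotientGroup.mk'_surjective _).comp e.surjective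
  have hker : ∀ g, π g = 1 ↔ g ∈ Subgroup.center (SUJ σ) := by
    intro g
    have h1 : π g = 1 ↔ e g ∈ Subgroup.center (Cfsg.SU 3 F (2 ^ n)) := by
      rw [← QuotientGroup.eq_one_iff]
      exact Iff.rfl
    rw [h1, Subgroup.mem_center_iff, Subgroup.mem_center_iff]
    constructor
    · intro h k
      apply e.injective
      rw [map_mul, map_mul]
      exact h (e k)
    · intro h k
      obtain ⟨k, rfl⟩ := e.surjective k
      rw [← map_mul, ← map_mul, h k]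
  have hkB : π.ker ≤ borel σ := by
    intro g hg
    exact center_le_borel hx ((hker g).mp hg)
  have hD := data_map data_SUJ π hπ hkB
  have hinj : ∀ x : Heis σ, π (emb σ x) = 1 → x = 1 := by
    intro x h
    exact eq_one_of_mem_center ((hker _).mp h)
  have hinj2 : Function.Injective (π.comp (emb σ)) := by
    rw [injective_iff_map_eq_one]
    exact hinj
  have hSr : (π.comp (emb σ)).range = (emb σ).range.map π := by
    rw [MonoidHom.range_comp]
  let ψ : Heis σ ≃* ((emb σ).range.map π : Subgroup (Cfsg.PSU 3 F (2 ^ n))) :=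
    (MonoidHom.ofInjective hinj2).trans (MulEquiv.subgroupCongr hSr)
  have hψ : ∀ x, (ψ x : Cfsg.PSU 3 F (2 ^ n)) = π (emb σ x) := fun _ => rfl
  have hTm : ∀ g', (g' ∈ (borel σ).map π ∧ (π (wel σ))⁻¹ * g' * π (wel σ) ∈ (borel σ).map π) →
      g' ∈ (torus σ).map π := by
    intro g' hg'
    obtain ⟨g, rfl⟩ := hπ g'
    obtain ⟨h1, h2⟩ := hg'
    refine ⟨g, mem_torus.mpr ⟨mem_of_map_mem π hkB h1, mem_of_map_mem π hkB ?_⟩, rfl⟩
    simpa using h2
  refine ⟨(borel σ).map π, (emb σ).range.map π, π (wel σ), ψ, ?_, ?_, ?_, ?_, ?_, ?_, ?_⟩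
  · apply faithful_of_core
    intro g' hg'
    obtain ⟨g, rfl⟩ := hπ g'
    rw [hker]
    apply mem_center_of_fix hx
    intro k
    apply mem_of_map_mem π hkB
    simpa using hg' (π k)
  · refine setup_of_data hD ?_ ?_ (T := (torus σ).map π) ?_ ?_
    · rw [← map_mul, wel_mul_wel, map_one]
    · rw [← Nat.card_congr ψ.toEquiv, HermHeis.card_heis hq hs hF]
      exact (Nat.even_pow' (by norm_num)).mpr ((Nat.even_pow' (by omega)).mpr even_two)
    · intro g'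
      constructor
      · rintro ⟨k, hk, hkg⟩
        obtain ⟨h1, h2⟩ := mem_torus.mp hk
        rw [← hkg]
        exact ⟨⟨k, h1, rfl⟩, ⟨_, h2, by simp⟩⟩
      · exact hTm g'
    · have h1 : Nat.card ((torus σ).map π) ∣ Nat.card (torus σ) := Subgroup.card_map_dvd _ _
      have h2 := h1.trans (card_torus_dvd (σ := σ))
      refine Odd.of_dvd_nat ?_ h2
      rw [Nat.card_units, hF]
      refine Nat.Even.sub_odd ?_ ?_ odd_one
      · exact Nat.one_le_pow _ _ (by omega)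
      · exact (Nat.even_pow' (by norm_num)).mpr ((Nat.even_pow' (by omega)).mpr even_two)
  · have h1 := closure_SUJ (σ := σ) (exists_b hn hs hF)
    have h2 := congrArg (Subgroup.map π) h1
    rw [MonoidHom.map_closure, Set.image_union, Set.image_singleton,
      ← MonoidHom.range_eq_map, MonoidHom.range_eq_top.mpr hπ] at h2
    exact h2
  · intro x y hx1 ha hb
    rw [hψ, hψ]
    exact ⟨_, wel_conj_mem hx1 ha hb, by simp⟩
  · intro α h
    refine ⟨π (tor hσ.out α h), ⟨_, tor_mem_borel α h, rfl⟩, ?_, fun x => ?_⟩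
    · rw [← map_mul, ← map_mul, wel_mul_tor]
    · rw [hψ, hψ, ← map_mul, ← map_mul, tor_mul_emb]
  · intro y hy hwy
    obtain ⟨g, hg, rfl⟩ := hTm y ⟨hy, hwy⟩
    obtain ⟨α, h0, -, -, -, hα⟩ := exists_scal hg
    refine ⟨α, h0, fun x => ?_⟩
    rw [hψ, hψ, ← map_mul, ← map_mul, hα]
  · refine ⟨(torus σ).map π, ?_, fun y hy hwy => hTm y ⟨hy, hwy⟩⟩
    have h1 : IsCyclic (torus σ) := isCyclic_of_injective_ringHom (torusHom σ) torusHom_injective
    exact isCyclic_of_surjective _ ((π.subgroupMap_surjective (torus σ)))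

end PSU

end Cfsg.Agent.AschCrit.PSUTorus
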