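import Cfsg.Agent.AschCrit.RankOneTypes
import Cfsg.Agent.AschCrit.PSUTorus
import Cfsg.Agent.S0280

/-!
# The third type of simple rank-one set-ups: `PSU(3, q)`

`q = 2 ^ k`, `q - 1` the number of involutions of `G_a`, `|Q| = q ^ 3`.
-/

set_option autoImplicit false

open Cfsg

namespace Cfsg.Agent.AschCrit.RankOneThree

open MulAction Subgroup Cfsg.Agent Cfsg.Agent.SuzukiRankOne
  Cfsg.Agent.SuzukiRankOne.Assembly Cfsg.Agent.LieRecognition Cfsg.Agent.LieRecognition.HermHeis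
  Cfsg.Agent.SuzukiRankOne.PSUModel PSUTorus RankOneTypes RankOneCases

variable {G Ω : Type*} [Group G] [Finite G] [MulAction G Ω] {a : Ω} {t : G} {Q : Subgroup G}

theorem mem_stab_of_conj (hS : IsRankOneSetup G Ω a t Q) {y : G}
    (hy : ∀ x ∈ Q, y⁻¹ * x * y ∈ Q) : y ∈ stabilizer G a := by
  obtain ⟨s, hs, hs1, -⟩ := RankOneBasic.exists_involution hS
  by_contra h
  have h1 : s • (y • a) = y • a := by
    have h2 : (y⁻¹ * s * y) • a = a := mem_stabilizer_iff.mp (hS.le (hy s hs))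
    rw [mul_smul, mul_smul, inv_smul_eq_iff] at h2
    exact h2
  exact hs1 (RankOneBasic.eq_one_of_smul_eq hS hs (fun h' => h (mem_stabilizer_iff.mpr h')) h1)

omit [Finite G] in
theorem eq_one_of_centralize [FaithfulSMul G Ω] (hS : IsRankOneSetup G Ω a t Q) {d : G}
    (hd : d ∈ stabilizer G a ⊓ stabilizer G (t • a)) (hc : ∀ x ∈ Q, d * x = x * d) : d = 1 := by
  obtain ⟨h1, h2⟩ := Subgroup.mem_inf.mp hd
  apply FaithfulSMul.eq_of_smul_eq_smul (α := Ω)
  intro c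
  rw [one_smul]
  by_cases hca : c = a
  · rw [hca]
    exact mem_stabilizer_iff.mp h1
  · obtain ⟨x, hx, rfl⟩ := RankOneBasic.exists_smul_t_smul hS hca
    rw [← mul_smul, hc x hx, mul_smul, mem_stabilizer_iff.mp h2]

omit [Finite G] in
theorem mem_inf_of_commute {y : G} (hy : y ∈ stabilizer G a)
    (ht : t * y = y * t) : y ∈ stabilizer G a ⊓ stabilizer G (t • a) := by
  refine Subgroup.mem_inf.mpr ⟨hy, mem_stabilizer_iff.mpr ?_⟩
  rw [← mul_smul, ← ht, mul_smul, mem_stabilizer_iff.mp hy]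

/-- The coordinates of the third type. -/
theorem exists_coords [FaithfulSMul G Ω] (hS : IsRankOneSetup G Ω a t Q)
    (hgen : Subgroup.closure ((Q : Set G) ∪ {t}) = ⊤) {F : Type} [Field F] [Finite F] [CharP F 2]
    {σ : F →+* F} [Fact (∀ x, σ (σ x) = x)] {n : ℕ}
    (hn : 1 ≤ n) (hs : ∀ x, σ x = x ^ (2 ^ n)) (hF : Nat.card F = (2 ^ n) ^ 2)
    (φ : Q ≃* Heis σ)
    (hf : ∀ x : Q, x ≠ 1 → ∃ h ∈ MulAction.stabilizer G a, ∃ y : Q, t * x * t = h * t * y ∧
      (φ y).a = (φ x).a / (φ x).b ∧ (φ y).b = ((φ x).b)⁻¹) :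
    Nonempty (G ≃* Cfsg.PSU 3 F (2 ^ n)) ∧
    (∀ (α : F) (h : α * σ α = 1), ∃ y ∈ stabilizer G a ⊓ stabilizer G (t • a), t * y = y * t ∧
      ∀ x : Q, y * (x : G) = (φ.symm (twist α h (φ x)) : Q) * y) ∧
    (∀ y ∈ stabilizer G a ⊓ stabilizer G (t • a), ∃ (α : F) (h0 : α ≠ 0),
      ∀ x : Q, y * (x : G) = (φ.symm (scal α h0 (φ x)) : Q) * y) ∧
    IsCyclic ↥(stabilizer G a ⊓ stabilizer G (t • a)) := by
  obtain ⟨H, S, w, ψ, hfaith, hsetup, hclos, hrel, hp1, hp2, C, hC, hCm⟩ :=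
    PSUTorus.exists_model (σ := σ) hn hs hF
  obtain ⟨Φ, hΦ, hΦt⟩ := RankOneIso.exists_mulEquiv hS hsetup hgen hclos (φ.trans ψ) (by
    rintro x y hx ⟨h, hh, he⟩
    obtain ⟨h₁, hh₁, y₁, he₁, ha, hb⟩ := hf x hx
    -- uniqueness of `y`
    have hyy : y = y₁ := by
      have e1 : t * ((y : G) * (y₁ : G)⁻¹) * t = h⁻¹ * h₁ := by
        have e2 : h * t * y = h₁ * t * y₁ := by rw [← he, he₁]
        have e3 : t * ((y : G) * (y₁ : G)⁻¹) = h⁻¹ * h₁ * t := by
          calc t * ((y : G) * (y₁ : G)⁻¹) = h⁻¹ * (h * t * y) * (y₁ : G)⁻¹ := by group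
            _ = h⁻¹ * (h₁ * t * y₁) * (y₁ : G)⁻¹ := by rw [e2]
            _ = h⁻¹ * h₁ * t := by group
        rw [e3, mul_assoc, hS.mul_self, mul_one]
      have e4 := RankOneForm.eq_one_of_conj_mem hS (x := (y : G) * (y₁ : G)⁻¹)
        (Q.mul_mem y.2 (Q.inv_mem y₁.2)) (by
          rw [e1]
          exact Subgroup.mul_mem _ (Subgroup.inv_mem _ hh) hh₁)
      exact Subtype.ext (mul_inv_eq_one.mp e4)
    subst hyy
    have hx' : φ x ≠ 1 := by
      intro h
      exact hx (φ.injective (h.trans (map_one φ).symm))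
    have h3 := hrel (φ x) (φ y) hx' ha hb
    refine ⟨w * ((φ.trans ψ) x : Cfsg.PSU 3 F (2 ^ n)) * w *
      (w * ((φ.trans ψ) y : Cfsg.PSU 3 F (2 ^ n)))⁻¹, ?_, ?_⟩
    · rw [stab_one]
      exact h3
    · group)
  have hΦ' : ∀ x : Q, Φ (x : G) = (ψ (φ x) : Cfsg.PSU 3 F (2 ^ n)) := hΦ
  -- elements of `G_a` go to `H`
  have hfin : Finite (Cfsg.PSU 3 F (2 ^ n)) := Finite.of_equiv G Φ.toEquiv
  have hH : ∀ y ∈ stabilizer G a, Φ y ∈ H := by
    intro y hy
    have h1 : Φ y ∈ stabilizer (Cfsg.PSU 3 F (2 ^ n))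
        (QuotientGroup.mk 1 : Cfsg.PSU 3 F (2 ^ n) ⧸ H) := by
      apply mem_stab_of_conj hsetup
      intro x hx
      obtain ⟨z, hz⟩ : ∃ z : Q, ψ (φ z) = ⟨x, hx⟩ := ⟨φ.symm (ψ.symm ⟨x, hx⟩), by simp⟩
      have h2 : Φ (z : G) = x := by
        rw [hΦ', hz]
      have h3 : y⁻¹ * z * y ∈ Q := by
        have := hS.conj_mem y⁻¹ (Subgroup.inv_mem _ hy) z z.2
        rwa [inv_inv] at this
      have h4 := hΦ' ⟨_, h3⟩
      simp only [map_mul, map_inv, h2] at h4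
      rw [h4]
      exact (ψ _).2
    rwa [stab_one] at h1
  have hHw : ∀ y ∈ stabilizer G a ⊓ stabilizer G (t • a), w⁻¹ * Φ y * w ∈ H := by
    intro y hy
    have h1 : t⁻¹ * y * t ∈ stabilizer G a := by
      rw [mem_stabilizer_iff, mul_smul, mul_smul, inv_smul_eq_iff]
      exact mem_stabilizer_iff.mp (Subgroup.mem_inf.mp hy).2
    have h2 := hH _ h1
    rwa [map_mul, map_mul, map_inv, hΦt] at h2
  refine ⟨⟨Φ⟩, ?_, ?_, ?_⟩
  · intro α h
    obtain ⟨y', hy', hwy, hyx⟩ := hp1 α h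
    obtain ⟨y, rfl⟩ := Φ.surjective y'
    have hty : t * y = y * t := by
      apply Φ.injective
      rw [map_mul, map_mul, hΦt, hwy]
    have hx : ∀ x : Q, y * (x : G) = (φ.symm (twist α h (φ x)) : Q) * y := by
      intro x
      apply Φ.injective
      rw [map_mul, map_mul, hΦ', hΦ', hyx]
      simp
    refine ⟨y, mem_inf_of_commute ?_ hty, hty, hx⟩
    have h5 : ∀ x ∈ Q, y * x * y⁻¹ ∈ Q := by
      intro x hxQ
      have := hx ⟨x, hxQ⟩
      simp only at this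
      rw [this, mul_inv_cancel_right]
      exact (φ.symm _).2
    have h6 : y⁻¹ ∈ stabilizer G a := by
      apply mem_stab_of_conj hS
      intro x hxQ
      rw [inv_inv]
      exact h5 x hxQ
    have := Subgroup.inv_mem _ h6
    rwa [inv_inv] at this
  · intro y hy
    obtain ⟨α, h0, h⟩ := hp2 (Φ y) (hH y (Subgroup.mem_inf.mp hy).1) (hHw y hy)
    refine ⟨α, h0, fun x => ?_⟩
    apply Φ.injective
    rw [map_mul, map_mul, hΦ', hΦ', h]
    simp
  · let f : ↥(stabilizer G a ⊓ stabilizer G (t • a)) →* C :=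
      { toFun := fun y => ⟨Φ y, hCm _ (hH y (Subgroup.mem_inf.mp y.2).1) (hHw y y.2)⟩
        map_one' := Subtype.ext (map_one Φ)
        map_mul' := fun x y => Subtype.ext (map_mul Φ (x : G) (y : G)) }
    have hf : Function.Injective f := by
      intro x y hxy
      exact Subtype.ext (Φ.injective (congrArg Subtype.val hxy))
    exact isCyclic_of_injective f hf

/-! ### Facts about the coordinates -/

set_option linter.unusedSectionVars false

section Coord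

variable {F : Type} [Field F] [CharP F 2] {σ : F →+* F} [hσ : Fact (∀ x, σ (σ x) = x)]
  (φ : Q ≃* Heis σ)

omit [Finite G] in
theorem mul_self_iff (x : Q) : (x : G) * x = 1 ↔ (φ x).a = 0 := by
  rw [← HermHeis.mul_self_eq_one_iff, ← map_mul, map_eq_one_iff φ φ.injective]
  constructor
  · exact fun h => Subtype.ext h
  · exact fun h => congrArg Subtype.val h

theorem exists_inv_coord (hS : IsRankOneSetup G Ω a t Q) {s : G}
    (hs : s ∈ involutionsIn (stabilizer G a : Set G)) :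
    ∃ z : Q, (z : G) = s ∧ (φ z).a = 0 ∧ (φ z).b ≠ 0 ∧ σ (φ z).b = (φ z).b := by
  obtain ⟨h1, h2, h3⟩ := hs
  have h4 : s ∈ Q := RankOneBasic.mem_of_mul_self hS h1 h3
  have h5 : (φ ⟨s, h4⟩).a = 0 := (mul_self_iff φ ⟨s, h4⟩).mp h3
  refine ⟨⟨s, h4⟩, rfl, h5, ?_, b_fixed_of_a_eq_zero h5⟩
  intro h6
  apply h2
  have h7 : φ ⟨s, h4⟩ = 1 := by
    ext
    · exact h5
    · exact h6
  exact congrArg Subtype.val ((map_eq_one_iff φ φ.injective).mp h7)

omit [CharP F 2] in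
theorem scal_comm (α β : F) (hα : α ≠ 0) (hβ : β ≠ 0) (z : Heis σ) :
    scal α hα (scal β hβ z) = scal β hβ (scal α hα z) := by
  ext
  · simp only [scal]; ring
  · simp only [scal]; ring

omit [Finite G] in
theorem commute_coord {d : G} {α : F} {h0 : α ≠ 0}
    (h : ∀ x : Q, d * (x : G) = (φ.symm (scal α h0 (φ x)) : Q) * d) (x : Q) :
    d * (x : G) = x * d ↔ α ^ 2 / σ α * (φ x).a = (φ x).a ∧ α * σ α * (φ x).b = (φ x).b := by
  rw [h x]
  constructor
  · intro h1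
    have h2 : φ.symm (scal α h0 (φ x)) = x := Subtype.ext (mul_right_cancel h1)
    have h3 : scal α h0 (φ x) = φ x := φ.symm_apply_eq.mp h2
    exact ⟨congrArg Heis.a h3, congrArg Heis.b h3⟩
  · rintro ⟨h1, h2⟩
    have h3 : scal α h0 (φ x) = φ x := Heis.ext h1 h2
    rw [h3, MulEquiv.symm_apply_apply]

omit [CharP F 2] hσ in
theorem twist_twist (α β : F) (hα : α * σ α = 1) (hβ : β * σ β = 1) (h : (α * β) * σ (α * β) = 1)
    (z : Heis σ) : twist α hα (twist β hβ z) = twist (α * β) h z := by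
  ext
  · simp only [twist]; ring
  · simp only [twist]

theorem exists_alpha [Finite F] {n : ℕ} (hn : 2 ≤ n) (hs : ∀ x, σ x = x ^ (2 ^ n))
    (hF : Nat.card F = (2 ^ n) ^ 2) :
    ∃ (r : ℕ) (α : F), r.Prime ∧ r ∣ 2 ^ n + 1 ∧ α * σ α = 1 ∧ orderOf (α ^ 3) = r := by
  have hq4 : 4 ≤ 2 ^ n := by
    calc 4 = 2 ^ 2 := rfl
      _ ≤ 2 ^ n := Nat.pow_le_pow_right (by norm_num) hn
  obtain ⟨q, hq⟩ : ∃ q, 2 ^ n = q := ⟨_, rfl⟩
  rw [hq] at hs hF hq4 ⊢
  obtain ⟨g, hg⟩ := IsCyclic.exists_ofOrder_eq_natCard (α := Fˣ)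
  have hcard : Nat.card Fˣ = (q - 1) * (q + 1) := by
    rw [Nat.card_units, hF]
    obtain ⟨c, rfl⟩ := Nat.exists_eq_add_of_le (show 1 ≤ q by omega)
    rw [Nat.add_sub_cancel_left]
    have h9 : (1 + c) ^ 2 = 1 + c * (1 + c + 1) := by ring
    rw [h9, Nat.add_sub_cancel_left]
  rw [hcard] at hg
  have hβ : orderOf (g ^ (q - 1)) = q + 1 := by
    rw [orderOf_pow_of_dvd (by omega) (by rw [hg]; exact Dvd.intro _ rfl), hg,
      Nat.mul_div_cancel_left _ (by omega)]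
  obtain ⟨g3, hg3⟩ : ∃ g3, Nat.gcd (q + 1) 3 = g3 := ⟨_, rfl⟩
  have hg3d : g3 ∣ q + 1 := hg3 ▸ Nat.gcd_dvd_left _ _
  have hg3' : g3 ∣ 3 := hg3 ▸ Nat.gcd_dvd_right _ _
  obtain ⟨m, hm⟩ := hg3d
  have hg3le : g3 ≤ 3 := Nat.le_of_dvd (by norm_num) hg3'
  have hm1 : m ≠ 1 := by
    rintro rfl
    omega
  obtain ⟨r, hr, c, hc⟩ : ∃ r, r.Prime ∧ r ∣ m := Nat.exists_prime_and_dvd hm1
  have hc0 : c ≠ 0 := by
    rintro rfl
    rw [mul_zero] at hc
    rw [hc, mul_zero] at hm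
    omega
  have hqc : q + 1 = c * (r * g3) := by rw [hm, hc]; ring
  have hα : orderOf ((g ^ (q - 1)) ^ c) = r * g3 := by
    rw [orderOf_pow_of_dvd hc0 (by rw [hβ, hqc]; exact Dvd.intro _ rfl), hβ, hqc,
      Nat.mul_div_cancel_left _ (Nat.pos_of_ne_zero hc0)]
  have hα3 : orderOf (((g ^ (q - 1)) ^ c) ^ 3) = r := by
    rw [orderOf_pow' _ (by norm_num), hα]
    have hg3c : g3 = 1 ∨ g3 = 3 := (Nat.dvd_prime Nat.prime_three).mp hg3'
    rcases hg3c with h | h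
    · rw [h, mul_one]
      have h3 : Nat.gcd r 3 = 1 := by
        apply Nat.dvd_one.mp
        rw [← h, ← hg3]
        apply Nat.gcd_dvd_gcd_of_dvd_left
        rw [hqc, h, mul_one]
        exact Dvd.intro_left _ rfl
      rw [h3, Nat.div_one]
    · rw [h, Nat.gcd_eq_right (Dvd.intro_left _ rfl), Nat.mul_div_cancel _ (by norm_num)]
  refine ⟨r, (((g ^ (q - 1)) ^ c : Fˣ) : F), hr, ?_, ?_, ?_⟩
  · rw [hqc]
    exact (Dvd.intro _ rfl : r ∣ r * g3).trans (Dvd.intro_left _ rfl)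
  · rw [hs, ← pow_succ', ← Units.val_pow_eq_pow_val]
    rw [Units.val_eq_one]
    apply orderOf_dvd_iff_pow_eq_one.mp
    rw [hα, hqc]
    exact Dvd.intro_left _ rfl
  · rw [← Units.val_pow_eq_pow_val, orderOf_units, hα3]

/-- The element of `G_{ab}` given by `α`, of prime order. -/
theorem exists_prime_elt [FaithfulSMul G Ω] (hS : IsRankOneSetup G Ω a t Q) [Finite F] {n : ℕ}
    (hn : 2 ≤ n) (hs : ∀ x, σ x = x ^ (2 ^ n)) (hF : Nat.card F = (2 ^ n) ^ 2)
    (H1 : ∀ (α : F) (h : α * σ α = 1), ∃ y ∈ stabilizer G a ⊓ stabilizer G (t • a),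
      t * y = y * t ∧ ∀ x : Q, y * (x : G) = (φ.symm (twist α h (φ x)) : Q) * y) :
    ∃ (r : ℕ) (y : G), r.Prime ∧ r ∣ 2 ^ n + 1 ∧ y ∈ stabilizer G a ⊓ stabilizer G (t • a) ∧
      orderOf y = r ∧ t * y = y * t := by
  obtain ⟨r, α, hr, hrd, hα, hα3⟩ := exists_alpha (σ := σ) hn hs hF
  obtain ⟨y, hy, hty, hyx⟩ := H1 α hα
  have hαj : ∀ j : ℕ, α ^ j * σ (α ^ j) = 1 := fun j => by
    rw [map_pow, ← mul_pow, hα, one_pow]
  have hpow : ∀ (j : ℕ) (x : Q), y ^ j * (x : G) = (φ.symm (twist (α ^ j) (hαj j) (φ x)) : Q) * y ^ j := by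
    intro j
    induction j with
    | zero =>
      intro x
      have h1 : twist (α ^ 0) (hαj 0) (φ x) = φ x := by
        ext
        · simp [twist]
        · rfl
      rw [h1]
      simp
    | succ j ih =>
      intro x
      have h1 : twist (α ^ (j + 1)) (hαj (j + 1)) (φ x) =
          twist (α ^ j) (hαj j) (twist α hα (φ x)) := by
        ext
        · simp only [twist]; ring
        · simp only [twist]
      rw [h1, pow_succ, mul_assoc, hyx x, ← mul_assoc, ih, MulEquiv.apply_symm_apply, mul_assoc]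
  refine ⟨r, y, hr, hrd, hy, ?_, hty⟩
  have := Fact.mk hr
  apply orderOf_eq_prime
  · apply eq_one_of_centralize hS (Subgroup.pow_mem _ hy r)
    intro x hx
    have h1 := hpow r ⟨x, hx⟩
    have h2 : twist (α ^ r) (hαj r) (φ ⟨x, hx⟩) = φ ⟨x, hx⟩ := by
      ext
      · have h3 : (α ^ r) ^ 3 = 1 := by
          rw [← pow_mul, mul_comm, pow_mul, ← hα3, pow_orderOf_eq_one]
        simp only [twist, h3, one_mul]
      · rfl
    rw [h2, MulEquiv.symm_apply_apply] at h1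
    exact h1
  · rintro rfl
    have hq : 1 < 2 ^ n := Nat.one_lt_two_pow (by omega)
    obtain ⟨z, hz⟩ := exists_heis_a (σ := σ) hq hs hF 1
    have h1 := hyx (φ.symm z)
    rw [one_mul, mul_one, MulEquiv.apply_symm_apply] at h1
    have h2 : z = twist α hα z := φ.symm.injective (Subtype.ext h1)
    have h3 : α ^ 3 = 1 := by
      have h4 := congrArg Heis.a h2
      simp only [twist, hz, mul_one] at h4
      exact h4.symm
    rw [h3, orderOf_one] at hα3
    exact hr.one_lt.ne hα3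

/-- Elements of `G_{ab}` commuting with an involution of `G_a`. -/
theorem norm_eq_one (hS : IsRankOneSetup G Ω a t Q) {d : G} {α : F} {h0 : α ≠ 0}
    (h : ∀ x : Q, d * (x : G) = (φ.symm (scal α h0 (φ x)) : Q) * d) {s : G}
    (hs : s ∈ involutionsIn (stabilizer G a : Set G)) (hds : d * s = s * d) : α * σ α = 1 := by
  obtain ⟨z, rfl, -, hb, -⟩ := exists_inv_coord φ hS hs
  have h1 := ((commute_coord φ h z).mp hds).2
  exact mul_right_cancel₀ hb (by rw [h1, one_mul])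

theorem comm_of_norm_eq_one (hS : IsRankOneSetup G Ω a t Q) {d : G} {α : F} {h0 : α ≠ 0}
    (h : ∀ x : Q, d * (x : G) = (φ.symm (scal α h0 (φ x)) : Q) * d) (hα : α * σ α = 1) {s : G}
    (hs : s ∈ involutionsIn (stabilizer G a : Set G)) : d * s = s * d := by
  obtain ⟨z, rfl, ha, -, -⟩ := exists_inv_coord φ hS hs
  refine (commute_coord φ h z).mpr ⟨?_, ?_⟩
  · rw [ha, mul_zero]
  · rw [hα, one_mul]

theorem commute_t_iff [FaithfulSMul G Ω] (hS : IsRankOneSetup G Ω a t Q)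
    (H1 : ∀ (α : F) (h : α * σ α = 1), ∃ y ∈ stabilizer G a ⊓ stabilizer G (t • a),
      t * y = y * t ∧ ∀ x : Q, y * (x : G) = (φ.symm (twist α h (φ x)) : Q) * y)
    (H2 : ∀ y ∈ stabilizer G a ⊓ stabilizer G (t • a), ∃ (α : F) (h0 : α ≠ 0),
      ∀ x : Q, y * (x : G) = (φ.symm (scal α h0 (φ x)) : Q) * y) {d s : G}
    (hd : d ∈ stabilizer G a ⊓ stabilizer G (t • a))
    (hs : s ∈ involutionsIn (stabilizer G a : Set G)) : t * d = d * t ↔ d * s = s * d := by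
  obtain ⟨α, h0, h⟩ := H2 d hd
  constructor
  · intro ht
    -- `d` commutes with the involution `s₀` of the structure equation
    obtain ⟨⟨s₀, r⟩, ⟨hs₀, hr, hsr⟩, huniq⟩ := S1123.result hS
    simp only at hs₀ hr hsr
    have hda : d ∈ stabilizer G a := (Subgroup.mem_inf.mp hd).1
    have ht' : d * t * d⁻¹ = t := by rw [← ht, mul_inv_cancel_right]
    have h1 : (d * s₀ * d⁻¹, d * r * d⁻¹) = (s₀, r) := by
      apply huniq
      refine ⟨⟨?_, ?_, ?_⟩, hS.conj_mem d hda r hr, ?_⟩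
      · exact Subgroup.mul_mem _ (Subgroup.mul_mem _ hda hs₀.1) (Subgroup.inv_mem _ hda)
      · intro hh
        apply hs₀.2.1
        have : s₀ = d⁻¹ * (d * s₀ * d⁻¹) * d := by group
        rw [this]
        simp only at hh
        rw [hh]
        group
      · simp only
        have : d * s₀ * d⁻¹ * (d * s₀ * d⁻¹) = d * (s₀ * s₀) * d⁻¹ := by group
        rw [this, hs₀.2.2]
        group
      · simp only
        calc t * (d * s₀ * d⁻¹) * t = (d * t * d⁻¹) * (d * s₀ * d⁻¹) * (d * t * d⁻¹) := by rw [ht']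
          _ = d * (t * s₀ * t) * d⁻¹ := by group
          _ = d * (r⁻¹ * t * r) * d⁻¹ := by rw [hsr]
          _ = (d * r * d⁻¹)⁻¹ * (d * t * d⁻¹) * (d * r * d⁻¹) := by group
          _ = (d * r * d⁻¹)⁻¹ * t * (d * r * d⁻¹) := by rw [ht']
    have h2 : d * s₀ = s₀ * d := mul_inv_eq_iff_eq_mul.mp (congrArg Prod.fst h1)
    exact comm_of_norm_eq_one φ hS h (norm_eq_one φ hS h hs₀ h2) hs
  · intro hds
    have hα := norm_eq_one φ hS h hs hds
    obtain ⟨y, hy, hty, hyx⟩ := H1 α hα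
    have h1 : y⁻¹ * d = 1 := by
      apply eq_one_of_centralize hS (Subgroup.mul_mem _ (Subgroup.inv_mem _ hy) hd)
      intro x hx
      have h2 := h ⟨x, hx⟩
      have h3 := hyx ⟨x, hx⟩
      have h4 : twist α hα (φ ⟨x, hx⟩) = scal α h0 (φ ⟨x, hx⟩) := by
        have h5 : σ α ≠ 0 := (map_ne_zero σ).mpr h0
        ext
        · simp only [twist, scal]
          congr 1
          rw [eq_div_iff h5]
          linear_combination α ^ 2 * hα
        · simp only [twist, scal, hα, one_mul]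
      rw [h4] at h3
      simp only at h2 h3
      calc y⁻¹ * d * x = y⁻¹ * (d * x) := by rw [mul_assoc]
        _ = y⁻¹ * ((φ.symm (scal α h0 (φ ⟨x, hx⟩)) : Q) * d) := by rw [h2]
        _ = y⁻¹ * ((φ.symm (scal α h0 (φ ⟨x, hx⟩)) : Q) * y) * (y⁻¹ * d) := by group
        _ = y⁻¹ * (y * x) * (y⁻¹ * d) := by rw [h3]
        _ = x * (y⁻¹ * d) := by group
    have h2 : d = y := (inv_mul_eq_one.mp h1).symm
    rw [h2, hty]

/-- An element of `G_{ab}` commuting with the involutions of `G_a` and with an element of `Q` of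
order four is trivial. -/
theorem fix_coord [FaithfulSMul G Ω] (hS : IsRankOneSetup G Ω a t Q) {d s : G}
    (hd : d ∈ stabilizer G a ⊓ stabilizer G (t • a)) {α : F} {h0 : α ≠ 0}
    (h : ∀ x : Q, d * (x : G) = (φ.symm (scal α h0 (φ x)) : Q) * d)
    (hs : s ∈ involutionsIn (stabilizer G a : Set G)) (hds : d * s = s * d) (hd1 : d ≠ 1)
    {x : G} (hx : x ∈ Q) (hdx : d * x = x * d) : x * x = 1 := by
  have hα := norm_eq_one φ hS h hs hds
  by_contra hne
  apply hd1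
  apply eq_one_of_centralize hS hd
  have ha : (φ ⟨x, hx⟩).a ≠ 0 := fun h' => hne ((mul_self_iff φ ⟨x, hx⟩).mpr h')
  have h1 := ((commute_coord φ h ⟨x, hx⟩).mp hdx).1
  have h2 : α ^ 2 / σ α = 1 := mul_right_cancel₀ ha (by rw [h1, one_mul])
  intro y hy
  exact (commute_coord φ h ⟨y, hy⟩).mpr ⟨by rw [h2, one_mul], by rw [hα, one_mul]⟩

omit [Finite G] in
theorem exists_of_coord (z : Heis σ) : ∃ x : Q, φ x = z := ⟨φ.symm z, φ.apply_symm_apply z⟩

include φ in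
/-- Every involution is a square. -/
theorem exists_sq_eq (hS : IsRankOneSetup G Ω a t Q) [Finite F] {n : ℕ}
    (hn : 2 ≤ n) (hs : ∀ x, σ x = x ^ (2 ^ n)) (hF : Nat.card F = (2 ^ n) ^ 2) {s : G}
    (hsi : s ∈ involutionsIn (stabilizer G a : Set G)) : ∃ x ∈ Q, x * x = s := by
  have hq : 1 < 2 ^ n := Nat.one_lt_two_pow (by omega)
  obtain ⟨z, rfl, ha, hb, hf⟩ := exists_inv_coord φ hS hsi
  have hring : ringChar F = 2 := ringChar.eq F 2 ▸ rfl
  obtain ⟨l, hl⟩ := FiniteField.isSquare_of_char_two hring (φ z).b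
  have hlf : σ l = l := by
    have h1 : σ l * σ l = l * l := by
      rw [← map_mul, ← hl, hf]
    have h2 : (σ l + l) * (σ l + l) = 0 := by
      linear_combination h1 + CharTwo.add_self_eq_zero (l * l + σ l * l)
    exact CharTwo.add_eq_zero.mp (mul_self_eq_zero.mp h2)
  obtain ⟨w, hw⟩ := exists_heis_a (σ := σ) hq hs hF l
  obtain ⟨x, hx⟩ := exists_of_coord φ w
  refine ⟨x, x.2, ?_⟩
  have h1 : x * x = z := by
    apply φ.injective
    rw [map_mul, hx]
    ext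
    · rw [mul_a, ha, CharTwo.add_self_eq_zero]
    · rw [mul_b, CharTwo.add_self_eq_zero, zero_add, hw, hlf, ← hl]
  exact congrArg Subtype.val h1

include φ in
/-- Every involution is a commutator. -/
theorem exists_comm_eq (hS : IsRankOneSetup G Ω a t Q) [Finite F] {n : ℕ}
    (hn : 2 ≤ n) (hs : ∀ x, σ x = x ^ (2 ^ n)) (hF : Nat.card F = (2 ^ n) ^ 2) {s : G}
    (hsi : s ∈ involutionsIn (stabilizer G a : Set G)) :
    ∃ x ∈ Q, ∃ y ∈ Q, x * y * x⁻¹ * y⁻¹ = s := by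
  have hq : 1 < 2 ^ n := Nat.one_lt_two_pow (by omega)
  obtain ⟨z, rfl, ha, hb, hf⟩ := exists_inv_coord φ hS hsi
  obtain ⟨b, hb'⟩ := (card_fixed (σ := σ) hq hs hF).2 _ hf
  obtain ⟨w₁, hw₁⟩ := exists_heis_a (σ := σ) hq hs hF 1
  obtain ⟨w₂, hw₂⟩ := exists_heis_a (σ := σ) hq hs hF b
  obtain ⟨x, hx⟩ := exists_of_coord φ w₁
  obtain ⟨y, hy⟩ := exists_of_coord φ w₂
  refine ⟨x, x.2, y, y.2, ?_⟩
  have h1 : x * y = z * (y * x) := by
    apply φ.injective
    rw [map_mul, map_mul, map_mul, hx, hy]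
    ext
    · rw [mul_a, mul_a, mul_a, ha, zero_add, add_comm]
    · simp only [mul_b, mul_a, ha, hw₁, hw₂, zero_mul, map_one, one_mul, mul_one, add_zero]
      rw [← hb']
      linear_combination (-1) * CharTwo.add_self_eq_zero b
  have h2 : (x : G) * y = z * (y * x) := congrArg Subtype.val h1
  rw [h2]
  group

end Coord

/-! ### The facts of the third type -/

/-- The facts of the third type; `D = G_a ∩ G_{t a}`, `q = 2 ^ k`. -/
structure Three (a : Ω) (t : G) (Q : Subgroup G) (k : ℕ) : Prop where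
  /-- `G` is isomorphic to `PSU(3, q)`. -/
  iso : ∃ (F : Type) (_ : Field F) (_ : Fintype F), Fintype.card F = (2 ^ k) ^ 2 ∧
    Nonempty (G ≃* Cfsg.PSU 3 F (2 ^ k))
  /-- `D` is cyclic. -/
  isCyclic : IsCyclic ↥(stabilizer G a ⊓ stabilizer G (t • a))
  /-- The order of `D`. -/
  card : Nat.gcd 3 (2 ^ k + 1) * Nat.card ↥(stabilizer G a ⊓ stabilizer G (t • a)) =
    (2 ^ k) ^ 2 - 1
  /-- `Q` is not of exponent two. -/
  exists_ne : ∃ x ∈ Q, x * x ≠ 1
  /-- Squares have order at most two. -/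
  sq_sq : ∀ x ∈ Q, (x * x) * (x * x) = 1
  /-- Commutators have order at most two. -/
  comm_sq : ∀ x ∈ Q, ∀ y ∈ Q, (x * y * x⁻¹ * y⁻¹) * (x * y * x⁻¹ * y⁻¹) = 1
  /-- Involutions of `G_a` are central in `Q`. -/
  central : ∀ s ∈ involutionsIn (stabilizer G a : Set G), s ∈ Q ∧ ∀ x ∈ Q, s * x = x * s
  /-- The centre of `Q` has exponent two. -/
  sq_of_central : ∀ x ∈ Q, (∀ y ∈ Q, x * y = y * x) → x * x = 1
  /-- Every involution of `G_a` is a square. -/
  exists_sq_eq : ∀ s ∈ involutionsIn (stabilizer G a : Set G), ∃ x ∈ Q, x * x = s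
  /-- Every involution of `G_a` is a commutator. -/
  exists_comm_eq : ∀ s ∈ involutionsIn (stabilizer G a : Set G), ∃ x ∈ Q, ∃ y ∈ Q,
    x * y * x⁻¹ * y⁻¹ = s
  /-- The elements of `D` commuting with `t` are those commuting with the involutions of `G_a`. -/
  commute_t_iff : ∀ d ∈ stabilizer G a ⊓ stabilizer G (t • a),
    ∀ s ∈ involutionsIn (stabilizer G a : Set G), t * d = d * t ↔ d * s = s * d
  /-- (R3) -/
  sq_of_commute : ∀ d ∈ stabilizer G a ⊓ stabilizer G (t • a), d ≠ 1 →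
    ∀ s ∈ involutionsIn (stabilizer G a : Set G), d * s = s * d →
    ∀ x ∈ Q, d * x = x * d → x * x = 1
  /-- (R2) -/
  exists_prime : ∃ (r : ℕ) (y : G), r.Prime ∧ r ∣ 2 ^ k + 1 ∧
    y ∈ stabilizer G a ⊓ stabilizer G (t • a) ∧ orderOf y = r ∧ t * y = y * t ∧
    ∀ s ∈ involutionsIn (stabilizer G a : Set G), y * s = s * y

theorem card_aux {q g D m : ℕ} (hq : 1 < q)
    (h : g * ((q + 1) * (q ^ 3 * D * (q ^ 3 + 1))) = q ^ 3 * ((q + 1) * m * (q ^ 3 + 1))) :
    g * D = m := by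
  have h1 : 0 < (q + 1) * q ^ 3 * (q ^ 3 + 1) := by positivity
  apply Nat.eq_of_mul_eq_mul_left h1
  calc (q + 1) * q ^ 3 * (q ^ 3 + 1) * (g * D)
      = g * ((q + 1) * (q ^ 3 * D * (q ^ 3 + 1))) := by ring
    _ = q ^ 3 * ((q + 1) * m * (q ^ 3 + 1)) := h
    _ = (q + 1) * q ^ 3 * (q ^ 3 + 1) * m := by ring

/-- (T3) -/
theorem three [FaithfulSMul G Ω] [IsSimpleGroup G] (hS : IsRankOneSetup G Ω a t Q)
    (h2 : ∃ x y : G, x ≠ 1 ∧ y ≠ 1 ∧ x ≠ y ∧ x * x = 1 ∧ y * y = 1 ∧ x * y = y * x) {k i : ℕ}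
    (hk : 2 ≤ k) (hq : Nat.card (involutionsIn (stabilizer G a : Set G)) + 1 = 2 ^ k)
    (hi : Nat.card Q = (2 ^ k) ^ i) (hi3 : i = 3) : Three a t Q k := by
  rcases type_cases hS h2 with ⟨-, h, -⟩ | ⟨h, -, -⟩ | ⟨-, F, _, _, _, σ, _, n, hn, hcF, hs, φ, hf⟩
  · rw [hq, hi] at h
    have := pow_two_inj hk (h.trans (pow_one _).symm)
    omega
  · rw [hq, hi] at h
    have := pow_two_inj hk h
    omega
  have hF : Nat.card F = (2 ^ n) ^ 2 := by rw [Nat.card_eq_fintype_card, hcF]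
  have hq1 : 1 < 2 ^ n := Nat.one_lt_two_pow (by omega)
  have hnk : n = k := by
    have h3 : Nat.card Q = (2 ^ n) ^ 3 := by
      rw [Nat.card_congr φ.toEquiv, HermHeis.card_heis hq1 hs hF]
    rw [hi, hi3] at h3
    exact (Nat.pow_right_injective le_rfl (Nat.pow_left_injective (by norm_num) h3)).symm
  subst hnk
  obtain ⟨⟨Φ⟩, H1, H2, hcyc⟩ := exists_coords hS (Generate.closure_eq_top hS) (by omega) hs hF φ hf
  have hsq : ∀ x : Q, (x : G) * x = 1 ↔ (φ x).a = 0 := mul_self_iff φ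
  have hcen := (S1130.result hS h2).1
  refine
    { iso := ⟨F, _, _, hcF, ⟨Φ⟩⟩
      isCyclic := hcyc
      card := ?_
      exists_ne := ?_
      sq_sq := ?_
      comm_sq := ?_
      central := hcen
      sq_of_central := ?_
      exists_sq_eq := fun s hsi => exists_sq_eq φ hS hn hs hF hsi
      exists_comm_eq := fun s hsi => exists_comm_eq φ hS hn hs hF hsi
      commute_t_iff := fun d hd s hsi => commute_t_iff φ hS H1 H2 hd hsi
      sq_of_commute := ?_
      exists_prime := ?_ }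
  · have h3 := S0280.result hcF 3 (by norm_num)
    rw [← Nat.card_congr Φ.toEquiv, card_eq hS, hi, hi3] at h3
    apply card_aux hq1
    rw [h3]
    have e1 : ¬ Even 1 := by decide
    have e2 : Even 2 := by decide
    simp only [Finset.prod_range_succ, Finset.prod_range_zero, one_mul, Even.zero, if_true, e1,
      if_false, e2, zero_add, pow_one, Nat.reduceMul, Nat.reduceSub, Nat.reduceDiv, Nat.reduceAdd]
  · obtain ⟨z, hz⟩ := exists_heis_a (σ := σ) hq1 hs hF 1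
    refine ⟨_, (φ.symm z).2, fun h => ?_⟩
    have h4 := (hsq _).mp h
    rw [MulEquiv.apply_symm_apply, hz] at h4
    exact one_ne_zero h4
  · intro x hx
    have h4 : ((⟨x, hx⟩ * ⟨x, hx⟩ : Q) : G) * ((⟨x, hx⟩ * ⟨x, hx⟩ : Q) : G) = 1 := by
      rw [hsq, map_mul, mul_a, CharTwo.add_self_eq_zero]
    exact h4
  · intro x hx y hy
    have h4 : ((⟨x, hx⟩ * ⟨y, hy⟩ * ⟨x, hx⟩⁻¹ * ⟨y, hy⟩⁻¹ : Q) : G) *
        ((⟨x, hx⟩ * ⟨y, hy⟩ * ⟨x, hx⟩⁻¹ * ⟨y, hy⟩⁻¹ : Q) : G) = 1 := by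
      rw [hsq]
      simp only [map_mul, map_inv, mul_a, inv_a]
      linear_combination CharTwo.add_self_eq_zero (φ ⟨x, hx⟩).a +
        CharTwo.add_self_eq_zero (φ ⟨y, hy⟩).a
    exact h4
  · intro x hx hc
    have h4 : φ ⟨x, hx⟩ ∈ Subgroup.center (Heis σ) := by
      rw [Subgroup.mem_center_iff]
      intro z
      obtain ⟨y, rfl⟩ := exists_of_coord φ z
      rw [← map_mul, ← map_mul]
      congr 1
      exact Subtype.ext (hc y y.2).symm
    exact (hsq ⟨x, hx⟩).mpr ((HermHeis.mem_center_iff hq1 hs hF _).mp h4)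
  · intro d hd hd1 s hsi hds x hx hdx
    obtain ⟨α, h0, h⟩ := H2 d hd
    exact fix_coord φ hS hd h hsi hds hd1 hx hdx
  · obtain ⟨r, y, hr, hrd, hy, hyr, hty⟩ := exists_prime_elt φ hS hn hs hF H1
    exact ⟨r, y, hr, hrd, hy, hyr, hty, fun s hsi => (commute_t_iff φ hS H1 H2 hy hsi).mp hty⟩

end Cfsg.Agent.AschCrit.RankOneThree
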