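import Cfsg.Agent.AschCrit.CommTwoCase
import Cfsg.Agent.AschCrit.CommCase
import Cfsg.Agent.AschCrit.RankOneThree

/-!
# Case (C2) of the commutative case, final form

`caseTwo` : the hypothesis `h2` of `CommCase.commCaseFalse`.
-/

set_option autoImplicit false

universe u

namespace Cfsg.Agent.AschCrit.CommTwoFinal

open Cfsg MulAction
open Cfsg.Agent.TwoFusion.StronglyEmbeddedBasic Cfsg.Agent.AschCrit.Basic
open Cfsg.Agent.AschCrit.Basic.Setup Cfsg.Agent.AschCrit.Closed Cfsg.Agent.AschCrit.Descent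
open Cfsg.Agent.AschCrit.CommTwoBridge Cfsg.Agent.AschCrit.CommTypes
open Cfsg.Agent.AschCrit.CommFrame Cfsg.Agent.AschCrit.CommTwoCase
open Cfsg.Agent.AschCrit.CommCase

/-- the structure of the rank-one groups of type `PSU₃(q)` -/
theorem uTypes : UTypes.{u} := by
  intro L Ψ _ _ _ a t Q k hk hf hs hS h2 hQ2 hQc hinv
  have hT := Cfsg.Agent.AschCrit.RankOneThree.three hS h2 hk hinv hQc rfl
  have hmem : ∀ x ∈ Q, x * x = 1 → x = 1 ∨ x ∈ involutionsIn (stabilizer L a : Set L) := by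
    intro x hx h1
    by_cases hx1 : x = 1
    · exact Or.inl hx1
    · exact Or.inr ⟨hS.le hx, hx1, h1⟩
  obtain ⟨r, y, hr, hrd, hy, hyo, -, hys⟩ := hT.exists_prime
  have hodd : Odd (2 ^ k + 1) := by
    rw [Nat.odd_add_one, Nat.not_odd_iff_even]
    exact (Nat.even_pow' (by omega)).mpr even_two
  have hrodd : Odd r := by
    obtain ⟨m, hm⟩ := hrd
    rw [hm] at hodd
    exact (Nat.odd_mul.mp hodd).1
  have hne : (involutionsIn (stabilizer L a : Set L)).Nonempty := by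
    by_contra hcon
    rw [Set.not_nonempty_iff_eq_empty] at hcon
    rw [hcon] at hinv
    have h4 : 4 ≤ 2 ^ k := by
      calc 4 = 2 ^ 2 := by norm_num
        _ ≤ 2 ^ k := Nat.pow_le_pow_right (by norm_num) hk
    simp at hinv
    omega
  obtain ⟨s, hsi⟩ := hne
  refine ⟨⟨y, by rw [hyo]; exact hrodd, (Subgroup.mem_inf.mp hy).1, ?_, ?_⟩, ?_, hT.exists_ne⟩
  · intro s hs
    exact (hys s hs).symm
  · intro x hx hxy
    refine hmem x hx (hT.sq_of_commute y hy ?_ s hsi (hys s hsi) x hx hxy.symm)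
    intro hy1
    rw [hy1, orderOf_one] at hyo
    exact hr.one_lt.ne hyo
  · intro x hx
    exact hmem _ (mul_mem hx hx) (hT.sq_sq x hx)

/-- **Case (C2)**, the hypothesis `h2` of `CommCase.commCaseFalse`. -/
theorem caseTwo : ∀ (G Ω : Type u) [Group G] [Finite G] [MulAction G Ω] (z : G) (k : ℕ),
    CaseHyp G Ω z k 3 → (∀ a : Ω, Nat.card (At z a) + 1 = (2 ^ k) ^ 2) →
    Nat.card Ω = (2 ^ k) ^ 4 * ((2 ^ k - 1) ^ 2 + 1) + 1 → False := by
  intro G Ω _ _ _ z k hC hat hΩ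
  have hs := hC.simple
  obtain ⟨a, ha⟩ := hC.setup.exists_fix
  have hV : ∀ x, x ∈ vGrp hC.setup hC.faithful hC.comm a ↔ x = 1 ∨ x ∈ At z a :=
    fun x => mem_vGrp hC.setup hC.faithful hC.comm
  refine case_two hC.noBadBelow hC.bender uTypes hC.setup hC.faithful hC.nonIso hC.comm hV
    hC.two_le ?_ hΩ (fun u hu => ⟨hC.card_fix u hu, hC.card_atC u hu⟩) hC.exists_bad
  rw [card_V hC.setup hV, hat a]

end Cfsg.Agent.AschCrit.CommTwoFinal
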