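import Mathlib
import Cfsg.Agent.AschCrit.CommTwo

/-!
# Lifting the local data of (C2) through the action on the fixed points of `u`

`lift_data` : a 2-subgroup `Qb` and an element `yb` of odd order normalising it in a quotient lift to a
2-subgroup `P` and an element `y` of odd order normalising `P`.

`localU_of_image` : `LocalU` from the corresponding facts about the image of `C(u)` under a
homomorphism `π` whose kernel fixes a second point.
-/

set_option autoImplicit false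

namespace Cfsg.Agent.AschCrit.CommTwoLift

open Cfsg.Agent.TwoFusion.StronglyEmbeddedBasic Cfsg.Agent.AschCrit.Basic
open Cfsg.Agent.AschCrit.Basic.Setup Cfsg.Agent.AschCrit.Closed Cfsg.Agent.AschCrit.CommTwo
open scoped Pointwise

/-- `(q y) ^ j ∈ Q y ^ j` if `y` normalises `Q` -/
theorem exists_mul_pow {R : Type*} [Group R] {Q : Subgroup R} {y q : R}
    (hy : ∀ x ∈ Q, y * x * y⁻¹ ∈ Q) (hq : q ∈ Q) (j : ℕ) : ∃ q' ∈ Q, (q * y) ^ j = q' * y ^ j := by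
  induction j with
  | zero => exact ⟨1, one_mem Q, by simp⟩
  | succ j ih =>
    obtain ⟨q', hq', he⟩ := ih
    refine ⟨q * (y * q' * y⁻¹), mul_mem hq (hy q' hq'), ?_⟩
    rw [pow_succ' (q * y), he, pow_succ' y]; group

theorem lift_data {H R : Type*} [Group H] [Finite H] [Group R] (π : H →* R) (Qb : Subgroup R)
    (yb : R) (hQ2 : IsPGroup 2 Qb) (hQr : Qb ≤ π.range) (hyr : yb ∈ π.range)
    (hyo : Odd (orderOf yb)) (hyn : ∀ x : R, x ∈ Qb ↔ yb * x * yb⁻¹ ∈ Qb) :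
    ∃ (P : Subgroup H) (y : H), IsPGroup 2 P ∧ P.map π = Qb ∧
      (∀ N : Subgroup H, IsPGroup 2 N → N ≤ Qb.comap π →
        (∀ x ∈ Qb.comap π, ∀ v ∈ N, x * v * x⁻¹ ∈ N) → N ≤ P) ∧ Odd (orderOf y) ∧
      (∃ q' ∈ Qb, π y = q' * yb) ∧ ∀ x ∈ P, y⁻¹ * x * y ∈ P := by
  set B := Qb.comap π with hB
  obtain ⟨Q⟩ : Nonempty (Sylow 2 B) := inferInstance
  set P := (Q : Subgroup B).map B.subtype with hP
  -- the element `y`
  obtain ⟨y₀, hy₀⟩ := hyr
  obtain ⟨w, hw, hwn⟩ := exists_mul_mem_normalizer Q (g := y₀) (by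
    intro x
    rw [hB, Subgroup.mem_comap, Subgroup.mem_comap, map_mul, map_mul, map_inv, hy₀]
    exact hyn _)
  set n := w * y₀ with hn
  have hπn : π n = π w * yb := by rw [hn, map_mul, hy₀]
  have hn0 : orderOf n ≠ 0 := (orderOf_pos n).ne'
  obtain ⟨α, m, hm, hnm⟩ := Nat.exists_eq_two_pow_mul_odd hn0
  have hm0 : 0 < m := hm.pos
  have hφ : 0 < m.totient := Nat.totient_pos.mpr hm0
  set e := 2 ^ (α * m.totient) with he
  have he1 : e ≡ 1 [MOD m] := by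
    rw [he, mul_comm, pow_mul]
    have h1 : 2 ^ m.totient ≡ 1 [MOD m] := Nat.ModEq.pow_totient (Nat.coprime_two_left.mpr hm)
    simpa using h1.pow α
  have he2 : 2 ^ α ∣ e := pow_dvd_pow 2 (Nat.le_mul_of_pos_right α hφ)
  have hyQ : ∀ x ∈ Qb, yb * x * yb⁻¹ ∈ Qb := fun x hx => (hyn x).mp hx
  have hybm : orderOf yb ∣ m := by
    obtain ⟨q', hq', h1⟩ := exists_mul_pow hyQ (q := π w) hw (orderOf n)
    have h2 : (π w * yb) ^ orderOf n = 1 := by rw [← hπn, ← map_pow, pow_orderOf_eq_one, map_one]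
    rw [h2] at h1
    have h3 : yb ^ orderOf n ∈ Qb := by
      have : yb ^ orderOf n = q'⁻¹ := (inv_eq_of_mul_eq_one_right h1.symm).symm
      rw [this]; exact inv_mem hq'
    have h4 : yb ^ orderOf n = 1 := by
      by_contra h5
      obtain ⟨k, hk⟩ := exists_pow_orderOf_two hQ2 h3 h5
      rw [← pow_mul] at hk
      have h6 : orderOf (yb ^ (orderOf n * k)) ∣ orderOf yb := orderOf_pow_dvd _
      rw [hk] at h6
      exact (Nat.not_even_iff_odd.mpr hyo) (even_iff_two_dvd.mpr h6)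
    have h5 := orderOf_dvd_of_pow_eq_one h4
    rw [hnm] at h5
    have hcop : Nat.Coprime (orderOf yb) (2 ^ α) :=
      (Nat.coprime_two_right.mpr hyo).pow_right α
    exact hcop.dvd_of_dvd_mul_left h5
  have hybe : yb ^ e = yb := by
    have h1 : e ≡ 1 [MOD orderOf yb] := he1.of_dvd hybm
    have h2 := pow_inj_mod.mpr (show e % orderOf yb = 1 % orderOf yb from h1)
    rwa [pow_one] at h2
  have hnN : n ∈ Subgroup.normalizer (P : Set H) := Subgroup.mem_normalizer_iff.mpr hwn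
  refine ⟨P, n ^ e, Q.2.map _, ?_, ?_, ?_, ?_, ?_⟩
  · -- `π P = Qb`
    have hsurj : Function.Surjective (π.subgroupComap Qb) := by
      rintro ⟨x, hx⟩
      obtain ⟨g, hg⟩ := hQr hx
      exact ⟨⟨g, by rw [Subgroup.mem_comap, hg]; exact hx⟩, Subtype.ext hg⟩
    have h1 : ((Q.mapSurjective hsurj : Sylow 2 Qb) : Subgroup Qb) = ⊤ :=
      ((Q.mapSurjective hsurj).3 (hQ2.to_subgroup ⊤) le_top).symm
    rw [Sylow.coe_mapSurjective] at h1
    ext x
    constructor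
    · rintro ⟨_, ⟨g, -, rfl⟩, rfl⟩
      exact g.2
    · intro hx
      have h2 : (⟨x, hx⟩ : Qb) ∈ (Q : Subgroup B).map (π.subgroupComap Qb) := by rw [h1]; trivial
      obtain ⟨g, hg, hgx⟩ := h2
      exact ⟨g, ⟨g, hg, rfl⟩, congrArg Subtype.val hgx⟩
  · intro N hN hNB hNn x hx
    have h1 : (N.subgroupOf B).Normal := by
      refine ⟨fun v hv g => ?_⟩
      exact hNn g g.2 v hv
    have h2 : IsPGroup 2 (N.subgroupOf B) := hN.comap_of_injective B.subtype B.subtype_injective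
    exact ⟨⟨x, hNB hx⟩, h2.le_sylow_of_normal Q hx, rfl⟩
  · have h1 : orderOf (n ^ e) ∣ m := by
      apply orderOf_dvd_of_pow_eq_one
      rw [← pow_mul]
      apply orderOf_dvd_iff_pow_eq_one.mp
      rw [hnm]
      exact Nat.mul_dvd_mul_right he2 m
    exact Odd.of_dvd_nat hm h1
  · obtain ⟨q', hq', h1⟩ := exists_mul_pow hyQ (q := π w) hw e
    refine ⟨q', hq', ?_⟩
    rw [map_pow, hπn, h1, hybe]
  · intro x hx
    have h1 : (n ^ e)⁻¹ ∈ Subgroup.normalizer (P : Set H) := inv_mem (pow_mem hnN e)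
    have h2 := (Subgroup.mem_normalizer_iff.mp h1 x).mp hx
    rwa [inv_inv] at h2

/-- If `y` (of odd order) normalises `Q`, centralises the central subgroup `E` of exponent two
containing the commutators of `Q`, and `C_Q(y) ≤ E`, then `Q = [Q, y] E` elementwise. -/
theorem exists_gen_of_fpf {R : Type*} [Group R] {Q E : Subgroup R} [Finite Q] {y : R}
    (hE2 : ∀ e ∈ E, e * e = 1) (hEc : ∀ e ∈ E, ∀ x ∈ Q, Commute e x)
    (hcomm : ∀ x ∈ Q, ∀ x' ∈ Q, x⁻¹ * x'⁻¹ * x * x' ∈ E) (hy : Odd (orderOf y))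
    (hyQ : ∀ x ∈ Q, y⁻¹ * x * y ∈ Q) (hyE : ∀ e ∈ E, Commute e y)
    (hfp : ∀ x ∈ Q, Commute x y → x ∈ E) :
    ∀ p ∈ Q, ∃ p' ∈ Q, ∃ e ∈ E, p = (p'⁻¹ * (y⁻¹ * p' * y)) * e := by
  have hn : (E.subgroupOf Q).Normal := by
    refine ⟨fun e he x => ?_⟩
    have h1 : ((x * e * x⁻¹ : Q) : R) = e := by
      have h2 := (hEc e he x x.2).eq
      show (x : R) * e * (x : R)⁻¹ = e
      rw [← h2]; group
    show ((x * e * x⁻¹ : Q) : R) ∈ E
    rw [h1]; exact he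
  have hmk : ∀ x x' : Q, (QuotientGroup.mk x : Q ⧸ E.subgroupOf Q) = QuotientGroup.mk x' ↔
      (x : R)⁻¹ * x' ∈ E := by
    intro x x'
    rw [QuotientGroup.eq]; rfl
  let f : Q → Q := fun x => ⟨(x : R)⁻¹ * (y⁻¹ * x * y), mul_mem (inv_mem x.2) (hyQ x x.2)⟩
  let φ : Q →* Q ⧸ E.subgroupOf Q := MonoidHom.mk' (fun x => QuotientGroup.mk (f x)) (by
    intro x x'
    show (QuotientGroup.mk (f (x * x')) : Q ⧸ E.subgroupOf Q) =
      QuotientGroup.mk (f x) * QuotientGroup.mk (f x')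
    rw [← QuotientGroup.mk_mul, hmk]
    have e1 : ((f (x * x') : Q) : R) = (x' : R)⁻¹ * (f x : R) * (x' : R) * (f x' : R) := by
      show ((x : R) * x')⁻¹ * (y⁻¹ * ((x : R) * x') * y) = (x' : R)⁻¹ *
        ((x : R)⁻¹ * (y⁻¹ * x * y)) * (x' : R) * ((x' : R)⁻¹ * (y⁻¹ * x' * y))
      group
    have e2 : ((f (x * x') : Q) : R)⁻¹ * ((f x * f x' : Q) : R) =
        (f x' : R)⁻¹ * ((x' : R)⁻¹ * (f x : R)⁻¹ * (x' : R) * (f x : R)) * (f x' : R) := by
      rw [e1]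
      show _ * ((f x : R) * (f x' : R)) = _
      group
    rw [e2]
    have h1 : (x' : R)⁻¹ * (f x : R)⁻¹ * (x' : R) * (f x : R) ∈ E := hcomm _ x'.2 _ (f x).2
    have h2 := (hEc _ h1 (f x' : R) (f x').2).eq
    rw [mul_assoc, h2, inv_mul_cancel_left]
    exact h1)
  have hφ : ∀ x : Q, φ x = QuotientGroup.mk (f x) := fun x => rfl
  have hker : ∀ x : Q, φ x = 1 ↔ (x : R) ∈ E := by
    intro x
    rw [hφ, QuotientGroup.eq_one_iff]
    constructor
    · intro h1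
      have h1' : (x : R)⁻¹ * (y⁻¹ * x * y) ∈ E := h1
      set e := (x : R)⁻¹ * (y⁻¹ * x * y) with he
      have h2 : y⁻¹ * (x : R) * y = x * e := by rw [he]; group
      have h3 : ∀ n : ℕ, (y⁻¹) ^ n * (x : R) * ((y⁻¹) ^ n)⁻¹ = x * e ^ n := by
        intro n
        induction n with
        | zero => simp
        | succ n ih =>
          calc (y⁻¹) ^ (n + 1) * (x : R) * ((y⁻¹) ^ (n + 1))⁻¹
              = y⁻¹ * ((y⁻¹) ^ n * (x : R) * ((y⁻¹) ^ n)⁻¹) * y := by rw [pow_succ']; group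
            _ = (y⁻¹ * x * y) * (y⁻¹ * e ^ n * y) := by rw [ih]; group
            _ = x * e * e ^ n := by
                rw [h2, mul_assoc y⁻¹, ((hyE e h1').pow_left n).eq]; group
            _ = x * e ^ (n + 1) := by rw [pow_succ']; group
      obtain ⟨m, hm⟩ := hy
      have h4 := h3 (orderOf y)
      rw [inv_pow, pow_orderOf_eq_one] at h4
      have h5 : e ^ orderOf y = e := by
        rw [hm, pow_succ, pow_mul, pow_two, hE2 e h1', one_pow, one_mul]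
      rw [h5] at h4
      have h6 : e = 1 := by
        have : (x : R) * e = x * 1 := by rw [← h4]; group
        exact mul_left_cancel this
      refine hfp x x.2 ?_
      rw [h6, mul_one] at h2
      show (x : R) * y = y * x
      calc (x : R) * y = y * (y⁻¹ * x * y) := by group
        _ = y * x := by rw [h2]
    · intro h1
      show (x : R)⁻¹ * (y⁻¹ * x * y) ∈ E
      rw [mul_assoc y⁻¹, (hyE x h1).eq]
      have : (x : R)⁻¹ * (y⁻¹ * (y * x)) = 1 := by group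
      rw [this]; exact one_mem E
  have hkere : φ.ker = E.subgroupOf Q := by
    ext x
    rw [MonoidHom.mem_ker, hker, Subgroup.mem_subgroupOf]
  have hsurj : φ.range = ⊤ := by
    apply Subgroup.eq_top_of_card_eq
    have h1 : Nat.card (Q ⧸ φ.ker) = Nat.card φ.range :=
      Nat.card_congr (QuotientGroup.quotientKerEquivRange φ).toEquiv
    rw [← h1, hkere]
  intro p hp
  have h1 : (QuotientGroup.mk (⟨p, hp⟩ : Q) : Q ⧸ E.subgroupOf Q) ∈ φ.range := by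
    rw [hsurj]; trivial
  obtain ⟨p', hp'⟩ := h1
  rw [hφ, hmk] at hp'
  refine ⟨p', p'.2, _, hp', ?_⟩
  show p = ((p' : R)⁻¹ * (y⁻¹ * p' * y)) * (((p' : R)⁻¹ * (y⁻¹ * p' * y))⁻¹ * p)
  group

variable {G Ω : Type*} [Group G] [MulAction G Ω] {z : G} {a : Ω} {V : Subgroup G}

theorem localU_of_image [Finite G] (hV : ∀ d : G, d ∈ V ↔ d = 1 ∨ d ∈ At z a)
    (h : Setup G Ω z) {u : G} {q : ℕ} {R : Type*} [Group R] {H : Subgroup G}
    (hHc : ∀ x : G, x ∈ H ↔ Commute x u) (π : H →* R) (Qb : Subgroup R) (yb : R)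
    (hker : ∃ b : Ω, b ≠ a ∧ ∀ k : H, π k = 1 →
      (k : G) • a = a ∧ (k : G) • b = b)
    (hQ2 : IsPGroup 2 Qb) (hQc : Nat.card Qb = q ^ 3) (hQr : Qb ≤ π.range) (hyr : yb ∈ π.range)
    (hQa : ∀ x : H, π x ∈ Qb → (x : G) • a = a)
    (hya : ∀ x : H, ∀ q' ∈ Qb, π x = q' * yb → (x : G) • a = a)
    (hyo : Odd (orderOf yb)) (hyn : ∀ x : R, x ∈ Qb ↔ yb * x * yb⁻¹ ∈ Qb)
    (hVQ : ∀ v : H, (v : G) ∈ V → π v ∈ Qb)
    (hVc : ∀ v : H, (v : G) ∈ V → ∀ x ∈ Qb, Commute (π v) x)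
    (hVy : ∀ v : H, (v : G) ∈ V → Commute (π v) yb)
    (hcomm : ∀ x ∈ Qb, ∀ x' ∈ Qb, ∃ v : H, (v : G) ∈ V ∧
      x⁻¹ * x'⁻¹ * x * x' = π v)
    (hsq : ∀ x ∈ Qb, ∃ v : H, (v : G) ∈ V ∧ x * x = π v)
    (hgen : ∀ p ∈ Qb, ∃ p' ∈ Qb, ∃ v : H, (v : G) ∈ V ∧
      p = (p'⁻¹ * (yb⁻¹ * p' * yb)) * π v)
    (hnsq : ∃ x ∈ Qb, x * x ≠ 1) : LocalU V a u q := by
  obtain ⟨P, y, hP, hPπ, hPN, hyodd, ⟨q₀, hq₀, hπy⟩, hyP⟩ := lift_data π Qb yb hQ2 hQr hyr hyo hyn
  obtain ⟨b, hba, hker⟩ := hker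
  have hHu : ∀ x : H, Commute (x : G) u := fun x => (hHc x).mp x.2
  have hPQ : ∀ x ∈ P, π x ∈ Qb := fun x hx => by rw [← hPπ]; exact ⟨x, hx, rfl⟩
  -- `V ∩ C(u) ≤ P`
  have hVP : ∀ v : H, (v : G) ∈ V → v ∈ P := by
    intro v hv
    refine hPN (V.subgroupOf H) ?_ ?_ ?_ hv
    · rintro ⟨w, hw⟩
      refine ⟨1, Subtype.ext (Subtype.ext ?_)⟩
      show (w : G) ^ 2 ^ 1 = 1
      rw [pow_one, pow_two]; exact mul_self_V h hV hw
    · intro w hw; exact hVQ w hw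
    · intro x hx w hw
      exact conj_mem_V hV (hQa x hx) hw
  have hyu : Commute (y : G) u := hHu y
  have hyaa : (y : G) • a = a := hya y q₀ hq₀ hπy
  refine ⟨P.map H.subtype, π.ker.map H.subtype, y, hP.map _, ?_, ?_, ⟨b, hba, ?_⟩, ?_, ?_, ?_,
    hyu, hyaa, ?_, ?_, ?_, ?_, ?_⟩
  · rintro _ ⟨x, hx, rfl⟩
    exact ⟨hQa x (hPQ x hx), hHu x⟩
  · intro v hv hvu
    exact ⟨⟨v, (hHc v).mpr hvu⟩, hVP _ hv, rfl⟩
  · rintro _ ⟨k, hk, rfl⟩
    exact hker k hk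
  · rintro _ ⟨x, hx, rfl⟩ _ ⟨k, hk, rfl⟩
    refine ⟨x * k * x⁻¹, ?_, rfl⟩
    have hk' : π k = 1 := hk
    show π (x * k * x⁻¹) = 1
    rw [map_mul, map_mul, hk', map_inv]; group
  · -- cardinality
    have e1 : P.map H.subtype ⊓ π.ker.map H.subtype = (P ⊓ π.ker).map H.subtype :=
      (Subgroup.map_inf _ _ _ H.subtype_injective).symm
    rw [e1, Subgroup.card_map_of_injective H.subtype_injective,
      Subgroup.card_map_of_injective H.subtype_injective]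
    have h1 : Nat.card P = Nat.card (P ⧸ (π.comp P.subtype).ker) *
        Nat.card (π.comp P.subtype).ker := Subgroup.card_eq_card_quotient_mul_card_subgroup _
    have h2 : Nat.card (P ⧸ (π.comp P.subtype).ker) = q ^ 3 := by
      rw [Nat.card_congr (QuotientGroup.quotientKerEquivRange (π.comp P.subtype)).toEquiv,
        MonoidHom.range_comp, Subgroup.range_subtype, hPπ, hQc]
    have h3 : Nat.card (P ⊓ π.ker : Subgroup H) ≤ Nat.card (π.comp P.subtype).ker := by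
      refine Nat.card_le_card_of_injective
        (fun x => ⟨⟨x.1, (Subgroup.mem_inf.mp x.2).1⟩, (Subgroup.mem_inf.mp x.2).2⟩) ?_
      intro x x' hxx
      have h4 := (Subtype.mk.injEq _ _ _ _).mp hxx
      have h5 := (Subtype.mk.injEq _ _ _ _).mp h4
      exact Subtype.ext h5
    rw [h1, h2]
    exact Nat.mul_le_mul_left _ h3
  · rw [Subgroup.orderOf_coe]; exact hyodd
  · rintro _ ⟨x, hx, rfl⟩
    exact ⟨y⁻¹ * x * y, hyP x hx, rfl⟩
  · -- `y` centralises `V ∩ C(u)`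
    intro v hv hvu
    set v' : H := ⟨v, (hHc v).mpr hvu⟩ with hv'
    have h1 : (y * v' * y⁻¹ : H) = v' := by
      have h2 : π (y * v' * y⁻¹) = π v' := by
        have h3 : Commute (π v') (π y) := by
          rw [hπy]
          exact (hVc v' hv q₀ hq₀).mul_right (hVy v' hv)
        rw [map_mul, map_mul, map_inv, ← h3.eq]; group
      have h3 : ((y * v' * y⁻¹ * v'⁻¹ : H) : G) ∈ V := by
        show (y : G) * v * (y : G)⁻¹ * v⁻¹ ∈ V
        exact mul_mem (conj_mem_V hV hyaa hv) (inv_mem hv)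
      have h4 : π (y * v' * y⁻¹ * v'⁻¹) = 1 := by
        rw [map_mul, h2, map_inv, mul_inv_cancel]
      -- an element of `V` in the kernel is trivial
      have h5 : ((y * v' * y⁻¹ * v'⁻¹ : H) : G) = 1 := by
        rcases (hV _).mp h3 with h6 | h6
        · exact h6
        · exact absurd (h.uniq h6.1 (hker _ h4).2 (hker _ h4).1) hba
      have h6 : (y * v' * y⁻¹ * v'⁻¹ : H) = 1 := Subtype.ext h5
      exact mul_inv_eq_one.mp h6
    have h4 : (y : G) * v * (y : G)⁻¹ = v := congrArg Subtype.val h1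
    exact mul_inv_eq_iff_eq_mul.mp h4
  · -- generation
    rintro _ ⟨p, hp, rfl⟩
    obtain ⟨pb, hpb, w, hw, hpe⟩ := hgen (π p) (hPQ p hp)
    have hpb' : pb ∈ P.map π := by rw [hPπ]; exact hpb
    obtain ⟨p', hp', rfl⟩ := hpb'
    obtain ⟨c, hc, hce⟩ := hcomm (π p') hpb q₀ hq₀
    -- `[p', y] = [p', yb] * [p', q₀]`
    have h1 : (π p')⁻¹ * ((q₀ * yb)⁻¹ * π p' * (q₀ * yb)) =
        ((π p')⁻¹ * (yb⁻¹ * π p' * yb)) * π c := by
      have h2 : yb⁻¹ * π c * yb = π c := by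
        rw [mul_assoc, (hVy c hc).eq]; group
      calc (π p')⁻¹ * ((q₀ * yb)⁻¹ * π p' * (q₀ * yb))
          = ((π p')⁻¹ * (yb⁻¹ * π p' * yb)) *
              (yb⁻¹ * ((π p')⁻¹ * q₀⁻¹ * π p' * q₀) * yb) := by group
        _ = _ := by rw [hce, h2]
    refine ⟨p', ⟨p', hp', rfl⟩, (c⁻¹ * w : H), ?_,
      ((p'⁻¹ * (y⁻¹ * p' * y)) * (c⁻¹ * w))⁻¹ * p, ?_, ?_, ?_⟩
    · exact mul_mem (inv_mem hc) hw
    · refine ⟨((p'⁻¹ * (y⁻¹ * p' * y)) * (c⁻¹ * w))⁻¹ * p, ?_, rfl⟩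
      show π _ = 1
      rw [map_mul, map_inv, inv_mul_eq_one, map_mul, map_mul, map_mul, map_mul, map_inv, map_inv,
        hπy, h1, hpe, map_mul, map_inv]
      group
    · exact hHu _
    · simp [mul_assoc]
  · -- squares
    rintro _ ⟨x, hx, rfl⟩
    obtain ⟨v, hv, hve⟩ := hsq (π x) (hPQ x hx)
    refine ⟨v, hv, (v⁻¹ * (x * x) : H), ⟨v⁻¹ * (x * x), ?_, rfl⟩, hHu v, ?_⟩
    · show π _ = 1
      rw [map_mul, map_mul, map_inv, hve, inv_mul_cancel]
    · simp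
  · obtain ⟨x, hx, hx2⟩ := hnsq
    have hx' : x ∈ P.map π := by rw [hPπ]; exact hx
    obtain ⟨x, hxP, rfl⟩ := hx'
    refine ⟨x, ⟨x, hxP, rfl⟩, ?_⟩
    rintro ⟨k, hk, hke⟩
    apply hx2
    have h1 : k = x * x := Subtype.ext hke
    rw [← map_mul, ← h1]
    exact hk

end Cfsg.Agent.AschCrit.CommTwoLift
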