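import Mathlib
import Cfsg.Agent.AschCrit.Closed
import Cfsg.Agent.TwoFusion.PResidual

/-!
# Aschbacher's criterion: transfer

`G` acts on `Ω` as in `Setup`; the transfer of homomorphisms from `C(d)`, `d ∈ D`, and from `M = G_a`.

* `exists_noncomm` : `G` is not commutative
* `hom_eq_one_of_simple` : a non-commutative simple group has only trivial homomorphisms to commutative groups
* `transfer_centralizer` : `ϕ : C(d) →* A`, `t ∈ C(d)` a 2-element with two fixed points: the transfer of `ϕ`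
  at `t` is `ϕ(t) ^ [G : C(d)]`
* `map_centralizer_eq_one` : if all homomorphisms `G →* A` are trivial then `ϕ(t) = 1`
* `transfer_stabilizer`, `map_stabilizer_eq_one` : the same for `M = G_a` and any 2-element of `M`
* `stabilizer_not_index_two` : `M` has no subgroup of index 2
-/

set_option autoImplicit false

open Subgroup

namespace Cfsg.Agent.AschCrit.Transfer

open Cfsg.Agent.TwoFusion.StronglyEmbeddedBasic Cfsg.Agent.AschCrit.Basic
open Cfsg.Agent.AschCrit.Basic.Setup Cfsg.Agent.AschCrit.Closed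

variable {G Ω : Type*} [Group G] [MulAction G Ω] {z : G}

/-- `G` is not commutative -/
theorem exists_noncomm (h : Setup G Ω z) : ∃ a b : G, a * b ≠ b * a := by
  by_contra hcon
  push Not at hcon
  obtain ⟨a, b, hab⟩ := h.nontriv
  obtain ⟨c, hc⟩ := h.exists_fix
  have key : ∀ x : Ω, z • x = x := by
    intro x
    obtain ⟨g, rfl⟩ := h.trans c x
    rw [smul_smul, hcon z g, mul_smul, hc]
  exact hab (h.fix_unique a b (key a) (key b))

/-- homomorphisms from a non-commutative simple group to a commutative group are trivial -/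
theorem hom_eq_one_of_simple {G : Type*} [Group G] [IsSimpleGroup G]
    (hna : ∃ a b : G, a * b ≠ b * a) {A : Type*} [CommGroup A] (f : G →* A) : f = 1 := by
  rcases (inferInstance : f.ker.Normal).eq_bot_or_eq_top with h | h
  · exfalso
    obtain ⟨a, b, hab⟩ := hna
    apply hab
    exact (MonoidHom.ker_eq_bot_iff f).mp h (by rw [map_mul, map_mul, mul_comm])
  · ext g
    have : g ∈ f.ker := by rw [h]; exact mem_top g
    exact this

/-- an element of 2-power order killed by an odd power is trivial -/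
theorem eq_one_of_pow_odd {A : Type*} [Group A] {x : A} {k n : ℕ} (hx : x ^ 2 ^ k = 1)
    (hn : Odd n) (hxn : x ^ n = 1) : x = 1 := by
  have h1 := orderOf_dvd_of_pow_eq_one hx
  have h2 := orderOf_dvd_of_pow_eq_one hxn
  have h3 : Nat.Coprime (2 ^ k) n := Nat.Coprime.pow_left k (Nat.coprime_two_left.mpr hn)
  exact orderOf_eq_one_iff.mp (Nat.eq_one_of_dvd_coprimes h3 h1 h2)

/-- the index of `C(d)` is odd for `d ∈ D` -/
theorem odd_index_centralizer [Finite G] (h : Setup G Ω z) {d : G} (hd : IsConj z d) :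
    Odd (centralizer ({d} : Set G)).index := by
  have h0 := h.odd_card_class
  have h1 : Nat.card {e : G // IsConj z e} = (centralizer ({d} : Set G)).index := by
    have h2 : Nat.card {e : G // IsConj z e} = (MulAction.orbit (ConjAct G) d).ncard := by
      rw [← Nat.card_coe_set_eq]
      apply Nat.card_congr
      refine Equiv.subtypeEquivRight (fun e => ?_)
      rw [ConjAct.mem_orbit_conjAct]
      exact ⟨fun he => he.symm.trans hd, fun he => hd.trans he.symm⟩
    rw [h2, ← MulAction.index_stabilizer, ConjAct.stabilizer_eq_centralizer]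
    rfl
  rwa [h1] at h0

/-- the index of `G_a` is odd -/
theorem odd_index_stabilizer [Finite G] (h : Setup G Ω z) (a : Ω) :
    Odd (MulAction.stabilizer G a).index := by
  have hp : MulAction.IsPretransitive G Ω := ⟨h.trans⟩
  rw [MulAction.index_stabilizer_of_transitive]
  exact h.odd_card_points

theorem pow_pow_zpowers [Finite G] {x : G} {k : ℕ} (hx : x ^ 2 ^ k = 1) : IsPGroup 2 (zpowers x) := by
  have h2 : Fact (Nat.Prime 2) := ⟨Nat.prime_two⟩
  rw [IsPGroup.iff_card]
  obtain ⟨m, -, hm⟩ := (Nat.dvd_prime_pow Nat.prime_two).mp (orderOf_dvd_of_pow_eq_one hx)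
  exact ⟨m, by rw [Nat.card_zpowers, hm]⟩

theorem smul_zpowers {x : G} {a : Ω} (hx : x • a = a) : ∀ t ∈ zpowers x, t • a = a := by
  have hle : zpowers x ≤ MulAction.stabilizer G a := by rw [zpowers_le]; exact hx
  exact fun t ht => hle ht

/-- transfer of `ϕ : C(d) →* A` at a 2-element with two fixed points -/
theorem transfer_centralizer [Finite G] (h : Setup G Ω z) {d : G} (hd : IsConj z d)
    {A : Type*} [CommGroup A] (ϕ : centralizer ({d} : Set G) →* A)
    (t : centralizer ({d} : Set G)) {k : ℕ} (ht : (t : G) ^ 2 ^ k = 1) {a b : Ω} (hab : a ≠ b)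
    (hta : (t : G) • a = a) (htb : (t : G) • b = b) :
    MonoidHom.transfer ϕ (t : G) = ϕ t ^ (centralizer ({d} : Set G)).index := by
  refine Cfsg.Agent.TwoFusion.PResidual.transfer_eq_pow_index_of_fusion ϕ t ?_
  intro j g₀ hj
  set x : G := (t : G) ^ j with hx
  have hxmem : x ∈ zpowers (t : G) := npow_mem_zpowers _ j
  have hxa : x • a = a := smul_zpowers hta x hxmem
  have hxb : x • b = b := smul_zpowers htb x hxmem
  have hx2 : x ^ 2 ^ k = 1 := by rw [hx, ← pow_mul, mul_comm, pow_mul, ht, one_pow]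
  have hxC : x ∈ centralizer ({d} : Set G) := (t ^ j).2
  have hxd : Commute d x := by
    have := (mem_centralizer_singleton_iff.mp hxC)
    exact this.symm
  have hall : ∀ s ∈ zpowers x, Commute d s := by
    rintro s ⟨i, rfl⟩
    exact hxd.zpow_right i
  have hall2 : ∀ s ∈ zpowers x, Commute d (g₀⁻¹ * s * g₀⁻¹⁻¹) := by
    rintro s ⟨i, rfl⟩
    have h1 : Commute d (g₀⁻¹ * x * g₀) := by
      have := mem_centralizer_singleton_iff.mp hj
      exact (show g₀⁻¹ * x * g₀ * d = d * (g₀⁻¹ * x * g₀) from this).symm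
    have h2 : g₀⁻¹ * x ^ i * g₀⁻¹⁻¹ = (g₀⁻¹ * x * g₀) ^ i := by
      rw [inv_inv]
      have := conj_zpow (i := i) (a := g₀⁻¹) (b := x)
      rw [inv_inv] at this
      exact this.symm
    show Commute d (g₀⁻¹ * x ^ i * g₀⁻¹⁻¹)
    rw [h2]
    exact h1.zpow_right i
  obtain ⟨m, c, hg, hm, hc⟩ := h.exists_centralizer_conj (zpowers x) (pow_pow_zpowers hx2) hab
    (smul_zpowers hxa) (smul_zpowers hxb) hd hall hall2
  have hm' : m ∈ centralizer ({d} : Set G) := mem_centralizer_singleton_iff.mpr hm.eq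
  have hcx := hc x (mem_zpowers x)
  have h3 : g₀⁻¹ * x * g₀ = m * x * m⁻¹ := by
    have h4 : g₀ = (m * c)⁻¹ := by rw [← hg, inv_inv]
    rw [hg, h4]
    calc m * c * x * (m * c)⁻¹ = m * (c * x) * c⁻¹ * m⁻¹ := by group
      _ = m * (x * c) * c⁻¹ * m⁻¹ := by rw [hcx.eq]
      _ = _ := by group
  have h5 : (⟨g₀⁻¹ * x * g₀, hj⟩ : centralizer ({d} : Set G)) =
      ⟨m, hm'⟩ * t ^ j * ⟨m, hm'⟩⁻¹ := Subtype.ext h3
  show ϕ ⟨g₀⁻¹ * x * g₀, hj⟩ = ϕ (t ^ j)
  rw [h5, map_mul, map_mul, map_inv, mul_comm (ϕ _), mul_inv_cancel_right]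

/-- if `G` has only trivial homomorphisms to `A`, then so has `C(d)` on 2-elements with two fixed
points -/
theorem map_centralizer_eq_one [Finite G] (h : Setup G Ω z) {d : G} (hd : IsConj z d)
    {A : Type*} [CommGroup A] (hG : ∀ f : G →* A, f = 1) (ϕ : centralizer ({d} : Set G) →* A)
    (t : centralizer ({d} : Set G)) {k : ℕ} (ht : (t : G) ^ 2 ^ k = 1) {a b : Ω} (hab : a ≠ b)
    (hta : (t : G) • a = a) (htb : (t : G) • b = b) : ϕ t = 1 := by
  have h1 := transfer_centralizer h hd ϕ t ht hab hta htb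
  rw [hG (MonoidHom.transfer ϕ), MonoidHom.one_apply] at h1
  refine eq_one_of_pow_odd (k := k) ?_ (odd_index_centralizer h hd) h1.symm
  rw [← map_pow]
  have : t ^ 2 ^ k = 1 := Subtype.ext ht
  rw [this, map_one]

/-- (6): a bad involution of `C(d)` lies in every normal subgroup with commutative quotient -/
theorem bad_mem_of_normal [Finite G] [IsSimpleGroup G] (h : Setup G Ω z) {d : G}
    (hd : IsConj z d) {A : Type*} [CommGroup A] (ϕ : centralizer ({d} : Set G) →* A)
    {u : G} (hu : Bad Ω u) (huC : u ∈ centralizer ({d} : Set G)) : ϕ ⟨u, huC⟩ = 1 := by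
  obtain ⟨-, a, b, hab, ha, hb⟩ := id hu
  refine map_centralizer_eq_one h hd (fun f => hom_eq_one_of_simple (exists_noncomm h) f) ϕ
    ⟨u, huC⟩ (k := 1) ?_ hab ha hb
  show u ^ 2 ^ 1 = 1
  rw [pow_one, pow_two, hu.mul_self]

/-- transfer of `ϕ : G_a →* A` at a 2-element -/
theorem transfer_stabilizer [Finite G] (h : Setup G Ω z) {a : Ω}
    {A : Type*} [CommGroup A] (ϕ : MulAction.stabilizer G a →* A)
    (t : MulAction.stabilizer G a) {k : ℕ} (ht : (t : G) ^ 2 ^ k = 1) :
    MonoidHom.transfer ϕ (t : G) = ϕ t ^ (MulAction.stabilizer G a).index := by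
  refine Cfsg.Agent.TwoFusion.PResidual.transfer_eq_pow_index_of_fusion ϕ t ?_
  intro j g₀ hj
  set x : G := (t : G) ^ j with hx
  have hxC : x ∈ MulAction.stabilizer G a := (t ^ j).2
  have hxa : x • a = a := hxC
  have hx2 : x ^ 2 ^ k = 1 := by rw [hx, ← pow_mul, mul_comm, pow_mul, ht, one_pow]
  have hall2 : ∀ s ∈ zpowers x, (g₀⁻¹ * s * g₀⁻¹⁻¹) • a = a := by
    rintro s ⟨i, rfl⟩
    have h2 : g₀⁻¹ * x ^ i * g₀⁻¹⁻¹ = (g₀⁻¹ * x * g₀) ^ i := by
      rw [inv_inv]
      have := conj_zpow (i := i) (a := g₀⁻¹) (b := x)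
      rw [inv_inv] at this
      exact this.symm
    show (g₀⁻¹ * x ^ i * g₀⁻¹⁻¹) • a = a
    rw [h2]
    exact smul_zpowers hj _ (zpow_mem_zpowers _ i)
  obtain ⟨m, c, hg, hm, hc⟩ := h.exists_stab_conj (zpowers x) (pow_pow_zpowers hx2)
    (smul_zpowers hxa) hall2
  have hm' : m ∈ MulAction.stabilizer G a := hm
  have hcx := hc x (mem_zpowers x)
  have h3 : g₀⁻¹ * x * g₀ = m * x * m⁻¹ := by
    have h4 : g₀ = (m * c)⁻¹ := by rw [← hg, inv_inv]
    rw [hg, h4]
    calc m * c * x * (m * c)⁻¹ = m * (c * x) * c⁻¹ * m⁻¹ := by group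
      _ = m * (x * c) * c⁻¹ * m⁻¹ := by rw [hcx.eq]
      _ = _ := by group
  have h5 : (⟨g₀⁻¹ * x * g₀, hj⟩ : MulAction.stabilizer G a) =
      ⟨m, hm'⟩ * t ^ j * ⟨m, hm'⟩⁻¹ := Subtype.ext h3
  show ϕ ⟨g₀⁻¹ * x * g₀, hj⟩ = ϕ (t ^ j)
  rw [h5, map_mul, map_mul, map_inv, mul_comm (ϕ _), mul_inv_cancel_right]

/-- if `G` has only trivial homomorphisms to `A`, then homomorphisms `G_a →* A` kill all 2-elements -/
theorem map_stabilizer_eq_one [Finite G] (h : Setup G Ω z) {a : Ω}
    {A : Type*} [CommGroup A] (hG : ∀ f : G →* A, f = 1) (ϕ : MulAction.stabilizer G a →* A)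
    (t : MulAction.stabilizer G a) {k : ℕ} (ht : (t : G) ^ 2 ^ k = 1) : ϕ t = 1 := by
  have h1 := transfer_stabilizer h ϕ t ht
  rw [hG (MonoidHom.transfer ϕ), MonoidHom.one_apply] at h1
  refine eq_one_of_pow_odd (k := k) ?_ (odd_index_stabilizer h a) h1.symm
  rw [← map_pow]
  have : t ^ 2 ^ k = 1 := Subtype.ext ht
  rw [this, map_one]

/-- `G` simple: homomorphisms from `G_a` to a commutative 2-group are trivial (`M = O²(M)`) -/
theorem hom_stabilizer_eq_one [Finite G] [IsSimpleGroup G] (h : Setup G Ω z) {a : Ω}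
    {A : Type*} [CommGroup A] (hA : IsPGroup 2 A) (ϕ : MulAction.stabilizer G a →* A) : ϕ = 1 := by
  have h2 : Fact (Nat.Prime 2) := ⟨Nat.prime_two⟩
  ext t
  obtain ⟨α, β, hαβ, ⟨k, hk⟩, hβ⟩ :=
    Cfsg.Agent.TwoFusion.PResidual.exists_pPart_mul_pPrimePart 2 t
  have h1 : ϕ (t ^ α) = 1 := by
    refine map_stabilizer_eq_one h (fun f => hom_eq_one_of_simple (exists_noncomm h) f) ϕ
      (t ^ α) (k := k) ?_
    have := pow_orderOf_eq_one (t ^ α)
    rw [hk] at this
    exact congrArg Subtype.val this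
  have h3 : ϕ (t ^ β) = 1 := by
    obtain ⟨j, hj⟩ := hA (ϕ (t ^ β))
    refine eq_one_of_pow_odd (n := orderOf (t ^ β)) hj (Nat.coprime_two_right.mp hβ) ?_
    rw [← map_pow, pow_orderOf_eq_one, map_one]
  have h4 : ϕ t = ϕ (t ^ α) * ϕ (t ^ β) := by rw [← map_mul, ← hαβ]
  rw [h4, h1, h3, one_mul, MonoidHom.one_apply]

/-- `G` simple: a normal subgroup `N` of `G_a` with commutative 2-group quotient is `G_a` -/
theorem eq_top_of_quotient [Finite G] [IsSimpleGroup G] (h : Setup G Ω z) {a : Ω}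
    (N : Subgroup (MulAction.stabilizer G a)) [N.Normal]
    (hc : ∀ x y : MulAction.stabilizer G a, x * y * x⁻¹ * y⁻¹ ∈ N)
    (hN : ∀ x : MulAction.stabilizer G a, ∃ k : ℕ, x ^ 2 ^ k ∈ N) : N = ⊤ := by
  let _ : CommGroup (MulAction.stabilizer G a ⧸ N) :=
    { (inferInstance : Group (MulAction.stabilizer G a ⧸ N)) with
      mul_comm := by
        intro x y
        obtain ⟨x, rfl⟩ := QuotientGroup.mk_surjective x
        obtain ⟨y, rfl⟩ := QuotientGroup.mk_surjective y
        show ((x * y : MulAction.stabilizer G a) : MulAction.stabilizer G a ⧸ N) =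
          ((y * x : MulAction.stabilizer G a) : MulAction.stabilizer G a ⧸ N)
        rw [QuotientGroup.eq]
        have := hc y⁻¹ x⁻¹
        have e1 : (x * y)⁻¹ * (y * x) = y⁻¹ * x⁻¹ * y⁻¹⁻¹ * x⁻¹⁻¹ := by group
        rw [e1]; exact this }
  have hA : IsPGroup 2 (MulAction.stabilizer G a ⧸ N) := by
    intro x
    obtain ⟨x, rfl⟩ := QuotientGroup.mk_surjective x
    obtain ⟨k, hk⟩ := hN x
    exact ⟨k, by rw [← QuotientGroup.mk_pow]; exact (QuotientGroup.eq_one_iff _).mpr hk⟩
  have h1 := hom_stabilizer_eq_one h hA (QuotientGroup.mk' N)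
  rw [eq_top_iff]
  intro x _
  rw [← QuotientGroup.eq_one_iff]
  exact DFunLike.congr_fun h1 x

/-- `G` simple: `G_a` has no subgroup of index 2 -/
theorem stabilizer_index_ne_two [Finite G] [IsSimpleGroup G] (h : Setup G Ω z) {a : Ω}
    (N : Subgroup (MulAction.stabilizer G a)) : N.index ≠ 2 := by
  intro h2
  have hn : N.Normal := normal_of_index_eq_two h2
  have hsq : ∀ x : MulAction.stabilizer G a, x * x ∈ N := by
    intro x
    have := Subgroup.mul_self_mem_of_index_two h2 x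
    exact this
  have hN : N = ⊤ := by
    refine eq_top_of_quotient h N ?_ (fun x => ⟨1, by rw [pow_one, pow_two]; exact hsq x⟩)
    intro x y
    have h3 : x * y * x⁻¹ * y⁻¹ =
        ((x * y) * (x * y)) * (y⁻¹ * (x * x)⁻¹ * y⁻¹⁻¹) * (y * y)⁻¹ := by group
    rw [h3]
    exact N.mul_mem (N.mul_mem (hsq _) (hn.conj_mem _ (N.inv_mem (hsq x)) y⁻¹))
      (N.inv_mem (hsq y))
  rw [hN, index_top] at h2
  exact absurd h2 (by norm_num)

end Cfsg.Agent.AschCrit.Transfer
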