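import Mathlib
import Cfsg.Agent.AschCrit.IsolatedSwap
import Cfsg.Agent.AschCrit.Transfer
import Cfsg.Agent.AschCrit.TransCyclic

/-!
# Aschbacher's criterion, commutative case: the action on `V = D_a ∪ {1}` and the numeric types

`V` is a subgroup with `V = D_a ∪ {1}`.

* `act` : the action of `G_a` on `V`; `card_V` : `|V| = |D_a| + 1`
* `card_eq_or_sq` : an involution `u ∈ G_{ab}` centralises `V` (then `|D_a ∩ C(u)| = |D_a|`), or
  `|V| = (|D_a ∩ C(u)| + 1)²`
* `Types`, `types_of_count` : the arithmetic of `(n - f) m = f (f - 1) c²`, `f = q ^ i + 1`, `i ≤ 3`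
* `regular_false` : `V` is not regular on `Ω \ {a}` if `G` is simple and some involution of `G_{ab}`
  acts nontrivially on `V` (type `n = τ + 1`)
-/

set_option autoImplicit false

open Subgroup

namespace Cfsg.Agent.AschCrit.CommTypes

open Cfsg.Agent.TwoFusion.StronglyEmbeddedBasic Cfsg.Agent.AschCrit.Basic
open Cfsg.Agent.AschCrit.Basic.Setup Cfsg.Agent.AschCrit.Closed Cfsg.Agent.AschCrit.IsolatedSwap
open Cfsg.Agent.AschCrit.TransCyclic

variable {G Ω : Type*} [Group G] [MulAction G Ω] {z : G}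

/-! ### The action on `V` -/

section Act

variable {a : Ω} {V : Subgroup G}

theorem stab_le_normalizer (hV : ∀ x, x ∈ V ↔ x = 1 ∨ x ∈ At z a) :
    MulAction.stabilizer G a ≤ normalizer (V : Set G) := by
  rw [le_normalizer_iff]
  intro g hg x hx
  rw [hV] at hx ⊢
  rcases hx with rfl | hx
  · left; group
  · right
    have h1 := conj_mem_At g hx
    rwa [show g • a = a from hg] at h1

/-- the action of `G_a` on `V` by conjugation -/
def act (hV : ∀ x, x ∈ V ↔ x = 1 ∨ x ∈ At z a) : MulAction.stabilizer G a →* MulAut V :=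
  V.normalizerMonoidHom.comp (Subgroup.inclusion (stab_le_normalizer hV))

theorem act_apply (hV : ∀ x, x ∈ V ↔ x = 1 ∨ x ∈ At z a) (g : MulAction.stabilizer G a) (x : V) :
    ((act hV g x : V) : G) = g * x * (g : G)⁻¹ := rfl

theorem mul_self_V (h : Setup G Ω z) (hV : ∀ x, x ∈ V ↔ x = 1 ∨ x ∈ At z a) (x : V) :
    x * x = 1 := by
  apply Subtype.ext
  show (x : G) * x = 1
  rcases (hV x).mp x.2 with h1 | h1
  · rw [h1, one_mul]
  · exact h.mul_self h1.1

theorem not_one_mem_At (h : Setup G Ω z) (a : Ω) : (1 : G) ∉ At z a := by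
  intro h1
  have := h.orderOf_eq h1.1
  rw [orderOf_one] at this
  exact absurd this (by norm_num)

theorem card_insert_one [Finite G] (S : Set G) (h1 : (1 : G) ∉ S) {H : Subgroup G}
    (hH : ∀ x, x ∈ H ↔ x = 1 ∨ x ∈ S) : Nat.card H = Nat.card S + 1 := by
  have e : (H : Set G) = insert 1 S := by
    ext y
    rw [SetLike.mem_coe, hH, Set.mem_insert_iff]
  have e2 : Nat.card H = Nat.card (insert 1 S : Set G) := by
    rw [← e]; rfl
  rw [e2, Nat.card_coe_set_eq, Nat.card_coe_set_eq,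
    Set.ncard_insert_of_notMem h1 (Set.toFinite _)]

theorem card_V [Finite G] (h : Setup G Ω z) (hV : ∀ x, x ∈ V ↔ x = 1 ∨ x ∈ At z a) :
    Nat.card V = Nat.card (At z a) + 1 := card_insert_one _ (not_one_mem_At h a) hV

/-- `|C_V(u)| = |D_a ∩ C(u)| + 1` -/
theorem card_CV [Finite G] (h : Setup G Ω z) (hV : ∀ x, x ∈ V ↔ x = 1 ∨ x ∈ At z a) (u : G) :
    Nat.card (V ⊓ centralizer {u} : Subgroup G) = Nat.card (AtC z u a) + 1 := by
  refine card_insert_one _ (fun h1 => not_one_mem_At h a h1.1) ?_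
  intro x
  rw [mem_inf, hV, mem_centralizer_singleton_iff]
  constructor
  · rintro ⟨rfl | h1, h2⟩
    · exact Or.inl rfl
    · exact Or.inr ⟨h1, h2⟩
  · rintro (rfl | ⟨h1, h2⟩)
    · exact ⟨Or.inl rfl, by rw [one_mul, mul_one]⟩
    · exact ⟨Or.inr h1, h2⟩

/-- `|C_V(u)|` in terms of the fixed points of `act u` -/
theorem card_fix_act (hV : ∀ x, x ∈ V ↔ x = 1 ∨ x ∈ At z a) (u : MulAction.stabilizer G a) :
    Nat.card (fixSub (act hV u)) = Nat.card (V ⊓ centralizer {(u : G)} : Subgroup G) := by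
  refine Nat.card_congr
    { toFun := fun x => ⟨x.1.1, x.1.2, ?_⟩
      invFun := fun x => ⟨⟨x.1, x.2.1⟩, ?_⟩
      left_inv := fun x => rfl
      right_inv := fun x => rfl }
  · have h1 : (u : G) * x.1.1 * (u : G)⁻¹ = x.1.1 := congrArg Subtype.val x.2
    refine mem_centralizer_singleton_iff.mpr ?_
    conv_lhs => rw [← h1]
    group
  · apply Subtype.ext
    rw [act_apply]
    show (u : G) * x.1 * (u : G)⁻¹ = x.1
    rw [← mem_centralizer_singleton_iff.mp x.2.2]
    group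

theorem act_eq_one_iff (hV : ∀ x, x ∈ V ↔ x = 1 ∨ x ∈ At z a) (u : MulAction.stabilizer G a) :
    act hV u = 1 ↔ ∀ x ∈ V, Commute x (u : G) := by
  constructor
  · intro h1 x hx
    have h2 : (u : G) * x * (u : G)⁻¹ = x :=
      congrArg (fun φ : MulAut V => ((φ ⟨x, hx⟩ : V) : G)) h1
    show x * u = u * x
    conv_lhs => rw [← h2]
    group
  · intro h1
    ext x
    rw [act_apply]
    show (u : G) * x.1 * (u : G)⁻¹ = x.1
    rw [← (h1 x.1 x.2).eq]
    group

/-- `oc a b` acts transitively on `V \ {1}` and commutes with `T` on fixed points of `T` -/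
theorem exists_act_map [Finite G] (h : Setup G Ω z) (hV : ∀ x, x ∈ V ↔ x = 1 ∨ x ∈ At z a)
    {b : Ω} (hab : a ≠ b) {x y : V} (hx : x ≠ 1) (hy : y ≠ 1) :
    ∃ n : MulAction.stabilizer G a, (n : G) ∈ oc G a b ∧ act hV n x = y := by
  have hx' : (x : G) ∈ At z a := ((hV x).mp x.2).resolve_left (fun h1 => hx (Subtype.ext h1))
  have hy' : (y : G) ∈ At z a := ((hV y).mp y.2).resolve_left (fun h1 => hy (Subtype.ext h1))
  obtain ⟨n, hn, hnx⟩ := exists_conj_at_oc h hab hx' hy'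
  exact ⟨⟨n, smul_left_of_mem_oc hn⟩, hn, Subtype.ext hnx⟩

/-- an involution `u ∈ G_{ab}` centralises `V` or `|V| = |C_V(u)|²` -/
theorem card_eq_or_sq [Finite G] (h : Setup G Ω z) {b : Ω} (hab : a ≠ b)
    (hV : ∀ x, x ∈ V ↔ x = 1 ∨ x ∈ At z a) {u : G} (hu : u * u = 1) (ha : u • a = a)
    (hb : u • b = b) :
    (∀ x ∈ V, Commute x u) ∨ Nat.card V = (Nat.card (AtC z u a) + 1) ^ 2 := by
  let v : MulAction.stabilizer G a := ⟨u, ha⟩
  by_cases hv1 : act hV v = 1
  · exact Or.inl ((act_eq_one_iff hV v).mp hv1)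
  · right
    rw [← card_CV h hV u]
    have h1 := card_fix_act hV v
    rw [← h1]
    refine card_sq_of_trans (mul_self_V h hV) ?_ hv1 ?_
    · rw [← map_mul]
      have : v * v = 1 := Subtype.ext hu
      rw [this, map_one]
    · intro x y hx hy hux huy
      have hx' : (x : G) ∈ At z a := ((hV x).mp x.2).resolve_left (fun h1 => hx (Subtype.ext h1))
      have hy' : (y : G) ∈ At z a := ((hV y).mp y.2).resolve_left (fun h1 => hy (Subtype.ext h1))
      have hcx : Commute (x : G) u := by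
        have h2 : u * x * u⁻¹ = (x : G) := congrArg Subtype.val hux
        show (x : G) * u = u * x
        conv_lhs => rw [← h2]
        group
      have hcy : Commute (y : G) u := by
        have h2 : u * y * u⁻¹ = (y : G) := congrArg Subtype.val huy
        show (y : G) * u = u * y
        conv_lhs => rw [← h2]
        group
      have hT : ∀ t ∈ zpowers u, t • a = a ∧ t • b = b := by
        intro t ht
        have hle : zpowers u ≤ stab2 G a b := by rw [zpowers_le]; exact ⟨ha, hb⟩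
        exact hle ht
      obtain ⟨n, hn, hnu, hnx⟩ := exists_centralizer_conj_at h hab (zpowers u)
        (isPGroup_zpowers hu) (fun t ht => (hT t ht).1) (fun t ht => (hT t ht).2) hx' hy'
        (fun t ht => by
          obtain ⟨k, rfl⟩ := ht
          exact hcx.zpow_right k)
        (fun t ht => by
          obtain ⟨k, rfl⟩ := ht
          exact hcy.zpow_right k)
      refine ⟨act hV ⟨n, smul_left_of_mem_oc hn⟩, ?_, Subtype.ext hnx⟩
      rw [← map_mul, ← map_mul]
      congr 1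
      exact Subtype.ext (hnu u (mem_zpowers u)).eq

/-- if `u` centralises `V` then `|D_a ∩ C(u)| = |D_a|` -/
theorem card_atC_of_commute [Finite G] (h : Setup G Ω z) (hV : ∀ x, x ∈ V ↔ x = 1 ∨ x ∈ At z a)
    {u : G} (hu : ∀ x ∈ V, Commute x u) : Nat.card (AtC z u a) = Nat.card (At z a) := by
  have h1 := card_CV h hV u
  have h2 := card_V h hV
  have h3 : V ⊓ centralizer {u} = V := by
    rw [inf_eq_left]
    intro x hx
    exact mem_centralizer_singleton_iff.mpr (hu x hx).eq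
  rw [h3, h2] at h1
  omega

end Act

/-! ### The numeric types -/

/-- The five numeric types: `n = |Ω|`, `τ = |V|`, `q = |C_V(u)|`, `|Fix u| = q ^ i + 1`. -/
def NumType (n τ q i : ℕ) : Prop :=
  (τ = q ^ 2 ∧ i = 1 ∧ n = q ^ 2 + 1) ∨
  (τ = q ^ 2 ∧ i = 3 ∧ n = q ^ 4 * ((q - 1) ^ 2 + 1) + 1) ∨
  (τ = q ∧ i = 1 ∧ n = q ^ 3 + 1) ∨
  (τ = q ∧ i = 2 ∧ n = q ^ 3 * (q * (q - 1) + 1) + 1) ∨
  (τ = q ∧ i = 3 ∧ n = q ^ 4 * (q ^ 2 * (q - 1) + 1) + 1)

/-- the arithmetic of the counting formula -/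
theorem numType_of_count {n τ q i : ℕ} (hq : 2 ≤ q) (hqe : Even q) (hi1 : 1 ≤ i) (hi3 : i ≤ 3)
    (hτ : τ = q ∨ τ = q ^ 2) (hn : q ^ i + 1 ≤ n)
    (hcount : (n - (q ^ i + 1)) * (τ - 1) = (q ^ i + 1) * ((q ^ i + 1) - 1) * (q - 1) ^ 2) :
    NumType n τ q i := by
  obtain ⟨k, hk⟩ := Nat.exists_eq_add_of_le hn
  obtain ⟨p, rfl⟩ : ∃ p, q = p + 1 := ⟨q - 1, by omega⟩
  have hp : 0 < p := by omega
  rw [hk, Nat.add_sub_cancel_left, Nat.add_sub_cancel, Nat.add_sub_cancel] at hcount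
  rw [hk]
  rcases hτ with rfl | rfl
  · -- `τ = q`
    rw [Nat.add_sub_cancel] at hcount
    have h1 : k = ((p + 1) ^ i + 1) * (p + 1) ^ i * p := by
      refine Nat.eq_of_mul_eq_mul_right hp ?_
      rw [hcount]; ring
    have hi : i = 1 ∨ i = 2 ∨ i = 3 := by omega
    rcases hi with rfl | rfl | rfl
    · right; right; left
      refine ⟨rfl, rfl, ?_⟩
      rw [h1]; ring
    · right; right; right; left
      refine ⟨rfl, rfl, ?_⟩
      rw [h1, Nat.add_sub_cancel]; ring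
    · right; right; right; right
      refine ⟨rfl, rfl, ?_⟩
      rw [h1, Nat.add_sub_cancel]; ring
  · -- `τ = q²`
    have h0 : (p + 1) ^ 2 - 1 = (p + 2) * p := by
      have : (p + 1) ^ 2 = (p + 2) * p + 1 := by ring
      omega
    rw [h0] at hcount
    have h1 : k * (p + 2) = ((p + 1) ^ i + 1) * (p + 1) ^ i * p := by
      refine Nat.eq_of_mul_eq_mul_right hp ?_
      calc k * (p + 2) * p = k * ((p + 2) * p) := by ring
        _ = _ := by rw [hcount]; ring
    have hi : i = 1 ∨ i = 2 ∨ i = 3 := by omega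
    rcases hi with rfl | rfl | rfl
    · left
      refine ⟨rfl, rfl, ?_⟩
      have h2 : k = (p + 1) * p := by
        refine Nat.eq_of_mul_eq_mul_right (show 0 < p + 2 by omega) ?_
        rw [h1]; ring
      rw [h2]; ring
    · exfalso
      -- `q + 1` divides `4`
      have h2 : (p + 2) ∣ 4 := by
        have h3 : (p + 2) ∣ ((p + 1) ^ 2 + 1) * (p + 1) ^ 2 * p := ⟨k, by rw [← h1]; ring⟩
        have h4 : ((p + 1) ^ 2 + 1) * (p + 1) ^ 2 * p + 4 =
            (p + 2) * (p ^ 3 * (p + 2) + 3 * p ^ 2 + 2) := by ring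
        exact (Nat.dvd_add_right h3).mp ⟨_, h4⟩
      obtain ⟨r, hr⟩ := hqe
      have h3 : p + 2 ≤ 4 := Nat.le_of_dvd (by norm_num) h2
      have h4 : p = 1 ∨ p = 2 := by omega
      rcases h4 with rfl | rfl
      · exact absurd h2 (by norm_num)
      · omega
    · right; left
      refine ⟨rfl, rfl, ?_⟩
      have h2 : k = (p + 1) ^ 3 * p * ((p + 1) * p + 1) := by
        refine Nat.eq_of_mul_eq_mul_right (show 0 < p + 2 by omega) ?_
        rw [h1]; ring
      rw [h2, Nat.add_sub_cancel]; ring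

theorem NumType.cube_le {n τ q i : ℕ} (hq : 2 ≤ q) (h : NumType n τ q i) (hτ : τ = q) :
    τ ^ 3 + 1 ≤ n := by
  have h1 : q ^ 2 ≠ q := by nlinarith
  have h3 : 0 < q ^ 3 := by positivity
  have h4 : 0 < q ^ 4 := by positivity
  have h5 : q ^ 4 = q ^ 3 * q := by ring
  rcases h with ⟨h2, -⟩ | ⟨h2, -⟩ | ⟨h2, -, h⟩ | ⟨h2, -, h⟩ | ⟨h2, -, h⟩
  · exact absurd (h2.symm.trans hτ) h1
  · exact absurd (h2.symm.trans hτ) h1
  · rw [h, hτ]
  · rw [h, hτ]
    have : q ^ 3 * 1 ≤ q ^ 3 * (q * (q - 1) + 1) := Nat.mul_le_mul_left _ (by omega)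
    omega
  · rw [h, hτ]
    have : q ^ 4 * 1 ≤ q ^ 4 * (q ^ 2 * (q - 1) + 1) := Nat.mul_le_mul_left _ (by omega)
    nlinarith

theorem NumType.lt_cube {n τ q i : ℕ} (hq : 2 ≤ q) (h : NumType n τ q i) (hτ : τ = q ^ 2) :
    n < τ ^ 3 + 1 := by
  have h1 : q ^ 2 ≠ q := by nlinarith
  obtain ⟨p, rfl⟩ : ∃ p, q = p + 1 := ⟨q - 1, by omega⟩
  have hp : 0 < p := by omega
  rcases h with ⟨-, -, h⟩ | ⟨-, -, h⟩ | ⟨h2, -⟩ | ⟨h2, -⟩ | ⟨h2, -⟩
  · rw [h, hτ]
    have h3 : ((p + 1) ^ 2) ^ 3 = (p + 1) ^ 2 * ((p + 1) ^ 2) ^ 2 := by ring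
    have h4 : 1 < ((p + 1) ^ 2) ^ 2 := by nlinarith [sq_nonneg p]
    have h5 : 0 < (p + 1) ^ 2 := by positivity
    nlinarith
  · rw [h, hτ, Nat.add_sub_cancel]
    have h3 : ((p + 1) ^ 2) ^ 3 = (p + 1) ^ 4 * (p + 1) ^ 2 := by ring
    rw [h3]
    have h4 : p ^ 2 + 1 < (p + 1) ^ 2 := by nlinarith
    have h5 : 0 < (p + 1) ^ 4 := by positivity
    have h6 := Nat.mul_lt_mul_of_pos_left h4 h5
    omega
  · exact absurd (hτ.symm.trans h2) h1
  · exact absurd (hτ.symm.trans h2) h1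
  · exact absurd (hτ.symm.trans h2) h1

/-- all bad involutions have the same type -/
theorem NumType.unique {n τ q i q' i' : ℕ} (hq : 2 ≤ q) (hq' : 2 ≤ q') (h : NumType n τ q i)
    (h' : NumType n τ q' i') : q = q' ∧ i = i' := by
  have hτ : τ = q ∨ τ = q ^ 2 := by
    rcases h with ⟨h1, -⟩ | ⟨h1, -⟩ | ⟨h1, -⟩ | ⟨h1, -⟩ | ⟨h1, -⟩
    · exact Or.inr h1
    · exact Or.inr h1
    · exact Or.inl h1
    · exact Or.inl h1
    · exact Or.inl h1
  have hτ' : τ = q' ∨ τ = q' ^ 2 := by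
    rcases h' with ⟨h1, -⟩ | ⟨h1, -⟩ | ⟨h1, -⟩ | ⟨h1, -⟩ | ⟨h1, -⟩
    · exact Or.inr h1
    · exact Or.inr h1
    · exact Or.inl h1
    · exact Or.inl h1
    · exact Or.inl h1
  have hlt : ∀ q : ℕ, 2 ≤ q → q ^ 2 ≠ q := fun q hq => by nlinarith
  have key : ∀ {n τ q i i' : ℕ}, 2 ≤ q → NumType n τ q i → NumType n τ q i' → i = i' := by
    intro n τ q i i' hq h h'
    have h2 := hlt q hq
    have hq0 : 0 < q := by omega
    obtain ⟨p, rfl⟩ : ∃ p, q = p + 1 := ⟨q - 1, by omega⟩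
    have hp : 0 < p := by omega
    have e2 : 0 < (p + 1) ^ 2 := by positivity
    have e3 : 0 < (p + 1) ^ 3 := by positivity
    have e4 : 0 < (p + 1) ^ 4 := by positivity
    have hs : (p + 1) ^ 2 < (p + 1) ^ 4 * (p ^ 2 + 1) := by
      have : (p + 1) ^ 4 * (p ^ 2 + 1) = (p + 1) ^ 2 * ((p + 1) ^ 2 * (p ^ 2 + 1)) := by ring
      rw [this]
      have h5 : 1 < (p + 1) ^ 2 * (p ^ 2 + 1) := by nlinarith
      nlinarith
    have h34 : (p + 1) ^ 3 < (p + 1) ^ 3 * ((p + 1) * p + 1) := by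
      have h5 : 1 < (p + 1) * p + 1 := by nlinarith
      nlinarith
    have h45 : (p + 1) ^ 3 * ((p + 1) * p + 1) < (p + 1) ^ 4 * ((p + 1) ^ 2 * p + 1) := by
      have : (p + 1) ^ 4 * ((p + 1) ^ 2 * p + 1) =
        (p + 1) ^ 3 * ((p + 1) * ((p + 1) ^ 2 * p + 1)) := by ring
      rw [this]
      have h5 : (p + 1) * p + 1 < (p + 1) * ((p + 1) ^ 2 * p + 1) := by
        nlinarith [Nat.mul_pos hp hp, Nat.mul_pos (Nat.mul_pos hp hp) hp]
      exact Nat.mul_lt_mul_of_pos_left h5 e3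
    rcases h with ⟨a1, b1, c1⟩ | ⟨a1, b1, c1⟩ | ⟨a1, b1, c1⟩ | ⟨a1, b1, c1⟩ | ⟨a1, b1, c1⟩ <;>
    rcases h' with ⟨a2, b2, c2⟩ | ⟨a2, b2, c2⟩ | ⟨a2, b2, c2⟩ | ⟨a2, b2, c2⟩ | ⟨a2, b2, c2⟩ <;>
    first
      | exact b1.trans b2.symm
      | (exfalso; exact h2 (a1.symm.trans a2))
      | (exfalso; exact h2 (a2.symm.trans a1))
      | (exfalso; rw [c1] at c2; simp only [Nat.add_sub_cancel] at c2; omega)
  rcases hτ with h1 | h1 <;> rcases hτ' with h2 | h2
  · have hqq : q = q' := h1.symm.trans h2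
    subst hqq
    exact ⟨rfl, key hq h h'⟩
  · exact absurd (h.cube_le hq h1) (not_le.mpr (h'.lt_cube hq' h2))
  · exact absurd (h'.cube_le hq' h2) (not_le.mpr (h.lt_cube hq h1))
  · have hqq : q = q' := Nat.pow_left_injective (n := 2) (by norm_num) (h1.symm.trans h2)
    subst hqq
    exact ⟨rfl, key hq h h'⟩

/-! ### The type `n = τ + 1` -/

/-- the group `V` is transitive on `Ω \ {a}` if `n = |V| + 1` -/
theorem exists_smul_eq [Finite G] (h : Setup G Ω z) {a : Ω} {V : Subgroup G}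
    (hV : ∀ x, x ∈ V ↔ x = 1 ∨ x ∈ At z a) (hn : Nat.card Ω = Nat.card V + 1) {b c : Ω}
    (hab : a ≠ b) (hac : a ≠ c) : ∃ x ∈ V, x • b = c := by
  have := h.finite_points
  have hfix : ∀ x ∈ V, x • a = a := by
    intro x hx
    rcases (hV x).mp hx with rfl | h1
    · exact one_smul _ _
    · exact h1.2
  let F : V → {c : Ω // c ≠ a} := fun x => ⟨x.1 • b, fun hh => hab (by
    have h1 := hfix x.1 x.2
    exact (smul_left_cancel x.1 (hh.trans h1.symm)).symm)⟩
  have hinj : Function.Injective F := by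
    rintro ⟨x, hx⟩ ⟨y, hy⟩ hxy
    have hxy' : x • b = y • b := congrArg Subtype.val hxy
    have h1 : (y⁻¹ * x) • b = b := by rw [mul_smul, hxy', inv_smul_smul]
    rcases (hV _).mp (mul_mem (inv_mem hy) hx) with h2 | h2
    · exact Subtype.ext (inv_mul_eq_one.mp h2).symm
    · exact absurd (h.uniq h2.1 h2.2 h1) hab
  have hcard : Nat.card {c : Ω // c ≠ a} = Nat.card V := by
    classical
    have : Fintype Ω := Fintype.ofFinite Ω
    have h1 : Nat.card {c : Ω // c ≠ a} = Nat.card Ω - 1 := by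
      rw [Nat.card_eq_fintype_card, Nat.card_eq_fintype_card]
      have := Fintype.card_subtype_compl (fun c : Ω => c = a)
      rw [Fintype.card_subtype_eq] at this
      exact this
    rw [h1, hn, Nat.add_sub_cancel]
  have hbij : Function.Bijective F := by
    have : Fintype V := Fintype.ofFinite _
    have : Fintype {c : Ω // c ≠ a} := Fintype.ofFinite _
    rw [Fintype.bijective_iff_injective_and_card]
    refine ⟨hinj, ?_⟩
    rw [← Nat.card_eq_fintype_card, ← Nat.card_eq_fintype_card, hcard]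
  obtain ⟨x, hx⟩ := hbij.2 ⟨c, Ne.symm hac⟩
  exact ⟨x.1, x.2, congrArg Subtype.val hx⟩

/-- type `n = τ + 1` does not occur: `V` regular on `Ω \ {a}` and `u ∈ G_{ab}` an involution acting
nontrivially on `V` -/
theorem regular_false [Finite G] [IsSimpleGroup G] (h : Setup G Ω z) {a b : Ω} (hab : a ≠ b)
    {V : Subgroup G} (hV : ∀ x, x ∈ V ↔ x = 1 ∨ x ∈ At z a) (hn : Nat.card Ω = Nat.card V + 1)
    {u : G} (hu : u * u = 1) (ha : u • a = a) (hne : ¬ ∀ x ∈ V, Commute x u) : False := by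
  have hf2 : Fact (Nat.Prime 2) := ⟨Nat.prime_two⟩
  set M := MulAction.stabilizer G a with hM
  set Q := (act hV).range with hQ
  -- elements of `Q` come from `G_{ab}`
  have hQab : ∀ q ∈ Q, ∃ g : M, (g : G) ∈ stab2 G a b ∧ act hV g = q := by
    rintro _ ⟨g, rfl⟩
    have hga : (g : G) • a = a := g.2
    have hac : a ≠ (g : G) • b := fun hh => hab (smul_left_cancel (g : G) (hga.trans hh))
    obtain ⟨x, hx, hxb⟩ := exists_smul_eq h hV hn hab hac
    have hxa : x • a = a := by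
      rcases (hV x).mp hx with rfl | h1
      · exact one_smul _ _
      · exact h1.2
    let x' : M := ⟨x, hxa⟩
    refine ⟨x'⁻¹ * g, ⟨?_, ?_⟩, ?_⟩
    · exact (x'⁻¹ * g).2
    · show (x⁻¹ * (g : G)) • b = b
      rw [mul_smul, ← hxb, inv_smul_smul]
    · have h1 : act hV x' = 1 := by
        rw [act_eq_one_iff]
        intro y hy
        exact congrArg Subtype.val (comm_of_exp (mul_self_V h hV) (⟨y, hy⟩ : V) ⟨x, hx⟩)
      rw [map_mul, map_inv, h1, inv_one, one_mul]
  let X : Subgroup (MulAut V) := ((oc G a b).subgroupOf M).map (act hV)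
  have hX : Odd (Nat.card X) := by
    have h1 : Nat.card ((oc G a b).subgroupOf M) = Nat.card (oc G a b) :=
      Nat.card_congr (subgroupOfEquivOfLe (oc_le_left a b)).toEquiv
    refine (odd_oc (G := G) a b).of_dvd_nat ?_
    rw [← h1]
    exact Subgroup.card_map_dvd (H := (oc G a b).subgroupOf M) (act hV)
  have hXt : ∀ x y : V, x ≠ 1 → y ≠ 1 → ∃ g ∈ X, g x = y := by
    intro x y hx hy
    obtain ⟨n, hn, hnx⟩ := exists_act_map h hV hab hx hy
    exact ⟨act hV n, ⟨n, hn, rfl⟩, hnx⟩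
  have hQX : ∀ r ∈ Q, ∀ g ∈ X, r * g * r⁻¹ ∈ X := by
    rintro r hr _ ⟨n, hn, rfl⟩
    obtain ⟨g, hg, rfl⟩ := hQab r hr
    refine ⟨g * n * g⁻¹, ?_, by rw [map_mul, map_mul, map_inv]⟩
    have h1 := mem_normalizer_oc (a := a) (b := b) (g := (g : G)) (Or.inl hg)
    exact (mem_normalizer_iff.mp h1 (n : G)).mp hn
  obtain ⟨P⟩ : Nonempty (Sylow 2 Q) := inferInstance
  have hPc : IsCyclic P := by
    have h1 : IsCyclic ((P : Subgroup Q).map Q.subtype) := by
      refine isCyclic (mul_self_V h hV) hX hXt (P.2.map _) ?_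
      rintro _ ⟨r, hr, rfl⟩ g hg
      exact hQX r.1 r.2 g hg
    exact isCyclic_of_surjective
      ((P : Subgroup Q).equivMapOfInjective Q.subtype Q.subtype_injective).symm
      ((P : Subgroup Q).equivMapOfInjective Q.subtype Q.subtype_injective).symm.surjective
  -- `Q` has even order
  let u' : M := ⟨u, ha⟩
  have hu' : act hV u' ≠ 1 := fun hh => hne ((act_eq_one_iff hV u').mp hh)
  have huu : act hV u' * act hV u' = 1 := by
    rw [← map_mul]
    have : u' * u' = 1 := Subtype.ext hu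
    rw [this, map_one]
  have h2Q : 2 ∣ Nat.card Q := by
    have h1 : orderOf (⟨act hV u', ⟨u', rfl⟩⟩ : Q) = 2 := by
      refine orderOf_eq_prime ?_ ?_
      · rw [pow_two]; exact Subtype.ext huu
      · exact fun hh => hu' (congrArg Subtype.val hh)
    rw [← h1]
    exact orderOf_dvd_natCard _
  have hmin : (Nat.card Q).minFac = 2 := (Nat.minFac_eq_two_iff _).mpr h2Q
  have hN := hPc.normalizer_le_centralizer hmin
  -- the homomorphism
  have hcomm : ∀ x y : P, x * y = y * x := fun x y =>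
    (IsCyclic.commGroup (α := P)).mul_comm x y
  let _ : CommGroup P := { (inferInstance : Group P) with mul_comm := hcomm }
  let φ : M →* P := (MonoidHom.transferSylow P hN).comp (act hV).rangeRestrict
  have hφ : φ = 1 := Cfsg.Agent.AschCrit.Transfer.hom_stabilizer_eq_one h P.2 φ
  -- an involution of `P`
  have h2P : 2 ∣ Nat.card P := P.dvd_card_of_dvd_card h2Q
  obtain ⟨x, hx⟩ := exists_prime_orderOf_dvd_card' 2 h2P
  have h1 : MonoidHom.transferSylow P hN (x : Q) = 1 := by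
    obtain ⟨g, hg⟩ := (act hV).rangeRestrict_surjective (x : Q)
    rw [← hg]
    exact DFunLike.congr_fun hφ g
  rw [MonoidHom.transferSylow_eq_pow P hN (x : Q) x.2] at h1
  have h3 : (x : Q) ^ (P : Subgroup Q).index = 1 := congrArg Subtype.val h1
  have h4 : orderOf x ∣ (P : Subgroup Q).index := by
    apply orderOf_dvd_of_pow_eq_one
    exact Subtype.ext h3
  rw [hx] at h4
  exact P.not_dvd_index h4

end Cfsg.Agent.AschCrit.CommTypes
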