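import Mathlib
import Cfsg.Agent.AschCrit.TwoTrans
import Cfsg.Agent.AschCrit.Descent
import Cfsg.Agent.AschCrit.BGroup

/-!
# Aschbacher's criterion: sections

For a subgroup `H` of `G` containing elements of `D` at two points (`TwoPts Ω z H`) and two distinct commuting
elements of `D` (`CPair z H`) let `kr Ω z H` be the kernel of `H` on `pts Ω z H` and
`ok Ω z H = O(kr Ω z H)`.

* `MainBelow N` : the inductive hypothesis "the elements of `D` at a point commute" for groups of order `< N`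
* `mul_mem_ok` : `d e ∈ kr` implies `d e ∈ ok` for `d, e ∈ D ∩ H`
* `trans`, `two_trans` : `H` is (2-)transitive on `pts Ω z H`
* `sq_mem_kr` : `(d e)² ∈ kr` for `d, e ∈ D_c ∩ H`, `H` proper, by `MainBelow`
* `mul_cases`, `closure_cases` : `⟨D_c ∩ H⟩ = (D_c ∩ H ∪ 1) (⟨D_c ∩ H⟩ ∩ ok)`
-/

set_option autoImplicit false

universe u

open Subgroup

namespace Cfsg.Agent.AschCrit.Section

open Cfsg.Agent.TwoFusion.StronglyEmbeddedBasic Cfsg.Agent.AschCrit.Basic
open Cfsg.Agent.AschCrit.Basic.Setup Cfsg.Agent.AschCrit.Closed Cfsg.Agent.AschCrit.Descent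
open Cfsg.Agent.AschCrit.IsolatedSwap Cfsg.Agent.AschCrit.OddInv
open Cfsg.Agent.SignalizersComponents.PLayerAut Cfsg.Agent.AschCrit.Dagger
open Cfsg.Agent.AschCrit.TwoTrans

/-- the claim for groups of order less than `N` -/
def MainBelow (N : ℕ) : Prop :=
  ∀ (K Ψ : Type u) [Group K] [Finite K] [MulAction K Ψ] (z : K), Nat.card K < N → Setup K Ψ z →
    (∀ g : K, (∀ a : Ψ, g • a = a) → g = 1) →
    (∃ a : Ψ, ∃ d ∈ At z a, ∃ e ∈ At z a, d ≠ e ∧ Commute d e) →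
    ∀ a : Ψ, ∀ d ∈ At z a, ∀ e ∈ At z a, Commute d e

section

variable {G Ω : Type*} [Group G] [MulAction G Ω] {z : G}

/-- `H` contains elements of `D` at two points -/
def TwoPts (Ω : Type*) {G : Type*} [Group G] [MulAction G Ω] (z : G) (H : Subgroup G) : Prop :=
  ∃ a b : Ω, a ≠ b ∧ a ∈ pts Ω z H ∧ b ∈ pts Ω z H

/-- `H` contains two distinct commuting elements of `D` -/
def CPair {G : Type*} [Group G] (z : G) (H : Subgroup G) : Prop :=
  ∃ d ∈ H, ∃ e ∈ H, IsConj z d ∧ IsConj z e ∧ Commute d e ∧ d ≠ e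

theorem dsub_iff {Ω : Type*} {G : Type*} [Group G] [MulAction G Ω] {z : G} {H : Subgroup G} :
    Cfsg.Agent.AschCrit.BGroup.DSub Ω z H ↔ TwoPts Ω z H ∧ CPair z H := by
  constructor
  · rintro ⟨h1, d, e, hd, he, hzd, hze, hc, hne⟩
    exact ⟨h1, d, hd, e, he, hzd, hze, hc, hne⟩
  · rintro ⟨h1, d, hd, e, he, hzd, hze, hc, hne⟩
    exact ⟨h1, d, e, hd, he, hzd, hze, hc, hne⟩

/-- the kernel of `H` on its `D`-points -/
def kr (Ω : Type*) {G : Type*} [Group G] [MulAction G Ω] (z : G) (H : Subgroup G) :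
    Subgroup G where
  carrier := {g | g ∈ H ∧ ∀ c : Ω, c ∈ pts Ω z H → g • c = c}
  one_mem' := ⟨one_mem H, fun c _ => one_smul _ c⟩
  mul_mem' := by
    rintro g k ⟨hg, hg'⟩ ⟨hk, hk'⟩
    exact ⟨mul_mem hg hk, fun c hc => by rw [mul_smul, hk' c hc, hg' c hc]⟩
  inv_mem' := by
    rintro g ⟨hg, hg'⟩
    exact ⟨inv_mem hg, fun c hc => by rw [inv_smul_eq_iff, hg' c hc]⟩

theorem mem_kr {H : Subgroup G} {g : G} :
    g ∈ kr Ω z H ↔ g ∈ H ∧ ∀ c : Ω, c ∈ pts Ω z H → g • c = c := Iff.rfl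

theorem kr_le (H : Subgroup G) : kr Ω z H ≤ H := fun _ hg => hg.1

/-- the odd part of the kernel -/
def ok (Ω : Type*) {G : Type*} [Group G] [MulAction G Ω] (z : G) (H : Subgroup G) :
    Subgroup G := relCore 2 (kr Ω z H)

theorem ok_le_kr (H : Subgroup G) : ok Ω z H ≤ kr Ω z H := relCore_le 2 _

theorem ok_le (H : Subgroup G) : ok Ω z H ≤ H := (ok_le_kr H).trans (kr_le H)

theorem odd_ok [Finite G] (H : Subgroup G) : Odd (Nat.card (ok Ω z H)) := odd_relCore _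

theorem smul_mem_pts {H : Subgroup G} {g : G} (hg : g ∈ H) {c : Ω} (hc : c ∈ pts Ω z H) :
    g • c ∈ pts Ω z H := (pts Ω z H).smul_mem ⟨g, hg⟩ hc

theorem le_normalizer_kr (H : Subgroup G) : H ≤ normalizer (kr Ω z H : Set G) := by
  rw [le_normalizer_iff]
  rintro g hg k ⟨hk, hk'⟩
  refine ⟨mul_mem (mul_mem hg hk) (inv_mem hg), fun c hc => ?_⟩
  rw [mul_smul, mul_smul, hk' _ (smul_mem_pts (inv_mem hg) hc), smul_inv_smul]

theorem le_normalizer_ok (H : Subgroup G) : H ≤ normalizer (ok Ω z H : Set G) :=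
  (le_normalizer_kr H).trans (normalizer_le_normalizer_relCore 2 _)

theorem conj_mem_ok {H : Subgroup G} {g k : G} (hg : g ∈ H) (hk : k ∈ ok Ω z H) :
    g * k * g⁻¹ ∈ ok Ω z H := (mem_normalizer_iff.mp (le_normalizer_ok H hg) k).mp hk

/-- an element of `D` at a point moves the points of `TwoPts` -/
theorem TwoPts.exists_move (h : Setup G Ω z) {H : Subgroup G} (h2 : TwoPts Ω z H) {d : G}
    (hd : IsConj z d) : ∃ b : Ω, b ∈ pts Ω z H ∧ b ≠ d • b := by
  obtain ⟨a, b, hab, ha, hb⟩ := h2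
  by_cases hda : a = d • a
  · refine ⟨b, hb, fun hdb => hab (h.uniq hd hda.symm hdb.symm)⟩
  · exact ⟨a, ha, hda⟩

theorem TwoPts.exists_ne {H : Subgroup G} (h2 : TwoPts Ω z H) (c : Ω) :
    ∃ b : Ω, b ∈ pts Ω z H ∧ c ≠ b := by
  obtain ⟨a, b, hab, ha, hb⟩ := h2
  by_cases hca : c = a
  · exact ⟨b, hb, by rw [hca]; exact hab⟩
  · exact ⟨a, ha, hca⟩

/-- elements of `D` are not in the kernel -/
theorem not_mem_kr (h : Setup G Ω z) {H : Subgroup G} (h2 : TwoPts Ω z H) {d : G}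
    (hd : IsConj z d) : d ∉ kr Ω z H := by
  intro hk
  obtain ⟨b, hb, hne⟩ := h2.exists_move h hd
  exact hne (hk.2 b hb).symm

theorem mul_mem_ok [Finite G] (h : Setup G Ω z) {H : Subgroup G} (h2 : TwoPts Ω z H) {d e : G}
    (hd : IsConj z d) (hdH : d ∈ H) (he : IsConj z e) (hk : d * e ∈ kr Ω z H) :
    d * e ∈ ok Ω z H := by
  obtain ⟨b, hb, hne⟩ := h2.exists_move h hd
  have hdb : d • b ∈ pts Ω z H := smul_mem_pts hdH hb
  have heb : e • b = d • b := by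
    have h1 := hk.2 b hb
    have h3 : d • (d * e) • b = d • b := by rw [h1]
    rwa [smul_smul, ← mul_assoc, h.mul_self hd, one_mul] at h3
  have hoc : d * e ∈ oc G b (d • b) := mul_mem_oc h hne ⟨hd, rfl⟩ ⟨he, heb⟩
  have h5 : oc G b (d • b) ⊓ kr Ω z H ≤ ok Ω z H := by
    refine le_relCore inf_le_right ((odd_oc b (d • b)).of_dvd_nat (card_dvd_of_le inf_le_left)) ?_
    rw [le_normalizer_iff]
    rintro g hg x ⟨hx1, hx2⟩
    refine ⟨?_, (kr Ω z H).mul_mem ((kr Ω z H).mul_mem hg hx2) ((kr Ω z H).inv_mem hg)⟩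
    have h6 := oc_conj_mem g hx1
    rwa [hg.2 b hb, hg.2 _ hdb] at h6
  exact h5 ⟨hoc, hk⟩

/-- the kernel is centralised by `D ∩ H` modulo its odd part -/
theorem commutator_mem_ok [Finite G] (h : Setup G Ω z) {H : Subgroup G} (h2 : TwoPts Ω z H) {d k : G}
    (hd : IsConj z d) (hdH : d ∈ H) (hk : k ∈ kr Ω z H) : d * k * d⁻¹ * k⁻¹ ∈ ok Ω z H := by
  have h1 : d * (k * d * k⁻¹) ∈ kr Ω z H := by
    have h3 := (mem_normalizer_iff.mp (le_normalizer_kr H hdH) k).mp hk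
    have e1 : d * (k * d * k⁻¹) = (d * k * d⁻¹) * (d * d) * k⁻¹ := by group
    rw [e1, h.mul_self hd, mul_one]
    exact mul_mem h3 (inv_mem hk)
  have h4 := mul_mem_ok h h2 hd hdH (hd.trans (isConj_iff.mpr ⟨k, rfl⟩)) h1
  have e1 : d * k * d⁻¹ * k⁻¹ = d * (k * d * k⁻¹) := by rw [h.inv_eq hd]; group
  rwa [e1]

theorem trans_pts [Finite G] (h : Setup G Ω z) {H : Subgroup G} {a b : Ω}
    (ha : a ∈ pts Ω z H) (hb : b ∈ pts Ω z H) : ∃ g ∈ H, g • a = b := by
  by_cases hab : a = b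
  · exact ⟨1, one_mem H, by rw [one_smul, hab]⟩
  · obtain ⟨d, hdH, hd⟩ := ha
    obtain ⟨e, heH, he⟩ := hb
    obtain ⟨x, hxH, hx, -⟩ := h.exists_swap_mem H hab hd he hdH heH
    exact ⟨x, hxH, hx.2⟩

end

section Quot

variable {G Ω : Type*} [Group G] [MulAction G Ω] {z : G}

/-- the permutation group induced on `pts Ω z H` -/
abbrev Qt (Ω : Type*) {G : Type*} [Group G] [MulAction G Ω] (z : G) (H : Subgroup G) :
    Subgroup (Equiv.Perm (pts Ω z H)) := (MulAction.toPermHom H (pts Ω z H)).range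

/-- the quotient map -/
abbrev qt (Ω : Type*) {G : Type*} [Group G] [MulAction G Ω] (z : G) (H : Subgroup G) :
    H →* Qt Ω z H := (MulAction.toPermHom H (pts Ω z H)).rangeRestrict

theorem qt_surjective (H : Subgroup G) : Function.Surjective (qt Ω z H) :=
  MonoidHom.rangeRestrict_surjective _

theorem qt_smul {H : Subgroup G} (g : H) (a : pts Ω z H) : qt Ω z H g • a = g • a := rfl

theorem qt_eq_one_iff {H : Subgroup G} (g : H) : qt Ω z H g = 1 ↔ (g : G) ∈ kr Ω z H := by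
  constructor
  · intro hg
    refine ⟨g.2, fun c hc => ?_⟩
    have h1 : qt Ω z H g • (⟨c, hc⟩ : pts Ω z H) = ⟨c, hc⟩ := by rw [hg, one_smul]
    exact congrArg Subtype.val h1
  · rintro ⟨-, hg⟩
    apply Subtype.ext
    apply Equiv.ext
    rintro ⟨c, hc⟩
    exact Subtype.ext (hg c hc)

theorem qt_faithful {H : Subgroup G} (q : Qt Ω z H) (hq : ∀ a : pts Ω z H, q • a = a) :
    q = 1 := by
  apply Subtype.ext
  apply Equiv.ext
  exact hq

instance finite_qt [Finite G] (H : Subgroup G) : Finite (Qt Ω z H) :=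
  Finite.of_surjective _ (qt_surjective H)

theorem card_qt_le [Finite G] (H : Subgroup G) : Nat.card (Qt Ω z H) ≤ Nat.card H :=
  Nat.card_le_card_of_surjective _ (qt_surjective H)

variable [Finite G] (h : Setup G Ω z) {H : Subgroup G} {a b : Ω} (hab : a ≠ b)
  {d e : G} (hd : d ∈ At z a) (he : e ∈ At z b) (hdH : d ∈ H) (heH : e ∈ H)

include h hab hd he hdH heH

theorem setup_qt : Setup (Qt Ω z H) (pts Ω z H) (qt Ω z H ⟨d, hdH⟩) :=
  setup_map (setup_pts h hab hd he hdH heH) (qt Ω z H) (qt_surjective H) (fun g a => qt_smul g a)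

theorem mem_At_qt {c : pts Ω z H} {y : G} (hyH : y ∈ H) (hy : y ∈ At z (c : Ω)) :
    qt Ω z H ⟨y, hyH⟩ ∈ At (qt Ω z H ⟨d, hdH⟩) c := by
  refine ⟨?_, ?_⟩
  · have h1 := (isConj_subgroup_iff h hab hd he hdH heH ⟨y, hyH⟩).mpr hy.1
    exact (qt Ω z H).map_isConj h1
  · rw [qt_smul]
    exact Subtype.ext hy.2

/-- a commuting pair of the quotient -/
theorem exists_pair_qt (hf : ∀ g : G, (∀ a : Ω, g • a = a) → g = 1) (hc : CPair z H) :
    ∃ c : pts Ω z H, ∃ x ∈ At (qt Ω z H ⟨d, hdH⟩) c, ∃ y ∈ At (qt Ω z H ⟨d, hdH⟩) c,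
      x ≠ y ∧ Commute x y := by
  obtain ⟨x, hxH, y, hyH, hx, hy, hxy, hne⟩ := hc
  obtain ⟨c, hxc⟩ := h.ex hx
  have hyc : y • c = c := h.fix_of_commute hx hxy.symm hxc
  have hcp : c ∈ pts Ω z H := ⟨x, hxH, hx, hxc⟩
  refine ⟨⟨c, hcp⟩, _, mem_At_qt h hab hd he hdH heH (c := ⟨c, hcp⟩) hxH ⟨hx, hxc⟩, _,
    mem_At_qt h hab hd he hdH heH (c := ⟨c, hcp⟩) hyH ⟨hy, hyc⟩, ?_, ?_⟩
  · intro hh
    have h1 : qt Ω z H (⟨x, hxH⟩ * ⟨y, hyH⟩) = 1 := by
      rw [map_mul, ← hh, ← map_mul]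
      have : (⟨x, hxH⟩ : H) * ⟨x, hxH⟩ = 1 := Subtype.ext (h.mul_self hx)
      rw [this, map_one]
    rw [qt_eq_one_iff] at h1
    exact not_mem_kr h ⟨a, b, hab, ⟨d, hdH, hd⟩, ⟨e, heH, he⟩⟩ (mul_mem_class h hf hx hy hxy hne) h1
  · have h1 : Commute (⟨x, hxH⟩ : H) ⟨y, hyH⟩ := Subtype.ext hxy
    exact h1.map (qt Ω z H)

end Quot

section

variable {G Ω : Type*} [Group G] [MulAction G Ω] {z : G}

/-- `H` is 2-transitive on `pts Ω z H` -/
theorem two_trans [Finite G] (h : Setup G Ω z) (hf : ∀ g : G, (∀ a : Ω, g • a = a) → g = 1)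
    {H : Subgroup G} (h2 : TwoPts Ω z H) (hc : CPair z H) {x y w : Ω} (hx : x ∈ pts Ω z H)
    (hy : y ∈ pts Ω z H) (hw : w ∈ pts Ω z H) (hxy : x ≠ y) (hxw : x ≠ w) :
    ∃ g ∈ H, g • x = x ∧ g • y = w := by
  obtain ⟨a, b, hab, ⟨d, hdH, hd⟩, ⟨e, heH, he⟩⟩ := h2
  have hS := setup_qt h hab hd he hdH heH
  obtain ⟨c, hc'⟩ := exists_pair_qt h hab hd he hdH heH hf hc
  have hne1 : (⟨x, hx⟩ : pts Ω z H) ≠ ⟨y, hy⟩ := fun hh => hxy (congrArg Subtype.val hh)
  have hne2 : (⟨x, hx⟩ : pts Ω z H) ≠ ⟨w, hw⟩ := fun hh => hxw (congrArg Subtype.val hh)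
  obtain ⟨q, hq1, hq2⟩ := two_trans_of_commute hS qt_faithful c hc' hne1 hne2
  obtain ⟨g, rfl⟩ := qt_surjective H q
  exact ⟨g, g.2, congrArg Subtype.val hq1, congrArg Subtype.val hq2⟩

end

section Main

variable {G Ω : Type u} [Group G] [MulAction G Ω] {z : G}

/-- the elements of `D_c ∩ H` commute modulo the kernel -/
theorem sq_mem_kr [Finite G] (h : Setup G Ω z) (hf : ∀ g : G, (∀ a : Ω, g • a = a) → g = 1)
    (hIH : MainBelow.{u} (Nat.card G)) {H : Subgroup G} (hH : H ≠ ⊤) (h2 : TwoPts Ω z H)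
    (hc : CPair z H) {c : Ω} {x y : G} (hx : x ∈ At z c) (hxH : x ∈ H) (hy : y ∈ At z c)
    (hyH : y ∈ H) : x * y * (x * y) ∈ kr Ω z H := by
  obtain ⟨a, b, hab, ⟨d, hdH, hd⟩, ⟨e, heH, he⟩⟩ := h2
  have hS := setup_qt h hab hd he hdH heH
  have hlt : Nat.card (Qt Ω z H) < Nat.card G := by
    refine (card_qt_le H).trans_lt ?_
    have h1 := card_le_card_group H
    refine lt_of_le_of_ne h1 ?_
    intro hh
    exact hH (eq_top_of_card_eq H hh)
  have hcp : c ∈ pts Ω z H := ⟨x, hxH, hx⟩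
  have h1 := hIH (Qt Ω z H) (pts Ω z H) _ hlt hS qt_faithful
    (exists_pair_qt h hab hd he hdH heH hf hc) ⟨c, hcp⟩ _
    (mem_At_qt h hab hd he hdH heH (c := ⟨c, hcp⟩) hxH hx) _
    (mem_At_qt h hab hd he hdH heH (c := ⟨c, hcp⟩) hyH hy)
  have h3 : qt Ω z H (⟨x, hxH⟩ * ⟨y, hyH⟩ * (⟨x, hxH⟩ * ⟨y, hyH⟩)) = 1 := by
    have hxx : (⟨x, hxH⟩ : H) * ⟨x, hxH⟩ = 1 := Subtype.ext (h.mul_self hx.1)
    have hyy : (⟨y, hyH⟩ : H) * ⟨y, hyH⟩ = 1 := Subtype.ext (h.mul_self hy.1)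
    rw [map_mul, map_mul, h1.symm.mul_mul_mul_comm, ← map_mul, ← map_mul, hxx, hyy, map_one,
      mul_one]
  exact (qt_eq_one_iff _).mp h3

/-- the elements of `D_c ∩ H` commute modulo `ok Ω z H` -/
theorem sq_mem_ok [Finite G] (h : Setup G Ω z) (hf : ∀ g : G, (∀ a : Ω, g • a = a) → g = 1)
    (hIH : MainBelow.{u} (Nat.card G)) {H : Subgroup G} (hH : H ≠ ⊤) (h2 : TwoPts Ω z H)
    (hc : CPair z H) {c : Ω} {x y : G} (hx : x ∈ At z c) (hxH : x ∈ H) (hy : y ∈ At z c)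
    (hyH : y ∈ H) : x * y * (x * y) ∈ ok Ω z H := by
  have hyi := h.inv_eq hy.1
  have h1 := sq_mem_kr h hf hIH hH h2 hc hx hxH hy hyH
  have e1 : x * y * (x * y) = x * (y * x * y⁻¹) := by rw [hyi]; group
  rw [e1] at h1 ⊢
  exact mul_mem_ok h h2 hx.1 hxH (hx.1.trans (isConj_iff.mpr ⟨y, rfl⟩)) h1

/-- products of two elements of `D_c ∩ H` -/
theorem mul_cases [Finite G] (h : Setup G Ω z) (hf : ∀ g : G, (∀ a : Ω, g • a = a) → g = 1)
    (hIH : MainBelow.{u} (Nat.card G)) {H : Subgroup G} (hH : H ≠ ⊤) (h2 : TwoPts Ω z H)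
    (hc : CPair z H) {c : Ω} {x y : G} (hx : x ∈ At z c) (hxH : x ∈ H) (hy : y ∈ At z c)
    (hyH : y ∈ H) : x * y ∈ ok Ω z H ∨ ∃ w ∈ At z c, w ∈ H ∧ w * (x * y) ∈ ok Ω z H := by
  have hxx := h.mul_self hx.1
  have hyy := h.mul_self hy.1
  have hxi := h.inv_eq hx.1
  have hyi := h.inv_eq hy.1
  set g := x * y with hg
  have hg2 : g * g ∈ ok Ω z H := sq_mem_ok h hf hIH hH h2 hc hx hxH hy hyH
  have hodd : Odd (orderOf (g * g)) := by
    refine (odd_ok (Ω := Ω) (z := z) H).of_dvd_nat ?_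
    exact (Subgroup.orderOf_mk _ hg2) ▸ orderOf_dvd_natCard (⟨g * g, hg2⟩ : ok Ω z H)
  obtain ⟨j, hj⟩ := hodd
  set w := g ^ (2 * j + 1) with hw
  have hw2 : w * w = 1 := by
    have h1 : (g * g) ^ (2 * j + 1) = 1 := by rw [← hj]; exact pow_orderOf_eq_one _
    rw [← pow_two, ← pow_mul, mul_comm, pow_mul] at h1
    rw [hw, ← pow_two]
    exact h1
  have hwg : w * g ∈ ok Ω z H := by
    have e1 : w * g = (g * g) ^ (j + 1) := by
      rw [hw, ← pow_succ, ← pow_two, ← pow_mul]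
      congr 1
    rw [e1]
    exact pow_mem hg2 _
  by_cases hw1 : w = 1
  · left
    rw [hw1, one_mul] at hwg
    exact hwg
  · right
    have hgi : g⁻¹ = y * x := by rw [hg, mul_inv_rev, hxi, hyi]
    have hsx : SemiconjBy x g g⁻¹ := by
      show x * g = g⁻¹ * x
      rw [hgi, hg, ← mul_assoc, hxx, mul_assoc, hxx]; simp
    have hpx : ∀ k : ℕ, x * g ^ k = (g ^ k)⁻¹ * x := by
      intro k
      have := (hsx.pow_right k).eq
      rwa [inv_pow] at this
    have hxw : Commute x w := by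
      show x * w = w * x
      rw [hw, hpx, ← hw]
      congr 1
      exact inv_eq_of_mul_eq_one_right hw2
    have hxwD : IsConj z (x * w) := by
      refine hy.1.trans (isConj_iff.mpr ⟨(g ^ j)⁻¹, ?_⟩)
      have e2 : y = x * g := by rw [hg, ← mul_assoc, hxx, one_mul]
      rw [inv_inv]
      calc (g ^ j)⁻¹ * y * g ^ j = (g ^ j)⁻¹ * x * (g * g ^ j) := by rw [e2]; group
        _ = x * g ^ j * (g * g ^ j) := by rw [hpx]
        _ = x * w := by
          rw [hw, mul_assoc]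
          congr 1
          rw [← pow_succ', ← pow_add]
          congr 1
          ring
    have hne : x ≠ x * w := fun hh => hw1 (by simpa using hh.symm)
    have hwD : IsConj z w := by
      have h1 := mul_mem_class h hf hx.1 hxwD ((Commute.refl x).mul_right hxw) hne
      rwa [← mul_assoc, hxx, one_mul] at h1
    have hgc : ∀ k : ℕ, g ^ k • c = c := by
      intro k
      induction k with
      | zero => simp
      | succ k ih => rw [pow_succ, mul_smul, hg, mul_smul, hy.2, hx.2, ← hg, ih]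
    exact ⟨w, ⟨hwD, hgc _⟩, pow_mem (mul_mem hxH hyH) _, hwg⟩

/-- elements of `⟨D_c ∩ H⟩` -/
theorem closure_cases [Finite G] (h : Setup G Ω z) (hf : ∀ g : G, (∀ a : Ω, g • a = a) → g = 1)
    (hIH : MainBelow.{u} (Nat.card G)) {H : Subgroup G} (hH : H ≠ ⊤) (h2 : TwoPts Ω z H)
    (hc : CPair z H) {c : Ω} {l : G} (hl : l ∈ closure (At z c ∩ (H : Set G))) :
    l ∈ ok Ω z H ∨ ∃ w ∈ At z c, w ∈ H ∧ w * l ∈ ok Ω z H := by
  induction hl using closure_induction with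
  | mem x hx =>
    right
    refine ⟨x, hx.1, hx.2, ?_⟩
    rw [h.mul_self hx.1.1]
    exact one_mem _
  | one => exact Or.inl (one_mem _)
  | mul x y _ _ hx hy =>
    have key : ∀ {x y : G}, (x ∈ ok Ω z H ∨ ∃ w ∈ At z c, w ∈ H ∧ w * x ∈ ok Ω z H) →
        (y ∈ ok Ω z H ∨ ∃ w ∈ At z c, w ∈ H ∧ w * y ∈ ok Ω z H) →
        (x * y ∈ ok Ω z H ∨ ∃ w ∈ At z c, w ∈ H ∧ w * (x * y) ∈ ok Ω z H) := by
      intro x y hx hy
      rcases hx with hx | ⟨w, hw, hwH, hx⟩
      · rcases hy with hy | ⟨v, hv, hvH, hy⟩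
        · exact Or.inl (mul_mem hx hy)
        · right
          refine ⟨v, hv, hvH, ?_⟩
          have e1 : v * (x * y) = (v * x * v⁻¹) * (v * y) := by group
          rw [e1]
          exact mul_mem (conj_mem_ok hvH hx) hy
      · rcases hy with hy | ⟨v, hv, hvH, hy⟩
        · right
          refine ⟨w, hw, hwH, ?_⟩
          rw [← mul_assoc]
          exact mul_mem hx hy
        · -- `x = w k`, `y = v k'`, `x y = w v k'' k'`
          have hww := h.mul_self hw.1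
          have hvv := h.mul_self hv.1
          have e2 : x * y = (w * v) * (v⁻¹ * (w * x) * v * (v * y)) := by
            have e3 : (w * v) * (v⁻¹ * (w * x) * v * (v * y)) = (w * w) * x * (v * v) * y := by
              group
            rw [e3, hww, hvv]; group
          have hk : v⁻¹ * (w * x) * v * (v * y) ∈ ok Ω z H := by
            refine mul_mem ?_ hy
            have := conj_mem_ok (inv_mem hvH) hx
            rwa [inv_inv] at this
          rcases mul_cases h hf hIH hH h2 hc hw hwH hv hvH with h3 | ⟨u, hu, huH, h3⟩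
          · left
            rw [e2]
            exact mul_mem h3 hk
          · right
            refine ⟨u, hu, huH, ?_⟩
            rw [e2, ← mul_assoc]
            exact mul_mem h3 hk
    exact key hx hy
  | inv x _ hx =>
    rcases hx with hx | ⟨w, hw, hwH, hx⟩
    · exact Or.inl (inv_mem hx)
    · right
      refine ⟨w, hw, hwH, ?_⟩
      have hwi := h.inv_eq hw.1
      have h3 := conj_mem_ok hwH (inv_mem hx)
      have e1 : w * (w * x)⁻¹ * w⁻¹ = w * x⁻¹ * (w * w)⁻¹ := by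
        rw [mul_inv_rev]; group
      rw [e1, h.mul_self hw.1] at h3
      simpa using h3

end Main

end Cfsg.Agent.AschCrit.Section
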