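import Cfsg.Agent.AschCrit.EndCl
import Cfsg.Agent.AschCrit.Section
import Cfsg.Agent.AschCrit.CoreCentral
import Cfsg.Agent.Lib.SolvableMinNormal

/-!
# Aschbacher's criterion: (Iso)

`iso` : Claim N implies that for `v ∈ D_a` there is `x ∈ D` swapping `a` and `b` with `C_X(v) ≤ C(x)`,
`X = O(G_ab)`.
-/

set_option autoImplicit false

universe u

open Subgroup

namespace Cfsg.Agent.AschCrit.IsoEnd

open Cfsg.Agent.TwoFusion.StronglyEmbeddedBasic Cfsg.Agent.AschCrit.Basic
open Cfsg.Agent.AschCrit.Basic.Setup Cfsg.Agent.AschCrit.Closed Cfsg.Agent.AschCrit.Descent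
open Cfsg.Agent.SignalizersComponents.PLayerAut Cfsg.Agent.AschCrit.Dagger
open Cfsg.Agent.AschCrit.TwoTrans Cfsg.Agent.AschCrit.IsolatedSwap Cfsg.Agent.AschCrit.OddInv
open Cfsg.Agent.AschCrit.Section Cfsg.Agent.AschCrit.CoreCentral

/-- (Iso) for groups of order less than `N` -/
def IsoBelow (N : ℕ) : Prop :=
  ∀ (G Ω : Type u) [Group G] [Finite G] [MulAction G Ω] (z : G), Nat.card G < N → Setup G Ω z →
    (∀ g : G, (∀ a : Ω, g • a = a) → g = 1) → ClaimN Ω z →
    ∀ a b : Ω, a ≠ b → ∀ v ∈ At z a, ∃ x ∈ Sw z a b, ∀ y ∈ oc G a b, Commute v y → Commute x y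

/-- `O(G_ab) ∩ H` maps into `O` of the stabiliser in the section -/
theorem qt_mem_oc {G Ω : Type u} [Group G] [Finite G] [MulAction G Ω] {z : G} {H : Subgroup G}
    {a b : Ω} (ha : a ∈ pts Ω z H) (hb : b ∈ pts Ω z H) {y : G} (hy : y ∈ oc G a b) (hyH : y ∈ H) :
    qt Ω z H ⟨y, hyH⟩ ∈ oc (Qt Ω z H) (⟨a, ha⟩ : pts Ω z H) ⟨b, hb⟩ := by
  have key : ((oc G a b).subgroupOf H).map (qt Ω z H) ≤
      oc (Qt Ω z H) (⟨a, ha⟩ : pts Ω z H) ⟨b, hb⟩ := by
    refine le_oc ?_ ?_ ?_
    · rintro _ ⟨g, hg, rfl⟩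
      have hg' : (g : G) ∈ oc G a b := hg
      have e1 : (g : G) • a = a := smul_left_of_mem_oc hg'
      have e2 : (g : G) • b = b := smul_right_of_mem_oc hg'
      exact ⟨Subtype.ext e1, Subtype.ext e2⟩
    · rw [le_normalizer_iff]
      rintro q ⟨hq1, hq2⟩ _ ⟨g, hg, rfl⟩
      obtain ⟨s, rfl⟩ := qt_surjective H q
      have hg' : (g : G) ∈ oc G a b := hg
      have h1 : (s : G) • a = a := congrArg Subtype.val hq1
      have h2 : (s : G) • b = b := congrArg Subtype.val hq2
      have h3 := (mem_normalizer_iff.mp (mem_normalizer_oc (Or.inl ⟨h1, h2⟩)) _).mp hg'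
      refine ⟨s * g * s⁻¹, h3, ?_⟩
      rw [map_mul, map_mul, map_inv]
    · have h1 : Nat.card (((oc G a b).subgroupOf H).map (qt Ω z H)) ∣
          Nat.card ((oc G a b).subgroupOf H) := card_map_dvd _ _
      have h2 : Nat.card ((oc G a b).subgroupOf H) ∣ Nat.card (oc G a b) := by
        have h3 : Nat.card (((oc G a b).subgroupOf H).map H.subtype) ∣ Nat.card (oc G a b) :=
          card_dvd_of_le (by rw [subgroupOf_map_subtype]; exact inf_le_left)
        rwa [Nat.card_congr (((oc G a b).subgroupOf H).equivMapOfInjective H.subtype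
          H.subtype_injective).symm.toEquiv] at h3
      exact (odd_oc a b).of_dvd_nat (h1.trans h2)
  exact key ⟨⟨y, hyH⟩, hy, rfl⟩

/-- the kernel of a section is centralised by the elements of `D` in it -/
theorem commute_kr {G Ω : Type u} [Group G] [Finite G] [MulAction G Ω] {z : G} (h : Setup G Ω z)
    (hN : ClaimN Ω z) {H : Subgroup G} (h2 : TwoPts Ω z H) {x : G} (hx : IsConj z x) (hxH : x ∈ H)
    {k : G} (hk : k ∈ kr Ω z H) : Commute k x := by
  obtain ⟨c, hc⟩ := h.ex hx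
  obtain ⟨b, hb, hcb⟩ := h2.exists_ne c
  exact ClaimN.commute_of_fix3 h hN hcb ⟨hx, hc⟩ (hk.2 c ⟨x, hxH, hx, hc⟩) (hk.2 b hb)
    (hk.2 _ (smul_mem_pts hxH hb))

/-- the step of the induction -/
theorem step (hFT : ∀ (K : Type u) [Group K] [Finite K], Odd (Nat.card K) → Group.IsSolvable K)
    {G Ω : Type u} [Group G] [Finite G] [MulAction G Ω] {z : G} (hIH : IsoBelow.{u} (Nat.card G))
    (h : Setup G Ω z) (hf : ∀ g : G, (∀ a : Ω, g • a = a) → g = 1) (hN : ClaimN Ω z) {a b : Ω}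
    (hab : a ≠ b) {v : G} (hv : v ∈ At z a) :
    ∃ x ∈ Sw z a b, ∀ y ∈ oc G a b, Commute v y → Commute x y := by
  set Y : Subgroup G := oc G a b ⊓ centralizer ({v} : Set G) with hY
  have hYodd : Odd (Nat.card Y) := (odd_oc a b).of_dvd_nat (card_dvd_of_le inf_le_left)
  by_cases hY1 : Y = ⊥
  · obtain ⟨x, hx⟩ := exists_sw h hab
    refine ⟨x, hx, fun y hy hc => ?_⟩
    have h1 : y ∈ Y := ⟨hy, mem_centralizer_singleton_iff.mpr hc.symm.eq⟩
    rw [hY1, mem_bot] at h1
    rw [h1]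
    exact Commute.one_right x
  · have hnt : Nontrivial Y := (Subgroup.nontrivial_iff_ne_bot Y).mpr hY1
    have hsol : Group.IsSolvable Y := hFT Y hYodd
    obtain ⟨p, hp, P, hPc, -, hPp, hPne⟩ :=
      Cfsg.Agent.Lib.SolvableMinNormal.exists_characteristic_pgroup (G := Y)
    set U : Subgroup G := P.map Y.subtype with hU
    have hUY : U ≤ Y := map_subtype_le P
    have hUp : IsPGroup p U := hPp.map _
    have hU1 : U ≠ ⊥ := by
      intro hh
      rw [hU, map_eq_bot_iff_of_injective _ Y.subtype_injective] at hh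
      exact hPne hh
    have hpo : Odd p := by
      have hUodd : Odd (Nat.card U) := hYodd.of_dvd_nat (card_dvd_of_le hUY)
      have hpf : Fact p.Prime := ⟨hp⟩
      obtain ⟨n, hn⟩ := IsPGroup.iff_card.mp hUp
      have hn0 : n ≠ 0 := by
        rintro rfl
        rw [pow_zero] at hn
        exact hU1 (eq_bot_of_card_eq U hn)
      rw [hn] at hUodd
      rcases hp.eq_two_or_odd' with h2 | h2
      · rw [h2] at hUodd
        exact absurd (Nat.even_pow.mpr ⟨even_two, hn0⟩) (Nat.not_even_iff_odd.mpr hUodd)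
      · exact h2
    have hUs : U ≤ stab2 G a b := hUY.trans (inf_le_left.trans (oc_le a b))
    have hUv : ∀ u ∈ U, Commute u v := fun u hu => mem_centralizer_singleton_iff.mp (hUY hu).2
    obtain ⟨x₀, hx₀, hx₀U⟩ := ClaimN.exists_sw_centralizing h hN hp hpo hab hv hUp hUs hUv
    -- the section of `N(U)`
    set H : Subgroup G := normalizer (U : Set G) with hH
    have hcH : ∀ g : G, (∀ u ∈ U, Commute u g) → g ∈ H := by
      intro g hg
      have h1 : U ≤ centralizer ({g} : Set G) := fun u hu =>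
        mem_centralizer_singleton_iff.mpr (hg u hu).eq
      rw [hH, mem_normalizer_iff]
      intro u
      constructor
      · intro hu
        have : g * u * g⁻¹ = u := by rw [← (hg u hu).eq]; group
        rw [this]; exact hu
      · intro hu
        have h2 := hg _ hu
        have : g * u * g⁻¹ = u := by
          have e1 : g * u * g⁻¹ * g = g * (g * u * g⁻¹) := h2.eq
          have e2 : g⁻¹ * (g * u * g⁻¹ * g) = g⁻¹ * (g * (g * u * g⁻¹)) := by rw [e1]
          have e3 : g⁻¹ * (g * u * g⁻¹ * g) = u := by group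
          have e4 : g⁻¹ * (g * (g * u * g⁻¹)) = g * u * g⁻¹ := by group
          rw [e3, e4] at e2
          exact e2.symm
        rwa [this] at hu
    have hvH : v ∈ H := hcH v hUv
    have hxH₀ : x₀ ∈ H := hcH x₀ hx₀U
    set e : G := x₀ * v * x₀⁻¹ with he
    have heH : e ∈ H := mul_mem (mul_mem hxH₀ hvH) (inv_mem hxH₀)
    have heb : e ∈ At z b := by
      have := conj_mem_At x₀ hv
      rwa [hx₀.2] at this
    have hYH : Y ≤ H := by
      have h1 := normalizer_le_map_char (H := Y) hPc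
      exact le_normalizer.trans h1
    have hHt : H ≠ ⊤ := by
      intro hh
      apply hU1
      rw [eq_bot_iff]
      intro u hu
      rw [mem_bot]
      apply hf
      intro c
      obtain ⟨g, rfl⟩ := h.trans a c
      have hgH : g⁻¹ ∈ H := by rw [hh]; exact mem_top _
      have h1 : g⁻¹ * u * g⁻¹⁻¹ ∈ U := (mem_normalizer_iff.mp hgH u).mp hu
      have h3 : (g⁻¹ * u * g⁻¹⁻¹) • a = a := (hUs h1).1
      rw [mul_smul, mul_smul, inv_inv, inv_smul_eq_iff] at h3
      exact h3
    have ha : a ∈ pts Ω z H := ⟨v, hvH, hv⟩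
    have hb : b ∈ pts Ω z H := ⟨e, heH, heb⟩
    have h2 : TwoPts Ω z H := ⟨a, b, hab, ha, hb⟩
    have hlt : Nat.card (Qt Ω z H) < Nat.card G := by
      refine (card_qt_le H).trans_lt (lt_of_le_of_ne (card_le_card_group H) ?_)
      intro hh
      exact hHt (eq_top_of_card_eq H hh)
    have hS := setup_qt h hab hv heb hvH heH
    have hNq : ClaimN (pts Ω z H) (qt Ω z H ⟨v, hvH⟩) :=
      ClaimN.map (setup_pts h hab hv heb hvH heH) (ClaimN.pts hN hv.1 hvH) (qt Ω z H)
        (qt_surjective H) (fun g c => qt_smul g c)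
    have hab' : (⟨a, ha⟩ : pts Ω z H) ≠ ⟨b, hb⟩ := fun hh => hab (congrArg Subtype.val hh)
    obtain ⟨x', hx', hx'c⟩ := hIH (Qt Ω z H) (pts Ω z H) _ hlt hS qt_faithful hNq ⟨a, ha⟩ ⟨b, hb⟩
      hab' _ (mem_At_qt h hab hv heb hvH heH (c := ⟨a, ha⟩) hvH hv)
    -- lift `x'`
    obtain ⟨q, hq⟩ := isConj_iff.mp hx'.1
    obtain ⟨s, rfl⟩ := qt_surjective H q
    set x : G := s * v * (s : G)⁻¹ with hx
    have hxH : x ∈ H := mul_mem (mul_mem s.2 hvH) (inv_mem s.2)
    have hxz : IsConj z x := conj_mem hv.1 _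
    have hqx : qt Ω z H ⟨x, hxH⟩ = x' := by
      rw [← hq, ← map_mul, ← map_inv, ← map_mul]
      rfl
    have hxab : x • a = b := by
      have h3 := hx'.2
      rw [← hqx] at h3
      exact congrArg Subtype.val h3
    refine ⟨x, ⟨hxz, hxab⟩, fun y hy hc => ?_⟩
    have hyY : y ∈ Y := ⟨hy, mem_centralizer_singleton_iff.mpr hc.symm.eq⟩
    have hyH : y ∈ H := hYH hyY
    have h3 : Commute (qt Ω z H ⟨v, hvH⟩) (qt Ω z H ⟨y, hyH⟩) := by
      have : Commute (⟨v, hvH⟩ : H) ⟨y, hyH⟩ := Subtype.ext hc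
      exact this.map (qt Ω z H)
    have h4 := hx'c _ (qt_mem_oc ha hb hy hyH) h3
    rw [← hqx] at h4
    set k : G := y * x * y⁻¹ * x⁻¹ with hk
    have hkr : k ∈ kr Ω z H := by
      have h5 : qt Ω z H (⟨y, hyH⟩ * ⟨x, hxH⟩ * ⟨y, hyH⟩⁻¹ * ⟨x, hxH⟩⁻¹) = 1 := by
        rw [map_mul, map_mul, map_mul, map_inv, map_inv, h4.symm.eq]
        group
      exact (qt_eq_one_iff _).mp h5
    have hkx := commute_kr h hN h2 hxz hxH hkr
    have hxx := h.mul_self hxz
    have hyx : k * x = y * x * y⁻¹ := by rw [hk]; group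
    by_cases hk1 : k = 1
    · rw [hk1, one_mul] at hyx
      show x * y = y * x
      calc x * y = y * x * y⁻¹ * y := by rw [← hyx]
        _ = y * x := by group
    · exfalso
      have hkz : IsConj z (k * x) := by rw [hyx]; exact conj_mem hxz y
      have hcx : Commute (k * x) x := hkx.mul_left (Commute.refl x)
      have hne : k * x ≠ x := fun hh => hk1 (by simpa using hh)
      have h5 := mul_mem_class h hf hkz hxz hcx hne
      rw [mul_assoc, hxx, mul_one] at h5
      exact not_mem_kr h h2 h5 hkr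

theorem isoBelow (hFT : ∀ (K : Type u) [Group K] [Finite K], Odd (Nat.card K) → Group.IsSolvable K)
    (N : ℕ) : IsoBelow.{u} N := by
  induction N with
  | zero =>
    intro G Ω _ _ _ z hcard
    exact absurd hcard (Nat.not_lt_zero _)
  | succ N ih =>
    intro G Ω _ _ _ z hcard h hf hN a b hab v hv
    refine step hFT ?_ h hf hN hab hv
    intro G' Ω' _ _ _ z' hcard'
    exact ih G' Ω' z' (by omega)

/-- **(Iso)** -/
theorem iso (hFT : ∀ (K : Type u) [Group K] [Finite K], Odd (Nat.card K) → Group.IsSolvable K)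
    {G Ω : Type u} [Group G] [Finite G] [MulAction G Ω] {z : G} (h : Setup G Ω z)
    (hf : ∀ g : G, (∀ a : Ω, g • a = a) → g = 1) (hN : ClaimN Ω z) {a b : Ω} (hab : a ≠ b) {v : G}
    (hv : v ∈ At z a) : ∃ x ∈ Sw z a b, ∀ y ∈ oc G a b, Commute v y → Commute x y :=
  isoBelow hFT (Nat.card G + 1) G Ω z (Nat.lt_succ_self _) h hf hN a b hab v hv

end Cfsg.Agent.AschCrit.IsoEnd
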