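import Cfsg.Agent.AschCrit.BigStepGlue
import Cfsg.Agent.AschCrit.IsoEnd

/-!
# Aschbacher's criterion: the elements of `D_a` commute

`commuteHolds` : `CommuteHolds` from the odd order theorem.
-/

set_option autoImplicit false

universe u

namespace Cfsg.Agent.AschCrit.CommuteFinal

/-- the step of the induction in the big simple case -/
theorem bigStep
    (hFT : ∀ (K : Type u) [Group K] [Finite K], Odd (Nat.card K) → Group.IsSolvable K) :
    MainReduce.BigStep.{u} :=
  BigStepGlue.bigStep_of_iso hFT fun _ _ _ _ _ _ _ _ h hf _ hN _ _ hab _ hv =>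
    IsoEnd.iso hFT h hf hN hab hv

/-- **the elements of `D_a` commute** (`z` not isolated) -/
theorem commuteHolds
    (hFT : ∀ (K : Type u) [Group K] [Finite K], Odd (Nat.card K) → Group.IsSolvable K) :
    Frame.CommuteHolds.{u} :=
  CommuteGlue.commuteHolds_of_big hFT (bigStep hFT)

end Cfsg.Agent.AschCrit.CommuteFinal
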