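import Mathlib
import Cfsg.Agent.AschCrit.EndClaim

/-!
# Aschbacher's criterion: Claim N implies Cl for `p`-groups

`ClaimN.exists_sw_centralizing` : if `v ∈ D_a` centralises the `p`-subgroup `U` of `G_{ab}` (`p` odd) then
some `x ∈ D` swapping `a` and `b` centralises `U`.
-/

set_option autoImplicit false

open Subgroup

namespace Cfsg.Agent.AschCrit.ClaimN

open Cfsg.Agent.TwoFusion.StronglyEmbeddedBasic Cfsg.Agent.AschCrit.Basic
open Cfsg.Agent.AschCrit.Basic.Setup Cfsg.Agent.AschCrit.Closed Cfsg.Agent.AschCrit.IsolatedSwap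
open Cfsg.Agent.AschCrit.OddInv Cfsg.Agent.SignalizersComponents.RelSylow
open Cfsg.Agent.SignalizersComponents.PLayerAut Cfsg.Agent.AschCrit.Dagger
open Cfsg.Agent.AschCrit.TwoTrans Cfsg.Agent.AschCrit.Descent

variable {G Ω : Type*} [Group G] [MulAction G Ω] {z : G}

/-- a subgroup `Q` of `C'` with the order of a maximal `p`-subgroup of `C'` is maximal -/
theorem isMaxP_of_card [Finite G] {p : ℕ} [Fact p.Prime] {C' Q Q' : Subgroup G}
    (hQ' : IsMaxP p C' Q') (hQ : IsPGroup p Q) (hQC : Q ≤ C') (hc : Nat.card Q' ≤ Nat.card Q) :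
    IsMaxP p C' Q := by
  obtain ⟨R, hR, hQR⟩ := exists_isMaxP hQ hQC
  have h1 : Q = R := eq_of_le_of_card_ge hQR (by rw [hR.card_eq hQ']; exact hc)
  rw [h1]; exact hR

/-- an element conjugating one subgroup onto itself normalises it -/
theorem mem_normalizer_of_map_eq {Q : Subgroup G} {g : G}
    (h : Q.map (MulAut.conj g).toMonoidHom = Q) : g ∈ normalizer (Q : Set G) := by
  rw [mem_normalizer_iff]
  intro x
  constructor
  · intro hx
    rw [← h]
    exact ⟨x, hx, rfl⟩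
  · intro hx
    rw [← h, mem_map_conj] at hx
    have e1 : g⁻¹ * (g * x * g⁻¹) * g = x := by group
    rwa [e1] at hx

theorem map_conj_mul {Q : Subgroup G} (g k : G) :
    (Q.map (MulAut.conj g).toMonoidHom).map (MulAut.conj k).toMonoidHom =
      Q.map (MulAut.conj (k * g)).toMonoidHom := by
  ext x
  rw [mem_map_conj, mem_map_conj, mem_map_conj]
  have e1 : g⁻¹ * (k⁻¹ * x * k) * g = (k * g)⁻¹ * x * (k * g) := by group
  rw [e1]

theorem stab2_map_conj (a b : Ω) (g : G) :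
    (stab2 G a b).map (MulAut.conj g).toMonoidHom = stab2 G (g • a) (g • b) := by
  ext x
  rw [mem_map_conj]
  constructor
  · intro hx
    have := conj_mem_stab2 g hx
    have e1 : g * (g⁻¹ * x * g) * g⁻¹ = x := by group
    rwa [e1] at this
  · intro hx
    have := conj_mem_stab2 g⁻¹ hx
    rwa [inv_inv, inv_smul_smul, inv_smul_smul] at this

section

variable [Finite G] (h : Setup G Ω z) (hN : ClaimN Ω z) {p : ℕ} [hp : Fact p.Prime] (hpo : Odd p)
  (h2 : ∀ a b c : Ω, a ≠ b → a ≠ c → ∃ g : G, g • a = a ∧ g • b = c)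
  {a b : Ω} (hab : a ≠ b) {v : G} (hv : v ∈ At z a) {Q : Subgroup G}
  (hQ : IsMaxP p (stab2 G a b ⊓ centralizer ({v} : Set G)) Q)

include h h2 hab hv hQ

/-- `N(Q) ∩ C(v)` is transitive on `Fix(Q) ∖ {a}` -/
theorem exists_normalizer_fix {c : Ω} (hac : a ≠ c) (hc : c ∈ Fx Ω Q) :
    ∃ n ∈ normalizer (Q : Set G), n • a = a ∧ n • b = c := by
  obtain ⟨g, hga, hgb⟩ := h2 a b c hab hac
  obtain ⟨n', hn', c', hc', hgc⟩ := exists_mul_centralizer h hac hv hga
  have hn'a : n' • a = a := smul_left_of_mem_oc hn'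
  have hn'c : n' • c = c := smul_right_of_mem_oc hn'
  have e1 : c' = n'⁻¹ * g := by rw [hgc]; group
  have hc'a : c' • a = a := by
    rw [e1, mul_smul, hga, inv_smul_eq_iff, hn'a]
  have hc'b : c' • b = c := by
    rw [e1, mul_smul, hgb, inv_smul_eq_iff, hn'c]
  set C := stab2 G a b ⊓ centralizer ({v} : Set G) with hC
  set C₁ := stab2 G a c ⊓ centralizer ({v} : Set G) with hC₁
  have hCC : C.map (MulAut.conj c').toMonoidHom = C₁ := by
    ext x
    rw [mem_map_conj, hC, hC₁, mem_inf, mem_inf]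
    have h3 : c'⁻¹ * x * c' ∈ stab2 G a b ↔ x ∈ stab2 G a c := by
      have h4 := stab2_map_conj a b c'
      rw [hc'a, hc'b] at h4
      rw [← h4, mem_map_conj]
    have h5 : c'⁻¹ * x * c' ∈ centralizer ({v} : Set G) ↔ x ∈ centralizer ({v} : Set G) := by
      have hc'c : c' ∈ centralizer ({v} : Set G) := mem_centralizer_singleton_iff.mpr hc'.eq
      constructor
      · intro hx
        have := mul_mem (mul_mem hc'c hx) (inv_mem hc'c)
        have e2 : c' * (c'⁻¹ * x * c') * c'⁻¹ = x := by group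
        rwa [e2] at this
      · intro hx
        exact mul_mem (mul_mem (inv_mem hc'c) hx) hc'c
    rw [h3, h5]
  have h3 := hQ.map_conj c'
  rw [hCC] at h3
  have hQC₁ : Q ≤ C₁ := fun q hq => ⟨⟨(hQ.2.1 hq).1.1, hc q hq⟩, (hQ.2.1 hq).2⟩
  have h4 : IsMaxP p C₁ Q := isMaxP_of_card h3 hQ.1 hQC₁ (by rw [card_map_conj])
  obtain ⟨m, hm, hmQ⟩ := h3.exists_conj h4
  rw [map_conj_mul] at hmQ
  refine ⟨m * c', mem_normalizer_of_map_eq hmQ, ?_, ?_⟩
  · rw [mul_smul, hc'a]; exact hm.1.1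
  · rw [mul_smul, hc'b]; exact hm.1.2

include hN hpo

/-- `N(Q)` moves `a` -/
theorem exists_normalizer_move : ∃ n ∈ normalizer (Q : Set G), n • a ≠ a := by
  by_contra hcon
  push Not at hcon
  have hvv := h.mul_self hv.1
  set c := v • b with hcdef
  have hbc : b ≠ c := ne_smul h hab hv
  have hac : a ≠ c := by
    intro hh
    rw [hcdef] at hh
    have h3 : v • a = v • b := hv.2.trans hh
    exact hab (smul_left_cancel v h3)
  have hQv : ∀ q ∈ Q, Commute q v := fun q hq =>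
    mem_centralizer_singleton_iff.mp (hQ.2.1 hq).2
  have hQb : Q ≤ stab2 G b c := by
    intro q hq
    refine ⟨(hQ.2.1 hq).1.2, ?_⟩
    show q • v • b = v • b
    have h4 : q • b = b := (hQ.2.1 hq).1.2
    rw [← mul_smul, (hQv q hq).eq, mul_smul, h4]
  have hiQ : Inv v Q := by
    intro q hq
    rw [(hQv q hq).symm.eq]
    simpa using hq
  -- `Q` is a Sylow `p`-subgroup of `G_{bc}`
  obtain ⟨R, hR, hQR⟩ := exists_isMaxP (p := p) hQ.1 hQb
  have hvsw : v ∈ Sw z b c := ⟨hv.1, rfl⟩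
  set H : Subgroup G := oc G b c ⊔ R with hH
  have hHs : H ≤ stab2 G b c := sup_le (oc_le b c) hR.2.1
  have hHo : Odd (Nat.card H) := odd_sup_oc hR.2.1 (odd_of_isPGroup hpo hR.1)
  have hiH : Inv v H := inv_sup_oc h hbc hvsw hR.2.1
  obtain ⟨P, hP, hiP, hQP⟩ := exists_isMaxP_ge hvv hHo hiH
    (hQR.trans (le_sup_right : R ≤ H)) hQ.1 hiQ
  have hRH : IsMaxP p H R := ⟨hR.1, le_sup_right, fun R' h3 h4 h5 => hR.2.2 R' h3 (h4.trans hHs) h5⟩
  have hPQ : P ≤ Q := by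
    by_contra hne
    obtain ⟨y, hyP, hyN, hyQ⟩ := exists_mem_normalizer hP.1 hQP hne
    have key : P ⊓ normalizer (Q : Set G) ≤ stab2 G a b ⊓ centralizer ({v} : Set G) := by
      rintro y ⟨hyP, hyN⟩
      have hya : y • a = a := hcon y hyN
      have hys := hHs (hP.2.1 hyP)
      exact ⟨⟨hya, hys.1⟩, mem_centralizer_singleton_iff.mpr
        (commute_of_fix3 h hN hab hv hya hys.1 hys.2).eq⟩
    exact hyQ (hQ.2.2 _ (hP.1.to_le inf_le_left) key (le_inf hQP le_normalizer) ⟨hyP, hyN⟩)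
  have hcard : Nat.card R = Nat.card Q := by
    rw [le_antisymm hPQ hQP] at hP
    exact hRH.card_eq hP
  have hQR' : Q = R := eq_of_le_of_card_ge hQR hcard.le
  have hQbc : IsMaxP p (stab2 G b c) Q := by rw [hQR']; exact hR
  -- move `(b, c)` to `(a, b)`
  obtain ⟨g, hgb, hgc⟩ : ∃ g : G, g • b = a ∧ g • c = b := by
    obtain ⟨g₁, hg₁⟩ := h.trans b a
    have hne : a ≠ g₁ • c := by
      intro hh
      rw [← hg₁] at hh
      exact hbc (smul_left_cancel g₁ hh)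
    obtain ⟨g₂, hg₂, hg₂c⟩ := h2 a (g₁ • c) b hne hab
    exact ⟨g₂ * g₁, by rw [mul_smul, hg₁, hg₂], by rw [mul_smul, hg₂c]⟩
  have h3 := hQbc.map_conj g
  rw [stab2_map_conj, hgb, hgc] at h3
  have h4 : IsMaxP p (stab2 G a b) Q :=
    isMaxP_of_card h3 hQ.1 (fun q hq => (hQ.2.1 hq).1) (by rw [card_map_conj])
  obtain ⟨m, hm, hmQ⟩ := h3.exists_conj h4
  rw [map_conj_mul] at hmQ
  have h5 := hcon _ (mem_normalizer_of_map_eq hmQ)
  have h6 : (m * g) • b = a := by rw [mul_smul, hgb]; exact hm.1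
  exact hab (smul_left_cancel (m * g) (h5.trans h6.symm))

/-- some `x ∈ D` swapping `a` and `b` centralises `Q` -/
theorem exists_sw_of_isMaxP : ∃ x ∈ Sw z a b, ∀ q ∈ Q, Commute q x := by
  have hQv : ∀ q ∈ Q, Commute q v := fun q hq =>
    mem_centralizer_singleton_iff.mp (hQ.2.1 hq).2
  have hvN : v ∈ normalizer (Q : Set G) := by
    rw [mem_normalizer_iff]
    intro q
    constructor
    · intro hq
      rw [(hQv q hq).symm.eq]; simpa using hq
    · intro hq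
      have h3 := hQv _ hq
      have e1 : q = v⁻¹ * (v * q * v⁻¹) * v := by group
      rw [e1, mul_assoc, h3.eq, ← mul_assoc, inv_mul_cancel, one_mul]
      exact hq
  have haF : a ∈ Fx Ω Q := fun q hq => (hQ.2.1 hq).1.1
  have hbF : b ∈ Fx Ω Q := fun q hq => (hQ.2.1 hq).1.2
  have hvbF : v • b ∈ Fx Ω Q := smul_mem_Fx hvN hbF
  have hbc : b ≠ v • b := ne_smul h hab hv
  -- an element of `N(Q)` mapping `b` to `a`
  obtain ⟨n₂, hn₂, hn₂b⟩ : ∃ n ∈ normalizer (Q : Set G), n • b = a := by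
    obtain ⟨n₀, hn₀, hn₀a⟩ := exists_normalizer_move h hN hpo h2 hab hv hQ
    obtain ⟨n₁, hn₁, hn₁a, hn₁b⟩ := exists_normalizer_fix h h2 hab hv hQ (c := n₀ • a)
      (Ne.symm hn₀a) (smul_mem_Fx hn₀ haF)
    refine ⟨n₀⁻¹ * n₁, mul_mem (inv_mem hn₀) hn₁, ?_⟩
    rw [mul_smul, hn₁b, inv_smul_smul]
  have hne : a ≠ n₂ • v • b := by
    intro hh
    rw [← hn₂b] at hh
    exact hbc (smul_left_cancel n₂ hh)
  obtain ⟨n₃, hn₃, hn₃a, hn₃b⟩ := exists_normalizer_fix h h2 hab hv hQ hne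
    (smul_mem_Fx hn₂ hvbF)
  set n := n₃⁻¹ * n₂ with hn
  have hnN : n ∈ normalizer (Q : Set G) := mul_mem (inv_mem hn₃) hn₂
  have hnb : n • b = a := by
    rw [hn, mul_smul, hn₂b, inv_smul_eq_iff, hn₃a]
  have hnvb : n • v • b = b := by
    rw [hn, mul_smul, ← hn₃b, inv_smul_smul]
  refine ⟨n * v * n⁻¹, ⟨conj_mem hv.1 n, ?_⟩, ?_⟩
  · rw [mul_smul, mul_smul, show n⁻¹ • a = b by rw [inv_smul_eq_iff, hnb], hnvb]
  · intro q hq
    have h3 : n⁻¹ * q * n ∈ Q := by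
      have := (mem_normalizer_iff.mp (inv_mem hnN) q).mp hq
      rwa [inv_inv] at this
    have h4 := hQv _ h3
    show q * (n * v * n⁻¹) = n * v * n⁻¹ * q
    calc q * (n * v * n⁻¹) = n * ((n⁻¹ * q * n) * v) * n⁻¹ := by group
      _ = n * (v * (n⁻¹ * q * n)) * n⁻¹ := by rw [h4.eq]
      _ = n * v * n⁻¹ * q := by group

end

/-- **Cl for `p`-groups.** -/
theorem exists_sw_centralizing [Finite G] (h : Setup G Ω z) (hN : ClaimN Ω z) {p : ℕ}
    (hp : p.Prime) (hpo : Odd p) {a b : Ω} (hab : a ≠ b) {v : G} (hv : v ∈ At z a)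
    {U : Subgroup G} (hU : IsPGroup p U) (hUs : U ≤ stab2 G a b) (hUv : ∀ u ∈ U, Commute u v) :
    ∃ x ∈ Sw z a b, ∀ u ∈ U, Commute u x := by
  have hp' : Fact p.Prime := ⟨hp⟩
  by_cases hm : Nat.card (At z a) = 1
  · -- `D ∩ I(a,b)` has one element
    obtain ⟨x, hx⟩ := exists_sw h hab
    have h1 : Nat.card (Sw z a b) = 1 := by rw [h.card_swap hab, hm]
    rw [Nat.card_eq_one_iff_unique] at h1
    obtain ⟨⟨h1⟩, -⟩ := h1
    refine ⟨x, hx, fun u hu => ?_⟩
    have h3 : u * x * u⁻¹ ∈ Sw z a b := by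
      have h4 := conj_mem_Sw u hx
      rwa [(hUs hu).1, (hUs hu).2] at h4
    have h5 : u * x * u⁻¹ = x := congrArg Subtype.val (h1 ⟨_, h3⟩ ⟨x, hx⟩)
    show u * x = x * u
    calc u * x = u * x * u⁻¹ * u := by group
      _ = x * u := by rw [h5]
  · obtain ⟨Q, hQ, hUQ⟩ := exists_isMaxP (p := p)
      (C := stab2 G a b ⊓ centralizer ({v} : Set G)) hU
      (fun u hu => ⟨hUs hu, mem_centralizer_singleton_iff.mpr (hUv u hu).eq⟩)
    obtain ⟨x, hx, hxQ⟩ := exists_sw_of_isMaxP h hN hpo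
      (fun _ _ _ h1 h2 => two_trans h hN hm h1 h2) hab hv hQ
    exact ⟨x, hx, fun u hu => hxQ u (hUQ hu)⟩

end Cfsg.Agent.AschCrit.ClaimN
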