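import Cfsg.Agent.AschCrit.CommuteFinal
import Cfsg.Agent.AschCrit.CommCase
import Cfsg.Agent.AschCrit.CommTwoFinal
import Cfsg.Agent.AschCrit.CommFour.CaseFour
import Cfsg.Agent.AschCrit.CommFive.Final
import Cfsg.Agent.AschCrit.CommFive.Main

/-!
# Aschbacher's criterion: assembly of the step

`stepHolds` : `StepHolds` from the odd order theorem, Bender's theorem and the case (c3) of the commutative case.
-/

set_option autoImplicit false

universe u

namespace Cfsg.Agent.AschCrit.Final

open Cfsg.Agent.AschCrit.Basic Cfsg.Agent.AschCrit.CommCase Cfsg.Agent.StrongEmb.Split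
open Cfsg.Agent.AschCrit.Closed Cfsg.Agent.AschCrit.Basic.Setup

/-- the step of the induction -/
theorem stepHolds
    (hFT : ∀ (K : Type u) [Group K] [Finite K], Odd (Nat.card K) → Group.IsSolvable K)
    (hB : ∀ (X : Type u) [Group X] [Finite X], BenderHolds X)
    (h3 : ∀ (G Ω : Type u) [Group G] [Finite G] [MulAction G Ω] (z : G) (k : ℕ),
      CaseHyp G Ω z k 1 → (∀ a : Ω, Nat.card (At z a) + 1 = 2 ^ k) →
      Nat.card Ω = (2 ^ k) ^ 3 + 1 → False) :
    Frame.StepHolds.{u} :=
  Frame.stepHolds (CommuteFinal.commuteHolds hFT)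
    (commCaseFalse hB CommTwoFinal.caseTwo h3 CommFour.CaseFour.case_four
      (fun G Ω _ _ _ z k hC hat _ => CommFive.caseFive_of_false
        (fun _ _ _ _ _ _ _ _ c _ hu => c.false hu) G Ω z k hC hat))

end Cfsg.Agent.AschCrit.Final
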