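import Cfsg.Agent.AschCrit.InductFaithful

/-!
# Aschbacher's criterion: actions whose image has no bad involutions

`BAct K Ψ z k i` : the group `K` acts on `Ψ` like a Bender group; with `q = 2 ^ k`, the degree is
`q ^ i + 1`.  `bact_of_map` : this follows if the normal closure of the image of `z` in the image `Q`
of `K` (acting faithfully on `Ψ`) has no bad involutions and Bender's theorem is known.
-/

set_option autoImplicit false

universe u

namespace Cfsg.Agent.AschCrit.InductAct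

open Cfsg MulAction
open Cfsg.Agent.TwoFusion.StronglyEmbeddedBasic Cfsg.Agent.AschCrit.Basic
open Cfsg.Agent.AschCrit.Basic.Setup Cfsg.Agent.AschCrit.Closed Cfsg.Agent.AschCrit.Descent
open Cfsg.Agent.AschCrit.NonIso Cfsg.Agent.AschCrit.InductFaithful
open Cfsg.Agent.StrongEmb.Split

/-- `K` acts on `Ψ` like a Bender group: `q = 2 ^ k`, degree `q ^ i + 1` -/
structure BAct (K Ψ : Type*) [Group K] [MulAction K Ψ] (z : K) (k i : ℕ) : Prop where
  two_le : 2 ≤ k
  one_le : 1 ≤ i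
  le_three : i ≤ 3
  card : Nat.card Ψ = (2 ^ k) ^ i + 1
  two_trans : ∀ a b c d : Ψ, a ≠ b → c ≠ d → ∃ g : K, g • a = c ∧ g • b = d
  comm_mod : ∀ a : Ψ, ∀ d ∈ At z a, ∀ e ∈ At z a, ∀ c : Ψ, (d * e * (d * e)) • c = c
  comm : ∀ P : Subgroup K, IsPGroup 2 P → ∀ d ∈ P, ∀ e ∈ P, IsConj z d → IsConj z e → Commute d e
  card_sylow : ∀ P : Sylow 2 K, Nat.card {d : K // d ∈ P ∧ IsConj z d} + 1 = 2 ^ k
  fusion : ∀ P : Sylow 2 K, ∀ d ∈ P, ∀ e ∈ P, IsConj z d → IsConj z e →
    ∃ g : K, (∀ x ∈ P, IsConj z x → g * x * g⁻¹ ∈ P) ∧ g * d * g⁻¹ = e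
  trans_sylow : ∀ P : Sylow 2 K, ∃ a : Ψ, (∀ g ∈ P, g • a = a) ∧
    ∀ b c : Ψ, b ≠ a → c ≠ a → ∃ g ∈ P, g • b = c

variable {K Ψ : Type u} [Group K] [Finite K] [MulAction K Ψ] {z : K}

/-- A 2-subgroup `V` with image in the image of the Sylow 2-subgroup `P` is conjugate to a subgroup
of `P` by an element of the kernel. -/
theorem exists_ker_conj {Q : Type*} [Group Q] (π : K →* Q) (P : Sylow 2 K) (V : Subgroup K)
    (hV : IsPGroup 2 V) (hVP : ∀ v ∈ V, ∃ p ∈ P, π p = π v) :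
    ∃ n : K, π n = 1 ∧ ∀ v ∈ V, n * v * n⁻¹ ∈ P := by
  have h1 : ((P : Subgroup K) ⊔ π.ker : Subgroup K) = ((P : Subgroup K).map π).comap π := by
    rw [Subgroup.comap_map_eq]
  obtain ⟨c, hc, hcV⟩ := exists_conj_le_sylow P ((P : Subgroup K) ⊔ π.ker) V le_sup_left
    (by
      intro v hv
      rw [h1]
      obtain ⟨p, hp, hpv⟩ := hVP v hv
      exact ⟨p, hp, hpv⟩) hV
  rw [h1] at hc
  obtain ⟨p, hp, hpc⟩ := hc
  refine ⟨p⁻¹ * c, ?_, ?_⟩
  · rw [map_mul, map_inv, hpc, inv_mul_cancel]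
  · intro v hv
    have h2 : p⁻¹ * c * v * (p⁻¹ * c)⁻¹ = p⁻¹ * (c * v * c⁻¹) * p := by group
    rw [h2]
    exact P.mul_mem (P.mul_mem (P.inv_mem hp) (hcV v hv)) hp

section

variable {Q : Type u} [Group Q] [Finite Q] [MulAction Q Ψ] (π : K →* Q)

omit [Finite Q] in
/-- `π` is injective on commuting elements of `D` -/
theorem eq_of_map_eq (h : Setup K Ψ z) (hc : ∀ (g : K) (a : Ψ), π g • a = g • a) {d e : K}
    (hd : IsConj z d) (he : IsConj z e) (hde : Commute d e) (hπ : π d = π e) : d = e := by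
  by_contra hne
  obtain ⟨a, ha⟩ := h.ex hd
  have h1 : ∀ b : Ψ, (d * e) • b = b := by
    intro b
    rw [← hc, map_mul, ← hπ, ← map_mul, h.mul_self hd, map_one, one_smul]
  obtain ⟨p, q, hpq⟩ := h.nontriv
  exact hpq ((mul_fix_unique h hd he hde hne ha (h1 p)).trans
    (mul_fix_unique h hd he hde hne ha (h1 q)).symm)

/-- **Theorem T**, action form -/
theorem bact_of_map (h : Setup K Ψ z) (hn : NonIso z) (hπ : Function.Surjective π)
    (hc : ∀ (g : K) (a : Ψ), π g • a = g • a) (hf : ∀ g : Q, (∀ a : Ψ, g • a = a) → g = 1)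
    (hbad : ∀ v ∈ L (π z), ¬ Bad Ψ v) (hB : BenderHolds (L (π z))) : ∃ k i : ℕ, BAct K Ψ z k i ∧
      ∀ a : Ψ, ∃ (t : L (π z)) (Qa : Subgroup (L (π z))), IsRankOneSetup (L (π z)) Ψ a t Qa ∧
        IsPGroup 2 Qa ∧ Nat.card Qa = (2 ^ k) ^ i ∧
        Nat.card (involutionsIn (stabilizer (L (π z)) a : Set (L (π z)))) + 1 = 2 ^ k := by
  have hQ : Setup Q Ψ (π z) := setup_map h π hπ hc
  have hnQ : NonIso (π z) := by
    obtain ⟨d, hd, hzd, hne⟩ := id hn
    exact ⟨π d, π.map_isConj hd, hzd.map π, fun hh =>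
      hne (eq_of_map_eq π h hc (IsConj.refl z) hd hzd hh.symm).symm⟩
  obtain ⟨k, i, hk, hi1, hi3, hcard, hAt, hrank, hloc⟩ := faithful_case hQ hf hnQ hbad hB
  have hmapAt : ∀ {a : Ψ} {d : K}, d ∈ At z a → π d ∈ At (π z) a := fun {a d} hd =>
    ⟨π.map_isConj hd.1, by rw [hc]; exact hd.2⟩
  have hcommQ : ∀ {a : Ψ} {d e : K}, d ∈ At z a → e ∈ At z a → Commute (π d) (π e) := by
    intro a d e hd he
    obtain ⟨Qa, -, -, -, -, h5, -⟩ := hloc a
    exact (h5 _ (hmapAt hd)).2 _ (h5 _ (hmapAt he)).1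
  have hmod : ∀ {a : Ψ} {d e : K}, d ∈ At z a → e ∈ At z a → π (d * e * (d * e)) = 1 := by
    intro a d e hd he
    have h1 := (hcommQ hd he).eq
    rw [map_mul, map_mul]
    calc π d * π e * (π d * π e) = π d * (π e * π d) * π e := by group
      _ = π d * (π d * π e) * π e := by rw [h1]
      _ = (π d * π d) * (π e * π e) := by group
      _ = 1 := by
        rw [← map_mul, ← map_mul, h.mul_self hd.1, h.mul_self he.1, map_one, mul_one]
  -- elements of `D` in a 2-subgroup commute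
  have hcomm : ∀ P : Subgroup K, IsPGroup 2 P → ∀ d ∈ P, ∀ e ∈ P, IsConj z d → IsConj z e →
      Commute d e := by
    intro P hP d hdP e heP hd he
    obtain ⟨a, ha⟩ := h.ex hd
    obtain ⟨b, hb⟩ := h.ex he
    obtain ⟨j, hj⟩ : ∃ j : ℕ, orderOf (d * e) = 2 ^ j := by
      obtain ⟨j, hj⟩ := IsPGroup.iff_orderOf.mp hP ⟨d * e, P.mul_mem hdP heP⟩
      exact ⟨j, by rwa [Subgroup.orderOf_mk] at hj⟩
    by_cases hab : a = b
    · subst hab
      by_contra hnc
      have hj2 : 2 ≤ j := by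
        by_contra hlt
        have hlt' : j ≤ 1 := by omega
        have h5 : (d * e) ^ 2 = 1 := by
          apply orderOf_dvd_iff_pow_eq_one.mp
          rw [hj]
          calc 2 ^ j ∣ 2 ^ 1 := pow_dvd_pow 2 hlt'
            _ = 2 := pow_one 2
        apply hnc
        have h6 : (d * e)⁻¹ = d * e := inv_eq_of_mul_eq_one_right (by rw [← pow_two]; exact h5)
        show d * e = e * d
        rw [← h6, mul_inv_rev, h.inv_eq hd, h.inv_eq he]
      obtain ⟨l, rfl⟩ : ∃ l, j = l + 2 := ⟨j - 2, by omega⟩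
      obtain ⟨w, hw, hw2, hwd, hwe, hcd, -⟩ :=
        exists_central_two d e (h.orderOf_eq hd) (h.orderOf_eq he) hj
      have hw1 : w ≠ 1 := by
        intro h1; rw [h1, orderOf_one] at hw2; exact absurd hw2 (by norm_num)
      have h7 := hmod (a := a) ⟨hd, ha⟩ ⟨he, hb⟩
      -- `w` acts trivially
      obtain ⟨s, hs⟩ := Subgroup.mem_zpowers_iff.mp hw
      have hw3 : π w = 1 := by
        rcases Int.even_or_odd' s with ⟨r, hr | hr⟩
        · rw [← hs, hr, zpow_mul, zpow_ofNat, pow_two, map_zpow, h7, one_zpow]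
        · exfalso
          -- an odd power of `d e` has order `2 ^ (l + 2)`
          have h8 : w ^ 2 = 1 := by
            rw [← hw2]; exact pow_orderOf_eq_one w
          have h9 : (d * e) ^ (2 * s) = 1 := by
            rw [mul_comm, zpow_mul, hs, zpow_ofNat, h8]
          have h10 : ((2 ^ (l + 2) : ℕ) : ℤ) ∣ 2 * s := by
            rw [← hj]; exact orderOf_dvd_iff_zpow_eq_one.mpr h9
          have h11 : (2 : ℤ) ∣ s := by
            have h12 : (2 * 2 : ℤ) ∣ 2 * s := by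
              refine dvd_trans ?_ h10
              refine ⟨(2 : ℤ) ^ l, ?_⟩
              push_cast
              ring
            exact (mul_dvd_mul_iff_left (by norm_num)).mp h12
          omega
      have hdw : IsConj z (d * w) := hd.trans hcd
      have := eq_of_map_eq π h hc hd hdw ((Commute.refl d).mul_right hwd.symm) (by
        rw [map_mul, hw3, mul_one])
      exact hw1 (by simpa using this.symm)
    · have hodd := h.odd_mul hd he ha hb hab
      have hj0 : j = 0 := by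
        by_contra hj0
        rw [hj] at hodd
        exact (Nat.not_even_iff_odd.mpr hodd) (Nat.even_pow.mpr ⟨even_two, hj0⟩)
      subst hj0
      rw [pow_zero, orderOf_eq_one_iff] at hj
      have h5 : d = e := by rw [← h.inv_eq he]; exact eq_inv_of_mul_eq_one_left hj
      rw [h5]
  -- Sylow 2-subgroups
  have hsyl : ∀ P : Sylow 2 K, ∃ a : Ψ, (∀ g ∈ P, g • a = a) ∧
      ∀ Qa : Subgroup Q, IsPGroup 2 Qa → (∀ g : Q, g • a = a → ∀ x ∈ Qa, g * x * g⁻¹ ∈ Qa) →
        ∀ x ∈ Qa, ∃ p ∈ P, π p = x := by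
    intro P
    have hfin := h.finite_points
    obtain ⟨a, ha⟩ := P.isPGroup'.nonempty_fixed_point_of_prime_not_dvd_card Ψ (by
      intro h2
      exact (Nat.not_even_iff_odd.mpr h.odd_card_points) (even_iff_two_dvd.mpr h2))
    refine ⟨a, fun g hg => ha ⟨g, hg⟩, ?_⟩
    intro Qa hQa hQn x hx
    have h1 : ((P.mapSurjective hπ : Sylow 2 Q) : Subgroup Q) ≤ Subgroup.normalizer (Qa : Set Q) := by
      intro g hg
      have hga : g • a = a := by
        obtain ⟨p, hp, rfl⟩ := hg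
        rw [hc]
        exact ha ⟨p, hp⟩
      rw [Subgroup.mem_normalizer_iff]
      intro y
      constructor
      · exact fun hy => hQn g hga y hy
      · intro hy
        have := hQn g⁻¹ (by rw [inv_smul_eq_iff, hga]) _ hy
        simpa [mul_assoc] using this
    have h2 := (P.mapSurjective hπ).isPGroup'.to_sup_of_normal_right' hQa h1
    have h3 := (P.mapSurjective hπ).is_maximal' h2 le_sup_left
    have h4 : x ∈ (((P.mapSurjective hπ : Sylow 2 Q) : Subgroup Q) ⊔ Qa : Subgroup Q) :=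
      Subgroup.mem_sup_right hx
    rw [h3] at h4
    exact h4
  -- lifting
  have hlift : ∀ (P : Sylow 2 K) (a : Ψ), (∀ Qa : Subgroup Q, IsPGroup 2 Qa →
      (∀ g : Q, g • a = a → ∀ x ∈ Qa, g * x * g⁻¹ ∈ Qa) → ∀ x ∈ Qa, ∃ p ∈ P, π p = x) →
      ∀ f ∈ At (π z) a, ∃ p ∈ P, π p = f := by
    intro P a hP f hf'
    obtain ⟨Qa, h2, -, h3, -, h5, -⟩ := hloc a
    exact hP Qa h2 h3 f (h5 f hf').1
  refine ⟨k, i, ⟨hk, hi1, hi3, hcard, ?_, ?_, hcomm, ?_, ?_, ?_⟩, hrank⟩
  · -- two-transitivity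
    intro a b c d hab hcd
    obtain ⟨g, hg⟩ := h.trans a c
    obtain ⟨Qa, -, h3, -, h4, -, -⟩ := hloc c
    have hbc : g • b ≠ c := by
      rw [← hg]
      intro hh
      exact hab (smul_left_cancel g hh).symm
    obtain ⟨x, hx, hxb⟩ := h4 (g • b) d hbc (Ne.symm hcd)
    obtain ⟨y, rfl⟩ := hπ x
    rw [hc] at hxb
    refine ⟨y * g, ?_, ?_⟩
    · rw [mul_smul, hg, ← hc, h3 _ hx]
    · rw [mul_smul, hxb]
  · intro a d hd e he c
    rw [← hc, hmod hd he, one_smul]
  · -- the number of elements of `D` in a Sylow 2-subgroup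
    intro P
    obtain ⟨a, hPa, hP⟩ := hsyl P
    rw [← hAt a]
    congr 1
    refine Nat.card_congr (Equiv.ofBijective
      (fun d => (⟨π d.1, hmapAt ⟨d.2.2, hPa _ d.2.1⟩⟩ : At (π z) a)) ⟨?_, ?_⟩)
    · rintro ⟨d, hdP, hd⟩ ⟨e, heP, he⟩ hde
      have hde' : π d = π e := congrArg Subtype.val hde
      exact Subtype.ext (eq_of_map_eq π h hc hd he (hcomm _ P.isPGroup' d hdP e heP hd he) hde')
    · rintro ⟨f, hf'⟩
      obtain ⟨p, hp, hpf⟩ := hlift P a hP f hf'
      -- an element of `D` with image `f`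
      obtain ⟨c, hcz⟩ := isConj_iff.mp hf'.1
      obtain ⟨g, rfl⟩ := hπ c
      have hd : IsConj z (g * z * g⁻¹) := isConj_iff.mpr ⟨g, rfl⟩
      have hπd : π (g * z * g⁻¹) = f := by rw [map_mul, map_mul, map_inv, hcz]
      obtain ⟨n, hn1, hnV⟩ := exists_ker_conj π P (Subgroup.zpowers (g * z * g⁻¹))
        (isPGroup_zpowers (h.mul_self hd)) (by
          intro v hv
          obtain ⟨s, rfl⟩ := Subgroup.mem_zpowers_iff.mp hv
          exact ⟨p ^ s, P.zpow_mem hp s, by rw [map_zpow, map_zpow, hπd, hpf]⟩)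
      refine ⟨⟨n * (g * z * g⁻¹) * n⁻¹, hnV _ (Subgroup.mem_zpowers _), conj_mem hd n⟩, ?_⟩
      apply Subtype.ext
      show π (n * (g * z * g⁻¹) * n⁻¹) = f
      rw [map_mul, map_mul, map_inv, hn1, hπd, inv_one, mul_one, one_mul]
  · -- fusion
    intro P d hdP e heP hd he
    obtain ⟨a, hPa, hP⟩ := hsyl P
    have hda : d ∈ At z a := ⟨hd, hPa d hdP⟩
    have hea : e ∈ At z a := ⟨he, hPa e heP⟩
    obtain ⟨c, hca, hcd⟩ := hQ.exists_conj_at (hmapAt hda) (hmapAt hea)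
    obtain ⟨g, rfl⟩ := hπ c
    rw [hc] at hca
    -- the subgroup generated by `D ∩ P`
    set W : Subgroup K := Subgroup.closure {x : K | x ∈ P ∧ IsConj z x} with hW
    have hWP : W ≤ P := by
      rw [hW, Subgroup.closure_le]
      exact fun x hx => hx.1
    have hV2 : IsPGroup 2 (W.map (MulAut.conj g).toMonoidHom) :=
      (P.isPGroup'.to_le hWP).map _
    have hVP : ∀ v ∈ W.map (MulAut.conj g).toMonoidHom, ∃ p ∈ P, π p = π v := by
      have hle : W ≤ (((P : Subgroup K).map π).comap π).comap (MulAut.conj g).toMonoidHom := by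
        rw [hW, Subgroup.closure_le]
        rintro x ⟨hxP, hx⟩
        have h6 : g * x * g⁻¹ ∈ At z a := by
          have := conj_mem_At g (⟨hx, hPa x hxP⟩ : x ∈ At z a)
          rwa [hca] at this
        obtain ⟨p, hp, hpx⟩ := hlift P a hP _ (hmapAt h6)
        exact ⟨p, hp, hpx⟩
      rintro _ ⟨x, hx, rfl⟩
      obtain ⟨p, hp, hpx⟩ := hle hx
      exact ⟨p, hp, hpx⟩
    obtain ⟨n, hn1, hnV⟩ := exists_ker_conj π P _ hV2 hVP
    have hmem : ∀ x ∈ P, IsConj z x → n * g * x * (n * g)⁻¹ ∈ P := by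
      intro x hxP hx
      have h6 : x ∈ W := Subgroup.subset_closure ⟨hxP, hx⟩
      have h7 := hnV (g * x * g⁻¹) ⟨x, h6, rfl⟩
      have h8 : n * g * x * (n * g)⁻¹ = n * (g * x * g⁻¹) * n⁻¹ := by group
      rw [h8]; exact h7
    refine ⟨n * g, hmem, ?_⟩
    refine eq_of_map_eq π h hc (conj_mem hd _) he
      (hcomm _ P.isPGroup' _ (hmem d hdP hd) e heP (conj_mem hd _) he) ?_
    have h9 : n * g * d * (n * g)⁻¹ = n * (g * d * g⁻¹) * n⁻¹ := by group
    rw [h9, map_mul, map_mul, map_inv, hn1, map_mul, map_mul, map_inv, hcd, inv_one, mul_one,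
      one_mul]
  · -- transitivity of a Sylow 2-subgroup
    intro P
    obtain ⟨a, hPa, hP⟩ := hsyl P
    refine ⟨a, hPa, ?_⟩
    intro b c hb hc'
    obtain ⟨Qa, h2, -, h3, h4, -, -⟩ := hloc a
    obtain ⟨x, hx, hxb⟩ := h4 b c hb hc'
    obtain ⟨p, hp, hpx⟩ := hP Qa h2 h3 x hx
    exact ⟨p, hp, by rw [← hc, hpx, hxb]⟩

end

end Cfsg.Agent.AschCrit.InductAct
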