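import Cfsg.Agent.AschCrit.NonIso
import Cfsg.Agent.AschCrit.RankOneCard
import Cfsg.Agent.StrongEmb.Split

/-!
# Aschbacher's criterion: faithful actions without bad involutions

Set-up `Setup K Ψ z`, faithful, `z` not isolated, no bad involutions in the normal closure `L z` of
`z`, and Bender's theorem known.  `L z` is a simple group.

* `rankOne_congr` : transport of a rank one set-up along an equivariant bijection
* `exists_rankOne` : `L z` has a rank one set-up on `Ψ` at every point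
* `faithful_case` : the numerical conclusions, `|Ψ| = q ^ i + 1`, `|D_a| = q - 1`, and the normal
  2-subgroups `Q_a` of `K_a` transitive on `Ψ - a`
-/

set_option autoImplicit false

universe u

namespace Cfsg.Agent.AschCrit.InductFaithful

open Cfsg MulAction
open Cfsg.Agent.TwoFusion.StronglyEmbeddedBasic Cfsg.Agent.AschCrit.Basic
open Cfsg.Agent.AschCrit.Basic.Setup Cfsg.Agent.AschCrit.Closed Cfsg.Agent.AschCrit.Descent
open Cfsg.Agent.AschCrit.NonIso
open Cfsg.Agent.StrongEmb.Basic Cfsg.Agent.StrongEmb.TwoRank Cfsg.Agent.StrongEmb.Split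

/-- transport of a rank-one set-up along an equivariant bijection -/
theorem rankOne_congr {G Ω Ω' : Type*} [Group G] [MulAction G Ω] [MulAction G Ω'] (e : Ω → Ω')
    (he : Function.Bijective e) (hc : ∀ (g : G) (x : Ω), e (g • x) = g • e x) {a : Ω} {t : G}
    {Q : Subgroup G} (h : IsRankOneSetup G Ω a t Q) : IsRankOneSetup G Ω' (e a) t Q := by
  have hst : ∀ x : Ω, stabilizer G (e x) = stabilizer G x := by
    intro x
    ext g
    rw [mem_stabilizer_iff, mem_stabilizer_iff, ← hc]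
    exact ⟨fun h => he.1 h, fun h => by rw [h]⟩
  have h2 : stabilizer G (t • e a) = stabilizer G (t • a) := by rw [← hc]; exact hst _
  have h2t := h.two_transitive
  rw [is_two_pretransitive_iff] at h2t
  refine
    { two_transitive := ?_
      mul_self := h.mul_self
      ne_one := h.ne_one
      not_mem := by rw [hst]; exact h.not_mem
      le := by rw [hst]; exact h.le
      conj_mem := by rw [hst]; exact h.conj_mem
      inf_eq_bot := by rw [h2]; exact h.inf_eq_bot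
      sup_eq := by rw [hst, h2]; exact h.sup_eq
      even_card := h.even_card
      odd_card := by rw [hst, h2]; exact h.odd_card }
  rw [is_two_pretransitive_iff]
  intro a b c d hab hcd
  obtain ⟨a, rfl⟩ := he.2 a
  obtain ⟨b, rfl⟩ := he.2 b
  obtain ⟨c, rfl⟩ := he.2 c
  obtain ⟨d, rfl⟩ := he.2 d
  obtain ⟨g, hg1, hg2⟩ := h2t (a := a) (b := b) (c := c) (d := d) (fun hh => hab (by rw [hh]))
    (fun hh => hcd (by rw [hh]))
  exact ⟨g, by rw [← hc, hg1], by rw [← hc, hg2]⟩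

variable {K Ψ : Type u} [Group K] [Finite K] [MulAction K Ψ] {z : K}

/-- the normal closure of `z` -/
abbrev L (z : K) : Subgroup K := Subgroup.normalClosure ({z} : Set K)

omit [Finite K] in
theorem mem_L {d : K} (hd : IsConj z d) : d ∈ L z := by
  obtain ⟨g, rfl⟩ := isConj_iff.mp hd
  have hz : z ∈ L z := Subgroup.subset_normalClosure rfl
  exact Subgroup.normalClosure_normal.conj_mem z hz g

theorem uniqueFix (h : Setup K Ψ z) (hf : ∀ g : K, (∀ a : Ψ, g • a = a) → g = 1)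
    (hbad : ∀ v ∈ L z, ¬ Bad Ψ v) : UniqueFix (L z) Ψ := by
  rintro ⟨t, htL⟩ ht
  rw [Subgroup.orderOf_mk] at ht
  have hz : IsConj z t := (isConj_or_bad h hf ht).resolve_right (hbad t htL)
  obtain ⟨x, hx⟩ := h.ex hz
  exact ⟨x, hx, fun y hy => h.uniq hz hy hx⟩

/-- there is a rank-one set-up for the normal closure of `z` on `Ψ` at every point -/
theorem exists_rankOne (h : Setup K Ψ z) (hf : ∀ g : K, (∀ a : Ψ, g • a = a) → g = 1)
    (hn : NonIso z) (hbad : ∀ v ∈ L z, ¬ Bad Ψ v) (hB : BenderHolds (L z)) (a : Ψ) :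
    ∃ (t : L z) (Q : Subgroup (L z)), IsRankOneSetup (L z) Ψ a t Q ∧ IsPGroup 2 Q ∧
      ∀ x : L z, x • a = a → (∃ n : ℕ, orderOf x = 2 ^ n) → x ∈ Q := by
  have hsim : IsSimpleGroup (L z) := isSimpleGroup_closure h hf hn
  have hU : UniqueFix (L z) Ψ := uniqueFix h hf hbad
  -- an element `b ≠ a` and involutions
  obtain ⟨b, hab⟩ : ∃ b : Ψ, a ≠ b := by
    obtain ⟨p, q, hpq⟩ := h.nontriv
    by_cases hap : a = p
    · exact ⟨q, by rw [hap]; exact hpq⟩
    · exact ⟨p, hap⟩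
  obtain ⟨d, hd⟩ := h.nonempty_At a
  obtain ⟨e, he⟩ := h.nonempty_At b
  have hdL := mem_L hd.1
  have heL := mem_L he.1
  have hd2 : orderOf (⟨d, hdL⟩ : L z) = 2 := by rw [Subgroup.orderOf_mk]; exact h.orderOf_eq hd.1
  have hda : (⟨d, hdL⟩ : L z) • a = a := hd.2
  have hea : (⟨e, heL⟩ : L z) • a ≠ a := fun hh => hab (h.uniq he.1 hh he.2)
  have hse := hU.stronglyEmbedded hd2 hda hea
  have hcp : CommPair (L z) := by
    obtain ⟨f, hf1, hf2, hf3⟩ := hn
    exact commPair_subgroup (mem_L (IsConj.refl z)) (mem_L hf1) h.invol (h.orderOf_eq hf1)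
      (Ne.symm hf3) hf2
  obtain ⟨Q, hQ, hQ2⟩ := hB _ hse hcp (normalCore_eq_bot_of_simple hse.1)
  obtain ⟨-, hQm⟩ := isPGroup_of_isSplit hse hQ hcp
  have he2 : orderOf (⟨e, heL⟩ : L z) = 2 := by rw [Subgroup.orderOf_mk]; exact h.orderOf_eq he.1
  have hS := setup_of_isSplit hse hQ (t := ⟨e, heL⟩) (fun hh => hea hh) he2
  refine ⟨⟨e, heL⟩, Q, ?_, hQ2, fun x hx hx2 => hQm x hx hx2⟩
  have key := rankOne_congr (ofQuotientStabilizer (L z) a) ⟨injective_ofQuotientStabilizer _ _, ?_⟩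
    (fun g x => ofQuotientStabilizer_smul _ _ g x) hS
  · have h1 : ofQuotientStabilizer (L z) a ((1 : L z) : L z ⧸ stabilizer (L z) a) = a := by
      rw [ofQuotientStabilizer_mk, one_smul]
    rwa [h1] at key
  · intro c
    by_cases hac : a = c
    · exact ⟨((1 : L z) : L z ⧸ stabilizer (L z) a), by
        rw [ofQuotientStabilizer_mk, one_smul, hac]⟩
    · obtain ⟨f, hf'⟩ := h.nonempty_At c
      obtain ⟨x, hx, hxs, -, -⟩ := h.exists_swap_mem (L z) hac hd hf' hdL (mem_L hf'.1)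
      exact ⟨((⟨x, hx⟩ : L z) : L z ⧸ stabilizer (L z) a), hxs.2⟩

/-- the conclusions in the faithful case without bad involutions -/
theorem faithful_case (h : Setup K Ψ z) (hf : ∀ g : K, (∀ a : Ψ, g • a = a) → g = 1)
    (hn : NonIso z) (hbad : ∀ v ∈ L z, ¬ Bad Ψ v) (hB : BenderHolds (L z)) :
    ∃ k i : ℕ, 2 ≤ k ∧ 1 ≤ i ∧ i ≤ 3 ∧ Nat.card Ψ = (2 ^ k) ^ i + 1 ∧
      (∀ a : Ψ, Nat.card (At z a) + 1 = 2 ^ k) ∧
      (∀ a : Ψ, ∃ (t : L z) (Q : Subgroup (L z)), IsRankOneSetup (L z) Ψ a t Q ∧ IsPGroup 2 Q ∧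
        Nat.card Q = (2 ^ k) ^ i ∧
        Nat.card (involutionsIn (stabilizer (L z) a : Set (L z))) + 1 = 2 ^ k) ∧
      ∀ a : Ψ, ∃ Q : Subgroup K, IsPGroup 2 Q ∧ (∀ g ∈ Q, g • a = a) ∧
        (∀ g : K, g • a = a → ∀ x ∈ Q, g * x * g⁻¹ ∈ Q) ∧
        (∀ b c : Ψ, b ≠ a → c ≠ a → ∃ x ∈ Q, x • b = c) ∧
        (∀ d ∈ At z a, d ∈ Q ∧ ∀ x ∈ Q, Commute d x) ∧ Nat.card Q = (2 ^ k) ^ i := by
  have hsim : IsSimpleGroup (L z) := isSimpleGroup_closure h hf hn
  have hff : FaithfulSMul (L z) Ψ := by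
    refine ⟨fun {g₁ g₂} hg => ?_⟩
    have h1 : ((g₂ : K)⁻¹ * (g₁ : K)) = 1 := by
      apply hf
      intro a
      rw [mul_smul, inv_smul_eq_iff]
      exact hg a
    exact Subtype.ext (inv_mul_eq_one.mp h1).symm
  have h2 : ∃ x y : L z, x ≠ 1 ∧ y ≠ 1 ∧ x ≠ y ∧ x * x = 1 ∧ y * y = 1 ∧ x * y = y * x := by
    obtain ⟨f, hf1, hf2, hf3⟩ := hn
    have hcp : CommPair (L z) := commPair_subgroup (mem_L (IsConj.refl z)) (mem_L hf1) h.invol
      (h.orderOf_eq hf1) (Ne.symm hf3) hf2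
    exact hcp.exists_sq
  -- the local form at a point
  have hloc : ∀ a : Ψ, ∃ (k i : ℕ), 2 ≤ k ∧ 1 ≤ i ∧ i ≤ 3 ∧ Nat.card Ψ = (2 ^ k) ^ i + 1 ∧
      Nat.card (At z a) + 1 = 2 ^ k ∧
      (∃ (t : L z) (Q : Subgroup (L z)), IsRankOneSetup (L z) Ψ a t Q ∧ IsPGroup 2 Q ∧
        Nat.card Q = (2 ^ k) ^ i ∧
        Nat.card (involutionsIn (stabilizer (L z) a : Set (L z))) + 1 = 2 ^ k) ∧
      ∃ Q : Subgroup K, IsPGroup 2 Q ∧ (∀ g ∈ Q, g • a = a) ∧
        (∀ g : K, g • a = a → ∀ x ∈ Q, g * x * g⁻¹ ∈ Q) ∧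
        (∀ b c : Ψ, b ≠ a → c ≠ a → ∃ x ∈ Q, x • b = c) ∧
        (∀ d ∈ At z a, d ∈ Q ∧ ∀ x ∈ Q, Commute d x) ∧ Nat.card Q = (2 ^ k) ^ i := by
    intro a
    obtain ⟨t, Q, hS, hQ2, hQm⟩ := exists_rankOne h hf hn hbad hB a
    obtain ⟨k, i, hk, hi1, hi3, hck, hcQ⟩ := RankOneCard.card_Q hS h2
    obtain ⟨hreg, hcard, -, -, -⟩ := Cfsg.Agent.S1119.result hS
    obtain ⟨hcen, -⟩ := Cfsg.Agent.S1130.result hS h2
    have hAt : ∀ d : K, d ∈ At z a ↔
        ∃ hd : d ∈ L z, (⟨d, hd⟩ : L z) ∈ involutionsIn (stabilizer (L z) a : Set (L z)) := by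
      intro d
      constructor
      · intro hd
        refine ⟨mem_L hd.1, ?_, ?_, ?_⟩
        · exact hd.2
        · intro h1
          have h3 := h.orderOf_eq hd.1
          have h4 : d = 1 := congrArg Subtype.val h1
          rw [h4, orderOf_one] at h3
          exact absurd h3 (by norm_num)
        · exact Subtype.ext (h.mul_self hd.1)
      · rintro ⟨hd, hd1, hd2, hd3⟩
        have h3 : orderOf d = 2 := orderOf_eq_two_of_mul_self (congrArg Subtype.val hd3)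
          (fun h1 => hd2 (Subtype.ext h1))
        exact ⟨(isConj_or_bad h hf h3).resolve_right (hbad d hd), hd1⟩
    refine ⟨k, i, hk, hi1, hi3, by rw [hcard, hcQ], ?_, ⟨t, Q, hS, hQ2, hcQ, hck⟩,
      Q.map (L z).subtype, hQ2.map _, ?_, ?_, ?_, ?_, ?_⟩
    · rw [← hck]
      congr 1
      refine Nat.card_congr
        { toFun := fun d => ⟨⟨d.1, ((hAt d.1).mp d.2).1⟩, ((hAt d.1).mp d.2).2⟩
          invFun := fun d => ⟨d.1.1, (hAt d.1.1).mpr ⟨d.1.2, d.2⟩⟩
          left_inv := fun d => rfl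
          right_inv := fun d => rfl }
    · rintro _ ⟨g, hg, rfl⟩
      exact hS.le hg
    · rintro g hg _ ⟨x, hx, rfl⟩
      have hLn : (L z).Normal := Subgroup.normalClosure_normal
      have h5 : g * (x : K) * g⁻¹ ∈ L z := hLn.conj_mem x x.2 g
      refine ⟨⟨g * (x : K) * g⁻¹, h5⟩, hQm _ ?_ ?_, rfl⟩
      · show (g * (x : K) * g⁻¹) • a = a
        have h6 : (x : K) • a = a := hS.le hx
        have h7 : g⁻¹ • a = a := by rw [inv_smul_eq_iff, hg]
        rw [mul_smul, mul_smul, h7, h6, hg]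
      · obtain ⟨n, hn'⟩ := IsPGroup.iff_orderOf.mp hQ2 ⟨x, hx⟩
        refine ⟨n, ?_⟩
        rw [Subgroup.orderOf_mk, orderOf_conj, Subgroup.orderOf_coe]
        rwa [Subgroup.orderOf_mk] at hn'
    · intro b c hb hc
      obtain ⟨x, hx, -⟩ := hreg b c hb hc
      exact ⟨(x : L z), ⟨x, x.2, rfl⟩, hx⟩
    · intro d hd
      obtain ⟨hdL, hdi⟩ := (hAt d).mp hd
      obtain ⟨h8, h9⟩ := hcen _ hdi
      refine ⟨⟨_, h8, rfl⟩, ?_⟩
      rintro _ ⟨x, hx, rfl⟩
      exact congrArg Subtype.val (h9 x hx)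
    · rw [← hcQ]
      exact (Nat.card_congr (Q.equivMapOfInjective _ (L z).subtype_injective).toEquiv).symm
  -- independence of the point
  obtain ⟨a₀, -⟩ := h.exists_fix
  obtain ⟨k, i, hk, hi1, hi3, hcard, hAt, -, -⟩ := hloc a₀
  have hAt' : ∀ a : Ψ, Nat.card (At z a) + 1 = 2 ^ k := fun a => by
    rw [h.card_at_eq a a₀]; exact hAt
  have huniq : ∀ k' i' : ℕ, ∀ a : Ψ, Nat.card Ψ = (2 ^ k') ^ i' + 1 →
      Nat.card (At z a) + 1 = 2 ^ k' → k' = k ∧ i' = i := by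
    intro k' i' a h1 h2
    have h3 : 2 ^ k' = 2 ^ k := by rw [← h2, hAt' a]
    have h4 : k' = k := Nat.pow_right_injective le_rfl h3
    subst h4
    refine ⟨rfl, ?_⟩
    rw [hcard] at h1
    have h5 : (2 ^ k') ^ i = (2 ^ k') ^ i' := by omega
    have h6 : 2 ≤ 2 ^ k' := by
      calc 2 = 2 ^ 1 := by norm_num
        _ ≤ 2 ^ k' := Nat.pow_le_pow_right (by norm_num) (by omega)
    exact (Nat.pow_right_injective h6 h5).symm
  refine ⟨k, i, hk, hi1, hi3, hcard, hAt', ?_, ?_⟩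
  · intro a
    obtain ⟨k', i', -, -, -, h1, h2, h3, -⟩ := hloc a
    obtain ⟨rfl, rfl⟩ := huniq k' i' a h1 h2
    exact h3
  · intro a
    obtain ⟨k', i', -, -, -, h1, h2, -, h3⟩ := hloc a
    obtain ⟨rfl, rfl⟩ := huniq k' i' a h1 h2
    exact h3

end Cfsg.Agent.AschCrit.InductFaithful
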