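import Cfsg.Agent.AschCrit.Count
import Cfsg.Agent.AschCrit.FourGroup
import Cfsg.Agent.Walter.SylowIn

/-!
# Aschbacher's criterion: the normaliser of `B = E × ⟨w⟩`

`w` is a bad involution fixing `a`, `P` a Sylow 2-subgroup of `C(w)_a`, `D ∩ P` is commutative,
`E = (D ∩ P) ∪ {1}`, `q = |E|`.

* `LocalB` : these hypotheses; `LocalB.conj`, `LocalB.of_sylIn`, `LocalB.exists_point` : transport
* `LocalB.exists_norm` : for `e ∈ D ∩ P` there is `k ∈ G_a` normalising `E` with `k w k⁻¹ = w e`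
* `normB` : the normaliser of `E ∪ wE`; `card_normB` : `|N| = q |N ∩ C(w)|`
* `exists_sylow_normB` : if `T ≤ G_{ab}` is a 2-subgroup of maximal order (among those with two fixed
  points), `w ∈ Z(T)`, `C(w)_a` transitive on the `F = 2^j` other fixed points of `w`, then a Sylow
  2-subgroup of `N` has order `q F |T|`
* `dvd_points` : then `q F ∣ n - 1`
* `dvd_add` : then `q ∣ r + c`, if `q ∣ F`
-/

set_option autoImplicit false

namespace Cfsg.Agent.AschCrit.NormB

open Cfsg.Agent.TwoFusion.StronglyEmbeddedBasic Cfsg.Agent.AschCrit.Basic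
open Cfsg.Agent.AschCrit.Basic.Setup Cfsg.Agent.AschCrit.Closed
open Cfsg.Agent.AschCrit.Count Cfsg.Agent.AschCrit.FourGroup
open Cfsg.Agent.Walter.SylowIn

/-- `C(w)_a` -/
def ctr {G Ω : Type*} [Group G] [MulAction G Ω] (w : G) (a : Ω) : Subgroup G :=
  Subgroup.centralizer ({w} : Set G) ⊓ MulAction.stabilizer G a

variable {G Ω : Type*} [Group G] [MulAction G Ω] {z : G}

theorem mem_ctr {w : G} {a : Ω} {x : G} : x ∈ ctr w a ↔ Commute x w ∧ x • a = a := by
  rw [ctr, Subgroup.mem_inf, Subgroup.mem_centralizer_singleton_iff, MulAction.mem_stabilizer_iff]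
  exact Iff.rfl

theorem map_ctr {w : G} {a : Ω} (g : G) :
    (ctr w a).map (MulAut.conj g).toMonoidHom = ctr (g * w * g⁻¹) (g • a) := by
  ext x
  constructor
  · rintro ⟨y, hy, rfl⟩
    obtain ⟨h1, h2⟩ := mem_ctr.mp hy
    rw [mem_ctr]
    change Commute (g * y * g⁻¹) (g * w * g⁻¹) ∧ (g * y * g⁻¹) • g • a = g • a
    refine ⟨?_, ?_⟩
    · show g * y * g⁻¹ * (g * w * g⁻¹) = g * w * g⁻¹ * (g * y * g⁻¹)
      calc g * y * g⁻¹ * (g * w * g⁻¹) = g * (y * w) * g⁻¹ := by group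
        _ = g * (w * y) * g⁻¹ := by rw [h1.eq]
        _ = _ := by group
    · rw [mul_smul, mul_smul, inv_smul_smul, h2]
  · intro hx
    obtain ⟨h1, h2⟩ := mem_ctr.mp hx
    refine ⟨g⁻¹ * x * g, mem_ctr.mpr ⟨?_, ?_⟩, ?_⟩
    · show g⁻¹ * x * g * w = w * (g⁻¹ * x * g)
      calc g⁻¹ * x * g * w = g⁻¹ * (x * (g * w * g⁻¹)) * g := by group
        _ = g⁻¹ * ((g * w * g⁻¹) * x) * g := by rw [h1.eq]
        _ = _ := by group
    · rw [mul_smul, mul_smul, h2, inv_smul_smul]
    · change g * (g⁻¹ * x * g) * g⁻¹ = x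
      group

/-- the local data at the bad involution `w`: `P` is a Sylow 2-subgroup of `C(w)_a`, `D ∩ P` is
commutative and `|D ∩ P| + 1 = q` -/
structure LocalB (z w : G) (a : Ω) (P : Subgroup G) (q : ℕ) : Prop where
  bad : Bad Ω w
  fix : w • a = a
  sylow : SylIn 2 P (ctr w a)
  comm : ∀ d ∈ P, ∀ e ∈ P, IsConj z d → IsConj z e → Commute d e
  card : Nat.card {d : G // d ∈ P ∧ IsConj z d} + 1 = q

theorem LocalB.conj [Finite G] {w : G} {a : Ω} {P : Subgroup G} {q : ℕ}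
    (L : LocalB z w a P q) (g : G) :
    LocalB z (g * w * g⁻¹) (g • a) (P.map (MulAut.conj g).toMonoidHom) q := by
  refine ⟨L.bad.conj g, ?_, ?_, ?_, ?_⟩
  · rw [mul_smul, mul_smul, inv_smul_smul, L.fix]
  · have : Fact (Nat.Prime 2) := ⟨Nat.prime_two⟩
    rw [← map_ctr]
    exact L.sylow.map_conj g
  · rintro _ ⟨d, hd, rfl⟩ _ ⟨e, he, rfl⟩ h1 h2
    change IsConj z (g * d * g⁻¹) at h1
    change IsConj z (g * e * g⁻¹) at h2
    have h1' : IsConj z d := by
      have := conj_mem_inv h1 g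
      rwa [show g⁻¹ * (g * d * g⁻¹) * g = d by group] at this
    have h2' : IsConj z e := by
      have := conj_mem_inv h2 g
      rwa [show g⁻¹ * (g * e * g⁻¹) * g = e by group] at this
    have h3 := L.comm d hd e he h1' h2'
    show g * d * g⁻¹ * (g * e * g⁻¹) = g * e * g⁻¹ * (g * d * g⁻¹)
    calc g * d * g⁻¹ * (g * e * g⁻¹) = g * (d * e) * g⁻¹ := by group
      _ = g * (e * d) * g⁻¹ := by rw [h3.eq]
      _ = _ := by group
  · rw [← L.card]
    congr 1
    refine Nat.card_congr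
      { toFun := fun d => ⟨g⁻¹ * d.1 * g, ?_, ?_⟩
        invFun := fun d => ⟨g * d.1 * g⁻¹, ⟨d.1, d.2.1, rfl⟩, conj_mem d.2.2 g⟩
        left_inv := fun d => by ext; simp [mul_assoc]
        right_inv := fun d => by ext; simp [mul_assoc] }
    · obtain ⟨x, hx, hxd⟩ := d.2.1
      have h1 : g * x * g⁻¹ = d.1 := hxd
      have : g⁻¹ * d.1 * g = x := by rw [← h1]; group
      rw [this]; exact hx
    · exact conj_mem_inv d.2.2 g

/-- change of the Sylow subgroup -/
theorem LocalB.of_sylIn [Finite G] {w : G} {a : Ω} {P P' : Subgroup G} {q : ℕ}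
    (L : LocalB z w a P q) (hP' : SylIn 2 P' (ctr w a)) : LocalB z w a P' q := by
  have : Fact (Nat.Prime 2) := ⟨Nat.prime_two⟩
  obtain ⟨g, hg, rfl⟩ := L.sylow.exists_conj hP'
  obtain ⟨h1, h2⟩ := mem_ctr.mp hg
  have := L.conj g
  rwa [h1.eq, mul_inv_cancel_right, h2] at this

/-- change of the fixed point -/
theorem LocalB.exists_point [Finite G] (h : Setup G Ω z) {w : G} {a : Ω} {P : Subgroup G} {q : ℕ}
    (L : LocalB z w a P q) {b : Ω} (hb : w • b = b) : ∃ P' : Subgroup G, LocalB z w b P' q := by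
  obtain ⟨c, hc, rfl⟩ := exists_commute_smul h L.bad.mul_self L.fix hb
  have := L.conj c
  rw [hc.eq, mul_inv_cancel_right] at this
  exact ⟨_, this⟩

section

variable [Finite G] (h : Setup G Ω z) (hf : ∀ g : G, (∀ a : Ω, g • a = a) → g = 1)
  {w : G} {a : Ω} {P : Subgroup G} {q : ℕ} (L : LocalB z w a P q)

/-- `E = (D ∩ P) ∪ {1}` -/
abbrev eSub : Subgroup G := dSubgroup h hf P L.comm

omit [Finite G] in
theorem mem_eSub [Finite G] {x : G} : x ∈ eSub h hf L ↔ x = 1 ∨ (x ∈ P ∧ IsConj z x) := Iff.rfl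

include h in
theorem card_eSub : Nat.card (eSub h hf L) = q := by
  classical
  have h1 : ¬ IsConj z (1 : G) := by
    intro h1
    have := h.orderOf_eq h1
    rw [orderOf_one] at this
    exact absurd this (by norm_num)
  refine Eq.trans ?_ L.card
  have e : eSub h hf L ≃ Option {d : G // d ∈ P ∧ IsConj z d} :=
    { toFun := fun x => if hx : x.1 = 1 then none else some ⟨x.1, by
        rcases x.2 with h2 | h2
        · exact absurd h2 hx
        · exact h2⟩
      invFun := fun y => match y with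
        | none => 1
        | some d => ⟨d.1, Or.inr d.2⟩
      left_inv := by
        rintro ⟨x, hx⟩
        by_cases h2 : x = 1
        · subst h2; simp only [dite_true]; rfl
        · simp [h2]
      right_inv := by
        intro y
        match y with
        | none => simp
        | some ⟨d, hd⟩ =>
          have : d ≠ 1 := by rintro rfl; exact h1 hd.2
          simp [this] }
  rw [Nat.card_congr e, Finite.card_option]

theorem eSub_le : eSub h hf L ≤ P := by
  rintro x (rfl | ⟨hx, -⟩)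
  · exact P.one_mem
  · exact hx

theorem commute_of_mem_eSub {x y : G} (hx : x ∈ eSub h hf L) (hy : y ∈ eSub h hf L) :
    Commute x y := by
  rcases hx with rfl | ⟨hx, hx'⟩
  · exact Commute.one_left _
  rcases hy with rfl | ⟨hy, hy'⟩
  · exact Commute.one_right _
  exact L.comm x hx y hy hx' hy'

theorem mul_self_of_mem_eSub {x : G} (hx : x ∈ eSub h hf L) : x * x = 1 := by
  rcases hx with rfl | ⟨-, hx⟩
  · simp
  · exact h.mul_self hx

theorem conj_mem_eSub {k x : G} (hk : k ∈ P) (hx : x ∈ eSub h hf L) :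
    k * x * k⁻¹ ∈ eSub h hf L := by
  rcases hx with rfl | ⟨hx, hx'⟩
  · left; group
  · exact Or.inr ⟨P.mul_mem (P.mul_mem hk hx) (P.inv_mem hk), conj_mem hx' k⟩

/-- an element mapping `E` into itself by conjugation, inverse version -/
theorem conj_inv_mem {E : Subgroup G} {k : G} (hk : ∀ x ∈ E, k * x * k⁻¹ ∈ E) {x : G}
    (hx : x ∈ E) : k⁻¹ * x * k ∈ E := by
  have hle : E.map (MulAut.conj k).toMonoidHom ≤ E := by
    rintro _ ⟨y, hy, rfl⟩
    exact hk y hy
  have hcard : Nat.card (E.map (MulAut.conj k).toMonoidHom) = Nat.card E :=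
    Subgroup.card_map_of_injective (MulAut.conj k).injective
  have heq := Subgroup.eq_of_le_of_card_ge hle hcard.ge
  rw [← heq] at hx
  obtain ⟨y, hy, rfl⟩ := hx
  have : k⁻¹ * ((MulAut.conj k).toMonoidHom y) * k = y := by
    change k⁻¹ * (k * y * k⁻¹) * k = y
    group
  rw [this]
  exact hy

include h in
/-- `N(E)` is transitive on `wE`. -/
theorem LocalB.exists_norm (hR1 : ∀ y : G, IsConj z y → Commute y w → IsConj w (w * y)) {e : G}
    (he : e ∈ eSub h hf L) :
    ∃ k : G, k * w * k⁻¹ = w * e ∧ k • a = a ∧ ∀ x ∈ eSub h hf L, k * x * k⁻¹ ∈ eSub h hf L := by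
  have : Fact (Nat.Prime 2) := ⟨Nat.prime_two⟩
  by_cases he1 : e = 1
  · subst he1
    exact ⟨1, by group, one_smul _ _, fun x hx => by rwa [one_mul, inv_one, mul_one]⟩
  have heP : e ∈ P := eSub_le h hf L he
  have heD : IsConj z e := by
    rcases he with he | he
    · exact absurd he he1
    · exact he.2
  obtain ⟨hew, hea⟩ := mem_ctr.mp (L.sylow.le heP)
  obtain ⟨g, hg⟩ := isConj_iff.mp (hR1 e heD hew)
  have hwe : (w * e) * (w * e) = 1 := by
    rw [hew.mul_mul_mul_comm, L.bad.mul_self, h.mul_self heD, one_mul]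
  have h1 : (w * e) • a = a := by rw [mul_smul, hea, L.fix]
  have h2 : (w * e) • (g • a) = g • a := by
    rw [← hg, mul_smul, mul_smul, inv_smul_smul, L.fix]
  obtain ⟨c, hc, hca⟩ := exists_commute_smul h hwe h2 h1
  have L1 := L.conj (c * g)
  have h3 : c * g * w * (c * g)⁻¹ = w * e := by
    calc c * g * w * (c * g)⁻¹ = c * (g * w * g⁻¹) * c⁻¹ := by group
      _ = w * e := by rw [hg, hc.eq, mul_inv_cancel_right]
  rw [h3, mul_smul, hca] at L1
  have hEle : eSub h hf L ≤ ctr (w * e) a := by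
    intro x hx
    have hx' := mem_ctr.mp (L.sylow.le (eSub_le h hf L hx))
    rw [mem_ctr]
    exact ⟨hx'.1.mul_right (commute_of_mem_eSub h hf L hx he), hx'.2⟩
  have hEp : IsPGroup 2 (eSub h hf L) := L.sylow.isPGroup.to_le (eSub_le h hf L)
  obtain ⟨g', hg', hg'E⟩ := L1.sylow.conj_le hEle hEp
  obtain ⟨hg'w, hg'a⟩ := mem_ctr.mp hg'
  have hcga : (c * g) • a = a := by rw [mul_smul, hca]
  -- `k = g'⁻¹ (c g)`
  have key : ∀ x ∈ eSub h hf L, (g'⁻¹ * (c * g))⁻¹ * x * (g'⁻¹ * (c * g))⁻¹⁻¹ ∈ eSub h hf L := by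
    intro x hx
    have h4 := hg'E x hx
    obtain ⟨y, hy, hyx⟩ := h4
    have h5 : c * g * y * (c * g)⁻¹ = g' * x * g'⁻¹ := hyx
    have h6 : (g'⁻¹ * (c * g))⁻¹ * x * (g'⁻¹ * (c * g))⁻¹⁻¹ = y := by
      calc (g'⁻¹ * (c * g))⁻¹ * x * (g'⁻¹ * (c * g))⁻¹⁻¹ =
          (c * g)⁻¹ * (g' * x * g'⁻¹) * (c * g) := by group
        _ = y := by rw [← h5]; group
    rw [h6]
    rcases hx with rfl | ⟨hx, hx'⟩
    · left; rw [← h6]; group
    · refine Or.inr ⟨hy, ?_⟩
      rw [← h6]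
      exact conj_mem hx' _
  refine ⟨g'⁻¹ * (c * g), ?_, ?_, ?_⟩
  · calc g'⁻¹ * (c * g) * w * (g'⁻¹ * (c * g))⁻¹ = g'⁻¹ * (c * g * w * (c * g)⁻¹) * g' := by group
      _ = g'⁻¹ * ((w * e) * g') := by rw [h3, mul_assoc]
      _ = w * e := by rw [← hg'w.eq]; group
  · rw [mul_smul, hcga, inv_smul_eq_iff, hg'a]
  · intro x hx
    have := conj_inv_mem key hx
    rwa [inv_inv] at this
end

/-! ### The normaliser of `E ∪ wE` -/

/-- the normaliser of `E ∪ wE` (if `E` is the set of its elements fixed by conjugation) -/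
def normB [Finite G] (E : Subgroup G) (w : G) : Subgroup G where
  carrier := {g | (∀ x ∈ E, g * x * g⁻¹ ∈ E) ∧ w⁻¹ * (g * w * g⁻¹) ∈ E}
  one_mem' := ⟨fun x hx => by rwa [one_mul, inv_one, mul_one], by simp⟩
  mul_mem' := by
    rintro g k ⟨hg, hgw⟩ ⟨hk, hkw⟩
    refine ⟨fun x hx => ?_, ?_⟩
    · have := hg _ (hk x hx)
      rwa [show g * (k * x * k⁻¹) * g⁻¹ = g * k * x * (g * k)⁻¹ by group] at this
    · have := E.mul_mem hgw (hg _ hkw)
      rwa [show w⁻¹ * (g * w * g⁻¹) * (g * (w⁻¹ * (k * w * k⁻¹)) * g⁻¹) =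
        w⁻¹ * (g * k * w * (g * k)⁻¹) by group] at this
  inv_mem' := by
    rintro g ⟨hg, hgw⟩
    refine ⟨fun x hx => ?_, ?_⟩
    · rw [inv_inv]; exact conj_inv_mem hg hx
    · have := E.inv_mem (conj_inv_mem hg hgw)
      rwa [show (g⁻¹ * (w⁻¹ * (g * w * g⁻¹)) * g)⁻¹ = w⁻¹ * (g⁻¹ * w * g⁻¹⁻¹) by group] at this

theorem mem_normB [Finite G] {E : Subgroup G} {w g : G} :
    g ∈ normB E w ↔ (∀ x ∈ E, g * x * g⁻¹ ∈ E) ∧ w⁻¹ * (g * w * g⁻¹) ∈ E := Iff.rfl

theorem card_normB [Finite G] {E : Subgroup G} {w : G}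
    (ht : ∀ e ∈ E, ∃ k ∈ normB E w, k * w * k⁻¹ = w * e) :
    Nat.card (normB E w) =
      Nat.card E * Nat.card ↥(normB E w ⊓ Subgroup.centralizer ({w} : Set G)) := by
  classical
  set N := normB E w with hN
  have h1 : ((Subgroup.centralizer ({w} : Set G)).subgroupOf N).index = Nat.card E := by
    let F : N ⧸ ((Subgroup.centralizer ({w} : Set G)).subgroupOf N) → E :=
      Quotient.lift (fun g : N => (⟨w⁻¹ * (g.1 * w * g.1⁻¹), g.2.2⟩ : E)) (by
        intro g k hgk
        have h2' : g⁻¹ * k ∈ (Subgroup.centralizer ({w} : Set G)).subgroupOf N :=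
          QuotientGroup.leftRel_apply.mp hgk
        have h2 : (g : G)⁻¹ * (k : G) ∈ Subgroup.centralizer ({w} : Set G) :=
          Subgroup.mem_subgroupOf.mp h2'
        rw [Subgroup.mem_centralizer_singleton_iff] at h2
        apply Subtype.ext
        show w⁻¹ * (g.1 * w * g.1⁻¹) = w⁻¹ * (k.1 * w * k.1⁻¹)
        congr 1
        calc g.1 * w * g.1⁻¹ = g.1 * (w * ((g : G)⁻¹ * (k : G))) * (k : G)⁻¹ := by group
          _ = g.1 * (((g : G)⁻¹ * (k : G)) * w) * (k : G)⁻¹ := by rw [h2]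
          _ = k.1 * w * k.1⁻¹ := by group)
    have hF : Function.Bijective F := by
      constructor
      · intro x y
        induction x using Quotient.inductionOn with
        | h g =>
          induction y using Quotient.inductionOn with
          | h k =>
            intro hxy
            have h3 : w⁻¹ * (g.1 * w * g.1⁻¹) = w⁻¹ * (k.1 * w * k.1⁻¹) :=
              congrArg Subtype.val hxy
            have h4 : g.1 * w * g.1⁻¹ = k.1 * w * k.1⁻¹ := mul_left_cancel h3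
            refine Quotient.sound (QuotientGroup.leftRel_apply.mpr ?_)
            rw [Subgroup.mem_subgroupOf, Subgroup.mem_centralizer_singleton_iff]
            show (g : G)⁻¹ * (k : G) * w = w * ((g : G)⁻¹ * (k : G))
            calc (g : G)⁻¹ * (k : G) * w = (g : G)⁻¹ * (k.1 * w * k.1⁻¹) * k := by group
              _ = (g : G)⁻¹ * (g.1 * w * g.1⁻¹) * k := by rw [h4]
              _ = _ := by group
      · rintro ⟨e, he⟩
        obtain ⟨k, hk, hke⟩ := ht e he
        refine ⟨Quotient.mk _ ⟨k, hk⟩, Subtype.ext ?_⟩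
        show w⁻¹ * (k * w * k⁻¹) = e
        rw [hke]; group
    rw [Subgroup.index, Nat.card_congr (Equiv.ofBijective F hF)]
  have h2 := Subgroup.card_mul_index ((Subgroup.centralizer ({w} : Set G)).subgroupOf N)
  rw [h1] at h2
  rw [← h2, mul_comm]
  congr 1
  have h3 : (Subgroup.centralizer ({w} : Set G)).subgroupOf N =
      (N ⊓ Subgroup.centralizer ({w} : Set G)).subgroupOf N := by
    rw [Subgroup.inf_subgroupOf_left]
  rw [h3]
  exact Nat.card_congr (Subgroup.subgroupOfEquivOfLe inf_le_left).toEquiv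

/-! ### Sylow subgroups -/

theorem sylIn_card {p : ℕ} [Fact p.Prime] [Finite G] {P H : Subgroup G} (hP : SylIn p P H) :
    Nat.card P = p ^ (Nat.card H).factorization p := by
  obtain ⟨T, rfl⟩ := hP
  rw [Subgroup.card_map_of_injective H.subtype_injective, Sylow.card_eq_multiplicity T]

theorem sylIn_card_mul {p : ℕ} [Fact p.Prime] [Finite G] {P H Q K : Subgroup G} {n : ℕ}
    (hP : SylIn p P H) (hQ : SylIn p Q K) (hc : Nat.card K = p ^ n * Nat.card H) :
    Nat.card Q = p ^ n * Nat.card P := by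
  have hp : p.Prime := Fact.out
  rw [sylIn_card hP, sylIn_card hQ, hc, Nat.factorization_mul (pow_pos hp.pos n).ne'
    Nat.card_pos.ne', Finsupp.add_apply, hp.factorization_pow, Finsupp.single_eq_same, pow_add]

/-- if all 2-subgroups of `Q` fixing a further point have order at most `2 ^ t` then
`|Q| / 2 ^ t` divides `n - 1` -/
theorem dvd_card_sub_one [Finite G] [Finite Ω] {Q : Subgroup G} (hQ : IsPGroup 2 Q) {a : Ω}
    (hQa : ∀ x ∈ Q, x • a = a) {d t : ℕ} (hd : Nat.card Q = d * 2 ^ t)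
    (hmax : ∀ R : Subgroup G, R ≤ Q → (∃ b : Ω, b ≠ a ∧ ∀ x ∈ R, x • b = b) →
      Nat.card R ≤ 2 ^ t) : d ∣ Nat.card Ω - 1 := by
  classical
  have : Fintype Ω := Fintype.ofFinite Ω
  let X : SubMulAction Q Ω :=
    { carrier := {b | b ≠ a}
      smul_mem' := by
        intro x b hb hh
        apply hb
        have h1 : (x : G) • b = a := hh
        have h2 : (x : G) • a = a := hQa x x.2
        exact smul_left_cancel (x : G) (by rw [h1, h2]) }
  have hX : Nat.card X = Nat.card Ω - 1 := by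
    have h1 : Nat.card {b : Ω // b ≠ a} = Nat.card Ω - 1 := by
      rw [Nat.card_eq_fintype_card, Nat.card_eq_fintype_card]
      simp [Fintype.card_subtype_compl]
    rw [← h1]
    rfl
  rw [← hX]
  have : Finite X := Subtype.finite
  have : Fintype (MulAction.orbitRel.Quotient Q X) := Fintype.ofFinite _
  rw [Nat.card_congr (MulAction.selfEquivSigmaOrbits' Q X), Nat.card_sigma]
  refine Finset.dvd_sum fun ω _ => ?_
  induction ω using Quotient.inductionOn' with
  | h x =>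
    have h1 : Nat.card (MulAction.orbit Q x) * Nat.card (MulAction.stabilizer Q x) =
        Nat.card Q := by
      rw [← Nat.card_prod]
      exact Nat.card_congr (MulAction.orbitProdStabilizerEquivGroup Q x)
    have h2 : Nat.card (MulAction.stabilizer Q x) ≤ 2 ^ t := by
      have h3 := hmax ((MulAction.stabilizer Q x).map Q.subtype) (Subgroup.map_subtype_le _)
        ⟨x.1, x.2, by
          rintro _ ⟨y, hy, rfl⟩
          have h4 : y • x = x := hy
          exact congrArg Subtype.val h4⟩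
      rwa [Subgroup.card_map_of_injective Q.subtype_injective] at h3
    have h3 : IsPGroup 2 (MulAction.stabilizer Q x) := hQ.to_subgroup _
    have : Fact (Nat.Prime 2) := ⟨Nat.prime_two⟩
    obtain ⟨s, hs⟩ := IsPGroup.iff_card.mp h3
    rw [hs] at h2 h1
    have h4 : s ≤ t := (Nat.pow_le_pow_iff_right (by norm_num)).mp h2
    obtain ⟨j, rfl⟩ := Nat.exists_eq_add_of_le h4
    rw [hd, pow_add, mul_left_comm, mul_comm (Nat.card _)] at h1
    have h5 := Nat.eq_of_mul_eq_mul_left (pow_pos (by norm_num) s) h1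
    change d ∣ Nat.card (MulAction.orbit Q x)
    rw [h5]
    exact dvd_mul_right _ _

/-- orbit-stabiliser for subgroups -/
theorem card_orbit_mul [Finite G] (H : Subgroup G) (b : Ω) :
    Nat.card {c : Ω // ∃ g ∈ H, g • b = c} * Nat.card ↥(H ⊓ MulAction.stabilizer G b) =
      Nat.card H := by
  have h1 : Nat.card (MulAction.orbit H b) * Nat.card (MulAction.stabilizer H b) =
      Nat.card H := by
    rw [← Nat.card_prod]
    exact Nat.card_congr (MulAction.orbitProdStabilizerEquivGroup H b)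
  rw [← h1]
  congr 1
  · refine Nat.card_congr (Equiv.subtypeEquivRight fun c => ?_)
    constructor
    · rintro ⟨g, hg, rfl⟩; exact ⟨⟨g, hg⟩, rfl⟩
    · rintro ⟨g, rfl⟩; exact ⟨g.1, g.2, rfl⟩
  · refine Nat.card_congr
      { toFun := fun x => ⟨⟨x.1, x.2.1⟩, x.2.2⟩
        invFun := fun x => ⟨x.1.1, x.1.2, x.2⟩
        left_inv := fun x => rfl
        right_inv := fun x => rfl }

section Main

variable [Finite G] (h : Setup G Ω z) (hf : ∀ g : G, (∀ a : Ω, g • a = a) → g = 1)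
  {w : G} {a : Ω} {P : Subgroup G} {q : ℕ} (L : LocalB z w a P q)

include h hf L in
theorem exists_pow : ∃ k : ℕ, q = 2 ^ k := by
  have : Fact (Nat.Prime 2) := ⟨Nat.prime_two⟩
  have hEp : IsPGroup 2 (eSub h hf L) := L.sylow.isPGroup.to_le (eSub_le h hf L)
  obtain ⟨k, hk⟩ := IsPGroup.iff_card.mp hEp
  exact ⟨k, by rw [← hk, card_eSub h hf L]⟩

theorem exists_mem_class (hq : 1 < q) : ∃ e ∈ eSub h hf L, IsConj z e ∧ e • a = a := by
  have h1 : Nat.card {d : G // d ∈ P ∧ IsConj z d} ≠ 0 := by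
    have := L.card
    omega
  obtain ⟨⟨d, hd, hd'⟩⟩ := (Nat.card_ne_zero.mp h1).1
  exact ⟨d, Or.inr ⟨hd, hd'⟩, hd', (mem_ctr.mp (L.sylow.le hd)).2⟩

/-- `N(E) ≤ G_a` -/
theorem fix_of_norm (hq : 1 < q) {x : G} (hx : ∀ y ∈ eSub h hf L, x * y * x⁻¹ ∈ eSub h hf L) :
    x • a = a := by
  obtain ⟨e, he, heD, hea⟩ := exists_mem_class h hf L hq
  have h1 : (x * e * x⁻¹) • a = a := (mem_ctr.mp (L.sylow.le (eSub_le h hf L (hx e he)))).2
  have h2 : (x * e * x⁻¹) • (x • a) = x • a := by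
    rw [mul_smul, mul_smul, inv_smul_smul, hea]
  exact (h.uniq (conj_mem heD x) h1 h2).symm

theorem P_le_normB : P ≤ normB (eSub h hf L) w := by
  intro x hx
  refine ⟨fun y hy => conj_mem_eSub h hf L hx hy, ?_⟩
  have h1 := (mem_ctr.mp (L.sylow.le hx)).1
  rw [h1.eq, mul_inv_cancel_right, inv_mul_cancel]
  exact Subgroup.one_mem _

theorem sylIn_inf (hq : 1 < q) :
    SylIn 2 P (normB (eSub h hf L) w ⊓ Subgroup.centralizer ({w} : Set G)) := by
  have : Fact (Nat.Prime 2) := ⟨Nat.prime_two⟩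
  refine L.sylow.of_le (le_inf (P_le_normB h hf L) ?_) ?_
  · exact L.sylow.le.trans inf_le_left
  · rintro x ⟨hx1, hx2⟩
    exact ⟨hx2, fix_of_norm h hf L hq hx1.1⟩

theorem card_normB_eq (hR1 : ∀ y : G, IsConj z y → Commute y w → IsConj w (w * y)) :
    Nat.card (normB (eSub h hf L) w) =
      q * Nat.card ↥(normB (eSub h hf L) w ⊓ Subgroup.centralizer ({w} : Set G)) := by
  rw [card_normB (fun e he => ?_), card_eSub h hf L]
  obtain ⟨k, hk, -, hkE⟩ := L.exists_norm h hf hR1 he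
  refine ⟨k, ⟨hkE, ?_⟩, hk⟩
  rw [hk, inv_mul_cancel_left]; exact he

/-- a Sylow 2-subgroup of `N(B)` has order `q |P|` -/
theorem card_sylow_normB (hq : 1 < q)
    (hR1 : ∀ y : G, IsConj z y → Commute y w → IsConj w (w * y)) {Q : Subgroup G}
    (hQ : SylIn 2 Q (normB (eSub h hf L) w)) : Nat.card Q = q * Nat.card P := by
  have : Fact (Nat.Prime 2) := ⟨Nat.prime_two⟩
  obtain ⟨k, rfl⟩ := exists_pow h hf L
  exact sylIn_card_mul (sylIn_inf h hf L hq) hQ (card_normB_eq h hf L hR1)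

include h L in
/-- `|P| = F |T|` -/
theorem card_P {j : ℕ} (hF : Nat.card {b : Ω // w • b = b} = 2 ^ j + 1) {b : Ω} (hba : b ≠ a)
    (hb : w • b = b) (htr : ∀ c : Ω, w • c = c → c ≠ a → ∃ g ∈ ctr w a, g • b = c)
    {T : Subgroup G} (hT : IsPGroup 2 T) (hTw : ∀ x ∈ T, x • a = a ∧ x • b = b ∧ Commute x w)
    (hmax : ∀ R : Subgroup G, IsPGroup 2 R →
      (∃ c d : Ω, c ≠ d ∧ ∀ r ∈ R, r • c = c ∧ r • d = d) → Nat.card R ≤ Nat.card T) :
    Nat.card P = 2 ^ j * Nat.card T := by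
  classical
  have : Fact (Nat.Prime 2) := ⟨Nat.prime_two⟩
  have := h.finite_points
  have : Fintype Ω := Fintype.ofFinite Ω
  have h1 : Nat.card {c : Ω // ∃ g ∈ ctr w a, g • b = c} = 2 ^ j := by
    have h2 : Nat.card {c : Ω // ∃ g ∈ ctr w a, g • b = c} + 1 = 2 ^ j + 1 := by
      rw [← hF, ← Finite.card_option]
      refine Nat.card_congr
        { toFun := fun c => match c with
            | none => ⟨a, L.fix⟩
            | some c => ⟨c.1, by
                obtain ⟨g, hg, hgc⟩ := c.2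
                have h3 := (mem_ctr.mp hg).1
                rw [← hgc, ← mul_smul, ← h3.eq, mul_smul, hb]⟩
          invFun := fun c => if hc : c.1 = a then none else some ⟨c.1, htr c.1 c.2 hc⟩
          left_inv := ?_
          right_inv := ?_ }
      · intro c
        match c with
        | none => simp
        | some ⟨c, hc⟩ =>
          have : c ≠ a := by
            rintro rfl
            obtain ⟨g, hg, hgc⟩ := hc
            have h3 := (mem_ctr.mp hg).2
            exact hba (smul_left_cancel g (by rw [hgc, h3]))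
          simp [this]
      · rintro ⟨c, hc⟩
        by_cases hca : c = a
        · subst hca; simp
        · simp [hca]
    omega
  have h2 := card_orbit_mul (ctr w a) b
  rw [h1] at h2
  have h3 : SylIn 2 T (ctr w a ⊓ MulAction.stabilizer G b) := by
    have hle : T ≤ ctr w a ⊓ MulAction.stabilizer G b := by
      intro x hx
      obtain ⟨h4, h5, h6⟩ := hTw x hx
      exact ⟨mem_ctr.mpr ⟨h6, h4⟩, h5⟩
    obtain ⟨T', hT', hTT'⟩ := exists_sylIn_ge hle hT
    have h4 : Nat.card T' ≤ Nat.card T := by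
      refine hmax T' hT'.isPGroup ⟨a, b, Ne.symm hba, fun r hr => ?_⟩
      have h5 := hT'.le hr
      exact ⟨(mem_ctr.mp h5.1).2, h5.2⟩
    rw [Subgroup.eq_of_le_of_card_ge hTT' h4]
    exact hT'
  exact sylIn_card_mul h3 L.sylow h2.symm

include h hf L in
/-- `q F ∣ n - 1` -/
theorem dvd_points (hq : 1 < q) (hR1 : ∀ y : G, IsConj z y → Commute y w → IsConj w (w * y))
    {j : ℕ} (hF : Nat.card {b : Ω // w • b = b} = 2 ^ j + 1) {b : Ω} (hba : b ≠ a)
    (hb : w • b = b) (htr : ∀ c : Ω, w • c = c → c ≠ a → ∃ g ∈ ctr w a, g • b = c)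
    {T : Subgroup G} (hT : IsPGroup 2 T) (hTw : ∀ x ∈ T, x • a = a ∧ x • b = b ∧ Commute x w)
    (hmax : ∀ R : Subgroup G, IsPGroup 2 R →
      (∃ c d : Ω, c ≠ d ∧ ∀ r ∈ R, r • c = c ∧ r • d = d) → Nat.card R ≤ Nat.card T) :
    q * 2 ^ j ∣ Nat.card Ω - 1 := by
  have : Fact (Nat.Prime 2) := ⟨Nat.prime_two⟩
  have := h.finite_points
  obtain ⟨Q, hQ⟩ := exists_sylIn 2 (normB (eSub h hf L) w)
  have h1 := card_sylow_normB h hf L hq hR1 hQ
  rw [card_P h L hF hba hb htr hT hTw hmax, ← mul_assoc] at h1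
  obtain ⟨t, ht⟩ := IsPGroup.iff_card.mp hT
  rw [ht] at h1
  have hQa : ∀ x ∈ Q, x • a = a := fun x hx => fix_of_norm h hf L hq (hQ.le hx).1
  refine dvd_card_sub_one hQ.isPGroup hQa h1 ?_
  rintro R hRQ ⟨c, hca, hRc⟩
  rw [← ht]
  exact hmax R (hQ.isPGroup.to_le hRQ) ⟨a, c, Ne.symm hca, fun r hr => ⟨hQa r (hRQ hr), hRc r hr⟩⟩

include h hf L in
/-- `q ∣ r + c` -/
theorem dvd_add (hq : 1 < q) (hR1 : ∀ y : G, IsConj z y → Commute y w → IsConj w (w * y))
    {j : ℕ} (hF : Nat.card {b : Ω // w • b = b} = 2 ^ j + 1) (hqF : q ∣ 2 ^ j) {b : Ω}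
    (hba : b ≠ a) (hb : w • b = b)
    (htr : ∀ c : Ω, w • c = c → c ≠ a → ∃ g ∈ ctr w a, g • b = c)
    {T : Subgroup G} (hT : IsPGroup 2 T) (hTw : ∀ x ∈ T, x • a = a ∧ x • b = b ∧ Commute x w)
    (hmax : ∀ R : Subgroup G, IsPGroup 2 R →
      (∃ c d : Ω, c ≠ d ∧ ∀ r ∈ R, r • c = c ∧ r • d = d) → Nat.card R ≤ Nat.card T)
    {e : Ω} (he : w • e ≠ e) : q ∣ Nat.card (SwC z w e) + Nat.card (AtC z w a) := by
  have := h.finite_points
  have h1 := dvd_points h hf L hq hR1 hF hba hb htr hT hTw hmax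
  have h2 := count_r h L.bad.mul_self hR1 L.fix he
  rw [hF, Nat.add_sub_cancel] at h2
  have hle : 2 ^ j + 1 ≤ Nat.card Ω := by
    rw [← hF]
    exact Nat.card_le_card_of_injective _ Subtype.val_injective
  set r := Nat.card (SwC z w e)
  set c := Nat.card (AtC z w a)
  have h3 : r * (Nat.card Ω - 1) = 2 ^ j * (r + (2 ^ j + 1) * c) := by
    obtain ⟨n, hn⟩ := Nat.exists_eq_add_of_le hle
    rw [hn] at h2 ⊢
    rw [Nat.add_sub_cancel_left] at h2
    have aux : ∀ F m : ℕ, F + 1 + m - 1 = m + F := by intro F m; omega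
    rw [aux, mul_add, mul_comm r, h2]
    ring
  have h4 : q * 2 ^ j ∣ 2 ^ j * (r + (2 ^ j + 1) * c) := by
    rw [← h3]; exact Dvd.dvd.mul_left h1 r
  rw [mul_comm q] at h4
  have h5 := Nat.dvd_of_mul_dvd_mul_left (pow_pos (by norm_num) j) h4
  have h6 : r + (2 ^ j + 1) * c = 2 ^ j * c + (r + c) := by ring
  rw [h6] at h5
  exact (Nat.dvd_add_right (Dvd.dvd.mul_right hqF c)).mp h5

include h hf L in
/-- `|D_a| = r c` and, if `c = (q - 1) c₀` with `c₀ ≡ 1 mod q`, then `r ≡ 1 mod q`. -/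
theorem modEq_one (hq : 1 < q) (hR1 : ∀ y : G, IsConj z y → Commute y w → IsConj w (w * y))
    {j : ℕ} (hF : Nat.card {b : Ω // w • b = b} = 2 ^ j + 1) (hqF : q ∣ 2 ^ j) {b : Ω}
    (hba : b ≠ a) (hb : w • b = b)
    (htr : ∀ c : Ω, w • c = c → c ≠ a → ∃ g ∈ ctr w a, g • b = c)
    {T : Subgroup G} (hT : IsPGroup 2 T) (hTw : ∀ x ∈ T, x • a = a ∧ x • b = b ∧ Commute x w)
    (hmax : ∀ R : Subgroup G, IsPGroup 2 R →
      (∃ c d : Ω, c ≠ d ∧ ∀ r ∈ R, r • c = c ∧ r • d = d) → Nat.card R ≤ Nat.card T)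
    {c₀ : ℕ} (hc : Nat.card (AtC z w a) = (q - 1) * c₀) (hc₀ : c₀ ≡ 1 [MOD q])
    {e : Ω} (he : w • e ≠ e) : Nat.card (SwC z w e) ≡ 1 [MOD q] := by
  have h1 := dvd_add h hf L hq hR1 hF hqF hba hb htr hT hTw hmax he
  rw [hc] at h1
  have h2 : Nat.card (SwC z w e) + (q - 1) * c₀ ≡ 0 [MOD q] := (Nat.modEq_zero_iff_dvd).mpr h1
  have h3 : (q - 1) * c₀ + c₀ ≡ 0 [MOD q] := by
    rw [Nat.modEq_zero_iff_dvd]
    refine ⟨c₀, ?_⟩
    obtain ⟨p, rfl⟩ : ∃ p, q = p + 1 := ⟨q - 1, by omega⟩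
    rw [Nat.add_sub_cancel]; ring
  have h4 : Nat.card (SwC z w e) + (q - 1) * c₀ ≡ c₀ + (q - 1) * c₀ [MOD q] := by
    rw [add_comm c₀]; exact h2.trans h3.symm
  exact (Nat.ModEq.add_right_cancel' _ h4).trans hc₀

end Main

end Cfsg.Agent.AschCrit.NormB
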