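import Cfsg.Agent.AschCrit.Descent

/-!
# Theorem P: an involution with a unique fixed point, pure form

`PSetup G Ω z` : `G` is transitive on `Ω` (at least two points), the involution `z` has exactly one fixed
point and, for every conjugate `z' ≠ z` of `z` commuting with `z`, `z z'` has at most one fixed point.
No 2-centrality is assumed.

* `PSetup.setup` : then `z` is central in a Sylow 2-subgroup of `G`, so that `Setup G Ω z` holds.
-/

set_option autoImplicit false

universe u v

namespace Cfsg.Agent.AschCrit.Pure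

open Cfsg.Agent.TwoFusion.StronglyEmbeddedBasic Cfsg.Agent.AschCrit.Basic
open Cfsg.Agent.AschCrit.Basic.Setup Cfsg.Agent.AschCrit.Descent

/-! ### Parity -/

theorem card_modEq_fixed {α : Type*} [Finite α] (f : α → α) (hf : ∀ x, f (f x) = x) :
    Nat.card α ≡ Nat.card {x : α // f x = x} [MOD 2] := by
  classical
  have : Fintype α := Fintype.ofFinite α
  let g : Function.End α := f
  have h3 : g ^ 2 ^ 1 = 1 := by
    rw [pow_one, pow_two]
    funext x
    exact hf x
  have h4 := Equiv.Perm.card_fixedPoints_modEq (α := α) (f := g) (p := 2) (n := 1) h3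
  rw [Nat.card_eq_fintype_card]
  refine h4.trans ?_
  rw [← Nat.card_eq_fintype_card]
  rfl

theorem odd_of_odd_fixed {α : Type*} [Finite α] (f : α → α) (hf : ∀ x, f (f x) = x)
    (h : Odd (Nat.card {x : α // f x = x})) : Odd (Nat.card α) := by
  have h1 := card_modEq_fixed f hf
  rw [Nat.odd_iff] at h ⊢
  rw [← h]; exact h1

theorem even_fixed_of_even {α : Type*} [Finite α] (f : α → α) (hf : ∀ x, f (f x) = x)
    (h : Even (Nat.card α)) : Even (Nat.card {x : α // f x = x}) := by
  have h1 := card_modEq_fixed f hf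
  rw [Nat.even_iff] at h ⊢
  rw [← h]; exact h1.symm

/-- the number of involutions of a group of even order is odd -/
theorem odd_card_involutions {G : Type*} [Group G] [Finite G] (h : Even (Nat.card G)) :
    Odd (Nat.card {t : G // orderOf t = 2}) := by
  have h1 : Even (Nat.card {x : G // x⁻¹ = x}) := even_fixed_of_even (fun x => x⁻¹) inv_inv h
  have h2 : Nat.card {x : G // x⁻¹ = x} = Nat.card {t : G // orderOf t = 2} + 1 := by
    classical
    have : Fintype G := Fintype.ofFinite G
    have e : {x : G // x⁻¹ = x} ≃ Option {t : G // orderOf t = 2} :=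
      { toFun := fun x => if hx : x.1 = 1 then none else
          some ⟨x.1, orderOf_eq_two_of_mul_self (by
            have := x.2
            nth_rewrite 1 [← this]
            exact inv_mul_cancel _) hx⟩
        invFun := fun y => match y with
          | none => ⟨1, inv_one⟩
          | some t => ⟨t.1, inv_eq_self_of_orderOf t.2⟩
        left_inv := by
          rintro ⟨x, hx⟩
          by_cases h1 : x = 1
          · simp [h1]
          · simp [h1]
        right_inv := by
          rintro (_ | ⟨t, ht⟩)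
          · simp
          · have h1 : t ≠ 1 := by
              rintro rfl
              rw [orderOf_one] at ht
              exact absurd ht (by norm_num)
            simp [h1] }
    rw [Nat.card_congr e, Nat.card_eq_fintype_card, Fintype.card_option, Nat.card_eq_fintype_card]
  rw [h2] at h1
  rw [Nat.even_add_one, Nat.not_even_iff_odd] at h1
  exact h1

/-! ### The pure set-up -/

/-- `z` has exactly one fixed point; the products of two different commuting conjugates of `z` have at
most one fixed point. -/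
structure PSetup (G : Type u) (Ω : Type v) [Group G] [MulAction G Ω] (z : G) : Prop where
  invol : orderOf z = 2
  nontriv : ∃ a b : Ω, a ≠ b
  trans : ∀ a b : Ω, ∃ g : G, g • a = b
  exists_fix : ∃ a : Ω, z • a = a
  fix_unique : ∀ a b : Ω, z • a = a → z • b = b → a = b
  pure : ∀ g : G, Commute z (g * z * g⁻¹) → g * z * g⁻¹ ≠ z →
    ∀ a b : Ω, (z * (g * z * g⁻¹)) • a = a → (z * (g * z * g⁻¹)) • b = b → a = b

namespace PSetup

variable {G : Type u} {Ω : Type v} [Group G] [MulAction G Ω] {z : G}

theorem orderOf_eq (h : PSetup G Ω z) {d : G} (hd : IsConj z d) : orderOf d = 2 := by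
  obtain ⟨g, hg⟩ := isConj_iff.mp hd
  rw [← hg, orderOf_conj, h.invol]

theorem mul_self (h : PSetup G Ω z) {d : G} (hd : IsConj z d) : d * d = 1 :=
  mul_self_of_orderOf (h.orderOf_eq hd)

theorem inv_eq (h : PSetup G Ω z) {d : G} (hd : IsConj z d) : d⁻¹ = d :=
  inv_eq_self_of_orderOf (h.orderOf_eq hd)

theorem smul_smul_self (h : PSetup G Ω z) {d : G} (hd : IsConj z d) (a : Ω) : d • d • a = a := by
  rw [smul_smul, h.mul_self hd, one_smul]

/-- every element of `D` fixes a point -/
theorem ex (h : PSetup G Ω z) {d : G} (hd : IsConj z d) : ∃ a : Ω, d • a = a := by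
  obtain ⟨g, rfl⟩ := isConj_iff.mp hd
  obtain ⟨a, ha⟩ := h.exists_fix
  exact ⟨g • a, by rw [mul_smul, mul_smul, inv_smul_smul, ha]⟩

/-- the fixed point of an element of `D` is unique -/
theorem uniq (h : PSetup G Ω z) {d : G} (hd : IsConj z d) {a b : Ω} (ha : d • a = a)
    (hb : d • b = b) : a = b := by
  obtain ⟨g, rfl⟩ := isConj_iff.mp hd
  have h1 : ∀ x : Ω, (g * z * g⁻¹) • x = x → z • (g⁻¹ • x) = g⁻¹ • x := by
    intro x hx
    rw [mul_smul, mul_smul] at hx
    exact smul_left_cancel g (by rw [hx, smul_inv_smul])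
  have := h.fix_unique _ _ (h1 a ha) (h1 b hb)
  exact smul_left_cancel g⁻¹ this

/-- an element commuting with `d ∈ D` fixes the point of `d` -/
theorem fix_of_commute (h : PSetup G Ω z) {d c : G} (hd : IsConj z d) (hc : Commute c d) {a : Ω}
    (ha : d • a = a) : c • a = a := by
  refine (h.uniq hd ha ?_).symm
  rw [smul_smul, ← hc.eq, mul_smul, ha]

theorem nonempty_At (h : PSetup G Ω z) (a : Ω) : (At z a).Nonempty := by
  obtain ⟨b, hb⟩ := h.exists_fix
  obtain ⟨g, rfl⟩ := h.trans b a
  exact ⟨g * z * g⁻¹, conj_mem_At g ⟨IsConj.refl z, hb⟩⟩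

theorem pure' (h : PSetup G Ω z) {d e : G} (hd : IsConj z d) (he : IsConj z e)
    (hde : Commute d e) (hne : d ≠ e) {a b : Ω} (ha : (d * e) • a = a) (hb : (d * e) • b = b) :
    a = b := by
  obtain ⟨k, rfl⟩ := isConj_iff.mp hd
  have he' : IsConj z (k⁻¹ * e * k) := conj_mem_inv he k
  obtain ⟨g, hg⟩ := isConj_iff.mp he'
  have e1 : z = k⁻¹ * (k * z * k⁻¹) * k := by group
  have h1 : Commute z (g * z * g⁻¹) := by
    rw [hg]
    conv_lhs => rw [e1]
    show k⁻¹ * (k * z * k⁻¹) * k * (k⁻¹ * e * k) = k⁻¹ * e * k * (k⁻¹ * (k * z * k⁻¹) * k)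
    calc k⁻¹ * (k * z * k⁻¹) * k * (k⁻¹ * e * k) = k⁻¹ * ((k * z * k⁻¹) * e) * k := by group
      _ = k⁻¹ * (e * (k * z * k⁻¹)) * k := by rw [hde.eq]
      _ = _ := by group
  have h2 : g * z * g⁻¹ ≠ z := by
    rw [hg]
    intro hh
    apply hne
    calc k * z * k⁻¹ = k * (k⁻¹ * e * k) * k⁻¹ := by rw [hh]
      _ = e := by group
  have key : ∀ c : Ω, (k * z * k⁻¹ * e) • c = c →
      (z * (g * z * g⁻¹)) • (k⁻¹ • c) = k⁻¹ • c := by
    intro c hc
    rw [hg, smul_smul]
    have : z * (k⁻¹ * e * k) * k⁻¹ = k⁻¹ * (k * z * k⁻¹ * e) := by group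
    rw [this, mul_smul, hc]
  exact smul_left_cancel k⁻¹ (h.pure g h1 h2 _ _ (key a ha) (key b hb))

theorem comm' (h : PSetup G Ω z) {d e c : G} (hd : IsConj z d) (he : IsConj z e)
    (hde : Commute d e) (hne : d ≠ e) (hc : Commute c (d * e)) {a : Ω} (ha : d • a = a) :
    c • a = a := by
  have hea : e • a = a := h.fix_of_commute hd hde.symm ha
  have h1 : (d * e) • a = a := by rw [mul_smul, hea, ha]
  refine (h.pure' hd he hde hne h1 ?_).symm
  rw [smul_smul, ← hc.eq, mul_smul, h1]

/-- elements of `D` at different points have product of odd order -/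
theorem odd_mul [Finite G] (h : PSetup G Ω z) {d e : G} (hd : IsConj z d) (he : IsConj z e)
    {a b : Ω} (ha : d • a = a) (hb : e • b = b) (hab : a ≠ b) : Odd (orderOf (d * e)) := by
  by_contra hodd
  obtain ⟨w, -, hw2, hwd, hwe, hwc⟩ :=
    exists_central d e (h.orderOf_eq hd) (h.orderOf_eq he) (orderOf_pos _) hodd
  have hdw : IsConj z (d * w) := by
    rcases hwc with hc | hc
    · exact hd.trans hc
    · exact he.trans hc
  have hw1 : w ≠ 1 := by
    intro h1; rw [h1, orderOf_one] at hw2; exact absurd hw2 (by norm_num)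
  have hcomm : Commute d (d * w) := (Commute.refl d).mul_right hwd.symm
  have hne : d ≠ d * w := by
    intro hh
    exact hw1 (by simpa using hh.symm)
  have hprod : d * (d * w) = w := by rw [← mul_assoc, h.mul_self hd, one_mul]
  have := h.comm' hd hdw hcomm hne (c := e) (by rw [hprod]; exact hwe.symm) ha
  exact hab (h.uniq he this hb)

/-- elements of `D` at different points are swapped by an element of `D` in `⟨d, e⟩` -/
theorem exists_swap [Finite G] (h : PSetup G Ω z) {d e : G} (hd : IsConj z d) (he : IsConj z e)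
    {a b : Ω} (ha : d • a = a) (hb : e • b = b) (hab : a ≠ b) :
    ∃ x ∈ Subgroup.closure ({d, e} : Set G), IsConj z x ∧ x * d * x⁻¹ = e ∧ x * e * x⁻¹ = d ∧
      x • a = b ∧ x • b = a := by
  obtain ⟨j, hj, hjc, hjd, hje⟩ := exists_swap_conj d e (h.orderOf_eq hd) (h.orderOf_eq he)
    (h.odd_mul hd he ha hb hab)
  refine ⟨j, hj, hd.trans hjc, hjd, hje, ?_, ?_⟩
  · refine h.uniq he ?_ hb
    rw [← hjd, mul_smul, mul_smul, inv_smul_smul, ha]
  · refine h.uniq hd ?_ ha
    rw [← hje, mul_smul, mul_smul, inv_smul_smul, hb]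

/-- a subgroup containing elements of `D_a` and `D_b`, `a ≠ b`, contains an element of `D` swapping
`a` and `b` -/
theorem exists_swap_mem [Finite G] (h : PSetup G Ω z) (H : Subgroup G) {a b : Ω} (hab : a ≠ b)
    {d e : G} (hd : d ∈ At z a) (he : e ∈ At z b) (hdH : d ∈ H) (heH : e ∈ H) :
    ∃ x ∈ H, x ∈ Sw z a b ∧ x * d * x⁻¹ = e ∧ x * e * x⁻¹ = d := by
  obtain ⟨x, hxm, hx, hxd, hxe, hxa, -⟩ := h.exists_swap hd.1 he.1 hd.2 he.2 hab
  refine ⟨x, ?_, ⟨hx, hxa⟩, hxd, hxe⟩
  have : Subgroup.closure ({d, e} : Set G) ≤ H := by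
    rw [Subgroup.closure_le]
    rintro y (rfl | rfl)
    · exact hdH
    · exact heH
  exact this hxm

/-- in a subgroup `H` containing elements of `D` with different fixed points, the elements of
`D ∩ H` are conjugate -/
theorem exists_conj_mem [Finite G] (h : PSetup G Ω z) (H : Subgroup G) {a b : Ω} (hab : a ≠ b)
    {d₁ d₂ : G} (h1 : d₁ ∈ At z a) (h2 : d₂ ∈ At z b) (h1H : d₁ ∈ H) (h2H : d₂ ∈ H)
    {d e : G} (hd : IsConj z d) (he : IsConj z e) (hdH : d ∈ H) (heH : e ∈ H) :
    ∃ c ∈ H, c * d * c⁻¹ = e := by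
  obtain ⟨p, hp⟩ := h.ex hd
  obtain ⟨q, hq⟩ := h.ex he
  have key : ∀ {p q : Ω} {d e : G}, d ∈ At z p → e ∈ At z q → d ∈ H → e ∈ H → p ≠ q →
      ∃ c ∈ H, c * d * c⁻¹ = e := by
    intro p q d e hd he hdH heH hpq
    obtain ⟨x, hxH, -, hxd, -⟩ := h.exists_swap_mem H hpq hd he hdH heH
    exact ⟨x, hxH, hxd⟩
  by_cases hpq : p = q
  · subst hpq
    obtain ⟨r, f, hf, hfH, hr⟩ : ∃ (r : Ω) (f : G), f ∈ At z r ∧ f ∈ H ∧ r ≠ p := by
      by_cases hap : a = p
      · exact ⟨b, d₂, h2, h2H, by rw [← hap]; exact Ne.symm hab⟩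
      · exact ⟨a, d₁, h1, h1H, hap⟩
    obtain ⟨c, hcH, hc⟩ := key ⟨hd, hp⟩ hf hdH hfH (Ne.symm hr)
    obtain ⟨c', hcH', hc'⟩ := key hf ⟨he, hq⟩ hfH heH hr
    refine ⟨c' * c, H.mul_mem hcH' hcH, ?_⟩
    rw [← hc', ← hc]; group
  · exact key ⟨hd, hp⟩ ⟨he, hq⟩ hdH heH hpq

/-- An element of order dividing two fixing `b` commutes with an element whose only fixed point is
`b`. -/
theorem exists_commute [Finite G] (h : PSetup G Ω z) {t : G} (ht : t * t = 1) {b : Ω}
    (hb : t • b = b) : ∃ x : G, Commute x t ∧ x • b = b ∧ ∀ c : Ω, x • c = c → c = b := by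
  obtain ⟨d, hd⟩ := h.nonempty_At b
  have hti : t⁻¹ = t := inv_eq_of_mul_eq_one_right ht
  have he : t * d * t⁻¹ ∈ At z b := by
    have := conj_mem_At t hd
    rwa [hb] at this
  set e := t * d * t⁻¹ with hedef
  have hte : t * e * t⁻¹ = d := by
    rw [hedef]
    calc t * (t * d * t⁻¹) * t⁻¹ = (t * t) * d * (t * t)⁻¹ := by group
      _ = d := by rw [ht]; group
  by_cases hodd : Odd (orderOf (d * e))
  · obtain ⟨j, hj, hjc, hjd, hje⟩ := exists_swap_conj d e (h.orderOf_eq hd.1) (h.orderOf_eq he.1) hodd
    -- `j t` commutes with `d` and `e`, so with `j`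
    have h1 : Commute (j * t) d := by
      show j * t * d = d * (j * t)
      calc j * t * d = j * (t * d * t⁻¹) * t := by group
        _ = j * e * j⁻¹ * (j * t) := by rw [← hedef]; group
        _ = d * (j * t) := by rw [hje]
    have h2 : Commute (j * t) e := by
      show j * t * e = e * (j * t)
      calc j * t * e = j * (t * e * t⁻¹) * t := by group
        _ = j * d * j⁻¹ * (j * t) := by rw [hte]; group
        _ = e * (j * t) := by rw [hjd]
    have h3 : Commute (j * t) j := by
      have hle : Subgroup.closure ({d, e} : Set G) ≤ Subgroup.centralizer ({j * t} : Set G) := by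
        rw [Subgroup.closure_le]
        rintro y (rfl | rfl)
        · rw [SetLike.mem_coe, Subgroup.mem_centralizer_singleton_iff]; exact h1.symm.eq
        · rw [SetLike.mem_coe, Subgroup.mem_centralizer_singleton_iff]; exact h2.symm.eq
      have := hle hj
      rw [Subgroup.mem_centralizer_singleton_iff] at this
      exact (show j * (j * t) = j * t * j from this).symm
    have h4 : Commute j t := by
      have : j * t * j = j * (j * t) := h3.eq
      have h5 : t * j = j * t := by
        have := congrArg (fun y => j⁻¹ * y) this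
        simpa [mul_assoc] using this
      exact h5.symm
    have hjb : j • b = b := by
      have hle : Subgroup.closure ({d, e} : Set G) ≤ MulAction.stabilizer G b := by
        rw [Subgroup.closure_le]
        rintro y (rfl | rfl)
        · exact hd.2
        · exact he.2
      exact hle hj
    have hjD : IsConj z j := hd.1.trans hjc
    exact ⟨j, h4, hjb, fun c hc => h.uniq hjD hc hjb⟩
  · obtain ⟨w, hw, hw2, hwd, hwe, hwc⟩ :=
      exists_central d e (h.orderOf_eq hd.1) (h.orderOf_eq he.1) (orderOf_pos _) hodd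
    have hdw : IsConj z (d * w) := by
      rcases hwc with hc | hc
      · exact hd.1.trans hc
      · exact he.1.trans hc
    have hw1 : w ≠ 1 := by
      intro h1; rw [h1, orderOf_one] at hw2; exact absurd hw2 (by norm_num)
    have hcomm : Commute d (d * w) := (Commute.refl d).mul_right hwd.symm
    have hne : d ≠ d * w := by
      intro hh
      exact hw1 (by simpa using hh.symm)
    have hprod : d * (d * w) = w := by rw [← mul_assoc, h.mul_self hd.1, one_mul]
    have hwb : w • b = b := h.fix_of_commute hd.1 hwd hd.2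
    refine ⟨w, ?_, hwb, ?_⟩
    · -- `t` inverts `⟨d e⟩`
      obtain ⟨k, hk⟩ := Subgroup.mem_zpowers_iff.mp hw
      have h1 : t * (d * e) * t⁻¹ = (d * e)⁻¹ := by
        rw [mul_inv_rev, h.inv_eq hd.1, h.inv_eq he.1]
        calc t * (d * e) * t⁻¹ = (t * d * t⁻¹) * (t * e * t⁻¹) := by group
          _ = e * d := by rw [← hedef, hte]
      have h2 : t * w * t⁻¹ = w := by
        calc t * w * t⁻¹ = (t * (d * e) * t⁻¹) ^ k := by rw [← hk, conj_zpow]
          _ = ((d * e) ^ k)⁻¹ := by rw [h1, inv_zpow]
          _ = w := by rw [hk, inv_eq_self_of_orderOf hw2]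
      show w * t = t * w
      calc w * t = t * w * t⁻¹ * t := by rw [h2]
        _ = t * w := by group
    · intro c hc
      exact h.pure' hd.1 hdw hcomm hne (a := c) (b := b) (by rw [hprod]; exact hc)
        (by rw [hprod]; exact hwb)

/-- the pure set-up passes to subgroups containing elements of `D` at two points -/
theorem pts [Finite G] (h : PSetup G Ω z) {H : Subgroup G} {a b : Ω} (hab : a ≠ b)
    {d e : G} (hd : d ∈ At z a) (he : e ∈ At z b) (hdH : d ∈ H) (heH : e ∈ H) :
    PSetup H (Descent.pts Ω z H) (⟨d, hdH⟩ : H) where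
  invol := by rw [Subgroup.orderOf_mk]; exact h.orderOf_eq hd.1
  nontriv := ⟨⟨a, d, hdH, hd⟩, ⟨b, e, heH, he⟩, fun hh => hab (congrArg Subtype.val hh)⟩
  trans := by
    rintro ⟨p, f, hfH, hf⟩ ⟨q, g, hgH, hg⟩
    by_cases hpq : p = q
    · subst hpq
      exact ⟨1, one_smul _ _⟩
    · obtain ⟨x, hxH, hx, -, -⟩ := h.exists_swap_mem H hpq hf hg hfH hgH
      exact ⟨⟨x, hxH⟩, Subtype.ext hx.2⟩
  exists_fix := ⟨⟨a, d, hdH, hd⟩, Subtype.ext hd.2⟩
  fix_unique := by
    intro p q hp hq
    apply Subtype.ext
    exact h.uniq hd.1 (congrArg Subtype.val hp) (congrArg Subtype.val hq)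
  pure := by
    intro g hg hne p q hp hq
    apply Subtype.ext
    refine h.pure' (d := d) (e := (g : G) * d * (g : G)⁻¹) hd.1 (conj_mem hd.1 _) ?_ ?_ ?_ ?_
    · show d * ((g : G) * d * (g : G)⁻¹) = ((g : G) * d * (g : G)⁻¹) * d
      exact congrArg Subtype.val hg.eq
    · intro hh
      exact hne (Subtype.ext hh.symm)
    · exact congrArg Subtype.val hp
    · exact congrArg Subtype.val hq

/-- the pure set-up passes to the quotients acting on `Ω` -/
theorem map {Q : Type*} [Group Q] [MulAction Q Ω] [Finite G] (h : PSetup G Ω z) (π : G →* Q)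
    (hπ : Function.Surjective π) (hc : ∀ (g : G) (a : Ω), π g • a = g • a) :
    PSetup Q Ω (π z) where
  invol := by
    refine orderOf_eq_two_of_mul_self ?_ ?_
    · rw [← map_mul, mul_self_of_orderOf h.invol, map_one]
    · intro h1
      obtain ⟨a, b, hab⟩ := h.nontriv
      apply hab
      refine h.fix_unique a b ?_ ?_
      · rw [← hc, h1, one_smul]
      · rw [← hc, h1, one_smul]
  nontriv := h.nontriv
  trans := by
    intro a b
    obtain ⟨g, hg⟩ := h.trans a b
    exact ⟨π g, by rw [hc, hg]⟩
  exists_fix := by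
    obtain ⟨a, ha⟩ := h.exists_fix
    exact ⟨a, by rw [hc, ha]⟩
  fix_unique := by
    intro a b ha hb
    rw [hc] at ha hb
    exact h.fix_unique a b ha hb
  pure := by
    intro q hq hne a b ha hb
    obtain ⟨g, rfl⟩ := hπ q
    have he : IsConj z (g * z * g⁻¹) := isConj_iff.mpr ⟨g, rfl⟩
    set e := g * z * g⁻¹ with hedef
    have hπe : π e = π g * π z * (π g)⁻¹ := by rw [hedef, map_mul, map_mul, map_inv]
    rw [← hπe] at hq hne ha hb
    -- powers of `(z e)^2` act trivially
    have hker : π (z * e) * π (z * e) = 1 := by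
      rw [map_mul, hq.symm.mul_mul_mul_comm, ← map_mul, ← map_mul,
        mul_self_of_orderOf h.invol, h.mul_self he, map_one, one_mul]
    by_cases hodd : Odd (orderOf (z * e))
    · exfalso
      apply hne
      obtain ⟨k, hk⟩ := hodd
      have h1 : z * e = ((z * e) * (z * e)) ^ (k + 1) := by
        rw [← pow_two, ← pow_mul, show 2 * (k + 1) = (2 * k + 1) + 1 by ring, pow_succ, ← hk,
          pow_orderOf_eq_one, one_mul]
      have h2 : π (z * e) = 1 := by rw [h1, map_pow, map_mul, hker, one_pow]
      rw [map_mul] at h2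
      have h3 : π z * π z = 1 := by rw [← map_mul, mul_self_of_orderOf h.invol, map_one]
      calc π e = π z * π z * π e := by rw [h3, one_mul]
        _ = π z * (π z * π e) := by rw [mul_assoc]
        _ = π z := by rw [h2, mul_one]
    · obtain ⟨w, hw, hw2, hwz, hwe, hwc⟩ :=
        exists_central z e h.invol (h.orderOf_eq he) (orderOf_pos _) hodd
      have hzw : IsConj z (z * w) := by
        rcases hwc with h1 | h1
        · exact h1
        · exact he.trans h1
      have hw1 : w ≠ 1 := by
        intro h1; rw [h1, orderOf_one] at hw2; exact absurd hw2 (by norm_num)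
      have hzne : z ≠ z * w := fun hh => hw1 (by simpa using hh.symm)
      have hzcomm : Commute z (z * w) := (Commute.refl z).mul_right hwz.symm
      have hprod : z * (z * w) = w := by rw [← mul_assoc, mul_self_of_orderOf h.invol, one_mul]
      have hwuniq : ∀ a b : Ω, w • a = a → w • b = b → a = b := by
        intro a b ha hb
        exact h.pure' (IsConj.refl z) hzw hzcomm hzne (by rw [hprod]; exact ha)
          (by rw [hprod]; exact hb)
      -- `π w = π (z e)`
      have hpw : π w = π (z * e) := by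
        obtain ⟨k, hk⟩ := Subgroup.mem_zpowers_iff.mp hw
        have h4 : π w = π (z * e) ^ k := by rw [← hk, map_zpow]
        rcases Int.even_or_odd' k with ⟨j, hj | hj⟩
        · exfalso
          have h6 : π w = 1 := by rw [h4, hj, zpow_mul, zpow_ofNat, pow_two, hker, one_zpow]
          obtain ⟨p, q, hpq⟩ := h.nontriv
          exact hpq (hwuniq p q (by rw [← hc, h6, one_smul]) (by rw [← hc, h6, one_smul]))
        · rw [h4, hj, zpow_add, zpow_mul, zpow_ofNat, pow_two, hker, one_zpow, one_mul, zpow_one]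
      refine hwuniq a b ?_ ?_
      · rw [← hc, hpw, map_mul]; exact ha
      · rw [← hc, hpw, map_mul]; exact hb

/-- the class of `z` is odd if its image is -/
theorem odd_of_map {Q : Type*} [Group Q] [MulAction Q Ω] [Finite G] (h : PSetup G Ω z)
    (π : G →* Q) (hπ : Function.Surjective π) (hc : ∀ (g : G) (a : Ω), π g • a = g • a)
    (ho : Odd (Nat.card {q : Q // IsConj (π z) q})) : Odd (Nat.card {d : G // IsConj z d}) := by
  classical
  have hQ : Finite Q := Finite.of_surjective π hπ
  have : Fintype {q : Q // IsConj (π z) q} := Fintype.ofFinite _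
  -- the fibres are odd
  have hfib : ∀ q : {q : Q // IsConj (π z) q},
      Odd (Nat.card {d : {d : G // IsConj z d} // π d = q}) := by
    rintro ⟨q, hq⟩
    obtain ⟨x, hx⟩ := isConj_iff.mp hq
    obtain ⟨g, rfl⟩ := hπ x
    have hd : IsConj z (g * z * g⁻¹) := isConj_iff.mpr ⟨g, rfl⟩
    set d := g * z * g⁻¹ with hddef
    have hπd : π d = q := by rw [hddef, map_mul, map_mul, map_inv, hx]
    have hdd := h.mul_self hd
    refine odd_card_of_involutive
      (fun y : {d : {d : G // IsConj z d} // π d = q} =>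
        ⟨⟨d * y.1.1 * d⁻¹, conj_mem y.1.2 d⟩, ?_⟩) ?_ ⟨⟨d, hd⟩, hπd⟩ ?_ ?_
    · show π (d * y.1.1 * d⁻¹) = q
      rw [map_mul, map_mul, map_inv, hπd, y.2]; group
    · rintro ⟨⟨y, hy⟩, hy'⟩
      apply Subtype.ext
      apply Subtype.ext
      show d * (d * y * d⁻¹) * d⁻¹ = y
      calc d * (d * y * d⁻¹) * d⁻¹ = (d * d) * y * (d * d)⁻¹ := by group
        _ = y := by rw [hdd]; group
    · apply Subtype.ext
      apply Subtype.ext
      show d * d * d⁻¹ = d
      group
    · rintro ⟨⟨y, hy⟩, hy'⟩ hyy
      have h1 : d * y * d⁻¹ = y := congrArg (fun t => t.1.1) hyy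
      have hy'' : π y = q := hy'
      apply Subtype.ext
      apply Subtype.ext
      show y = d
      by_contra hne
      have hcom : Commute d y := by
        show d * y = y * d
        calc d * y = d * y * d⁻¹ * d := by group
          _ = y * d := by rw [h1]
      obtain ⟨p, p', hp⟩ := h.nontriv
      apply hp
      have h3 : π (d * y) = 1 := by
        rw [map_mul, hπd, hy'', ← hπd, ← map_mul, hdd, map_one]
      refine h.pure' hd hy hcom (Ne.symm hne) ?_ ?_
      · rw [← hc, h3, one_smul]
      · rw [← hc, h3, one_smul]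
  have e : {d : G // IsConj z d} ≃
      Σ q : {q : Q // IsConj (π z) q}, {d : {d : G // IsConj z d} // π d = q} :=
    { toFun := fun d => ⟨⟨π d.1, MonoidHom.map_isConj π d.2⟩, d, rfl⟩
      invFun := fun p => p.2.1
      left_inv := fun d => rfl
      right_inv := by
        rintro ⟨⟨q, hq⟩, ⟨⟨d, hd⟩, hdq⟩⟩
        obtain rfl : π d = q := hdq
        rfl }
  rw [Nat.card_congr e, Nat.card_sigma, Finset.odd_sum_iff_odd_card_odd]
  rw [Finset.filter_true_of_mem (fun q _ => hfib q), Finset.card_univ, ← Nat.card_eq_fintype_card]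
  exact ho

end PSetup

/-! ### Theorem P -/

theorem odd_class_aux (n : ℕ) : ∀ (G : Type u) (Ω : Type v) [Group G] [Finite G] [MulAction G Ω]
    (z : G), Nat.card G = n → PSetup G Ω z → Odd (Nat.card {d : G // IsConj z d}) := by
  induction n using Nat.strong_induction_on with
  | _ n ih =>
  intro G Ω _ _ _ z hn h
  classical
  by_cases hB : ∃ u d : G, orderOf u = 2 ∧ IsConj z d ∧ Commute u d ∧
      ∃ a b : Ω, a ≠ b ∧ u • a = a ∧ u • b = b
  · obtain ⟨u, d, hu2, hd, hud, p, q, hpq, hup, huq⟩ := hB
    have huu := mul_self_of_orderOf hu2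
    have hu1 : u ≠ 1 := by
      intro h1; rw [h1, orderOf_one] at hu2; exact absurd hu2 (by norm_num)
    by_cases hcen : ∀ g : G, Commute g u
    · -- `u` is central: pass to `G / ⟨u⟩`
      have hu : ∀ c : Ω, u • c = c := by
        intro c
        obtain ⟨g, rfl⟩ := h.trans p c
        rw [smul_smul, ← (hcen g).eq, mul_smul, hup]
      have hN : (Subgroup.zpowers u).Normal := by
        refine ⟨?_⟩
        rintro x hx g
        obtain ⟨k, rfl⟩ := Subgroup.mem_zpowers_iff.mp hx
        have h1 : g * u ^ k * g⁻¹ = u ^ k := by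
          rw [((hcen g).zpow_right k).eq]; group
        rw [h1]
        exact Subgroup.zpow_mem_zpowers u k
      have hker : Subgroup.zpowers u ≤ (MulAction.toPermHom G Ω).ker := by
        rw [Subgroup.zpowers_le, MonoidHom.mem_ker]
        ext c
        exact hu c
      let φ : G ⧸ Subgroup.zpowers u →* Equiv.Perm Ω := QuotientGroup.lift _ (MulAction.toPermHom G Ω)
        (fun x hx => MonoidHom.mem_ker.mp (hker hx))
      let act : MulAction (G ⧸ Subgroup.zpowers u) Ω := MulAction.compHom Ω φ
      have hc : ∀ (g : G) (a : Ω), QuotientGroup.mk' (Subgroup.zpowers u) g • a = g • a := by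
        intro g a; rfl
      have hlt : Nat.card (G ⧸ Subgroup.zpowers u) < n := by
        have h1 := Subgroup.card_eq_card_quotient_mul_card_subgroup (Subgroup.zpowers u)
        rw [Nat.card_zpowers, hu2, hn] at h1
        have h2 : 0 < Nat.card (G ⧸ Subgroup.zpowers u) := Nat.card_pos
        omega
      exact h.odd_of_map _ (QuotientGroup.mk'_surjective _) hc
        (ih _ hlt _ Ω _ rfl (h.map _ (QuotientGroup.mk'_surjective _) hc))
    · -- descend to `C(u)`
      set K := Subgroup.centralizer ({u} : Set G) with hK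
      have hmemK : ∀ x : G, x ∈ K ↔ Commute x u := by
        intro x
        rw [hK, Subgroup.mem_centralizer_singleton_iff]
        exact ⟨fun hh => hh, fun hh => hh⟩
      have hKlt : Nat.card K < n := by
        rw [← hn]
        refine lt_of_le_of_ne (Subgroup.card_le_card_group K) ?_
        intro hcard
        apply hcen
        have := Subgroup.eq_top_of_card_eq K hcard
        intro g
        rw [← hmemK, this]; trivial
      obtain ⟨a, ha⟩ := h.ex hd
      have hua : u • a = a := h.fix_of_commute hd hud ha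
      -- another fixed point of `u`
      obtain ⟨b, hab, hub⟩ : ∃ b : Ω, a ≠ b ∧ u • b = b := by
        by_cases hap : a = p
        · exact ⟨q, by rw [hap]; exact hpq, huq⟩
        · exact ⟨p, hap, hup⟩
      obtain ⟨x, hxu, hxb, hx⟩ := h.exists_commute huu hub
      have hxa : a ≠ x • a := fun hh => hab (hx a hh.symm)
      have hdK : d ∈ K := (hmemK d).mpr hud.symm
      have hxK : x ∈ K := (hmemK x).mpr hxu
      have hda : d ∈ At z a := ⟨hd, ha⟩
      have heb : x * d * x⁻¹ ∈ At z (x • a) := conj_mem_At x hda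
      have heK : x * d * x⁻¹ ∈ K := K.mul_mem (K.mul_mem hxK hdK) (K.inv_mem hxK)
      have hPK := h.pts hxa hda heb hdK heK
      have hoK := ih _ hKlt K _ _ rfl hPK
      -- the class of `d` in `K` is `D ∩ C(u)`
      have hcard : Nat.card {y : K // IsConj (⟨d, hdK⟩ : K) y} =
          Nat.card {y : {y : G // IsConj z y} //
            (⟨u * y.1 * u⁻¹, conj_mem y.2 u⟩ : {y : G // IsConj z y}) = y} := by
        refine Nat.card_congr
          { toFun := fun y => ⟨⟨y.1.1, hd.trans (MonoidHom.map_isConj K.subtype y.2)⟩, Subtype.ext ?_⟩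
            invFun := fun y => ⟨⟨y.1.1, ?_⟩, ?_⟩
            left_inv := fun y => rfl
            right_inv := fun y => rfl }
        · have h1 : Commute (y.1.1 : G) u := (hmemK _).mp y.1.2
          show u * (y.1.1 : G) * u⁻¹ = y.1.1
          rw [← h1.eq]; group
        · have h1 : u * y.1.1 * u⁻¹ = y.1.1 := congrArg Subtype.val y.2
          refine (hmemK _).mpr ?_
          show y.1.1 * u = u * y.1.1
          calc y.1.1 * u = u * y.1.1 * u⁻¹ * u := by rw [h1]
            _ = u * y.1.1 := by group
        · have h1 : u * y.1.1 * u⁻¹ = y.1.1 := congrArg Subtype.val y.2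
          have h2 : y.1.1 ∈ K := by
            refine (hmemK _).mpr ?_
            show y.1.1 * u = u * y.1.1
            calc y.1.1 * u = u * y.1.1 * u⁻¹ * u := by rw [h1]
              _ = u * y.1.1 := by group
          obtain ⟨c, hcK, hc⟩ := h.exists_conj_mem K hxa hda heb hdK heK hd y.1.2 hdK h2
          exact isConj_iff.mpr ⟨⟨c, hcK⟩, Subtype.ext hc⟩
      rw [hcard] at hoK
      refine odd_of_odd_fixed
        (fun y : {y : G // IsConj z y} => ⟨u * y.1 * u⁻¹, conj_mem y.2 u⟩) ?_ hoK
      rintro ⟨y, hy⟩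
      apply Subtype.ext
      show u * (u * y * u⁻¹) * u⁻¹ = y
      calc u * (u * y * u⁻¹) * u⁻¹ = (u * u) * y * (u * u)⁻¹ := by group
        _ = y := by rw [huu]; group
  · -- no involution commuting with an element of `D` has two fixed points
    have hB' : ∀ u d : G, orderOf u = 2 → IsConj z d → Commute u d → ∀ a b : Ω, u • a = a →
        u • b = b → a = b := by
      intro u d hu hd hud a b ha hb
      by_contra hab
      exact hB ⟨u, d, hu, hd, hud, a, b, hab, ha, hb⟩
    -- no involution has two fixed points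
    have hnb : ∀ t : G, orderOf t = 2 → ∀ a b : Ω, t • a = a → t • b = b → a = b := by
      intro t ht a b ha hb
      by_contra hab
      obtain ⟨d₁, hd₁⟩ := h.nonempty_At a
      obtain ⟨d₂, hd₂⟩ := h.nonempty_At b
      obtain ⟨d, -, hd, -, -, hda, hdb⟩ := h.exists_swap hd₁.1 hd₂.1 hd₁.2 hd₂.2 hab
      have hdd := h.mul_self hd
      set L := MulAction.stabilizer G a ⊓ MulAction.stabilizer G b with hL
      have hmemL : ∀ x : G, x ∈ L ↔ x • a = a ∧ x • b = b := by
        intro x
        rw [hL, Subgroup.mem_inf, MulAction.mem_stabilizer_iff, MulAction.mem_stabilizer_iff]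
      have hconj : ∀ x ∈ L, d * x * d⁻¹ ∈ L := by
        intro x hx
        rw [hmemL] at hx ⊢
        have hdi : d⁻¹ = d := h.inv_eq hd
        rw [hdi]
        constructor
        · rw [mul_smul, mul_smul, hda, hx.2, hdb]
        · rw [mul_smul, mul_smul, hdb, hx.1, hda]
      have heven : Even (Nat.card L) := by
        have h1 : t ∈ L := (hmemL t).mpr ⟨ha, hb⟩
        rw [even_iff_two_dvd, ← ht, ← Subgroup.orderOf_mk t h1]
        exact orderOf_dvd_natCard _
      have h2 := even_fixed_of_even (fun x : L => (⟨d * x.1 * d⁻¹, hconj x.1 x.2⟩ : L)) (by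
        rintro ⟨x, hx⟩
        apply Subtype.ext
        show d * (d * x * d⁻¹) * d⁻¹ = x
        calc d * (d * x * d⁻¹) * d⁻¹ = (d * d) * x * (d * d)⁻¹ := by group
          _ = x := by rw [hdd]; group) heven
      have h3 : Nat.card {x : L // (⟨d * x.1 * d⁻¹, hconj x.1 x.2⟩ : L) = x} =
          Nat.card (L ⊓ Subgroup.centralizer ({d} : Set G) : Subgroup G) := by
        refine Nat.card_congr
          { toFun := fun x => ⟨x.1.1, x.1.2, ?_⟩
            invFun := fun x => ⟨⟨x.1, x.2.1⟩, Subtype.ext ?_⟩
            left_inv := fun x => rfl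
            right_inv := fun x => rfl }
        · have h1 : d * x.1.1 * d⁻¹ = x.1.1 := congrArg Subtype.val x.2
          refine Subgroup.mem_centralizer_singleton_iff.mpr ?_
          calc x.1.1 * d = d * x.1.1 * d⁻¹ * d := by rw [h1]
            _ = d * x.1.1 := by group
        · have h1 := Subgroup.mem_centralizer_singleton_iff.mp x.2.2
          show d * x.1 * d⁻¹ = x.1
          rw [← h1]; group
      rw [h3, even_iff_two_dvd] at h2
      obtain ⟨⟨u, hu⟩, hu2⟩ := exists_prime_orderOf_dvd_card' 2 h2
      rw [Subgroup.orderOf_mk] at hu2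
      have huL := (hmemL u).mp hu.1
      exact hab (hB' u d hu2 hd (Subgroup.mem_centralizer_singleton_iff.mp hu.2) a b huL.1 huL.2)
    -- all involutions are conjugate
    have hfinΩ : Finite Ω := by
      obtain ⟨a, -⟩ := h.exists_fix
      refine Finite.of_surjective (fun g : G => g • a) ?_
      intro b
      obtain ⟨g, hg⟩ := h.trans a b
      exact ⟨g, hg⟩
    have hoddΩ : Odd (Nat.card Ω) := by
      obtain ⟨a, ha⟩ := h.exists_fix
      exact odd_card_of_involutive (fun c : Ω => z • c)
        (fun c => h.smul_smul_self (IsConj.refl z) c) a ha (fun c hc => h.fix_unique c a hc ha)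
    have hall : ∀ t : G, orderOf t = 2 → IsConj z t := by
      intro t ht
      have htt := mul_self_of_orderOf ht
      obtain ⟨c, hc⟩ : ∃ c : Ω, t • c = c := by
        by_contra hcon
        have h1 := card_modEq_fixed (fun c : Ω => t • c) (fun c => by
          show t • t • c = c
          rw [smul_smul, htt, one_smul])
        have h2 : IsEmpty {x : Ω // t • x = x} := ⟨fun x => hcon ⟨x.1, x.2⟩⟩
        rw [Nat.card_of_isEmpty (α := {x : Ω // t • x = x})] at h1
        rw [Nat.odd_iff] at hoddΩ
        have h3 : Nat.card Ω % 2 = 0 := h1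
        omega
      obtain ⟨b, hcb⟩ : ∃ b : Ω, c ≠ b := by
        obtain ⟨p, q, hpq⟩ := h.nontriv
        by_cases hap : c = p
        · exact ⟨q, by rw [hap]; exact hpq⟩
        · exact ⟨p, hap⟩
      obtain ⟨y, hy⟩ := h.nonempty_At b
      have hodd : Odd (orderOf (t * y)) := by
        by_contra hodd
        obtain ⟨w, -, hw2, hwt, hwy, -⟩ :=
          exists_central t y ht (h.orderOf_eq hy.1) (orderOf_pos _) hodd
        have hwb : w • b = b := h.fix_of_commute hy.1 hwy hy.2
        have hwc : w • c = c := by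
          refine hnb t ht _ _ ?_ hc
          rw [smul_smul, ← hwt.eq, mul_smul, hc]
        exact hcb (hnb w hw2 _ _ hwc hwb)
      obtain ⟨j, -, -, hjt, -⟩ := exists_swap_conj t y ht (h.orderOf_eq hy.1) hodd
      exact hy.1.trans (isConj_iff.mpr ⟨j, hjt⟩).symm
    have heq : Nat.card {d : G // IsConj z d} = Nat.card {t : G // orderOf t = 2} :=
      Nat.card_congr (Equiv.subtypeEquivRight (fun d => ⟨fun hd => h.orderOf_eq hd, hall d⟩))
    rw [heq]
    refine odd_card_involutions ?_
    rw [even_iff_two_dvd, ← h.invol]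
    exact orderOf_dvd_natCard _

/-- **Theorem P.** The class of `z` has odd order. -/
theorem PSetup.odd_class {G : Type u} {Ω : Type v} [Group G] [Finite G] [MulAction G Ω] {z : G}
    (h : PSetup G Ω z) : Odd (Nat.card {d : G // IsConj z d}) :=
  odd_class_aux _ G Ω z rfl h

/-- **Theorem P.** In the pure set-up, `z` is central in a Sylow 2-subgroup. -/
theorem PSetup.setup {G : Type u} {Ω : Type v} [Group G] [Finite G] [MulAction G Ω] {z : G}
    (h : PSetup G Ω z) : Setup G Ω z where
  invol := h.invol
  central := exists_central_sylow h.invol h.odd_class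
  nontriv := h.nontriv
  trans := h.trans
  exists_fix := h.exists_fix
  fix_unique := h.fix_unique
  comm := by
    intro g hg hne c hc a ha
    exact h.comm' (IsConj.refl z) (isConj_iff.mpr ⟨g, rfl⟩) hg (Ne.symm hne) hc ha

end Cfsg.Agent.AschCrit.Pure
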