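import Mathlib
import Cfsg.Agent.AschCrit.BGroup
import Cfsg.Agent.AschCrit.TwoTrans
import Cfsg.Agent.AschCrit.Section
import Cfsg.Agent.StrongEmb.RGoodTools
import Cfsg.Agent.SignalizersComponents.CoprimeBasic

/-!
# Aschbacher's criterion: the climb in the proof of R-GOOD

`Sec Ω z H O` : what is needed from the inductive theorem about a proper subgroup `H` with elements of
`D` at two points and two commuting elements of `D` (`O = O(kernel of H on pts)`).

`Big Ω z p U` : `U` is a `p`-group whose normaliser has elements of `D` at two points and two commuting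
elements of `D`, and no element of `D` centralises `U`.

`climb` : if there is a `Big` `p`-group, there are `x ≠ y` and a Sylow `p`-subgroup `Q` of `G_{xy}`,
normalised by some `t ∈ D` swapping `x` and `y`, such that `N(ZJ(Q))` contains two commuting elements
of `D_x`.
-/

set_option autoImplicit false

open Subgroup

namespace Cfsg.Agent.AschCrit.RGoodClimb

open Cfsg.Agent.TwoFusion.StronglyEmbeddedBasic Cfsg.Agent.AschCrit.Basic
open Cfsg.Agent.AschCrit.Basic.Setup Cfsg.Agent.AschCrit.Closed Cfsg.Agent.AschCrit.Descent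
open Cfsg.Agent.AschCrit.BGroup Cfsg.Agent.AschCrit.IsolatedSwap Cfsg.Agent.AschCrit.OddInv
open Cfsg.Agent.AschCrit.Dagger Cfsg.Agent.SignalizersComponents.RelSylow
open Cfsg.Agent.SignalizersComponents.PLayerAut

section Abstract

variable {G : Type*} [Group G] [Finite G]

omit [Finite G] in
theorem odd_orderOf_of_mem {O : Subgroup G} (hO : Odd (Nat.card O)) {g : G} (hg : g ∈ O) :
    Odd (orderOf g) := by
  refine hO.of_dvd_nat ?_
  rw [← Subgroup.orderOf_mk g hg]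
  exact orderOf_dvd_natCard _

omit [Finite G] in
/-- an element of odd order whose square lies in `O` lies in `O` -/
theorem mem_of_sq_mem {O : Subgroup G} {g : G} (hg : Odd (orderOf g)) (h2 : g * g ∈ O) : g ∈ O := by
  obtain ⟨k, hk⟩ := hg
  have h1 : g = (g * g) ^ (k + 1) := by
    rw [← pow_two, ← pow_mul, show 2 * (k + 1) = (2 * k + 1) + 1 by ring, pow_succ, ← hk,
      pow_orderOf_eq_one, one_mul]
  rw [h1]
  exact pow_mem h2 _

variable {M O Q : Subgroup G} {p : ℕ} [hp : Fact p.Prime] (hpo : Odd p)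

include hpo in
/-- 2-subgroups of `M Q` have exponent 2 and lie in `M` -/
theorem two_subgroup (hO : Odd (Nat.card O)) (hsq : ∀ g ∈ M, g * g ∈ O)
    (hQ : IsPGroup p Q) (hQM : Q ≤ normalizer (M : Set G)) {T : Subgroup G} (hT : IsPGroup 2 T)
    (hTY : T ≤ M ⊔ Q) : ∀ t ∈ T, t ∈ M ∧ t * t = 1 := by
  intro t ht
  have hn : (M.subgroupOf (M ⊔ Q)).Normal :=
    normal_subgroupOf_of_le_normalizer (sup_le le_normalizer hQM)
  have hodd : Odd (M.relIndex (M ⊔ Q)) := by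
    rw [relIndex_sup_eq hQM]
    exact (odd_of_isPGroup hpo hQ).of_dvd_nat (relIndex_dvd_card _ _)
  have h1 : (⟨t, hTY ht⟩ : (M ⊔ Q : Subgroup G)) ^ (M.relIndex (M ⊔ Q)) ∈ M.subgroupOf (M ⊔ Q) :=
    Subgroup.pow_index_mem _ _
  rw [mem_subgroupOf] at h1
  have h2 : t ^ (M.relIndex (M ⊔ Q)) ∈ M := h1
  obtain ⟨k, hk⟩ := hT ⟨t, ht⟩
  have hk' : t ^ 2 ^ k = 1 := by
    have := congrArg Subtype.val hk
    simpa using this
  have htM : t ∈ M := by
    have hcop : (orderOf t).Coprime (M.relIndex (M ⊔ Q)) := by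
      refine Nat.Coprime.coprime_dvd_left (orderOf_dvd_of_pow_eq_one hk') ?_
      exact Nat.Coprime.pow_left k (Nat.coprime_two_left.mpr hodd)
    have h3 : t ∈ Subgroup.zpowers (t ^ (M.relIndex (M ⊔ Q))) := by
      rw [mem_zpowers_pow_iff]
      exact hcop.symm
    exact (zpowers_le.mpr h2) h3
  refine ⟨htM, ?_⟩
  have h4 := odd_orderOf_of_mem hO (hsq t htM)
  have h5 : orderOf (t * t) ∣ 2 ^ k := by
    rw [orderOf_dvd_iff_pow_eq_one, ← pow_two, ← pow_mul, mul_comm, pow_mul, hk', one_pow]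
  have h6 : orderOf (t * t) = 1 := by
    exact (Nat.Coprime.pow_right k (Nat.coprime_two_right.mpr h4)).eq_one_of_dvd h5
  exact orderOf_eq_one_iff.mp h6

omit [Finite G] in
theorem mul_comm_of_sq {T : Subgroup G} (h : ∀ t ∈ T, t * t = 1) {s t : G} (hs : s ∈ T)
    (ht : t ∈ T) : Commute s t := by
  have h1 := h _ (mul_mem hs ht)
  have h2 := h s hs
  have h3 := h t ht
  show s * t = t * s
  have hsi : s⁻¹ = s := inv_eq_of_mul_eq_one_right h2
  have hti : t⁻¹ = t := inv_eq_of_mul_eq_one_right h3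
  have h4 : s * t = (s * t)⁻¹ := (inv_eq_of_mul_eq_one_right h1).symm
  rw [h4, mul_inv_rev, hsi, hti]

omit [Finite G] in
theorem isSolvable_of_sq (hOM : O ≤ M) (hMO : M ≤ normalizer (O : Set G))
    (hsol : Group.IsSolvable O) (hsq : ∀ g ∈ M, g * g ∈ O) : Group.IsSolvable M := by
  have hn : (O.subgroupOf M).Normal := normal_subgroupOf_of_le_normalizer hMO
  refine (Group.isSolvable_iff_subgroup_quotient (O.subgroupOf M)).mpr ⟨?_, ?_⟩
  · exact Group.isSolvable_of_surjective (f := (subgroupOfEquivOfLe hOM).symm.toMonoidHom)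
      (subgroupOfEquivOfLe hOM).symm.surjective
  · refine Group.isSolvable_of_comm ?_
    have key : ∀ a : M ⧸ O.subgroupOf M, a * a = 1 := by
      intro a
      induction a using QuotientGroup.induction_on with
      | H g =>
        rw [← QuotientGroup.mk_mul, QuotientGroup.eq_one_iff, mem_subgroupOf]
        exact hsq _ g.2
    intro a b
    exact (mul_comm_of_sq (T := (⊤ : Subgroup (M ⧸ O.subgroupOf M))) (fun t _ => key t)
      (mem_top a) (mem_top b)).eq

include hpo in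
theorem not_dvd_relIndex_of_sq (hMO : M ≤ normalizer (O : Set G)) (hsq : ∀ g ∈ M, g * g ∈ O) :
    ¬ p ∣ O.relIndex M := by
  intro hdvd
  have hn : (O.subgroupOf M).Normal := normal_subgroupOf_of_le_normalizer hMO
  have h1 : p ∣ Nat.card (M ⧸ O.subgroupOf M) := hdvd
  obtain ⟨a, ha⟩ := exists_prime_orderOf_dvd_card' (G := M ⧸ O.subgroupOf M) p h1
  have key : a * a = 1 := by
    induction a using QuotientGroup.induction_on with
    | H g =>
      rw [← QuotientGroup.mk_mul, QuotientGroup.eq_one_iff, mem_subgroupOf]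
      exact hsq _ g.2
  have h2 : orderOf a ∣ 2 := orderOf_dvd_of_pow_eq_one (by rw [pow_two, key])
  rw [ha] at h2
  rcases (Nat.dvd_prime Nat.prime_two).mp h2 with h3 | h3
  · exact hp.out.one_lt.ne' h3
  · rw [h3] at hpo
    exact absurd hpo (by decide)

include hpo in
theorem isMaxP_sup (hOM : O ≤ M) (hMO : M ≤ normalizer (O : Set G))
    (hsq : ∀ g ∈ M, g * g ∈ O) (hQ : IsPGroup p Q) (hQM : Q ≤ normalizer (M : Set G))
    (hQO : IsMaxP p O (Q ⊓ O)) : IsMaxP p (M ⊔ Q) Q := by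
  refine isMaxP_of_not_dvd hQ le_sup_right ?_
  rw [relIndex_right_sup_eq hQM]
  have h1 : Q ⊓ M = Q ⊓ O := by
    refine le_antisymm ?_ (inf_le_inf_left Q hOM)
    rintro g ⟨hgQ, hgM⟩
    exact ⟨hgQ, mem_of_sq_mem (odd_orderOf_of_mem (odd_of_isPGroup hpo hQ) hgQ) (hsq g hgM)⟩
  have h2 : Q.relIndex M = (Q ⊓ O).relIndex O * O.relIndex M := by
    rw [relIndex_mul_relIndex _ _ _ inf_le_right hOM, ← h1, inf_comm, inf_relIndex_left]
  rw [h2]
  intro h3
  rcases (Nat.Prime.dvd_mul hp.out).mp h3 with h4 | h4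
  · exact hQO.not_dvd_index h4
  · exact not_dvd_relIndex_of_sq hpo hMO hsq h4

/-- `Y = O_{p'}(Y) N_Y(ZJ(Q))` for `Y = M Q`, in the ambient group -/
theorem zj_sup (hpo : Odd p) (hOM : O ≤ M) (hMO : M ≤ normalizer (O : Set G))
    (hO : Odd (Nat.card O))
    (hsol : Group.IsSolvable O) (hsq : ∀ g ∈ M, g * g ∈ O) (hQ : IsPGroup p Q)
    (hQM : Q ≤ normalizer (M : Set G)) (hQO : IsMaxP p O (Q ⊓ O)) :
    relCore p (M ⊔ Q) ⊔ ((M ⊔ Q) ⊓ normalizer (Cfsg.centerThompsonAOf Q : Set G)) = M ⊔ Q := by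
  set Y : Subgroup G := M ⊔ Q with hY
  have hmax : IsMaxP p Y Q := isMaxP_sup hpo hOM hMO hsq hQ hQM hQO
  have hsolY : Group.IsSolvable Y :=
    Cfsg.Agent.SignalizersComponents.CoprimeBasic.isSolvable_sup hQM
      (isSolvable_of_sq hOM hMO hsol hsq) (by
        have := hQ.isNilpotent
        infer_instance)
  have hab : ∀ T : Sylow 2 Y, IsMulCommutative (T : Subgroup Y) := by
    intro T
    have hT : IsPGroup 2 ((T : Subgroup Y).map Y.subtype) := T.isPGroup'.map _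
    have h1 := two_subgroup hpo hO hsq hQ hQM hT (map_subtype_le _)
    rw [Cfsg.Agent.PLocal.ThompsonJA.isMulCommutative_iff]
    intro s hs t ht
    apply Subtype.ext
    exact (mul_comm_of_sq (fun t ht => (h1 t ht).2) (mem_map_of_mem Y.subtype hs)
      (mem_map_of_mem Y.subtype ht)).eq
  have hzj := Cfsg.Agent.StrongEmb.RGoodTools.zj_factor hsolY (p := p) (by
    rintro rfl; exact absurd hpo (by decide)) hab hmax.toSylow
  have h2 : (Cfsg.centerThompsonAOf (hmax.toSylow : Subgroup Y)).map Y.subtype =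
      Cfsg.centerThompsonAOf Q := by
    rw [Cfsg.Agent.PLocal.ThompsonJA.map_centerThompsonAOf _ Y.subtype_injective,
      hmax.map_subtype_toSylow]
  have h4 : Cfsg.centerThompsonAOf (hmax.toSylow : Subgroup Y) =
      (Cfsg.centerThompsonAOf Q).subgroupOf Y := by
    rw [← h2, subgroupOf, comap_map_eq_self_of_injective Y.subtype_injective]
  have hJY : Cfsg.centerThompsonAOf Q ≤ Y :=
    (Cfsg.Agent.PLocal.ThompsonJA.centerThompsonAOf_le Q).trans le_sup_right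
  rw [h4, ← subgroupOf_normalizer_eq hJY] at hzj
  have h3 := congrArg (Subgroup.map Y.subtype) hzj
  rw [Subgroup.map_sup, subgroupOf_map_subtype, ← MonoidHom.range_eq_map,
    Subgroup.range_subtype, inf_comm] at h3
  exact h3

/-- two commuting involutions of `M` in `N(ZJ(Q))` -/
theorem exists_two_of_zj (hpo : Odd p) (hOM : O ≤ M) (hMO : M ≤ normalizer (O : Set G))
    (hO : Odd (Nat.card O))
    (hsol : Group.IsSolvable O) (hsq : ∀ g ∈ M, g * g ∈ O) (hQ : IsPGroup p Q)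
    (hQM : Q ≤ normalizer (M : Set G)) (hQO : IsMaxP p O (Q ⊓ O))
    (hK : Odd (Nat.card (relCore p (M ⊔ Q)))) (h4 : 4 ∣ Nat.card (M ⊔ Q : Subgroup G)) :
    ∃ d e : G, d ∈ M ∧ e ∈ M ∧ d * d = 1 ∧ e * e = 1 ∧ d ≠ 1 ∧ e ≠ 1 ∧ d ≠ e ∧ Commute d e ∧
      d ∈ normalizer (Cfsg.centerThompsonAOf Q : Set G) ∧
      e ∈ normalizer (Cfsg.centerThompsonAOf Q : Set G) := by
  have hzj := zj_sup hpo hOM hMO hO hsol hsq hQ hQM hQO
  set Y : Subgroup G := M ⊔ Q with hY
  set L : Subgroup G := Y ⊓ normalizer (Cfsg.centerThompsonAOf Q : Set G) with hL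
  have hLK : L ≤ normalizer (relCore p Y : Set G) :=
    (inf_le_left.trans le_normalizer).trans (normalizer_le_normalizer_relCore p Y)
  have h1 : Odd (L.relIndex Y) := by
    rw [← hzj, relIndex_right_sup_eq hLK]
    exact hK.of_dvd_nat (relIndex_dvd_card _ _)
  have h2 : Nat.card L * L.relIndex Y = Nat.card Y := card_mul_relIndex' inf_le_left
  have h5 : 2 ^ 2 ∣ Nat.card L := by
    rw [← h2] at h4
    have h6 : (2 ^ 2 : ℕ).Coprime (L.relIndex Y) :=
      Nat.Coprime.pow_left 2 (Nat.coprime_two_left.mpr h1)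
    exact h6.dvd_of_dvd_mul_right h4
  have h2p : Fact (Nat.Prime 2) := ⟨Nat.prime_two⟩
  obtain ⟨T⟩ : Nonempty (Sylow 2 L) := inferInstance
  have hT4 : 2 ^ 2 ∣ Nat.card T := T.pow_dvd_card_of_pow_dvd_card h5
  have hTp : IsPGroup 2 ((T : Subgroup L).map L.subtype) := T.isPGroup'.map _
  have hTL : (T : Subgroup L).map L.subtype ≤ L := map_subtype_le _
  have hcard : Nat.card ((T : Subgroup L).map L.subtype : Subgroup G) = Nat.card T :=
    card_map_of_injective L.subtype_injective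
  set T' : Subgroup G := (T : Subgroup L).map L.subtype with hT'
  have hT'4 : 4 ≤ Nat.card T' := by
    rw [hcard]
    exact Nat.le_of_dvd Nat.card_pos hT4
  have h7 := two_subgroup hpo hO hsq hQ hQM hTp (hTL.trans inf_le_left)
  obtain ⟨d, hd, hd1⟩ : ∃ d ∈ T', d ≠ 1 := by
    by_contra hcon
    push Not at hcon
    have : T' = ⊥ := (eq_bot_iff_forall T').mpr hcon
    rw [this, card_bot] at hT'4
    omega
  obtain ⟨e, he, he1, hed⟩ : ∃ e ∈ T', e ≠ 1 ∧ e ≠ d := by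
    by_contra hcon
    push Not at hcon
    have h8 : (T' : Set G) ⊆ {1, d} := by
      intro x hx
      by_cases hx1 : x = 1
      · exact Or.inl hx1
      · exact Or.inr (hcon x hx hx1)
    have h9 := Set.ncard_le_ncard h8 (Set.toFinite _)
    have h10 : ({1, d} : Set G).ncard ≤ 2 := (Set.ncard_insert_le _ _).trans (by simp)
    have h11 : (T' : Set G).ncard = Nat.card T' := rfl
    omega
  refine ⟨d, e, (h7 d hd).1, (h7 e he).1, (h7 d hd).2, (h7 e he).2, hd1, he1, Ne.symm hed, ?_,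
    (hTL hd).2, (hTL he).2⟩
  exact mul_comm_of_sq (fun t ht => (h7 t ht).2) hd he

end Abstract

variable {G Ω : Type*} [Group G] [MulAction G Ω] {z : G}

/-- What is used about a proper subgroup `H` with elements of `D` at two points and two commuting
elements of `D`: `O` is the odd core of the kernel of `H` on its `D`-points. -/
structure Sec (Ω : Type*) {G : Type*} [Group G] [MulAction G Ω] (z : G) (H O : Subgroup G) :
    Prop where
  le : O ≤ H
  odd : Odd (Nat.card O)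
  norm : H ≤ normalizer (O : Set G)
  fix : ∀ o ∈ O, ∀ a ∈ pts Ω z H, o • a = a
  sq : ∀ a : Ω, ∀ d ∈ At z a, ∀ e ∈ At z a, d ∈ H → e ∈ H → (d * e) * (d * e) ∈ O

/-- `U` is a `p`-group, not centralised by any element of `D`, whose normaliser has elements of `D` at
two points and two commuting elements of `D` -/
def Big (Ω : Type*) {G : Type*} [Group G] [MulAction G Ω] (z : G) (p : ℕ) (U : Subgroup G) : Prop :=
  IsPGroup p U ∧ DSub Ω z (normalizer (U : Set G)) ∧ ∀ d, IsConj z d → ∃ u ∈ U, ¬ Commute d u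

theorem Sec.conj_mem {H O : Subgroup G} (hs : Sec Ω z H O) {g o : G} (hg : g ∈ H) (ho : o ∈ O) :
    g * o * g⁻¹ ∈ O := (mem_normalizer_iff.mp (hs.norm hg) o).mp ho

/-- `d e` for `d, e ∈ D_a ∩ H` is congruent modulo `O` to `1` or to an element of `D_a ∩ H` -/
theorem Sec.mul_cases [Finite G] (h : Setup G Ω z) (hf : ∀ g : G, (∀ a : Ω, g • a = a) → g = 1)
    {H O : Subgroup G} (hs : Sec Ω z H O) {a : Ω} {d e : G} (hd : d ∈ At z a) (he : e ∈ At z a)
    (hdH : d ∈ H) (heH : e ∈ H) :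
    d * e ∈ O ∨ ∃ f ∈ At z a, f ∈ H ∧ f * (d * e) ∈ O := by
  by_cases hodd : Odd (orderOf (d * e))
  · exact Or.inl (mem_of_sq_mem hodd (hs.sq a d hd e he hdH heH))
  · right
    obtain ⟨w, hw, hw2, hwd, hwe, hwc⟩ :=
      exists_central d e (h.orderOf_eq hd.1) (h.orderOf_eq he.1) (orderOf_pos _) hodd
    have hdw : IsConj z (d * w) := by
      rcases hwc with h1 | h1
      · exact hd.1.trans h1
      · exact he.1.trans h1
    have hw1 : w ≠ 1 := by
      intro h1; rw [h1, orderOf_one] at hw2; exact absurd hw2 (by norm_num)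
    have hne : d ≠ d * w := fun hh => hw1 (by simpa using hh.symm)
    have hc : Commute d (d * w) := (Commute.refl d).mul_right hwd.symm
    have hwz : IsConj z w := by
      have := mul_mem_class h hf hd.1 hdw hc hne
      rwa [← mul_assoc, h.mul_self hd.1, one_mul] at this
    have hwa : w • a = a := by
      have h1 : Subgroup.zpowers (d * e) ≤ MulAction.stabilizer G a := by
        rw [zpowers_le, MulAction.mem_stabilizer_iff, mul_smul, he.2, hd.2]
      exact h1 hw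
    have hwH : w ∈ H := by
      have h1 : Subgroup.zpowers (d * e) ≤ H := by
        rw [zpowers_le]; exact mul_mem hdH heH
      exact h1 hw
    have hsq := hs.sq a d hd e he hdH heH
    obtain ⟨k, hk⟩ := hw
    simp only at hk
    refine ⟨w, ⟨hwz, hwa⟩, hwH, ?_⟩
    rcases Int.even_or_odd' k with ⟨j, rfl | rfl⟩
    · exfalso
      have h1 : w ∈ O := by
        rw [← hk, zpow_mul, zpow_two]
        exact zpow_mem hsq j
      have h2 := odd_orderOf_of_mem hs.odd h1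
      rw [hw2] at h2
      exact absurd h2 (by decide)
    · have h1 : w * (d * e) = (d * e * (d * e)) ^ (j + 1) := by
        rw [← hk, ← zpow_add_one, ← zpow_two, ← zpow_mul]
        congr 1
        ring
      rw [h1]
      exact zpow_mem hsq _

/-- `(D_a ∩ H) O ∪ O`, a subgroup -/
def Sec.grp [Finite G] (h : Setup G Ω z) (hf : ∀ g : G, (∀ a : Ω, g • a = a) → g = 1)
    {H O : Subgroup G} (hs : Sec Ω z H O) (a : Ω) : Subgroup G where
  carrier := {g | g ∈ H ∧ g • a = a ∧ (g ∈ O ∨ ∃ d ∈ At z a, d ∈ H ∧ d * g ∈ O)}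
  one_mem' := ⟨one_mem _, one_smul _ _, Or.inl (one_mem _)⟩
  mul_mem' := by
    rintro g k ⟨hgH, hga, hg⟩ ⟨hkH, hka, hk⟩
    refine ⟨mul_mem hgH hkH, by rw [mul_smul, hka, hga], ?_⟩
    rcases hg with hg | ⟨d, hd, hdH, hdg⟩
    · rcases hk with hk | ⟨e, he, heH, hek⟩
      · exact Or.inl (mul_mem hg hk)
      · refine Or.inr ⟨e, he, heH, ?_⟩
        have e1 : e * (g * k) = (e * g * e⁻¹) * (e * k) := by group
        rw [e1]
        exact mul_mem (hs.conj_mem heH hg) hek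
    · rcases hk with hk | ⟨e, he, heH, hek⟩
      · refine Or.inr ⟨d, hd, hdH, ?_⟩
        rw [← mul_assoc]
        exact mul_mem hdg hk
      · -- `g k = (d e) (e (d g) e⁻¹) (e k)`
        have hdd := h.mul_self hd.1
        have hee := h.mul_self he.1
        have hei := h.inv_eq he.1
        have e1 : g * k = (d * e) * ((e⁻¹ * (d * g) * e⁻¹⁻¹) * (e * k)) := by
          calc g * k = (d * d) * g * k := by rw [hdd, one_mul]
            _ = (d * e) * (e⁻¹ * (d * g)) * k := by group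
            _ = (d * e) * (e⁻¹ * (d * g)) * ((e * e) * k) := by rw [hee, one_mul]
            _ = (d * e) * ((e⁻¹ * (d * g) * e⁻¹⁻¹) * (e * k)) := by group
        have h1 : (e⁻¹ * (d * g) * e⁻¹⁻¹) * (e * k) ∈ O :=
          mul_mem (hs.conj_mem (inv_mem heH) hdg) hek
        rcases hs.mul_cases h hf hd he hdH heH with h2 | ⟨f, hf', hfH, h2⟩
        · left; rw [e1]; exact mul_mem h2 h1
        · right
          refine ⟨f, hf', hfH, ?_⟩
          rw [e1, ← mul_assoc]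
          exact mul_mem h2 h1
  inv_mem' := by
    rintro g ⟨hgH, hga, hg⟩
    refine ⟨inv_mem hgH, by rw [inv_smul_eq_iff, hga], ?_⟩
    rcases hg with hg | ⟨d, hd, hdH, hdg⟩
    · exact Or.inl (inv_mem hg)
    · refine Or.inr ⟨d, hd, hdH, ?_⟩
      have e1 : d * g⁻¹ = d * (d * g)⁻¹ * d⁻¹ * (d * d) := by group
      rw [e1, h.mul_self hd.1, mul_one]
      exact hs.conj_mem hdH (inv_mem hdg)

theorem Sec.mem_grp [Finite G] (h : Setup G Ω z) (hf : ∀ g : G, (∀ a : Ω, g • a = a) → g = 1)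
    {H O : Subgroup G} (hs : Sec Ω z H O) {a : Ω} {g : G} : g ∈ hs.grp h hf a ↔
      g ∈ H ∧ g • a = a ∧ (g ∈ O ∨ ∃ d ∈ At z a, d ∈ H ∧ d * g ∈ O) := Iff.rfl

section Grp

variable [Finite G] (h : Setup G Ω z) (hf : ∀ g : G, (∀ a : Ω, g • a = a) → g = 1)
  {H O : Subgroup G} (hs : Sec Ω z H O)

include h hf hs

theorem grp_le (a : Ω) : hs.grp h hf a ≤ H := fun _ hg => hg.1

theorem le_grp {a : Ω} (ha : a ∈ pts Ω z H) : O ≤ hs.grp h hf a :=
  fun g hg => ⟨hs.le hg, hs.fix g hg a ha, Or.inl hg⟩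

theorem at_mem_grp {a : Ω} {d : G} (hd : d ∈ At z a) (hdH : d ∈ H) : d ∈ hs.grp h hf a :=
  ⟨hdH, hd.2, Or.inr ⟨d, hd, hdH, by rw [h.mul_self hd.1]; exact one_mem _⟩⟩

theorem grp_sq {a : Ω} {g : G} (hg : g ∈ hs.grp h hf a) : g * g ∈ O := by
  obtain ⟨hgH, hga, hg | ⟨d, hd, hdH, hdg⟩⟩ := hg
  · exact mul_mem hg hg
  · have e1 : g * g = (d⁻¹ * (d * g) * d⁻¹⁻¹) * (d⁻¹ * d⁻¹) * (d * g) := by group
    have e2 : d⁻¹ * d⁻¹ = 1 := by rw [h.inv_eq hd.1, h.mul_self hd.1]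
    rw [e1, e2, mul_one]
    exact mul_mem (hs.conj_mem (inv_mem hdH) hdg) hdg

/-- the involutions of `(D_a ∩ H) O` belong to `D` -/
theorem isConj_of_mem_grp {a : Ω} {u : G} (hu : u ∈ hs.grp h hf a) (hu1 : u ≠ 1)
    (huu : u * u = 1) : IsConj z u := by
  have hu2 : orderOf u = 2 := orderOf_eq_two_of_mul_self huu hu1
  obtain ⟨huH, hua, hu | ⟨d, hd, hdH, hdu⟩⟩ := hu
  · exfalso
    have h2 := odd_orderOf_of_mem hs.odd hu
    rw [hu2] at h2
    exact absurd h2 (by decide)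
  · obtain ⟨j, -, -, hjd, -⟩ := exists_swap_conj d u (h.orderOf_eq hd.1) hu2
      (odd_orderOf_of_mem hs.odd hdu)
    rw [← hjd]
    exact conj_mem hd.1 j

theorem grp_normalizer {a : Ω} {g : G} (hgH : g ∈ H) (hga : g • a = a) :
    g ∈ normalizer (hs.grp h hf a : Set G) := by
  have key : ∀ g ∈ H, g • a = a → ∀ x ∈ hs.grp h hf a, g * x * g⁻¹ ∈ hs.grp h hf a := by
    rintro g hgH hga x ⟨hxH, hxa, hx⟩
    refine ⟨mul_mem (mul_mem hgH hxH) (inv_mem hgH), ?_, ?_⟩
    · rw [mul_smul, mul_smul, inv_smul_eq_iff.mpr hga.symm, hxa, hga]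
    · rcases hx with hx | ⟨d, hd, hdH, hdx⟩
      · exact Or.inl (hs.conj_mem hgH hx)
      · right
        refine ⟨g * d * g⁻¹, ?_, mul_mem (mul_mem hgH hdH) (inv_mem hgH), ?_⟩
        · have := conj_mem_At g hd
          rwa [hga] at this
        · have e1 : g * d * g⁻¹ * (g * x * g⁻¹) = g * (d * x) * g⁻¹ := by group
          rw [e1]
          exact hs.conj_mem hgH hdx
  rw [mem_normalizer_iff]
  intro x
  refine ⟨key g hgH hga x, fun hx => ?_⟩
  have h1 := key g⁻¹ (inv_mem hgH) (by rw [inv_smul_eq_iff, hga]) _ hx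
  have e2 : g⁻¹ * (g * x * g⁻¹) * g⁻¹⁻¹ = x := by group
  rwa [e2] at h1

end Grp

/-- a subgroup with elements of `D` at two points and two commuting elements of `D` contains two
commuting elements of `D_a` for each of its points `a` -/
theorem exists_pair_at [Finite G] (h : Setup G Ω z) {H : Subgroup G} (hH : DSub Ω z H) {a : Ω}
    (ha : a ∈ pts Ω z H) :
    ∃ d ∈ At z a, ∃ e ∈ At z a, d ∈ H ∧ e ∈ H ∧ Commute d e ∧ d ≠ e := by
  obtain ⟨-, d, e, hdH, heH, hd, he, hde, hne⟩ := hH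
  obtain ⟨c, hc⟩ := h.ex hd
  have hec : e • c = c := h.fix_of_commute hd hde.symm hc
  by_cases hac : c = a
  · subst hac
    exact ⟨d, ⟨hd, hc⟩, e, ⟨he, hec⟩, hdH, heH, hde, hne⟩
  · obtain ⟨f, hfH, hf⟩ := ha
    obtain ⟨x, hxH, hx, -, -⟩ := h.exists_swap_mem H hac ⟨hd, hc⟩ hf hdH hfH
    refine ⟨x * d * x⁻¹, ?_, x * e * x⁻¹, ?_, mul_mem (mul_mem hxH hdH) (inv_mem hxH),
      mul_mem (mul_mem hxH heH) (inv_mem hxH), ?_, fun hh => hne ?_⟩
    · have := conj_mem_At x (show d ∈ At z c from ⟨hd, hc⟩)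
      rwa [hx.2] at this
    · have := conj_mem_At x (show e ∈ At z c from ⟨he, hec⟩)
      rwa [hx.2] at this
    · show x * d * x⁻¹ * (x * e * x⁻¹) = x * e * x⁻¹ * (x * d * x⁻¹)
      calc x * d * x⁻¹ * (x * e * x⁻¹) = x * (d * e) * x⁻¹ := by group
        _ = x * (e * d) * x⁻¹ := by rw [hde.eq]
        _ = _ := by group
    · exact mul_left_cancel (mul_right_cancel hh)

/-- an odd order subgroup normalised by two commuting elements of `D_a` fixes `a` -/
theorem fix_of_pair' [Finite G] (h : Setup G Ω z) {U : Subgroup G} (hU : Odd (Nat.card U)) {a : Ω}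
    {d e : G} (hd : d ∈ At z a) (he : e ∈ At z a) (hde : Commute d e) (hne : d ≠ e)
    (hdU : d ∈ normalizer (U : Set G)) (heU : e ∈ normalizer (U : Set G)) :
    U ≤ MulAction.stabilizer G a := by
  refine Cfsg.Agent.Lib.KleinGen.le_of_klein U _ hU d e (h.mul_self hd.1) (h.mul_self he.1) hde.eq
    (fun u hu => (mem_normalizer_iff.mp hdU u).mp hu)
    (fun u hu => (mem_normalizer_iff.mp heU u).mp hu) ?_ ?_ ?_
  · rintro u ⟨-, hu⟩
    exact h.fix_of_commute hd.1 (mem_centralizer_singleton_iff.mp hu) hd.2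
  · rintro u ⟨-, hu⟩
    exact h.fix_of_commute he.1 (mem_centralizer_singleton_iff.mp hu) he.2
  · rintro u ⟨-, hu⟩
    exact h.comm' hd.1 he.1 hde hne (mem_centralizer_singleton_iff.mp hu) hd.2

/-- some `t ∈ D ∩ H` swapping `c` and `d` normalises a given Sylow `p`-subgroup of `H ∩ G_{cd}` -/
theorem exists_sw_inv_mem [Finite G] (h : Setup G Ω z) {p : ℕ} [hp : Fact p.Prime] (hpo : Odd p)
    {c d : Ω} (hcd : c ≠ d) {H R : Subgroup G} (hR : IsMaxP p (H ⊓ stab2 G c d) R) {y : G}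
    (hy : y ∈ Sw z c d) (hyH : y ∈ H) : ∃ x ∈ Sw z c d, x ∈ H ∧ Inv x R := by
  have hyy := h.mul_self hy.1
  have hRH : R ≤ H := hR.2.1.trans inf_le_left
  have hRs : R ≤ stab2 G c d := hR.2.1.trans inf_le_right
  set K : Subgroup G := (oc G c d ⊓ H) ⊔ R with hK
  have hnorm : R ≤ normalizer ((oc G c d ⊓ H : Subgroup G) : Set G) := by
    intro g hg
    have h1 : g ∈ normalizer (oc G c d : Set G) := mem_normalizer_oc (Or.inl (hRs hg))
    have h2 : g ∈ normalizer (H : Set G) := le_normalizer (hRH hg)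
    rw [mem_normalizer_iff] at h1 h2 ⊢
    intro x
    rw [mem_inf, mem_inf, ← h1 x, ← h2 x]
  have hodd : Odd (Nat.card K) :=
    odd_sup ((odd_oc (G := G) c d).of_dvd_nat (card_dvd_of_le inf_le_left))
      (odd_of_isPGroup hpo hR.1) hnorm
  have hinv : Inv y K := by
    have h1 : K ≤ K.comap (MulAut.conj y).toMonoidHom := by
      rw [hK, sup_le_iff]
      constructor
      · intro g hg
        have h2 := mem_normalizer_oc (a := c) (b := d) (g := y) (Or.inr ⟨hy.2, sw_smul_right h hy⟩)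
        exact le_sup_left (a := oc G c d ⊓ H) ⟨(mem_normalizer_iff.mp h2 g).mp hg.1,
          H.mul_mem (H.mul_mem hyH hg.2) (H.inv_mem hyH)⟩
      · intro g hg
        have h2 := commutator_mem_oc h hcd hy (hRs hg)
        show y * g * y⁻¹ ∈ (oc G c d ⊓ H) ⊔ R
        have e1 : y * g * y⁻¹ = (y * g * y⁻¹ * g⁻¹) * g := by group
        rw [e1]
        refine mul_mem (le_sup_left (a := oc G c d ⊓ H) ⟨h2, ?_⟩) (le_sup_right (a := oc G c d ⊓ H) hg)
        exact H.mul_mem (H.mul_mem (H.mul_mem hyH (hRH hg)) (H.inv_mem hyH)) (H.inv_mem (hRH hg))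
    exact fun u hu => h1 hu
  have hKJ : K ≤ H ⊓ stab2 G c d := by
    refine sup_le (le_inf inf_le_right (inf_le_left.trans (oc_le c d))) hR.2.1
  obtain ⟨P, hP, hiP, -⟩ := exists_isMaxP_ge hyy hodd hinv (p := p) (U := ⊥) bot_le
    IsPGroup.of_bot (fun u hu => by rw [mem_bot.mp hu]; simp)
  have hRK : IsMaxP p K R :=
    ⟨hR.1, le_sup_right, fun R' h1 h2 h3 => hR.2.2 R' h1 (h2.trans hKJ) h3⟩
  obtain ⟨k, hk, hkP⟩ := hP.exists_conj hRK
  have hk2 := hKJ hk
  refine ⟨k * y * k⁻¹, ?_, mul_mem (mul_mem hk2.1 hyH) (inv_mem hk2.1), ?_⟩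
  · have h1 := conj_mem_Sw k hy
    have h2 : k • c = c := hk2.2.1
    have h3 : k • d = d := hk2.2.2
    rwa [h2, h3] at h1
  · intro r hr
    rw [← hkP] at hr ⊢
    rw [mem_map_conj] at hr ⊢
    have h1 := hiP _ hr
    have e1 : k⁻¹ * (k * y * k⁻¹ * r * (k * y * k⁻¹)⁻¹) * k = y * (k⁻¹ * r * k) * y⁻¹ := by group
    rwa [e1]

/-- two commuting involutions generate a group of order 4 -/
theorem four_dvd_card [Finite G] {Y : Subgroup G} {d e : G} (hd : orderOf d = 2)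
    (he : orderOf e = 2) (hde : Commute d e) (hne : d ≠ e) (hdY : d ∈ Y) (heY : e ∈ Y) :
    4 ∣ Nat.card Y := by
  have hn : Subgroup.zpowers e ≤ normalizer (Subgroup.zpowers d : Set G) := by
    rw [zpowers_le, mem_normalizer_iff]
    intro x
    have key : ∀ g : G, Commute d g → ∀ x ∈ Subgroup.zpowers d, g * x * g⁻¹ ∈ Subgroup.zpowers d := by
      rintro g hg _ ⟨k, rfl⟩
      have h1 : Commute (d ^ k) g := hg.zpow_left k
      have e1 : g * d ^ k * g⁻¹ = d ^ k := by rw [← h1.eq]; group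
      show g * d ^ k * g⁻¹ ∈ _
      rw [e1]
      exact ⟨k, rfl⟩
    refine ⟨key e hde x, fun hx => ?_⟩
    have h1 := key e⁻¹ hde.inv_right _ hx
    have e2 : e⁻¹ * (e * x * e⁻¹) * e⁻¹⁻¹ = x := by group
    rwa [e2] at h1
  have h1 := card_sup_eq hn
  have h2 : (Subgroup.zpowers e).relIndex (Subgroup.zpowers d) = 2 := by
    have h3 : Subgroup.zpowers e ⊓ Subgroup.zpowers d = ⊥ := by
      rw [eq_bot_iff]
      rintro x ⟨hx1, hx2⟩
      rw [mem_bot]
      by_contra hx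
      have key : ∀ g : G, orderOf g = 2 → ∀ x ∈ Subgroup.zpowers g, x ≠ 1 → x = g := by
        rintro g hg _ ⟨k, rfl⟩ hk
        simp only at hk ⊢
        rcases Int.even_or_odd' k with ⟨j, rfl | rfl⟩
        · exact absurd (by rw [zpow_mul, zpow_two, mul_self_of_orderOf hg, one_zpow]) hk
        · rw [zpow_add, zpow_mul, zpow_two, mul_self_of_orderOf hg, one_zpow, one_mul, zpow_one]
      exact hne ((key d hd x hx2 hx).symm.trans (key e he x hx1 hx))
    rw [← inf_relIndex_left, inf_comm, h3, relIndex_bot_left, Nat.card_zpowers, hd]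
  rw [h2, Nat.card_zpowers, he] at h1
  have h5 : Nat.card (Subgroup.zpowers d ⊔ Subgroup.zpowers e : Subgroup G) ∣ Nat.card Y :=
    card_dvd_of_le (sup_le (by rwa [zpowers_le]) (by rwa [zpowers_le]))
  rw [h1] at h5
  exact h5

/-- an element in a `p`-group and in a `p'`-group is trivial -/
theorem eq_one_of_mem [Finite G] {p : ℕ} [hp : Fact p.Prime] {U K : Subgroup G}
    (hU : IsPGroup p U) (hK : (Nat.card K).Coprime p) {w : G} (hwU : w ∈ U) (hwK : w ∈ K) :
    w = 1 := by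
  obtain ⟨k, hk⟩ := hU ⟨w, hwU⟩
  have hk' : w ^ p ^ k = 1 := by
    have := congrArg Subtype.val hk
    simpa using this
  have h1 : orderOf w ∣ p ^ k := orderOf_dvd_of_pow_eq_one hk'
  have h2 : orderOf w ∣ Nat.card K := by
    rw [← Subgroup.orderOf_mk w hwK]
    exact orderOf_dvd_natCard _
  have h3 : orderOf w ∣ 1 := by
    have h4 : (Nat.card K).Coprime (p ^ k) := Nat.Coprime.pow_right k hK
    rw [← h4]
    exact Nat.dvd_gcd h2 h1
  exact orderOf_eq_one_iff.mp (Nat.dvd_one.mp h3)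

section Pair

variable [Finite G] (h : Setup G Ω z) (hf : ∀ g : G, (∀ a : Ω, g • a = a) → g = 1)
  (hFT : ∀ K : Subgroup G, Odd (Nat.card K) → Group.IsSolvable K)
  {p : ℕ} [hp : Fact p.Prime] (hpo : Odd p)
  {U O : Subgroup G} (hU : Big Ω z p U) (hs : Sec Ω z (normalizer (U : Set G)) O)
  {x y : Ω} (hxy : x ≠ y) (hx : x ∈ pts Ω z (normalizer (U : Set G)))
  (hy : y ∈ pts Ω z (normalizer (U : Set G)))
  {Q : Subgroup G} (hQ : IsMaxP p (normalizer (U : Set G) ⊓ stab2 G x y) Q)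

include h hpo hU hx in
theorem le_stab_of_big : U ≤ MulAction.stabilizer G x := by
  obtain ⟨d, hd, e, he, hdH, heH, hde, hne⟩ := exists_pair_at h hU.2.1 hx
  exact fix_of_pair' h (odd_of_isPGroup hpo hU.1) hd he hde hne hdH heH

include h hpo hU hx hy hQ in
theorem le_of_big : U ≤ Q := by
  have hQN : Q ≤ normalizer (U : Set G) := hQ.2.1.trans inf_le_left
  have h1 : IsPGroup p (Q ⊔ U : Subgroup G) := hQ.1.to_sup_of_normal_right' hU.1 hQN
  have h2 : Q ⊔ U ≤ normalizer (U : Set G) ⊓ stab2 G x y := by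
    refine sup_le hQ.2.1 (le_inf le_normalizer (le_inf ?_ ?_))
    · exact le_stab_of_big h hpo hU hx
    · exact le_stab_of_big h hpo hU hy
  exact le_sup_right.trans (hQ.2.2 _ h1 h2 le_sup_left)

include h hf hFT hpo hU hs hx hy hQ in
/-- two commuting elements of `D_x` in `N(U) ∩ N(ZJ(Q))` -/
theorem exists_pair_zj : ∃ d ∈ At z x, ∃ e ∈ At z x, d ∈ normalizer (U : Set G) ∧
    e ∈ normalizer (U : Set G) ∧ Commute d e ∧ d ≠ e ∧
    d ∈ normalizer (Cfsg.centerThompsonAOf Q : Set G) ∧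
    e ∈ normalizer (Cfsg.centerThompsonAOf Q : Set G) := by
  have hUQ := le_of_big h hpo hU hx hy hQ
  set M : Subgroup G := hs.grp h hf x with hM
  have hOM : O ≤ M := le_grp h hf hs hx
  have hMN : M ≤ normalizer (U : Set G) := grp_le h hf hs x
  have hMO : M ≤ normalizer (O : Set G) := hMN.trans hs.norm
  have hsq : ∀ g ∈ M, g * g ∈ O := fun g hg => grp_sq h hf hs hg
  have hQM : Q ≤ normalizer (M : Set G) := by
    intro g hg
    exact grp_normalizer h hf hs (hQ.2.1 hg).1 (hQ.2.1 hg).2.1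
  have hOin : O ≤ normalizer (U : Set G) ⊓ stab2 G x y :=
    le_inf hs.le (le_inf (fun o ho => hs.fix o ho x hx) (fun o ho => hs.fix o ho y hy))
  have hQO : IsMaxP p O (Q ⊓ O) := isMaxP_inf hQ hOin (inf_le_left.trans hs.norm)
  have hYN : M ⊔ Q ≤ normalizer (U : Set G) := sup_le hMN (hQ.2.1.trans inf_le_left)
  have hK : Odd (Nat.card (relCore p (M ⊔ Q))) := by
    by_contra hcon
    rw [Nat.not_odd_iff_even, even_iff_two_dvd] at hcon
    have h2p : Fact (Nat.Prime 2) := ⟨Nat.prime_two⟩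
    obtain ⟨⟨u, huK⟩, hu⟩ := exists_prime_orderOf_dvd_card' 2 hcon
    rw [Subgroup.orderOf_mk] at hu
    have huu := mul_self_of_orderOf hu
    have hu1 : u ≠ 1 := by
      intro h1; rw [h1, orderOf_one] at hu; exact absurd hu (by norm_num)
    have huY : u ∈ M ⊔ Q := relCore_le p _ huK
    have huM : u ∈ M := (two_subgroup hpo hs.odd hsq hQ.1 hQM (T := Subgroup.zpowers u)
      (isPGroup_zpowers huu) (by rwa [zpowers_le]) u (mem_zpowers u)).1
    have huz : IsConj z u := isConj_of_mem_grp h hf hs huM hu1 huu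
    obtain ⟨v, hv, hnc⟩ := hU.2.2 u huz
    apply hnc
    have h1 : u * v * u⁻¹ * v⁻¹ ∈ U :=
      mul_mem ((mem_normalizer_iff.mp (hYN huY) v).mp hv) (inv_mem hv)
    have h2 : u * v * u⁻¹ * v⁻¹ ∈ relCore p (M ⊔ Q) := by
      have h3 : v ∈ normalizer (relCore p (M ⊔ Q) : Set G) :=
        normalizer_le_normalizer_relCore p (M ⊔ Q)
          (le_normalizer ((le_sup_right : Q ≤ M ⊔ Q) (hUQ hv)))
      have h4 := (mem_normalizer_iff.mp h3 u⁻¹).mp (inv_mem huK)
      have e1 : u * v * u⁻¹ * v⁻¹ = u * (v * u⁻¹ * v⁻¹) := by group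
      rw [e1]
      exact mul_mem huK h4
    have h5 := eq_one_of_mem hU.1 (relCore_coprime p _) h1 h2
    show u * v = v * u
    calc u * v = (u * v * u⁻¹ * v⁻¹) * (v * u) := by group
      _ = v * u := by rw [h5, one_mul]
  have h4 : 4 ∣ Nat.card (M ⊔ Q : Subgroup G) := by
    obtain ⟨d, hd, e, he, hdH, heH, hde, hne⟩ := exists_pair_at h hU.2.1 hx
    exact four_dvd_card (h.orderOf_eq hd.1) (h.orderOf_eq he.1) hde hne
      ((le_sup_left : M ≤ M ⊔ Q) (at_mem_grp h hf hs hd hdH))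
      ((le_sup_left : M ≤ M ⊔ Q) (at_mem_grp h hf hs he heH))
  obtain ⟨d, e, hdM, heM, hdd, hee, hd1, he1, hde, hc, hdJ, heJ⟩ :=
    exists_two_of_zj hpo hOM hMO hs.odd (hFT O hs.odd) hsq hQ.1 hQM hQO hK h4
  exact ⟨d, ⟨isConj_of_mem_grp h hf hs hdM hd1 hdd, hdM.2.1⟩, e,
    ⟨isConj_of_mem_grp h hf hs heM he1 hee, heM.2.1⟩, hMN hdM, hMN heM, hc, hde, hdJ, heJ⟩

include h hpo hxy hx hy hQ in
omit hp in
/-- some `t ∈ D ∩ N(U)` swapping `x` and `y` normalises `Q` -/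
theorem exists_sw_zj [Fact p.Prime] :
    ∃ t ∈ Sw z x y, t ∈ normalizer (U : Set G) ∧ Inv t Q := by
  obtain ⟨d, hdH, hd⟩ := hx
  obtain ⟨e, heH, he⟩ := hy
  obtain ⟨t, htH, ht, -, -⟩ := h.exists_swap_mem _ hxy hd he hdH heH
  exact exists_sw_inv_mem h hpo hxy hQ ht htH

end Pair

theorem isPGroup_closure_pair [Finite G] {d e : G} (hd : d * d = 1) (he : e * e = 1)
    (hde : Commute d e) :
    IsPGroup 2 (Subgroup.zpowers d ⊔ Subgroup.zpowers e : Subgroup G) := by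
  refine (isPGroup_zpowers hd).to_sup_of_normal_right' (isPGroup_zpowers he) ?_
  rw [zpowers_le, mem_normalizer_iff]
  intro x
  have key : ∀ g : G, Commute e g → ∀ x ∈ Subgroup.zpowers e, g * x * g⁻¹ ∈ Subgroup.zpowers e := by
    rintro g hg _ ⟨k, rfl⟩
    have h1 : Commute (e ^ k) g := hg.zpow_left k
    have e1 : g * e ^ k * g⁻¹ = e ^ k := by rw [← h1.eq]; group
    show g * e ^ k * g⁻¹ ∈ _
    rw [e1]
    exact ⟨k, rfl⟩
  refine ⟨key d hde.symm x, fun hx => ?_⟩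
  have h1 := key d⁻¹ hde.symm.inv_right _ hx
  have e2 : d⁻¹ * (d * x * d⁻¹) * d⁻¹⁻¹ = x := by group
  rwa [e2] at h1

/-- every Sylow `p`-subgroup `R` of `O` is normalised by two commuting elements of `D_a`, `a` a point
of `H` -/
theorem exists_pair_normalizer [Finite G] (h : Setup G Ω z) {H O : Subgroup G} (hs : Sec Ω z H O)
    (hH : DSub Ω z H) {p : ℕ} [hp : Fact p.Prime] {R : Subgroup G} (hR : IsMaxP p O R) {a : Ω}
    (ha : a ∈ pts Ω z H) : ∃ d ∈ At z a, ∃ e ∈ At z a, d ∈ normalizer (R : Set G) ∧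
      e ∈ normalizer (R : Set G) ∧ Commute d e ∧ d ≠ e := by
  obtain ⟨d, hd, e, he, hdH, heH, hde, hne⟩ := exists_pair_at h hH ha
  have h2p : Fact (Nat.Prime 2) := ⟨Nat.prime_two⟩
  have hA := isPGroup_closure_pair (h.mul_self hd.1) (h.mul_self he.1) hde
  have hAH : Subgroup.zpowers d ⊔ Subgroup.zpowers e ≤ H :=
    sup_le (by rwa [zpowers_le]) (by rwa [zpowers_le])
  obtain ⟨S, hS, hAS, -⟩ := Cfsg.Agent.Lib.PGroupCoprimeAction.exists_invariant_sylow_ge
    (q := p) (R := ⊥) hA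
    (fun h => (Nat.not_even_iff_odd.mpr hs.odd) (even_iff_two_dvd.mpr h))
    (fun b hb u hu => hs.conj_mem (hAH hb) hu) bot_le IsPGroup.of_bot
    (fun b _ u hu => by rw [mem_bot.mp hu]; simp)
  have hS' : IsMaxP p O S := isMaxP_iff_exists_sylow.mpr hS
  obtain ⟨o, ho, hoS⟩ := hS'.exists_conj hR
  have hoa : o • a = a := hs.fix o ho a ha
  have hnorm : ∀ b ∈ Subgroup.zpowers d ⊔ Subgroup.zpowers e,
      o * b * o⁻¹ ∈ normalizer (R : Set G) := by
    have key : ∀ b ∈ Subgroup.zpowers d ⊔ Subgroup.zpowers e, ∀ r ∈ R,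
        o * b * o⁻¹ * r * (o * b * o⁻¹)⁻¹ ∈ R := by
      intro b hb r hr
      rw [← hoS] at hr ⊢
      rw [mem_map_conj] at hr ⊢
      have h1 := hAS b hb _ hr
      have e1 : o⁻¹ * (o * b * o⁻¹ * r * (o * b * o⁻¹)⁻¹) * o = b * (o⁻¹ * r * o) * b⁻¹ := by
        group
      rwa [e1]
    intro b hb
    rw [mem_normalizer_iff]
    intro r
    refine ⟨key b hb r, fun hr => ?_⟩
    have h1 := key b⁻¹ (inv_mem hb) _ hr
    have e2 : o * b⁻¹ * o⁻¹ * (o * b * o⁻¹ * r * (o * b * o⁻¹)⁻¹) * (o * b⁻¹ * o⁻¹)⁻¹ = r := by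
      group
    rwa [e2] at h1
  refine ⟨o * d * o⁻¹, ?_, o * e * o⁻¹, ?_, hnorm d (mem_sup_left (mem_zpowers d)),
    hnorm e (mem_sup_right (mem_zpowers e)), ?_, fun hh => hne ?_⟩
  · have := conj_mem_At o hd
    rwa [hoa] at this
  · have := conj_mem_At o he
    rwa [hoa] at this
  · show o * d * o⁻¹ * (o * e * o⁻¹) = o * e * o⁻¹ * (o * d * o⁻¹)
    calc o * d * o⁻¹ * (o * e * o⁻¹) = o * (d * e) * o⁻¹ := by group
      _ = o * (e * d) * o⁻¹ := by rw [hde.eq]
      _ = _ := by group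
  · exact mul_left_cancel (mul_right_cancel hh)

section Climb

variable [Finite G] (h : Setup G Ω z) {p : ℕ} [hp : Fact p.Prime] (hpo : Odd p)
  {U Q : Subgroup G} (hU : Big Ω z p U) {x y : Ω} (hxy : x ≠ y) (hUQ : U ≤ Q)
  (hQx : Q ≤ stab2 G x y) {d e t : G} (hd : d ∈ At z x) (he : e ∈ At z x) (hde : Commute d e)
  (hne : d ≠ e) (hdU : d ∈ normalizer (U : Set G))
  {N O : Subgroup G} (hs : Sec Ω z N O) (hQN : Q ≤ N) (hdN : d ∈ N) (heN : e ∈ N)
  (ht : t ∈ Sw z x y) (htN : t ∈ N)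

include h hxy hd he hde hne hdN heN ht htN in
theorem dSub_of : (x ∈ pts Ω z N ∧ y ∈ pts Ω z N) ∧ DSub Ω z N := by
  have h1 : x ∈ pts Ω z N := ⟨d, hdN, hd⟩
  have h2 : y ∈ pts Ω z N := by
    refine ⟨t * d * t⁻¹, mul_mem (mul_mem htN hdN) (inv_mem htN), ?_⟩
    have := conj_mem_At t hd
    rwa [ht.2] at this
  exact ⟨⟨h1, h2⟩, ⟨x, y, hxy, h1, h2⟩, d, e, hdN, heN, hd.1, he.1, hde, hne⟩

include h hpo hU hxy hUQ hQx hd he hde hne hdU hs hQN hdN heN ht htN in
/-- from `N ⊇ N(Q)`: a Sylow `p`-subgroup `R` of `O` with `Big R`, and every `p`-subgroup of `N_{xy}` has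
a conjugate of the same order in `N(R)_{xy}` -/
theorem exists_big_sylow : ∃ R : Subgroup G, Big Ω z p R ∧ x ∈ pts Ω z (normalizer (R : Set G)) ∧
    y ∈ pts Ω z (normalizer (R : Set G)) ∧
    ∀ Q₁ : Subgroup G, IsPGroup p Q₁ → Q₁ ≤ N ⊓ stab2 G x y →
      ∃ Q₂ : Subgroup G, IsPGroup p Q₂ ∧ Q₂ ≤ normalizer (R : Set G) ⊓ stab2 G x y ∧
        Nat.card Q₁ ≤ Nat.card Q₂ := by
  obtain ⟨⟨hx, hy⟩, hN⟩ := dSub_of h hxy hd he hde hne hdN heN ht htN
  have hdd := h.mul_self hd.1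
  have hdi := h.inv_eq hd.1
  obtain ⟨u, hu, hnc⟩ := hU.2.2 d hd.1
  have hux : u • x = x := (hQx (hUQ hu)).1
  have huN : u ∈ N := hQN (hUQ hu)
  -- the commutator
  set c : G := d * (u * d * u⁻¹) with hc
  have hcU : c ∈ U := by
    have h1 := mul_mem ((mem_normalizer_iff.mp hdU u).mp hu) (inv_mem hu)
    have e1 : c = d * u * d⁻¹ * u⁻¹ := by rw [hc, hdi]; group
    rwa [e1]
  have hcodd : Odd (orderOf c) := odd_orderOf_of_mem (odd_of_isPGroup hpo hU.1) hcU
  have hcO : c ∈ O := by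
    refine mem_of_sq_mem hcodd (hs.sq x d hd _ ?_ hdN (mul_mem (mul_mem huN hdN) (inv_mem huN)))
    have := conj_mem_At u hd
    rwa [hux] at this
  have hc1 : c ≠ 1 := by
    intro h1
    apply hnc
    have h2 : u * d * u⁻¹ = d := by
      have h3 : d⁻¹ = u * d * u⁻¹ := inv_eq_of_mul_eq_one_right h1
      rw [← h3, hdi]
    show d * u = u * d
    calc d * u = u * d * u⁻¹ * u := by rw [h2]
      _ = u * d := by group
  have hcinv : d * c * d⁻¹ = c⁻¹ := by
    rw [hc, mul_inv_rev]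
    have h2 : (u * d * u⁻¹)⁻¹ = u * d * u⁻¹ := by
      rw [mul_inv_rev, mul_inv_rev, inv_inv, hdi, mul_assoc]
    rw [h2, hdi, ← mul_assoc, hdd, one_mul]
  -- the Sylow subgroup `R`
  obtain ⟨R, hR, hiR, hUR⟩ := exists_isMaxP_ge (p := p) (U := U ⊓ O) hdd hs.odd
    (fun o ho => hs.conj_mem hdN ho) inf_le_right (hU.1.to_le inf_le_left)
    ((Inv.of_mem_normalizer hdU).inf (fun o ho => hs.conj_mem hdN ho))
  have hcR : c ∈ R := hUR ⟨hcU, hcO⟩
  have hdR : d ∈ normalizer (R : Set G) := hiR.mem_normalizer hdd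
  obtain ⟨d₁, hd₁, e₁, he₁, hd₁R, he₁R, hde₁, hne₁⟩ := exists_pair_normalizer h hs hN hR hx
  obtain ⟨d₂, hd₂, e₂, he₂, hd₂R, he₂R, hde₂, hne₂⟩ := exists_pair_normalizer h hs hN hR hy
  have hxR : x ∈ pts Ω z (normalizer (R : Set G)) := ⟨d₁, hd₁R, hd₁⟩
  have hyR : y ∈ pts Ω z (normalizer (R : Set G)) := ⟨d₂, hd₂R, hd₂⟩
  refine ⟨R, ⟨hR.1, ⟨⟨x, y, hxy, hxR, hyR⟩, d₁, e₁, hd₁R, he₁R, hd₁.1, he₁.1, hde₁, hne₁⟩, ?_⟩,
    hxR, hyR, ?_⟩
  · -- no element of `D` centralises `R`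
    intro f hfz
    by_contra hcon
    push Not at hcon
    have hfR : f ∈ normalizer (R : Set G) := by
      rw [mem_normalizer_iff]
      intro r
      constructor
      · intro hr
        have h1 := (hcon r hr).eq
        have e1 : f * r * f⁻¹ = r := by rw [h1]; group
        rwa [e1]
      · intro hr
        have h1 := (hcon _ hr).eq
        have e1 : f * r * f⁻¹ = r := by
          have h2 : f * (f * r * f⁻¹) = (f * r * f⁻¹) * f := h1
          have h3 : f * r = r * f := by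
            have h4 : f⁻¹ * (f * (f * r * f⁻¹)) = f⁻¹ * (f * r * f⁻¹ * f) := by rw [h2]
            have e3 : f⁻¹ * (f * (f * r * f⁻¹)) = f * r * f⁻¹ := by group
            have e4 : f⁻¹ * (f * r * f⁻¹ * f) = r := by group
            rw [e3, e4] at h4
            calc f * r = f * r * f⁻¹ * f := by group
              _ = r * f := by rw [h4]
          rw [h3]; group
        rwa [e1] at hr
    obtain ⟨g, hg, hgd⟩ := h.exists_conj_mem _ hxy hd₁ hd₂ hd₁R hd₂R hfz hd.1 hfR hdR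
    have h1 : g⁻¹ * c * g ∈ R := by
      have := (mem_normalizer_iff.mp (inv_mem hg) c).mp hcR
      rwa [inv_inv] at this
    have h2 := (hcon _ h1).eq
    have h3 : d * c * d⁻¹ = c := by
      rw [← hgd]
      calc g * f * g⁻¹ * c * (g * f * g⁻¹)⁻¹ = g * (f * (g⁻¹ * c * g)) * f⁻¹ * g⁻¹ := by group
        _ = c := by rw [h2]; group
    rw [hcinv] at h3
    apply hc1
    have h4 : c * c = 1 := by
      calc c * c = c⁻¹ * c := by rw [h3]
        _ = 1 := by group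
    have h5 : orderOf c ∣ 2 := orderOf_dvd_of_pow_eq_one (by rw [pow_two, h4])
    rcases (Nat.dvd_prime Nat.prime_two).mp h5 with h6 | h6
    · exact orderOf_eq_one_iff.mp h6
    · rw [h6] at hcodd
      exact absurd hcodd (by decide)
  · intro Q₁ hQ₁ hQ₁N
    obtain ⟨Q₂, hQ₂, hQ₁₂⟩ := exists_isMaxP hQ₁ hQ₁N
    have hOin : O ≤ N ⊓ stab2 G x y :=
      le_inf hs.le (le_inf (fun o ho => hs.fix o ho x hx) (fun o ho => hs.fix o ho y hy))
    have h1 : IsMaxP p O (Q₂ ⊓ O) := isMaxP_inf hQ₂ hOin (inf_le_left.trans hs.norm)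
    obtain ⟨o, ho, hoR⟩ := h1.exists_conj hR
    refine ⟨Q₂.map (MulAut.conj o).toMonoidHom, hQ₂.1.map _, ?_, ?_⟩
    · rintro _ ⟨q, hq, rfl⟩
      have hqN := (hQ₂.2.1 hq).1
      have hq2 := (hQ₂.2.1 hq).2
      refine ⟨?_, ?_⟩
      · have key : ∀ q ∈ Q₂, ∀ r ∈ R, (o * q * o⁻¹) * r * (o * q * o⁻¹)⁻¹ ∈ R := by
          intro q hq r hr
          rw [← hoR] at hr ⊢
          rw [mem_map_conj] at hr ⊢
          have e1 : o⁻¹ * (o * q * o⁻¹ * r * (o * q * o⁻¹)⁻¹) * o = q * (o⁻¹ * r * o) * q⁻¹ := by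
            group
          rw [e1]
          exact ⟨Q₂.mul_mem (Q₂.mul_mem hq hr.1) (Q₂.inv_mem hq), hs.conj_mem (hQ₂.2.1 hq).1 hr.2⟩
        show o * q * o⁻¹ ∈ normalizer (R : Set G)
        rw [mem_normalizer_iff]
        intro r
        refine ⟨key q hq r, fun hr => ?_⟩
        have h2 := key q⁻¹ (inv_mem hq) _ hr
        have e2 : o * q⁻¹ * o⁻¹ * (o * q * o⁻¹ * r * (o * q * o⁻¹)⁻¹) * (o * q⁻¹ * o⁻¹)⁻¹ = r := by
          group
        rwa [e2] at h2
      · show o * q * o⁻¹ ∈ stab2 G x y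
        have ho2 := (hOin ho).2
        exact mul_mem (mul_mem ho2 hq2) (inv_mem ho2)
    · rw [card_map_conj]
      exact Nat.card_le_card_of_injective (Subgroup.inclusion hQ₁₂) (Subgroup.inclusion_injective _)

end Climb

/-- the data of the climb -/
def Dat (Ω : Type*) {G : Type*} [Group G] [MulAction G Ω] (z : G) (p : ℕ) (U : Subgroup G)
    (x y : Ω) (Q : Subgroup G) : Prop :=
  Big Ω z p U ∧ x ≠ y ∧ x ∈ pts Ω z (normalizer (U : Set G)) ∧
    y ∈ pts Ω z (normalizer (U : Set G)) ∧ IsPGroup p Q ∧ Q ≤ normalizer (U : Set G) ⊓ stab2 G x y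

theorem exists_max_dat [Finite G] {p : ℕ} (hU : ∃ U : Subgroup G, Big Ω z p U) :
    ∃ (U : Subgroup G) (x y : Ω) (Q : Subgroup G), Dat Ω z p U x y Q ∧
      ∀ (U' : Subgroup G) (x' y' : Ω) (Q' : Subgroup G), Dat Ω z p U' x' y' Q' →
        Nat.card Q' ≤ Nat.card Q := by
  let S : Set ℕ := {n | ∃ (U : Subgroup G) (x y : Ω) (Q : Subgroup G), Dat Ω z p U x y Q ∧
    Nat.card Q = n}
  have hne : S.Nonempty := by
    obtain ⟨U, hU⟩ := hU
    obtain ⟨a, b, hab, ha, hb⟩ := hU.2.1.1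
    exact ⟨_, U, a, b, ⊥, ⟨hU, hab, ha, hb, IsPGroup.of_bot, bot_le⟩, rfl⟩
  have hbd : BddAbove S := by
    refine ⟨Nat.card G, ?_⟩
    rintro n ⟨U, x, y, Q, -, rfl⟩
    exact Q.card_le_card_group
  obtain ⟨U, x, y, Q, hd, hc⟩ := Nat.sSup_mem hne hbd
  refine ⟨U, x, y, Q, hd, fun U' x' y' Q' hd' => ?_⟩
  rw [hc]
  exact le_csSup hbd ⟨U', x', y', Q', hd', rfl⟩

/-- a nontrivial subgroup fixing a point is not normal in a simple group -/
theorem normalizer_ne_top [IsSimpleGroup G] (h : Setup G Ω z) {U : Subgroup G} (hU : U ≠ ⊥)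
    {a : Ω} (hUa : U ≤ MulAction.stabilizer G a) : normalizer (U : Set G) ≠ ⊤ := by
  intro htop
  have hn : U.Normal := normalizer_eq_top_iff.mp htop
  rcases IsSimpleGroup.eq_bot_or_eq_top_of_normal U hn with h1 | h1
  · exact hU h1
  · obtain ⟨b, c, hbc⟩ := h.nontriv
    apply hbc
    have key : ∀ b : Ω, b = a := by
      intro b
      obtain ⟨g, rfl⟩ := h.trans a b
      exact hUa (h1 ▸ mem_top g)
    rw [key b, key c]

/-- THE CLIMB.  If there is a `Big` `p`-group then there are `x ≠ y` and a Sylow `p`-subgroup `Q` of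
`G_{xy}`, normalised by an element of `D` swapping `x` and `y`, such that two commuting elements of `D_x`
normalise `ZJ(Q)`. -/
theorem climb [Finite G] [IsSimpleGroup G] (h : Setup G Ω z)
    (hf : ∀ g : G, (∀ a : Ω, g • a = a) → g = 1)
    (hFT : ∀ K : Subgroup G, Odd (Nat.card K) → Group.IsSolvable K)
    (hsec : ∀ H : Subgroup G, H ≠ ⊤ → DSub Ω z H → ∃ O : Subgroup G, Sec Ω z H O)
    {p : ℕ} [hp : Fact p.Prime] (hpo : Odd p) (hU : ∃ U : Subgroup G, Big Ω z p U) :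
    ∃ x y : Ω, x ≠ y ∧ ∃ Q : Subgroup G, IsMaxP p (stab2 G x y) Q ∧ Q ≠ ⊥ ∧
      (∃ t ∈ Sw z x y, Inv t Q) ∧
      (x ∈ pts Ω z (normalizer (Cfsg.centerThompsonAOf Q : Set G)) ∧
        y ∈ pts Ω z (normalizer (Cfsg.centerThompsonAOf Q : Set G)) ∧
        DSub Ω z (normalizer (Cfsg.centerThompsonAOf Q : Set G))) ∧
      normalizer (Cfsg.centerThompsonAOf Q : Set G) ≠ ⊤ := by
  obtain ⟨U, x, y, Q, ⟨hU, hxy, hx, hy, hQp, hQ⟩, hmax⟩ := exists_max_dat hU
  have hUne : U ≠ ⊥ := by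
    rintro rfl
    obtain ⟨u, hu, hnc⟩ := hU.2.2 z (IsConj.refl z)
    exact hnc (by rw [mem_bot.mp hu]; exact Commute.one_right z)
  obtain ⟨O, hs⟩ := hsec _ (normalizer_ne_top h hUne (le_stab_of_big h hpo hU hx)) hU.2.1
  have hQmax : IsMaxP p (normalizer (U : Set G) ⊓ stab2 G x y) Q := by
    refine ⟨hQp, hQ, fun R h1 h2 h3 => ?_⟩
    exact (eq_of_le_of_card_ge h3 (hmax U x y R ⟨hU, hxy, hx, hy, h1, h2⟩)).ge
  have hUQ := le_of_big h hpo hU hx hy hQmax
  have hQne : Q ≠ ⊥ := by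
    rintro rfl
    exact hUne (le_bot_iff.mp hUQ)
  have hQs : Q ≤ stab2 G x y := hQ.trans inf_le_right
  obtain ⟨d, hd, e, he, hdU, heU, hde, hne, hdJ, heJ⟩ :=
    exists_pair_zj h hf hFT hpo hU hs hx hy hQmax
  obtain ⟨t, ht, htU, htQ⟩ := exists_sw_zj h hpo hxy hx hy hQmax
  have hQJ : normalizer (Q : Set G) ≤ normalizer (Cfsg.centerThompsonAOf Q : Set G) :=
    Cfsg.Agent.PLocal.ThompsonJA.normalizer_le_normalizer_centerThompsonAOf Q
  have htN : t ∈ normalizer (Cfsg.centerThompsonAOf Q : Set G) :=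
    hQJ (htQ.mem_normalizer (h.mul_self ht.1))
  have hJne : Cfsg.centerThompsonAOf Q ≠ ⊥ :=
    Cfsg.Agent.PLocal.ThompsonJA.centerThompsonAOf_ne_bot Q hQp hQne
  have hJtop : normalizer (Cfsg.centerThompsonAOf Q : Set G) ≠ ⊤ :=
    normalizer_ne_top h hJne (a := x)
      (((Cfsg.Agent.PLocal.ThompsonJA.centerThompsonAOf_le Q).trans hQs).trans inf_le_left)
  obtain ⟨⟨hx1, hy1⟩, hN⟩ := dSub_of h hxy hd he hde hne hdJ heJ ht htN
  obtain ⟨O₁, hs₁⟩ := hsec _ hJtop hN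
  refine ⟨x, y, hxy, Q, ?_, hQne, ⟨t, ht, htQ⟩, ⟨hx1, hy1, hN⟩, hJtop⟩
  by_contra hcon
  obtain ⟨P, hP, hQP⟩ := exists_isMaxP hQp hQs
  have hPQ : ¬ P ≤ Q := fun hle => hcon (le_antisymm hle hQP ▸ hP)
  obtain ⟨g, hgP, hgN, hgQ⟩ := exists_mem_normalizer hP.1 hQP hPQ
  obtain ⟨R, hR, hxR, hyR, hRQ⟩ := exists_big_sylow h hpo hU hxy hUQ hQs hd he hde hne hdU hs₁
    (le_normalizer.trans hQJ) hdJ heJ ht htN
  obtain ⟨Q₂, hQ₂, hQ₂N, hcard⟩ := hRQ (P ⊓ normalizer (Q : Set G)) (hP.1.to_le inf_le_left)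
    (le_inf (inf_le_right.trans hQJ) (inf_le_left.trans hP.2.1))
  have h1 := hmax R x y Q₂ ⟨hR, hxy, hxR, hyR, hQ₂, hQ₂N⟩
  have h2 : Nat.card Q < Nat.card (P ⊓ normalizer (Q : Set G) : Subgroup G) := by
    by_contra h3
    have h4 : Q ≤ P ⊓ normalizer (Q : Set G) := le_inf hQP le_normalizer
    have h5 := eq_of_le_of_card_ge h4 (not_lt.mp h3)
    exact hgQ (h5 ▸ ⟨hgP, hgN⟩)
  omega

universe u

open Cfsg.Agent.AschCrit.Section in
theorem sec_of_main {G Ω : Type u} [Group G] [Finite G] [MulAction G Ω] {z : G} (h : Setup G Ω z)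
    (hf : ∀ g : G, (∀ a : Ω, g • a = a) → g = 1) (hIH : MainBelow.{u} (Nat.card G))
    {H : Subgroup G} (hH : H ≠ ⊤) (hD : DSub Ω z H) : Sec Ω z H (ok Ω z H) where
  le := ok_le H
  odd := odd_ok H
  norm := le_normalizer_ok H
  fix := fun _ ho a ha => (ok_le_kr H ho).2 a ha
  sq := fun _ _ hd _ he hdH heH =>
    sq_mem_ok h hf hIH hH (dsub_iff.mp hD).1 (dsub_iff.mp hD).2 hd hdH he heH

open Cfsg.Agent.AschCrit.Section in
/-- the climb, with the inductive hypothesis `MainBelow` -/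
theorem climb_main {G Ω : Type u} [Group G] [Finite G] [IsSimpleGroup G] [MulAction G Ω] {z : G}
    (h : Setup G Ω z) (hf : ∀ g : G, (∀ a : Ω, g • a = a) → g = 1)
    (hFT : ∀ K : Subgroup G, Odd (Nat.card K) → Group.IsSolvable K)
    (hIH : MainBelow.{u} (Nat.card G))
    {p : ℕ} [hp : Fact p.Prime] (hpo : Odd p) (hU : ∃ U : Subgroup G, Big Ω z p U) :
    ∃ x y : Ω, x ≠ y ∧ ∃ Q : Subgroup G, IsMaxP p (stab2 G x y) Q ∧ Q ≠ ⊥ ∧
      (∃ t ∈ Sw z x y, Inv t Q) ∧
      (x ∈ pts Ω z (normalizer (Cfsg.centerThompsonAOf Q : Set G)) ∧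
        y ∈ pts Ω z (normalizer (Cfsg.centerThompsonAOf Q : Set G)) ∧
        DSub Ω z (normalizer (Cfsg.centerThompsonAOf Q : Set G))) ∧
      normalizer (Cfsg.centerThompsonAOf Q : Set G) ≠ ⊤ :=
  climb h hf hFT (fun _ hH hD => ⟨_, sec_of_main h hf hIH hH hD⟩) hpo hU

end Cfsg.Agent.AschCrit.RGoodClimb
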