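import Cfsg.Agent.AschCrit.RGoodEnd

/-!
# Aschbacher's criterion: the `ZJ`-factorisation of `X_{xy}`

* `relCore_le_th` : `O_{p'}(X_{xy} P) ≤ Θ = O_{p'}(X_{xy})` for a `p`-subgroup `P` of `G_{xy}`
* `exists_mul_of_sup` : if `X P = O_{p'}(X P) N_{XP}(J)` then every `n ∈ X` is `θ m`, `θ ∈ Θ`, `m ∈ N(J)`
-/

set_option autoImplicit false

open Subgroup

namespace Cfsg.Agent.AschCrit.RGoodZJOdd

open Cfsg.Agent.TwoFusion.StronglyEmbeddedBasic Cfsg.Agent.AschCrit.Basic
open Cfsg.Agent.AschCrit.Basic.Setup Cfsg.Agent.AschCrit.Closed Cfsg.Agent.AschCrit.IsolatedSwap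
open Cfsg.Agent.AschCrit.OddInv Cfsg.Agent.SignalizersComponents.RelSylow
open Cfsg.Agent.SignalizersComponents.PLayerAut Cfsg.Agent.AschCrit.Dagger
open Cfsg.Agent.AschCrit.RGoodEnd

theorem exists_mul_of_mem_sup {G : Type*} [Group G] {A B : Subgroup G}
    (hB : B ≤ normalizer (A : Set G)) {g : G} (hg : g ∈ A ⊔ B) : ∃ a ∈ A, ∃ b ∈ B, g = a * b := by
  let S : Subgroup G :=
    { carrier := {g | ∃ a ∈ A, ∃ b ∈ B, g = a * b}
      one_mem' := ⟨1, one_mem _, 1, one_mem _, by simp⟩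
      mul_mem' := by
        rintro _ _ ⟨a, ha, b, hb, rfl⟩ ⟨c, hc, d, hd, rfl⟩
        refine ⟨a * (b * c * b⁻¹), mul_mem ha ((mem_normalizer_iff.mp (hB hb) c).mp hc), b * d,
          mul_mem hb hd, ?_⟩
        group
      inv_mem' := by
        rintro _ ⟨a, ha, b, hb, rfl⟩
        refine ⟨b⁻¹ * a⁻¹ * b, ?_, b⁻¹, inv_mem hb, by group⟩
        have := (mem_normalizer_iff.mp (inv_mem (hB hb)) a⁻¹).mp (inv_mem ha)
        rwa [inv_inv] at this }
  have h1 : A ⊔ B ≤ S := by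
    rw [sup_le_iff]
    exact ⟨fun a ha => ⟨a, ha, 1, one_mem _, by simp⟩, fun b hb => ⟨1, one_mem _, b, hb, by simp⟩⟩
  exact h1 hg

variable {G Ω : Type*} [Group G] [MulAction G Ω]

theorem relCore_le_th [Finite G] {p : ℕ} [hp : Fact p.Prime] {x y : Ω} {P : Subgroup G}
    (hP : IsPGroup p P) (hPJ : P ≤ stab2 G x y) : relCore p (oc G x y ⊔ P) ≤ th G p x y := by
  set X := oc G x y with hX
  set C := relCore p (X ⊔ P) with hC
  have hPn : P ≤ normalizer (X : Set G) := fun g hg => mem_normalizer_oc (Or.inl (hPJ hg))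
  have hCle : C ≤ X ⊔ P := relCore_le p _
  have hn : X ⊔ P ≤ normalizer (X : Set G) := sup_le le_normalizer hPn
  -- `C ≤ X`
  have hCX : C ≤ X := by
    have h1 : X.relIndex C ∣ Nat.card P := by
      have h2 : X.relIndex (X ⊔ C) ∣ X.relIndex (X ⊔ P) := by
        have h3 := relIndex_mul_relIndex X (X ⊔ C) (X ⊔ P) le_sup_left
          (sup_le le_sup_left hCle)
        exact ⟨_, h3.symm⟩
      rw [relIndex_sup_eq (hCle.trans hn), relIndex_sup_eq hPn] at h2
      refine h2.trans ?_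
      rw [← inf_relIndex_right]
      exact relIndex_dvd_card _ _
    have h2 : X.relIndex C ∣ Nat.card C := by
      rw [← inf_relIndex_right]
      exact relIndex_dvd_card _ _
    have h3 : (X.relIndex C).Coprime p := Nat.Coprime.coprime_dvd_left h2 (relCore_coprime p _)
    obtain ⟨n, hn'⟩ := IsPGroup.iff_card.mp hP
    rw [hn'] at h1
    have h4 : X.relIndex C = 1 := by
      obtain ⟨m, -, hm⟩ := (Nat.dvd_prime_pow hp.out).mp h1
      rw [hm] at h3 ⊢
      rcases Nat.eq_zero_or_pos m with rfl | hm0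
      · simp
      · exfalso
        have h5 := (Nat.coprime_pow_left_iff hm0 p p).mp h3
        rw [Nat.coprime_self] at h5
        exact hp.out.one_lt.ne' h5
    exact relIndex_eq_one.mp h4
  -- `C` is normal in `X`
  have hXC : X ≤ normalizer (C : Set G) :=
    (le_sup_left.trans le_normalizer).trans (normalizer_le_normalizer_relCore p (X ⊔ P))
  have h1 : (C.subgroupOf X).Normal := normal_subgroupOf_of_le_normalizer hXC
  have h2 : (Nat.card (C.subgroupOf X)).Coprime p := by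
    rw [Nat.card_congr (subgroupOfEquivOfLe hCX).toEquiv]
    exact relCore_coprime p _
  have h3 := map_mono (f := X.subtype) (Cfsg.Agent.Lib.Cores.le_pPrimeCore h1 h2)
  rwa [subgroupOf_map_subtype, inf_eq_left.mpr hCX] at h3

/-- the factorisation used in `RGoodEnd.false_of_zj` -/
theorem exists_mul_of_sup [Finite G] {p : ℕ} [Fact p.Prime] {x y : Ω} {P J : Subgroup G}
    (hP : IsPGroup p P) (hPJ : P ≤ stab2 G x y)
    (hsup : relCore p (oc G x y ⊔ P) ⊔ ((oc G x y ⊔ P) ⊓ normalizer (J : Set G)) =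
      oc G x y ⊔ P) {n : G} (hn : n ∈ oc G x y) :
    ∃ θ ∈ th G p x y, ∃ m ∈ normalizer (J : Set G), m • x = x ∧ m • y = y ∧ n = θ * m := by
  have h1 : n ∈ relCore p (oc G x y ⊔ P) ⊔ ((oc G x y ⊔ P) ⊓ normalizer (J : Set G)) := by
    rw [hsup]; exact (le_sup_left : oc G x y ≤ _) hn
  obtain ⟨θ, hθ, m, ⟨hm, hmJ⟩, rfl⟩ := exists_mul_of_mem_sup
    ((inf_le_left.trans le_normalizer).trans (normalizer_le_normalizer_relCore p _)) h1
  have h2 : m ∈ stab2 G x y := (sup_le (oc_le x y) hPJ) hm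
  exact ⟨θ, relCore_le_th hP hPJ hθ, m, hmJ, h2.1, h2.2, rfl⟩

end Cfsg.Agent.AschCrit.RGoodZJOdd
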