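import Cfsg.Agent.AschCrit.RGoodPair
import Cfsg.Agent.AschCrit.RGoodClimb
import Cfsg.Agent.AschCrit.RGoodZJOdd

/-!
# Aschbacher's criterion: R-GOOD (D-version)

Let `G` be simple, generated by `D_a` and `D_b` for all `a ≠ b`, let the main claim hold for smaller groups
and let `p` be a prime with `Dag G Ω z p`. Then every `p`-subgroup normalised by `w ∈ D` and fixing the fixed
point of `w` is centralised by `w`.

* `two_trans_sub` : 2-transitivity of a subgroup on its `D`-points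
* `not_badPair`, `rGood`
-/

set_option autoImplicit false

universe u

open Subgroup

namespace Cfsg.Agent.AschCrit.RGood

open Cfsg.Agent.TwoFusion.StronglyEmbeddedBasic Cfsg.Agent.AschCrit.Basic
open Cfsg.Agent.AschCrit.Basic.Setup Cfsg.Agent.AschCrit.Closed Cfsg.Agent.AschCrit.Descent
open Cfsg.Agent.AschCrit.BGroup Cfsg.Agent.AschCrit.IsolatedSwap Cfsg.Agent.AschCrit.OddInv
open Cfsg.Agent.AschCrit.Dagger Cfsg.Agent.AschCrit.TwoTrans
open Cfsg.Agent.SignalizersComponents.RelSylow Cfsg.Agent.SignalizersComponents.PLayerAut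
open Cfsg.Agent.AschCrit.Section Cfsg.Agent.AschCrit.RGoodPair Cfsg.Agent.AschCrit.RGoodClimb

/-- a subgroup with elements of `D` at two points and two commuting elements of `D` is 2-transitive
on its `D`-points -/
theorem two_trans_sub {G Ω : Type*} [Group G] [Finite G] [MulAction G Ω] {z : G} (h : Setup G Ω z)
    (hf : ∀ g : G, (∀ a : Ω, g • a = a) → g = 1) {N : Subgroup G} (hN : DSub Ω z N)
    (a b c d : Ω) (ha : a ∈ pts Ω z N) (hb : b ∈ pts Ω z N) (hc : c ∈ pts Ω z N)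
    (hd : d ∈ pts Ω z N) (hab : a ≠ b) (hcd : c ≠ d) : ∃ n ∈ N, n • a = c ∧ n • b = d := by
  obtain ⟨h2, hcp⟩ := dsub_iff.mp hN
  obtain ⟨g, hg, hga⟩ := trans_pts h ha hc
  have hgb : g • b ∈ pts Ω z N := smul_mem_pts hg hb
  have hne : c ≠ g • b := by
    rw [← hga]
    exact fun hh => hab (smul_left_cancel g hh)
  obtain ⟨k, hk, hkc, hkb⟩ := Section.two_trans h hf h2 hcp hc hgb hd hne hcd
  exact ⟨k * g, mul_mem hk hg, by rw [mul_smul, hga, hkc], by rw [mul_smul, hkb]⟩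

/-- there are no bad pairs -/
theorem not_badPair {G Ω : Type u} [Group G] [Finite G] [IsSimpleGroup G] [MulAction G Ω] {z : G}
    (h : Setup G Ω z) (hf : ∀ g : G, (∀ a : Ω, g • a = a) → g = 1)
    (hFT : ∀ K : Subgroup G, Odd (Nat.card K) → Group.IsSolvable K)
    (hIH : MainBelow.{u} (Nat.card G))
    (hbig : ∀ a b : Ω, a ≠ b → closure (At z a ∪ At z b) = ⊤)
    {p : ℕ} (hd : Dag G Ω z p) (U₀ : Subgroup G) (w₀ : G) : ¬ BadPair Ω z p U₀ w₀ := by
  intro hb₀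
  have hp : Fact p.Prime := ⟨hd.prime⟩
  have hp2 : p ≠ 2 := by
    rintro rfl
    exact absurd hd.odd (by decide)
  obtain ⟨U, w, hb, hN, hc, -⟩ := BadPair.exists_big h hd hb₀
  have hN' := hN
  obtain ⟨-, w₁, w₂, hn₁, hn₂, hw₁, hw₂, hcw, hne⟩ := hN'
  obtain ⟨x, y, hxy, Q, hQ, hQ1, -, ⟨hx, hy, hNJ⟩, -⟩ :=
    climb_main h hf hFT hIH hd.odd ⟨U, hb.isP, hN, hc⟩
  obtain ⟨t, ht, k, g, hkp, hkxy, htk, htg, hkg, -, hNk⟩ :=
    exists_bad_elem h hf hd hb.isP hw₁ hw₂ hne hcw hn₁ hn₂ (hc w₁ hw₁) hxy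
  have hQX : Q ≤ normalizer (oc G x y : Set G) := fun q hq => mem_normalizer_oc (Or.inl (hQ.2.1 hq))
  have hXn : stab2 G x y ≤ normalizer (oc G x y : Set G) := fun q hq =>
    mem_normalizer_oc (Or.inl hq)
  have hsup := zj_sup (M := oc G x y) (O := oc G x y) hd.odd le_rfl le_normalizer (odd_oc x y)
    (hFT _ (odd_oc x y)) (fun g hg => mul_mem hg hg) hQ.1 hQX (isMaxP_inf hQ (oc_le x y) hXn)
  refine RGoodEnd.false_of_zj h hf ?_ hxy (hbig x y hxy) hFT hp2 ht htg hkxy.1 hkxy.2 hkg ?_ htk ?_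
    (N := normalizer (Cfsg.centerThompsonAOf Q : Set G)) (J := Cfsg.centerThompsonAOf Q)
    (two_trans_sub h hf hNJ) hx hy le_rfl ?_ ?_ ?_
  · intro a b c d hab hcd
    obtain ⟨g, hg⟩ := h.trans a c
    obtain ⟨m, hmc, hmb⟩ := Dag.two_trans h hd (a := c) (b := g • b) (c := d)
      (by rw [← hg]; exact fun hh => hab (smul_left_cancel g hh)) hcd
    exact ⟨m * g, by rw [mul_smul, hg, hmc], by rw [mul_smul, hmb]⟩
  · exact IsPGroup.of_card (n := 1) (by rw [Nat.card_zpowers, hkp, pow_one])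
  · intro x hxk
    refine hNk x ?_
    have : x ∈ centralizer (zpowers k : Set G) := by
      rw [mem_centralizer_iff]
      rintro _ ⟨j, rfl⟩
      exact (hxk.zpow_right j).eq.symm
    exact centralizer_le_normalizer _ this
  · intro j hj
    exact (hQ.2.1 (Cfsg.Agent.PLocal.ThompsonJA.centerThompsonAOf_le Q hj)).1
  · exact Cfsg.Agent.PLocal.ThompsonJA.centerThompsonAOf_ne_bot Q hQ.1 hQ1
  · intro n hn
    exact RGoodZJOdd.exists_mul_of_sup hQ.1 hQ.2.1 hsup hn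

/-- **R-GOOD.** -/
theorem rGood {G Ω : Type u} [Group G] [Finite G] [IsSimpleGroup G] [MulAction G Ω] {z : G}
    (h : Setup G Ω z) (hf : ∀ g : G, (∀ a : Ω, g • a = a) → g = 1)
    (hFT : ∀ K : Subgroup G, Odd (Nat.card K) → Group.IsSolvable K)
    (hIH : MainBelow.{u} (Nat.card G))
    (hbig : ∀ a b : Ω, a ≠ b → closure (At z a ∪ At z b) = ⊤)
    {p : ℕ} (hd : Dag G Ω z p) {U : Subgroup G} (hU : IsPGroup p U) {x : Ω} {w : G}
    (hw : w ∈ At z x) (hi : Inv w U) (hx : x ∈ Fx Ω U) : ∀ u ∈ U, Commute w u := by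
  by_contra hcon
  push Not at hcon
  obtain ⟨u, hu, hne⟩ := hcon
  exact not_badPair h hf hFT hIH hbig hd U w ⟨hU, hw.1, hi, ⟨x, hx, hw.2⟩, u, hu, hne⟩

end Cfsg.Agent.AschCrit.RGood
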