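import Cfsg.Agent.AschCrit.BGroup
import Cfsg.Agent.AschCrit.TwoTrans

/-!
# Aschbacher's criterion: definitions for R-GOOD

* `Loc Ω z H` : the local information used for proper subgroups `H` (from the induction)
* `Glob G Ω z p` : the situation of R-GOOD (`p` divides all indices `|G_{ab} : G_{a,b,vb}|`, `D_a` and `D_b`
  generate `G`, the proper `D`-subgroups satisfy `Loc`)
* `BadPair z p U w x` : `U` is a `p`-subgroup of `G_x` normalised and not centralised by `w ∈ D_x`
* `ClimbData z p U w x y Q` : a bad pair such that `N_G(U)` contains two commuting elements of `D` and an element of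
  `D_y`, `y ≠ x`; `Q` is a Sylow `p`-subgroup of `N_G(U)_{xy}`
-/

set_option autoImplicit false

open Subgroup

namespace Cfsg.Agent.AschCrit.RGoodDefs

open Cfsg.Agent.TwoFusion.StronglyEmbeddedBasic Cfsg.Agent.AschCrit.Basic
open Cfsg.Agent.AschCrit.Basic.Setup Cfsg.Agent.AschCrit.Closed Cfsg.Agent.AschCrit.IsolatedSwap
open Cfsg.Agent.AschCrit.Descent Cfsg.Agent.AschCrit.BGroup
open Cfsg.Agent.AschCrit.OddInv Cfsg.Agent.SignalizersComponents.RelSylow
open Cfsg.Agent.AschCrit.Dagger Cfsg.Agent.AschCrit.TwoTrans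

/-- what is used about the proper subgroups `H` containing elements of `D` at two points and two distinct
commuting elements of `D`: `H` is 2-transitive on `pts Ω z H`, and the elements of `D ∩ H` at a point commute
modulo the kernel of `H` on `pts Ω z H`. -/
structure Loc (Ω : Type*) {G : Type*} [Group G] [MulAction G Ω] (z : G) (H : Subgroup G) : Prop where
  two_trans : ∀ a b c d : Ω, a ∈ pts Ω z H → b ∈ pts Ω z H → c ∈ pts Ω z H → d ∈ pts Ω z H →
    a ≠ b → c ≠ d → ∃ g ∈ H, g • a = c ∧ g • b = d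
  comm_mod : ∀ a : Ω, ∀ d ∈ H, ∀ e ∈ H, d ∈ At z a → e ∈ At z a → ∀ c ∈ pts Ω z H,
    (d * e) • c = (e * d) • c

/-- the situation of R-GOOD -/
structure Glob (G Ω : Type*) [Group G] [MulAction G Ω] (z : G) (p : ℕ) : Prop where
  setup : Setup G Ω z
  faithful : ∀ g : G, (∀ a : Ω, g • a = a) → g = 1
  /-- `p` is an odd prime dividing all `|G_{ab} : G_{a,b,vb}|` -/
  dag : Dag G Ω z p
  /-- all pairs are big -/
  big : ∀ a b : Ω, a ≠ b → closure (At z a ∪ At z b) = ⊤
  /-- normal subgroups are trivial -/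
  simple : ∀ N : Subgroup G, N.Normal → N = ⊥ ∨ N = ⊤
  /-- the induction -/
  loc : ∀ H : Subgroup G, H ≠ ⊤ → DSub Ω z H → Loc Ω z H

/-- `U` is a `p`-subgroup of `G_x` normalised and not centralised by `w ∈ D_x` -/
structure BadPair {G Ω : Type*} [Group G] [MulAction G Ω] (z : G) (p : ℕ) (U : Subgroup G) (w : G)
    (x : Ω) : Prop where
  isPGroup : IsPGroup p U
  mem_at : w ∈ At z x
  inv : Inv w U
  fix : x ∈ Fx Ω U
  nontriv : ∃ u ∈ U, ¬ Commute w u

/-- the data of the climb -/
structure ClimbData {G Ω : Type*} [Group G] [MulAction G Ω] (z : G) (p : ℕ) (U : Subgroup G) (w : G)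
    (x y : Ω) (Q : Subgroup G) : Prop where
  bad : BadPair z p U w x
  ne : x ≠ y
  mem_pts : y ∈ pts Ω z (normalizer (U : Set G))
  pair : ∃ d ∈ normalizer (U : Set G), ∃ e ∈ normalizer (U : Set G), IsConj z d ∧ IsConj z e ∧
    Commute d e ∧ d ≠ e
  isMaxP : IsMaxP p (normalizer (U : Set G) ⊓ stab2 G x y) Q

end Cfsg.Agent.AschCrit.RGoodDefs
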