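import Cfsg.Agent.AschCrit.TwoTrans
import Cfsg.Agent.AschCrit.Descent

/-!
# Aschbacher's criterion: the end of the `R-GOOD` argument (D-version)

* `le_stabilizer_of_dihedral` (Lemma S') : `t ∈ D_g`, `k ∈ G_g` inverted by `t`, `C(k) ≤ G_g`; every solvable
  subgroup `B` of odd order prime to the order of the `p`-element `k`, normalised by `t` and `k`, fixes `g`.
* `fix_mid` : a subgroup normal in `X_{xy}` fixing the fixed point of one `t ∈ D ∩ I(x,y)` fixes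
  `Mid(x,y)` pointwise.
* `smul_mem_of_mid` : if `N₁` is 2-transitive on `Δ₁`, `Mid(x,y) ⊆ Δ₁` is an orbit of `(N₁)_{xy}`, then `D_z`
  maps `Δ₁` into `Δ₁` for all `z ∈ Δ₁` fixed by an element of `D ∩ N₁`
-/

set_option autoImplicit false

open Subgroup

namespace Cfsg.Agent.AschCrit.RGoodEnd

open Cfsg.Agent.TwoFusion.StronglyEmbeddedBasic Cfsg.Agent.AschCrit.Basic
open Cfsg.Agent.AschCrit.Basic.Setup Cfsg.Agent.AschCrit.Closed Cfsg.Agent.AschCrit.IsolatedSwap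
open Cfsg.Agent.AschCrit.OddInv Cfsg.Agent.SignalizersComponents.RelSylow

section Dihedral

variable {G : Type*} [Group G]

/-- a coset of `N` in `B` which is invariant under a `p`-element `k` (`B` a `p'`-group, `k` normalising `B` and
`N`) contains an element commuting with `k` -/
theorem exists_commute_mem_coset [Finite G] {p : ℕ} [Fact p.Prime] {k : G}
    (hk : IsPGroup p (zpowers k)) {B N : Subgroup G} (hB : ¬ p ∣ Nat.card B)
    (hkB : k ∈ normalizer (B : Set G)) (hkN : k ∈ normalizer (N : Set G)) {x : G} (hx : x ∈ B)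
    (_hN : N ≤ B) (hxk : x⁻¹ * (k * x * k⁻¹) ∈ N) : ∃ c ∈ B, Commute c k ∧ x⁻¹ * c ∈ N := by
  have h1 : ∀ b ∈ zpowers k, ∀ u ∈ B, b * u * b⁻¹ ∈ B := by
    intro b hb u hu
    exact (mem_normalizer_iff.mp ((zpowers_le.mpr hkB) hb) u).mp hu
  have h2 : ∀ b ∈ zpowers k, ∀ u ∈ N, b * u * b⁻¹ ∈ N := by
    intro b hb u hu
    exact (mem_normalizer_iff.mp ((zpowers_le.mpr hkN) hb) u).mp hu
  have h3 : ∀ b ∈ zpowers k, x⁻¹ * (b * x * b⁻¹) ∈ N := by
    let S : Subgroup G :=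
      { carrier := {b | b ∈ normalizer (N : Set G) ∧ x⁻¹ * (b * x * b⁻¹) ∈ N}
        one_mem' := ⟨one_mem _, by simp⟩
        mul_mem' := by
          rintro b c ⟨hb, hb'⟩ ⟨hc, hc'⟩
          refine ⟨mul_mem hb hc, ?_⟩
          have h4 := (mem_normalizer_iff.mp hb _).mp hc'
          have h5 := mul_mem hb' h4
          rwa [show x⁻¹ * (b * x * b⁻¹) * (b * (x⁻¹ * (c * x * c⁻¹)) * b⁻¹) =
            x⁻¹ * (b * c * x * (b * c)⁻¹) by group] at h5
        inv_mem' := by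
          rintro b ⟨hb, hb'⟩
          refine ⟨inv_mem hb, ?_⟩
          have h4 := (mem_normalizer_iff.mp (inv_mem hb) _).mp (inv_mem hb')
          rwa [show b⁻¹ * (x⁻¹ * (b * x * b⁻¹))⁻¹ * b⁻¹⁻¹ = x⁻¹ * (b⁻¹ * x * b⁻¹⁻¹) by group] at h4 }
    have h4 : zpowers k ≤ S := zpowers_le.mpr ⟨hkN, hxk⟩
    exact fun b hb => (h4 hb).2
  obtain ⟨c, hc, hcN⟩ := Cfsg.Agent.Lib.PGroupCoprimeAction.exists_centralizer_mem_coset hk hB h1 h2
    hx h3
  refine ⟨c, hc.1, ?_, hcN⟩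
  have h5 : c ∈ centralizer ((zpowers k : Subgroup G) : Set G) := hc.2
  rw [centralizer_zpowers, mem_centralizer_singleton_iff] at h5
  exact h5

/-- Lemma S': `t ∈ D_g`, `k ∈ G_g` a `p`-element inverted by `t` with `C(k) ≤ G_g`; every solvable subgroup of odd
order prime to `p` normalised by `t` and `k` fixes `g`. -/
theorem le_stabilizer_of_dihedral {Ω : Type*} [MulAction G Ω] {z : G} [Finite G]
    (h : Setup G Ω z) {p : ℕ} [hp : Fact p.Prime] (hp2 : p ≠ 2) {g : Ω} {t k : G}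
    (ht : t ∈ At z g) (hkg : k • g = g)
    (hk : IsPGroup p (zpowers k)) (htk : t * k * t⁻¹ = k⁻¹)
    (hCk : ∀ x : G, Commute x k → x • g = g) :
    ∀ B : Subgroup G, Group.IsSolvable B → Odd (Nat.card B) → ¬ p ∣ Nat.card B →
      t ∈ normalizer (B : Set G) → k ∈ normalizer (B : Set G) → ∀ b ∈ B, b • g = g := by
  have h2 : Fact (Nat.Prime 2) := ⟨Nat.prime_two⟩
  have htt := h.mul_self ht.1
  have hti := h.inv_eq ht.1
  -- `t k` is conjugate to `t` under `⟨k⟩`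
  have hkodd : Odd (orderOf k) := by
    obtain ⟨n, hn⟩ := IsPGroup.iff_card.mp hk
    rw [Nat.card_zpowers] at hn
    rw [hn]
    exact (hp.out.odd_of_ne_two hp2).pow
  obtain ⟨m, hm, hmt⟩ := exists_sqrt_conj htt hkodd htk
  have hmg : m • g = g := by
    have h3 : zpowers k ≤ MulAction.stabilizer G g := zpowers_le.mpr hkg
    exact h3 hm
  have htk' : (t * k) ∈ At z g := by
    rw [← hmt]
    have := conj_mem_At m ht
    rwa [hmg] at this
  -- elements commuting with a product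
  suffices H : ∀ n : ℕ, ∀ B : Subgroup G, Nat.card B = n → Group.IsSolvable B → Odd (Nat.card B) →
      ¬ p ∣ Nat.card B → t ∈ normalizer (B : Set G) → k ∈ normalizer (B : Set G) →
      ∀ b ∈ B, b • g = g from fun B => H _ B rfl
  intro n
  induction n using Nat.strong_induction_on with
  | _ n ih =>
    intro B hBn hsolv hodd hpB htB hkB
    by_cases hB1 : B = ⊥
    · intro b hb
      rw [hB1, mem_bot] at hb
      rw [hb, one_smul]
    -- the derived subgroup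
    set B1 : Subgroup G := ⁅B, B⁆ with hB1d
    have hB1le : B1 ≤ B := commutator_le_self B
    have hB1lt : B1 < B := by
      refine lt_of_le_of_ne hB1le fun heq => hB1 ?_
      have hnt : ¬ Nontrivial B := by
        intro hnt
        have h3 := Group.IsSolvable.commutator_lt_top_of_nontrivial B
        apply h3.ne
        have h4 : (commutator B).map B.subtype = (⊤ : Subgroup B).map B.subtype := by
          rw [_root_.commutator_def, map_commutator, ← MonoidHom.range_eq_map, range_subtype]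
          exact heq
        exact map_injective B.subtype_injective h4
      rw [eq_bot_iff_forall]
      intro b hb
      by_contra hb1
      exact hnt ⟨⟨⟨b, hb⟩, 1, fun hh => hb1 (congrArg Subtype.val hh)⟩⟩
    have hnB1 : ∀ x ∈ normalizer (B : Set G), x ∈ normalizer (B1 : Set G) := by
      intro x hx
      have h3 : B.map (MulAut.conj x).toMonoidHom = B := by
        ext y
        constructor
        · rintro ⟨b, hb, rfl⟩
          exact (mem_normalizer_iff.mp hx b).mp hb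
        · intro hy
          refine ⟨x⁻¹ * y * x, ?_, ?_⟩
          · have := (mem_normalizer_iff.mp (inv_mem hx) y).mp hy
            rwa [inv_inv] at this
          · change x * (x⁻¹ * y * x) * x⁻¹ = y
            group
      have h4 : B1.map (MulAut.conj x).toMonoidHom = B1 := by
        rw [hB1d, map_commutator, h3]
      rw [mem_normalizer_iff]
      intro y
      constructor
      · intro hy
        rw [← h4]
        exact ⟨y, hy, rfl⟩
      · intro hy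
        rw [← h4] at hy
        obtain ⟨c, hc, hcy⟩ := hy
        have : c = y := by
          have h5 : x * c * x⁻¹ = x * y * x⁻¹ := hcy
          simpa using h5
        rwa [← this]
    have hcard1 : Nat.card B1 < n := by
      rw [← hBn]
      by_contra hge
      push Not at hge
      exact hB1lt.ne (eq_of_le_of_card_ge hB1le hge)
    have hdvd1 : Nat.card B1 ∣ Nat.card B := card_dvd_of_le hB1le
    have hB1g : ∀ b ∈ B1, b • g = g := by
      refine ih _ hcard1 B1 rfl ?_ (hodd.of_dvd_nat hdvd1) (fun h3 => hpB (h3.trans hdvd1))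
        (hnB1 t htB) (hnB1 k hkB)
      exact Group.isSolvable_of_isSolvable_injective (inclusion_injective hB1le)
    -- the stabiliser of `g` in `B`
    set B0 : Subgroup G := B ⊓ MulAction.stabilizer G g with hB0
    have hB0le : B0 ≤ B := inf_le_left
    have hB10 : B1 ≤ B0 := le_inf hB1le hB1g
    have hB0n : ∀ x ∈ normalizer (B : Set G), x • g = g → x ∈ normalizer (B0 : Set G) := by
      intro x hx hxg
      rw [mem_normalizer_iff]
      intro y
      rw [hB0, mem_inf, mem_inf, MulAction.mem_stabilizer_iff, MulAction.mem_stabilizer_iff,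
        ← mem_normalizer_iff.mp hx y]
      have hxg' : x⁻¹ • g = g := by rw [inv_smul_eq_iff, hxg]
      refine and_congr_right fun _ => ?_
      rw [mul_smul, mul_smul, hxg']
      constructor
      · intro h3; rw [h3, hxg]
      · intro h3
        exact smul_left_cancel x (by rw [h3, hxg])
    have hcomm : ∀ x ∈ B, ∀ y ∈ B, x * y * x⁻¹ * y⁻¹ ∈ B0 := by
      intro x hx y hy
      exact hB10 (commutator_mem_commutator hx hy)
    have hBn0 : B ≤ normalizer (B0 : Set G) := by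
      have key : ∀ x ∈ B, ∀ y ∈ B0, x * y * x⁻¹ ∈ B0 := by
        intro x hx y hy
        have h3 := hcomm x hx y (hB0le hy)
        have h4 := mul_mem h3 hy
        rwa [inv_mul_cancel_right] at h4
      intro x hx
      rw [mem_normalizer_iff]
      intro y
      refine ⟨key x hx y, fun hy => ?_⟩
      have := key x⁻¹ (inv_mem hx) _ hy
      rwa [show x⁻¹ * (x * y * x⁻¹) * x⁻¹⁻¹ = y by group] at this
    -- an element of `D_g` normalising `B` inverts `B / B0`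
    have hinv : ∀ s ∈ At z g, s ∈ normalizer (B : Set G) → ∀ b ∈ B, b * (s * b * s⁻¹) ∈ B0 := by
      intro s hs hsB b hb
      have hss := h.mul_self hs.1
      have hsi := h.inv_eq hs.1
      have hsb : s * b * s⁻¹ ∈ B := (mem_normalizer_iff.mp hsB b).mp hb
      have hx : b * (s * b * s⁻¹) ∈ B := mul_mem hb hsb
      have hs2 : IsPGroup 2 (zpowers s) := isPGroup_two_zpowers hss
      have hcos : (b * (s * b * s⁻¹))⁻¹ * (s * (b * (s * b * s⁻¹)) * s⁻¹) ∈ B0 := by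
        have h3 := hcomm (s * b * s⁻¹)⁻¹ (inv_mem hsb) b⁻¹ (inv_mem hb)
        have e1 : (b * (s * b * s⁻¹))⁻¹ * (s * (b * (s * b * s⁻¹)) * s⁻¹) =
            (s * b * s⁻¹)⁻¹ * b⁻¹ * (s * b * s⁻¹)⁻¹⁻¹ * b⁻¹⁻¹ := by
          have e2 : s * (b * (s * b * s⁻¹)) * s⁻¹ = (s * b * s⁻¹) * ((s * s) * b * (s * s)⁻¹) := by
            group
          rw [e2, hss]
          group
        rw [e1]; exact h3
      obtain ⟨c, hcB, hcs, hcN⟩ := exists_commute_mem_coset (p := 2) hs2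
        (fun h4 => (Nat.not_even_iff_odd.mpr hodd) (even_iff_two_dvd.mpr h4)) hsB
        (hB0n s hsB hs.2) hx hB0le hcos
      have hc0 : c ∈ B0 := ⟨hcB, h.fix_of_commute hs.1 hcs hs.2⟩
      have := mul_mem hc0 (inv_mem hcN)
      rwa [show c * ((b * (s * b * s⁻¹))⁻¹ * c)⁻¹ = b * (s * b * s⁻¹) by group] at this
    have htkB : t * k ∈ normalizer (B : Set G) := mul_mem htB hkB
    intro b hb
    -- `k` centralises `B / B0`
    have hkb : b⁻¹ * (k * b * k⁻¹) ∈ B0 := by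
      have h3 := hinv (t * k) htk' htkB b hb
      have hkbB : k * b * k⁻¹ ∈ B := (mem_normalizer_iff.mp hkB b).mp hb
      have h4 := hinv t ht htB (k * b * k⁻¹) hkbB
      -- `h3 : b (tk) b (tk)⁻¹ ∈ B0`, `h4 : (k b k⁻¹) t (k b k⁻¹) t⁻¹ ∈ B0`
      have e1 : t * (k * b * k⁻¹) * t⁻¹ = t * k * b * (t * k)⁻¹ := by group
      rw [e1] at h4
      -- so `b * (k b k⁻¹)⁻¹ ∈ B0`
      have h5 := mul_mem h3 (inv_mem h4)
      have e2 : b * (t * k * b * (t * k)⁻¹) * (k * b * k⁻¹ * (t * k * b * (t * k)⁻¹))⁻¹ =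
          b * (k * b * k⁻¹)⁻¹ := by group
      rw [e2] at h5
      have h6 := (mem_normalizer_iff.mp (hBn0 (inv_mem hb)) _).mp (inv_mem h5)
      rwa [show b⁻¹ * (b * (k * b * k⁻¹)⁻¹)⁻¹ * b⁻¹⁻¹ = b⁻¹ * (k * b * k⁻¹) by group] at h6
    obtain ⟨c, hcB, hck, hcN⟩ := exists_commute_mem_coset hk hpB hkB (hB0n k hkB hkg) hb hB0le hkb
    have hcg := hCk c hck
    have h7 : (b⁻¹ * c) • g = g := hcN.2
    rw [mul_smul, hcg, inv_smul_eq_iff] at h7
    exact h7.symm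

end Dihedral

section Orbits

variable {G Ω : Type*} [Group G] [MulAction G Ω]

/-- orbit-stabiliser for subgroups -/
theorem card_orbit_mul [Finite G] (H : Subgroup G) (b : Ω) :
    Nat.card {c : Ω // ∃ g ∈ H, g • b = c} * Nat.card ↥(H ⊓ MulAction.stabilizer G b) =
      Nat.card H := by
  have h1 : Nat.card (MulAction.orbit H b) * Nat.card (MulAction.stabilizer H b) =
      Nat.card H := by
    rw [← Nat.card_prod]
    exact Nat.card_congr (MulAction.orbitProdStabilizerEquivGroup H b)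
  rw [← h1]
  congr 1
  · refine Nat.card_congr (Equiv.subtypeEquivRight fun c => ?_)
    constructor
    · rintro ⟨g, hg, rfl⟩; exact ⟨⟨g, hg⟩, rfl⟩
    · rintro ⟨g, rfl⟩; exact ⟨g.1, g.2, rfl⟩
  · refine Nat.card_congr
      { toFun := fun x => ⟨⟨x.1, x.2.1⟩, x.2.2⟩
        invFun := fun x => ⟨x.1.1, x.1.2, x.2⟩
        left_inv := fun x => rfl
        right_inv := fun x => rfl }

/-- if some element of `N` maps `(c, x)` to `(x, y)` then the `N_{cx}`-orbit of `y` and the `N_{xy}`-orbit of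
`c` have the same size -/
theorem card_orbit_eq [Finite G] (N : Subgroup G) {c x y : Ω} {n : G} (hn : n ∈ N) (hnc : n • c = x)
    (hnx : n • x = y) :
    Nat.card {w : Ω // ∃ g ∈ N ⊓ stab2 G c x, g • y = w} =
      Nat.card {w : Ω // ∃ g ∈ N ⊓ stab2 G x y, g • c = w} := by
  have h1 := card_orbit_mul (N ⊓ stab2 G c x) y
  have h2 := card_orbit_mul (N ⊓ stab2 G x y) c
  have h3 : Nat.card ↥(N ⊓ stab2 G c x) = Nat.card ↥(N ⊓ stab2 G x y) := by
    have h4 : (N ⊓ stab2 G c x).map (MulAut.conj n).toMonoidHom = N ⊓ stab2 G x y := by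
      ext g
      constructor
      · rintro ⟨k, ⟨hk, hk'⟩, rfl⟩
        refine ⟨N.mul_mem (N.mul_mem hn hk) (N.inv_mem hn), ?_⟩
        have := conj_mem_stab2 n hk'
        rwa [hnc, hnx] at this
      · rintro ⟨hg, hg'⟩
        refine ⟨n⁻¹ * g * n, ⟨N.mul_mem (N.mul_mem (N.inv_mem hn) hg) hn, ?_⟩, ?_⟩
        · have := conj_mem_stab2 n⁻¹ hg'
          rw [inv_inv] at this
          rwa [inv_smul_eq_iff.mpr hnc.symm, inv_smul_eq_iff.mpr hnx.symm] at this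
        · change n * (n⁻¹ * g * n) * n⁻¹ = g
          group
    rw [← h4, card_map_of_injective (MulAut.conj n).injective]
  have h4 : N ⊓ stab2 G c x ⊓ MulAction.stabilizer G y =
      N ⊓ stab2 G x y ⊓ MulAction.stabilizer G c := by
    ext g
    constructor
    · rintro ⟨⟨h5, h6, h7⟩, h8⟩
      exact ⟨⟨h5, h7, h8⟩, h6⟩
    · rintro ⟨⟨h5, h6, h7⟩, h8⟩
      exact ⟨⟨h5, h8, h6⟩, h7⟩
  rw [h3, ← h2, h4] at h1
  exact Nat.eq_of_mul_eq_mul_right Nat.card_pos h1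

end Orbits

section Main

variable {G Ω : Type*} [Group G] [MulAction G Ω] {z : G}

/-- `Mid(x,y)`: the fixed points of the elements of `D` swapping `x` and `y` -/
def Mid (z : G) (x y : Ω) : Set Ω := {g | ∃ t ∈ Sw z x y, t • g = g}

theorem mem_Mid {x y g : Ω} : g ∈ Mid z x y ↔ ∃ t ∈ Sw z x y, t • g = g := Iff.rfl

theorem smul_mem_Mid {x y c : Ω} (g : G) (hc : c ∈ Mid z x y) : g • c ∈ Mid z (g • x) (g • y) := by
  obtain ⟨t, ht, htc⟩ := hc
  exact ⟨g * t * g⁻¹, conj_mem_Sw g ht, by rw [mul_smul, mul_smul, inv_smul_smul, htc]⟩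

/-- `X_{xy}` is transitive on `Mid(x,y)` -/
theorem exists_smul_mid [Finite G] (h : Setup G Ω z) {x y : Ω} (hxy : x ≠ y) {c d : Ω}
    (hc : c ∈ Mid z x y) (hd : d ∈ Mid z x y) : ∃ n ∈ oc G x y, n • c = d := by
  obtain ⟨t, ht, htc⟩ := hc
  obtain ⟨u, hu, hud⟩ := hd
  obtain ⟨n, hn, hnt⟩ := exists_conj_sw h hxy ht hu
  refine ⟨n, hn, ?_⟩
  refine h.uniq hu.1 ?_ hud
  rw [← hnt, mul_smul, mul_smul, inv_smul_smul, htc]

/-- a subgroup normalised by `X_{xy}` and fixing one point of `Mid(x,y)` fixes all of them -/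
theorem fix_mid [Finite G] (h : Setup G Ω z) {x y : Ω} (hxy : x ≠ y) {Θ : Subgroup G}
    (hn : oc G x y ≤ normalizer (Θ : Set G)) {c : Ω} (hc : c ∈ Mid z x y)
    (hΘ : ∀ b ∈ Θ, b • c = c) {d : Ω} (hd : d ∈ Mid z x y) : ∀ b ∈ Θ, b • d = d := by
  obtain ⟨n, hnX, rfl⟩ := exists_smul_mid h hxy hc hd
  intro b hb
  have h1 : n⁻¹ * b * n ∈ Θ := by
    have := (mem_normalizer_iff.mp (inv_mem (hn hnX)) b).mp hb
    rwa [inv_inv] at this
  have h2 := hΘ _ h1
  rw [mul_smul, mul_smul, inv_smul_eq_iff] at h2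
  exact h2

/-- `(6)`: `N` 2-transitive on `Δ`, `Mid(x,y) ⊆ Δ` an orbit of `N_{xy}`; then `D_c` maps `Δ` into `Δ` for `c ∈ Δ`
fixed by an element of `D ∩ N`. -/
theorem smul_mem_of_mid [Finite G] (h : Setup G Ω z)
    (h2 : ∀ a b c d : Ω, a ≠ b → c ≠ d → ∃ g : G, g • a = c ∧ g • b = d)
    {N : Subgroup G} {Δ : Set Ω} (hΔ : ∀ n ∈ N, ∀ c ∈ Δ, n • c ∈ Δ)
    (hN : ∀ a ∈ Δ, ∀ b ∈ Δ, ∀ c ∈ Δ, ∀ d ∈ Δ, a ≠ b → c ≠ d → ∃ n ∈ N, n • a = c ∧ n • b = d)
    {x y : Ω} (hxy : x ≠ y) (hx : x ∈ Δ) (hy : y ∈ Δ)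
    (hmt : ∀ g ∈ Mid z x y, ∀ g' ∈ Mid z x y, ∃ n ∈ N, n • x = x ∧ n • y = y ∧ n • g = g')
    {c : Ω} (hc : c ∈ Δ) {s : G} (hsN : s ∈ N) (hs : s ∈ At z c) {d : G} (hd : d ∈ At z c)
    {x' : Ω} (hx' : x' ∈ Δ) : d • x' ∈ Δ := by
  have := h.finite_points
  by_cases hxc : c = x'
  · rw [← hxc, hd.2]; exact hc
  set y' := s • x' with hy'
  have hy'Δ : y' ∈ Δ := hΔ s hsN x' hx'
  have hxy' : x' ≠ y' := by
    intro hh
    exact hxc (h.uniq hs.1 hs.2 hh.symm)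
  have hsw : s ∈ Sw z x' y' := ⟨hs.1, rfl⟩
  have hcM : c ∈ Mid z x' y' := ⟨s, hsw, hs.2⟩
  -- the two orbits of `c`
  have hGorb : ∀ w : Ω, (∃ g ∈ (⊤ : Subgroup G) ⊓ stab2 G x' y', g • c = w) ↔ w ∈ Mid z x' y' := by
    intro w
    constructor
    · rintro ⟨g, ⟨-, hg1, hg2⟩, rfl⟩
      have := smul_mem_Mid g hcM
      rwa [show g • x' = x' from hg1, show g • y' = y' from hg2] at this
    · intro hw
      obtain ⟨n, hn, hnw⟩ := exists_smul_mid h hxy' hcM hw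
      exact ⟨n, ⟨mem_top n, oc_le _ _ hn⟩, hnw⟩
  obtain ⟨n₀, hn₀, hn₀x, hn₀y⟩ := hN x hx y hy x' hx' y' hy'Δ hxy hxy'
  have hNorb : ∀ w : Ω, (∃ g ∈ N ⊓ stab2 G x' y', g • c = w) ↔ w ∈ Mid z x' y' := by
    intro w
    constructor
    · rintro ⟨g, ⟨-, hg1, hg2⟩, rfl⟩
      have := smul_mem_Mid g hcM
      rwa [show g • x' = x' from hg1, show g • y' = y' from hg2] at this
    · intro hw
      have key : ∀ v ∈ Mid z x' y', n₀⁻¹ • v ∈ Mid z x y := by
        intro v hv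
        have := smul_mem_Mid n₀⁻¹ hv
        rwa [inv_smul_eq_iff.mpr hn₀x.symm, inv_smul_eq_iff.mpr hn₀y.symm] at this
      obtain ⟨n, hn, hnx, hny, hnc⟩ := hmt _ (key c hcM) _ (key w hw)
      refine ⟨n₀ * n * n₀⁻¹, ⟨N.mul_mem (N.mul_mem hn₀ hn) (N.inv_mem hn₀), ?_, ?_⟩, ?_⟩
      · show (n₀ * n * n₀⁻¹) • x' = x'
        rw [mul_smul, mul_smul, inv_smul_eq_iff.mpr hn₀x.symm, hnx, hn₀x]
      · show (n₀ * n * n₀⁻¹) • y' = y'
        rw [mul_smul, mul_smul, inv_smul_eq_iff.mpr hn₀y.symm, hny, hn₀y]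
      · rw [mul_smul, mul_smul, hnc, smul_inv_smul]
  obtain ⟨g₁, hg₁c, hg₁x⟩ := h2 c x' x' y' hxc hxy'
  obtain ⟨n₁, hn₁, hn₁c, hn₁x⟩ := hN c hc x' hx' x' hx' y' hy'Δ hxc hxy'
  have hcard : Nat.card {w : Ω // ∃ g ∈ N ⊓ stab2 G c x', g • y' = w} =
      Nat.card {w : Ω // ∃ g ∈ (⊤ : Subgroup G) ⊓ stab2 G c x', g • y' = w} := by
    rw [card_orbit_eq N hn₁ hn₁c hn₁x, card_orbit_eq ⊤ (mem_top g₁) hg₁c hg₁x]
    refine Nat.card_congr (Equiv.subtypeEquivRight fun w => ?_)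
    rw [hGorb w, hNorb w]
  -- the `N`-orbit is contained in the `G`-orbit
  have hsub : {w : Ω | ∃ g ∈ N ⊓ stab2 G c x', g • y' = w} ⊆
      {w : Ω | ∃ g ∈ (⊤ : Subgroup G) ⊓ stab2 G c x', g • y' = w} := by
    rintro w ⟨g, ⟨-, hg⟩, hw⟩
    exact ⟨g, ⟨mem_top g, hg⟩, hw⟩
  have heq : {w : Ω | ∃ g ∈ N ⊓ stab2 G c x', g • y' = w} =
      {w : Ω | ∃ g ∈ (⊤ : Subgroup G) ⊓ stab2 G c x', g • y' = w} := by
    refine Set.eq_of_subset_of_ncard_le hsub ?_ (Set.toFinite _)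
    rw [← Nat.card_coe_set_eq, ← Nat.card_coe_set_eq]
    exact hcard.ge
  -- `d • x'` lies in the `G`-orbit
  obtain ⟨n, hn, hnd⟩ := exists_conj_at_oc h hxc hs hd
  have hnx : n • x' = x' := smul_right_of_mem_oc hn
  have hmem : d • x' ∈ {w : Ω | ∃ g ∈ (⊤ : Subgroup G) ⊓ stab2 G c x', g • y' = w} := by
    refine ⟨n, ⟨mem_top n, oc_le _ _ hn⟩, ?_⟩
    have hnx' : n⁻¹ • x' = x' := by rw [inv_smul_eq_iff, hnx]
    rw [← hnd, mul_smul, mul_smul, hnx', hy']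
  rw [← heq] at hmem
  obtain ⟨g, hg, hgw⟩ := hmem
  rw [← hgw]
  exact hΔ g hg.1 y' hy'Δ

/-- the hypotheses of `smul_mem_of_mid` and `G = ⟨D_x, D_y⟩`: `Δ = Ω` -/
theorem forall_mem_of_mid [Finite G] (h : Setup G Ω z)
    (h2 : ∀ a b c d : Ω, a ≠ b → c ≠ d → ∃ g : G, g • a = c ∧ g • b = d)
    {N : Subgroup G} {Δ : Set Ω} (hΔ : ∀ n ∈ N, ∀ c ∈ Δ, n • c ∈ Δ)
    (hN : ∀ a ∈ Δ, ∀ b ∈ Δ, ∀ c ∈ Δ, ∀ d ∈ Δ, a ≠ b → c ≠ d → ∃ n ∈ N, n • a = c ∧ n • b = d)
    (hΔD : ∀ c ∈ Δ, ∃ s ∈ N, s ∈ At z c)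
    {x y : Ω} (hxy : x ≠ y) (hx : x ∈ Δ) (hy : y ∈ Δ)
    (hbig : Subgroup.closure (At z x ∪ At z y) = ⊤)
    (hmt : ∀ g ∈ Mid z x y, ∀ g' ∈ Mid z x y, ∃ n ∈ N, n • x = x ∧ n • y = y ∧ n • g = g')
    (c : Ω) : c ∈ Δ := by
  have := h.finite_points
  have key : ∀ e ∈ Δ, ∀ d ∈ At z e, ∀ x' ∈ Δ, d • x' ∈ Δ := by
    intro e he d hd x' hx'
    obtain ⟨s, hsN, hs⟩ := hΔD e he
    exact smul_mem_of_mid h h2 hΔ hN hxy hx hy hmt he hsN hs hd hx'
  have hall : ∀ g ∈ Subgroup.closure (At z x ∪ At z y), ∀ x' ∈ Δ, g • x' ∈ Δ := by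
    intro g hg
    induction hg using Subgroup.closure_induction with
    | mem d hd =>
      rcases hd with hd | hd
      · exact key x hx d hd
      · exact key y hy d hd
    | one => intro x' hx'; rwa [one_smul]
    | mul a b _ _ ha hb => intro x' hx'; rw [mul_smul]; exact ha _ (hb _ hx')
    | inv a _ ha =>
      intro x' hx'
      -- `a` permutes the finite set `Δ`
      have h1 : (fun c : Ω => a • c) '' Δ = Δ := by
        refine Set.eq_of_subset_of_ncard_le ?_ ?_ (Set.toFinite _)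
        · rintro _ ⟨c, hc, rfl⟩; exact ha c hc
        · rw [Set.ncard_image_of_injective _ (MulAction.injective a)]
      rw [← h1] at hx'
      obtain ⟨c, hc, rfl⟩ := hx'
      rwa [inv_smul_smul]
  obtain ⟨g, hg⟩ := h.trans x c
  rw [← hg]
  exact hall g (by rw [hbig]; exact mem_top g) x hx

/-- step (6), final form: `J ≠ 1` a subgroup of `G_x` normal in `N`, `N` 2-transitive on `Δ ∋ x, y`,
`Θ` a subgroup normalised by `X_{xy}` fixing a point of `Mid(x,y)` with `X_{xy} ⊆ Θ N_{xy}`: contradiction. -/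
theorem not_mid [Finite G] (h : Setup G Ω z) (hf : ∀ g : G, (∀ a : Ω, g • a = a) → g = 1)
    (h2 : ∀ a b c d : Ω, a ≠ b → c ≠ d → ∃ g : G, g • a = c ∧ g • b = d)
    {N : Subgroup G} {Δ : Set Ω} (hΔ : ∀ n ∈ N, ∀ c ∈ Δ, n • c ∈ Δ)
    (hN : ∀ a ∈ Δ, ∀ b ∈ Δ, ∀ c ∈ Δ, ∀ d ∈ Δ, a ≠ b → c ≠ d → ∃ n ∈ N, n • a = c ∧ n • b = d)
    (hΔD : ∀ c ∈ Δ, ∃ s ∈ N, s ∈ At z c)
    {x y : Ω} (hxy : x ≠ y) (hx : x ∈ Δ) (hy : y ∈ Δ)
    (hbig : Subgroup.closure (At z x ∪ At z y) = ⊤)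
    {Θ J : Subgroup G} (hJN : N ≤ normalizer (J : Set G)) (hJx : ∀ j ∈ J, j • x = x) (hJ1 : J ≠ ⊥)
    (hΘn : oc G x y ≤ normalizer (Θ : Set G)) {c : Ω} (hc : c ∈ Mid z x y)
    (hΘ : ∀ b ∈ Θ, b • c = c)
    (hZJ : ∀ n ∈ oc G x y, ∃ θ ∈ Θ, ∃ m ∈ N, m • x = x ∧ m • y = y ∧ n = θ * m) : False := by
  have hmt : ∀ g ∈ Mid z x y, ∀ g' ∈ Mid z x y, ∃ n ∈ N, n • x = x ∧ n • y = y ∧ n • g = g' := by
    intro g hg g' hg'
    obtain ⟨n, hn, hng⟩ := exists_smul_mid h hxy hg hg'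
    obtain ⟨θ, hθ, m, hm, hmx, hmy, rfl⟩ := hZJ n hn
    refine ⟨m, hm, hmx, hmy, ?_⟩
    have h3 := fix_mid h hxy hΘn hc hΘ hg' θ hθ
    rw [mul_smul] at hng
    exact smul_left_cancel θ (by rw [hng, h3])
  have hall := forall_mem_of_mid h h2 hΔ hN hΔD hxy hx hy hbig hmt
  apply hJ1
  rw [eq_bot_iff_forall]
  intro j hj
  apply hf
  intro a
  by_cases hax : a = x
  · rw [hax]; exact hJx j hj
  obtain ⟨b, hb⟩ : ∃ b : Ω, b ≠ x := ⟨a, hax⟩
  -- some `n ∈ N` maps `x` to `a`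
  obtain ⟨n, hn, hnx, -⟩ := hN x hx y hy a (hall a) x hx hxy hax
  have h4 : n⁻¹ * j * n ∈ J := by
    have := (mem_normalizer_iff.mp (inv_mem (hJN hn)) j).mp hj
    rwa [inv_inv] at this
  have h5 := hJx _ h4
  rw [mul_smul, mul_smul, inv_smul_eq_iff, hnx] at h5
  exact h5

/-! ### `Θ = O_{p'}(X_{xy})` -/

/-- `Θ = O_{p'}(X_{xy})` -/
def th (G : Type*) {Ω : Type*} [Group G] [MulAction G Ω] (p : ℕ) (x y : Ω) : Subgroup G :=
  (Cfsg.pPrimeCore p (oc G x y)).map (oc G x y).subtype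

theorem th_le (p : ℕ) (x y : Ω) : th G p x y ≤ oc G x y := map_subtype_le _

theorem odd_th [Finite G] (p : ℕ) (x y : Ω) : Odd (Nat.card (th G p x y)) :=
  (odd_oc (G := G) x y).of_dvd_nat (card_dvd_of_le (th_le p x y))

theorem not_dvd_th [Finite G] (p : ℕ) [hp : Fact p.Prime] (x y : Ω) :
    ¬ p ∣ Nat.card (th G p x y) := by
  rw [th, card_map_of_injective (oc G x y).subtype_injective]
  exact (Nat.Prime.coprime_iff_not_dvd hp.out).mp
    (Cfsg.Agent.Lib.Cores.pPrimeCore_coprime (G := oc G x y) p).symm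

/-- the elements normalising `X_{xy}` normalise `Θ` -/
theorem mem_normalizer_th [Finite G] {p : ℕ} {x y : Ω} {g : G}
    (hg : g ∈ normalizer (oc G x y : Set G)) : g ∈ normalizer (th G p x y : Set G) := by
  have key : ∀ g ∈ normalizer (oc G x y : Set G), ∀ b ∈ th G p x y, g * b * g⁻¹ ∈ th G p x y := by
    intro g hg b hb
    obtain ⟨c, hc, rfl⟩ := hb
    have hmem : ∀ c : oc G x y, g * (c : G) * g⁻¹ ∈ oc G x y :=
      fun c => (mem_normalizer_iff.mp hg c).mp c.2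
    have hmem' : ∀ c : oc G x y, g⁻¹ * (c : G) * g ∈ oc G x y := fun c => by
      have := (mem_normalizer_iff.mp (inv_mem hg) c).mp c.2
      rwa [inv_inv] at this
    let e : oc G x y ≃* oc G x y :=
      { toFun := fun c => ⟨g * c * g⁻¹, hmem c⟩
        invFun := fun c => ⟨g⁻¹ * c * g, hmem' c⟩
        left_inv := fun c => by ext; simp [mul_assoc]
        right_inv := fun c => by ext; simp [mul_assoc]
        map_mul' := fun c d => by ext; simp [mul_assoc] }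
    have h1 : e c ∈ Cfsg.pPrimeCore p (oc G x y) := by
      rw [← Cfsg.Agent.Lib.Cores.map_equiv_pPrimeCore e]
      exact ⟨c, hc, rfl⟩
    exact ⟨e c, h1, rfl⟩
  rw [mem_normalizer_iff]
  intro b
  refine ⟨key g hg b, fun hb => ?_⟩
  have := key g⁻¹ (inv_mem hg) _ hb
  rwa [show g⁻¹ * (g * b * g⁻¹) * g⁻¹⁻¹ = b by group] at this

/-- steps (5) and (6) together -/
theorem false_of_zj [Finite G] (h : Setup G Ω z) (hf : ∀ g : G, (∀ a : Ω, g • a = a) → g = 1)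
    (h2 : ∀ a b c d : Ω, a ≠ b → c ≠ d → ∃ g : G, g • a = c ∧ g • b = d)
    {x y : Ω} (hxy : x ≠ y) (hbig : Subgroup.closure (At z x ∪ At z y) = ⊤)
    (hFT : ∀ B : Subgroup G, Odd (Nat.card B) → Group.IsSolvable B)
    {p : ℕ} [hp : Fact p.Prime] (hp2 : p ≠ 2) {t k : G} {g : Ω} (ht : t ∈ Sw z x y)
    (htg : t • g = g) (hkx : k • x = x) (hky : k • y = y) (hkg : k • g = g)
    (hk : IsPGroup p (zpowers k)) (htk : t * k * t⁻¹ = k⁻¹)
    (hCk : ∀ x : G, Commute x k → x • g = g) {N J : Subgroup G}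
    (hN : ∀ a b c d : Ω, a ∈ Descent.pts Ω z N → b ∈ Descent.pts Ω z N →
      c ∈ Descent.pts Ω z N → d ∈ Descent.pts Ω z N → a ≠ b → c ≠ d →
      ∃ n ∈ N, n • a = c ∧ n • b = d)
    (hx : x ∈ Descent.pts Ω z N) (hy : y ∈ Descent.pts Ω z N)
    (hJN : N ≤ normalizer (J : Set G)) (hJx : ∀ j ∈ J, j • x = x) (hJ1 : J ≠ ⊥)
    (hZJ : ∀ n ∈ oc G x y, ∃ θ ∈ th G p x y, ∃ m ∈ N, m • x = x ∧ m • y = y ∧ n = θ * m) :
    False := by
  have htn : t ∈ normalizer (oc G x y : Set G) :=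
    mem_normalizer_oc (Or.inr ⟨ht.2, sw_smul_right h ht⟩)
  have hkn : k ∈ normalizer (oc G x y : Set G) := mem_normalizer_oc (Or.inl ⟨hkx, hky⟩)
  have hΘ : ∀ b ∈ th G p x y, b • g = g :=
    le_stabilizer_of_dihedral h hp2 ⟨ht.1, htg⟩ hkg hk htk hCk _ (hFT _ (odd_th p x y))
      (odd_th p x y) (not_dvd_th p x y) (mem_normalizer_th htn) (mem_normalizer_th hkn)
  refine not_mid h hf h2 (N := N) (Δ := {c | c ∈ Descent.pts Ω z N}) ?_ ?_ ?_ hxy hx hy hbig
    hJN hJx hJ1 (Θ := th G p x y) (fun n hn => mem_normalizer_th (le_normalizer hn))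
    (c := g) ⟨t, ht, htg⟩ hΘ hZJ
  · intro n hn c hc
    exact (Descent.pts Ω z N).smul_mem (⟨n, hn⟩ : N) hc
  · intro a ha b hb c hc d hd hab hcd
    exact hN a b c d ha hb hc hd hab hcd
  · intro c hc
    obtain ⟨s, hs, hsc⟩ := hc
    exact ⟨s, hs, hsc⟩

end Main

end Cfsg.Agent.AschCrit.RGoodEnd
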