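import Mathlib
import Cfsg.Agent.AschCrit.TwoTrans
import Cfsg.Agent.AschCrit.BGroup

/-!
# Aschbacher's criterion: bad pairs (steps (1), (2), (4) of R-GOOD)

`BadPair Ω z p U w` : `U` is a `p`-group normalised and not centralised by `w ∈ D`, and the fixed point
of `w` is a fixed point of `U`.

For a prime `p` with `Dag G Ω z p` (an odd prime dividing `|G_{ab} : G_{a,b,vb}|`):

* `exists_inv_maxP` : `x`-invariant Sylow `p`-subgroups of `G_{cd}` above `x`-invariant `p`-subgroups,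
  `x ∈ D ∩ I(c,d)`
* `exists_two_fx` : every `p`-subgroup fixes a point different from a given point
* `BadPair.exists_big` : if there is a bad pair then there is a `p`-subgroup `U` such that `N(U)` contains
  elements of `D` at two points and two different commuting elements of `D`, and no element of `D`
  centralises `U`; moreover `U` is maximal among the groups in bad pairs
* `exists_inverted` : a `p`-group normalised by two commuting elements `w₁ ≠ w₂` of `D` and not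
  centralised by `w₁` contains an element of order `p` inverted by `w₁` and centralised by
  `w₂` or `w₁ w₂`
* `normalizer_zpowers_le` : if `t ∈ D_g` inverts `k ≠ 1` of odd order and some element of `D` centralises `k`
  then `N(⟨k⟩) ≤ G_g`
-/

set_option autoImplicit false

open Subgroup

namespace Cfsg.Agent.AschCrit.RGoodPair

open Cfsg.Agent.TwoFusion.StronglyEmbeddedBasic Cfsg.Agent.AschCrit.Basic
open Cfsg.Agent.AschCrit.Basic.Setup Cfsg.Agent.AschCrit.Closed Cfsg.Agent.AschCrit.IsolatedSwap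
open Cfsg.Agent.AschCrit.OddInv Cfsg.Agent.SignalizersComponents.RelSylow
open Cfsg.Agent.SignalizersComponents.PLayerAut Cfsg.Agent.AschCrit.Dagger
open Cfsg.Agent.AschCrit.TwoTrans Cfsg.Agent.AschCrit.Descent Cfsg.Agent.AschCrit.NonIso
open Cfsg.Agent.AschCrit.BGroup

variable {G Ω : Type*} [Group G] [MulAction G Ω] {z : G}

/-- a `p`-group normalised and not centralised by `w ∈ D`, the fixed point of `w` being a fixed
point of `U` -/
structure BadPair (Ω : Type*) {G : Type*} [Group G] [MulAction G Ω] (z : G) (p : ℕ)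
    (U : Subgroup G) (w : G) : Prop where
  isP : IsPGroup p U
  conj : IsConj z w
  inv : Inv w U
  fix : ∃ x ∈ Fx Ω U, w • x = x
  moves : ∃ u ∈ U, ¬ Commute w u

/-- `x`-invariant Sylow `p`-subgroups of `G_{cd}` above `x`-invariant `p`-subgroups, `x ∈ D ∩ I(c,d)` -/
theorem exists_inv_maxP [Finite G] (h : Setup G Ω z) {p : ℕ} [hp : Fact p.Prime] (hpo : Odd p)
    {c d : Ω} (hcd : c ≠ d) {x : G} (hx : x ∈ Sw z c d) {U : Subgroup G} (hU : IsPGroup p U)
    (hUJ : U ≤ stab2 G c d) (hiU : Inv x U) :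
    ∃ P : Subgroup G, IsMaxP p (stab2 G c d) P ∧ Inv x P ∧ U ≤ P := by
  obtain ⟨T, hT, hUT⟩ := exists_isMaxP (p := p) hU hUJ
  have hxx := h.mul_self hx.1
  have hodd : Odd (Nat.card (oc G c d ⊔ T : Subgroup G)) :=
    odd_sup_oc hT.2.1 (odd_of_isPGroup hpo hT.1)
  have hinv : Inv x (oc G c d ⊔ T) := inv_sup_oc h hcd hx hT.2.1
  have hHJ : oc G c d ⊔ T ≤ stab2 G c d := sup_le (oc_le c d) hT.2.1
  obtain ⟨P, hP, hiP, hUP⟩ := exists_isMaxP_ge hxx hodd hinv (p := p) (U := U)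
    (hUT.trans le_sup_right) hU hiU
  refine ⟨P, ?_, hiP, hUP⟩
  have hTH : IsMaxP p (oc G c d ⊔ T) T :=
    ⟨hT.1, le_sup_right, fun R' h1 h2 h3 => hT.2.2 R' h1 (h2.trans hHJ) h3⟩
  have hcard := hP.card_eq hTH
  obtain ⟨R, hR, hPR⟩ := exists_isMaxP (p := p) hP.1 (hP.2.1.trans hHJ)
  have hcard2 := hR.card_eq hT
  have hPR' : P = R := eq_of_le_of_card_ge hPR (by rw [hcard2, hcard])
  rw [hPR']
  exact hR

/-- for a prime `p` with `Dag`, every `p`-subgroup fixes a point different from a given point -/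
theorem exists_fx_ne [Finite G] (h : Setup G Ω z) {p : ℕ} (hd : Dag G Ω z p) {U : Subgroup G}
    (hU : IsPGroup p U) (x : Ω) : ∃ y ∈ Fx Ω U, y ≠ x := by
  have hp : Fact p.Prime := ⟨hd.prime⟩
  obtain ⟨a, b, hab⟩ := h.nontriv
  obtain ⟨R, hR, -⟩ := exists_isMaxP (p := p) (C := stab2 G a b) (W := ⊥) IsPGroup.of_bot bot_le
  have hRt := Dag.isMaxP_top h hd hab hR
  obtain ⟨c, -, hc⟩ := hRt.exists_conj_le hU le_top
  have key : ∀ e : Ω, e ∈ Fx Ω R → c⁻¹ • e ∈ Fx Ω U := by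
    intro e he u hu
    have h1 : c * u * c⁻¹ ∈ R := hc ⟨u, hu, rfl⟩
    have h2 := he _ h1
    rw [mul_smul, mul_smul] at h2
    calc u • c⁻¹ • e = c⁻¹ • (c • u • c⁻¹ • e) := by rw [inv_smul_smul]
      _ = c⁻¹ • e := by rw [h2]
  have ha := key a (left_mem_Fx hR.2.1)
  have hb := key b (right_mem_Fx hR.2.1)
  by_cases hx : c⁻¹ • a = x
  · refine ⟨_, hb, fun hh => hab ?_⟩
    exact smul_left_cancel c⁻¹ (hx.trans hh.symm)
  · exact ⟨_, ha, hx⟩

theorem BadPair.exists_moved [Finite G] {p : ℕ} {U : Subgroup G} {w : G}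
    (hb : BadPair Ω z p U w) {V : Subgroup G} (hUV : U ≤ V) (hV : IsPGroup p V) (hiV : Inv w V)
    {x : Ω} (hx : x ∈ Fx Ω V) (hwx : w • x = x) : BadPair Ω z p V w :=
  ⟨hV, hb.conj, hiV, ⟨x, hx, hwx⟩, by
    obtain ⟨u, hu, hne⟩ := hb.moves
    exact ⟨u, hUV hu, hne⟩⟩

/-- (1) for a maximal bad pair `(U, w)`, `N(U)` moves the fixed point of `w` -/
theorem BadPair.exists_move [Finite G] (h : Setup G Ω z) {p : ℕ} (hd : Dag G Ω z p)
    {U : Subgroup G} {w : G} (hb : BadPair Ω z p U w)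
    (hmax : ∀ (U' : Subgroup G) (w' : G), BadPair Ω z p U' w' → U ≤ U' → U' ≤ U) {x : Ω}
    (hx : x ∈ Fx Ω U) (hwx : w • x = x) : ∃ n ∈ normalizer (U : Set G), n • x ≠ x := by
  have hp : Fact p.Prime := ⟨hd.prime⟩
  by_contra hcon
  push Not at hcon
  obtain ⟨y, hy, hyx⟩ := exists_fx_ne h hd hb.isP x
  have hww := h.mul_self hb.conj
  have hwn : w ∈ normalizer (U : Set G) := hb.inv.mem_normalizer hww
  have hwy : w • y ≠ y := fun hh => hyx (h.uniq hb.conj hh hwx)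
  have hwyU : w • y ∈ Fx Ω U := smul_mem_Fx hwn hy
  obtain ⟨P, hP, hiP, hUP⟩ := exists_inv_maxP h hd.odd (Ne.symm hwy) (x := w) ⟨hb.conj, rfl⟩
    hb.isP (le_stab2 hy hwyU) hb.inv
  have hne : ¬ P ≤ U := by
    intro hPU
    have hxP : x ∈ Fx Ω P := Fx_anti hPU hx
    rcases Dag.fx_pair h hd (Ne.symm hwy) hP x hxP with h1 | h1
    · exact hyx h1.symm
    · apply hyx
      have h2 : w • x = w • (w • y) := congrArg (fun t => w • t) h1
      rw [hwx, smul_smul, hww, one_smul] at h2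
      exact h2.symm
  obtain ⟨g, hgP, hgn, hgU⟩ := exists_mem_normalizer hP.1 hUP hne
  have hiN : Inv w (normalizer (U : Set G)) := by
    intro u hu
    exact mul_mem (mul_mem hwn hu) (inv_mem hwn)
  have h1 := hmax _ w (hb.exists_moved (V := P ⊓ normalizer (U : Set G))
    (le_inf hUP le_normalizer) (hP.1.to_le inf_le_left) (hiP.inf hiN)
    (fun u hu => hcon u hu.2) hwx) (le_inf hUP le_normalizer)
  exact hgU (h1 ⟨hgP, hgn⟩)

/-- (1) if `N(U)` moves the fixed point of `w` then no element of `D` centralises `U` -/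
theorem BadPair.not_centralized [Finite G] (h : Setup G Ω z) {p : ℕ}
    {U : Subgroup G} {w : G} (hb : BadPair Ω z p U w) {x : Ω} (hwx : w • x = x)
    (hmv : ∃ n ∈ normalizer (U : Set G), n • x ≠ x) {d : G} (hdz : IsConj z d) :
    ∃ u ∈ U, ¬ Commute d u := by
  by_contra hcon
  push Not at hcon
  obtain ⟨n, hn, hnx⟩ := hmv
  have hww := h.mul_self hb.conj
  have hwn : w ∈ normalizer (U : Set G) := hb.inv.mem_normalizer hww
  have hdn : d ∈ normalizer (U : Set G) := by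
    rw [mem_normalizer_iff]
    intro u
    constructor
    · intro hu
      have : d * u * d⁻¹ = u := by rw [(hcon u hu).eq]; group
      rwa [this]
    · intro hu
      have h1 := (hcon _ hu).eq
      have : u = d * u * d⁻¹ := by
        calc u = d⁻¹ * (d * u * d⁻¹ * d) := by group
          _ = d⁻¹ * (d * (d * u * d⁻¹)) := by rw [h1]
          _ = d * u * d⁻¹ := by group
      rwa [this]
  obtain ⟨c, hc, hcd⟩ := h.exists_conj_mem (normalizer (U : Set G)) (Ne.symm hnx) ⟨hb.conj, hwx⟩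
    (conj_mem_At n ⟨hb.conj, hwx⟩) hwn (mul_mem (mul_mem hn hwn) (inv_mem hn)) hdz hb.conj hdn hwn
  obtain ⟨u, hu, hne⟩ := hb.moves
  apply hne
  have h1 : c⁻¹ * u * c ∈ U := by
    have := (mem_normalizer_iff.mp (inv_mem hc) u).mp hu
    rwa [inv_inv] at this
  have h2 := (hcon _ h1).eq
  show w * u = u * w
  rw [← hcd]
  calc c * d * c⁻¹ * u = c * (d * (c⁻¹ * u * c)) * c⁻¹ := by group
    _ = c * ((c⁻¹ * u * c) * d) * c⁻¹ := by rw [h2]
    _ = u * (c * d * c⁻¹) := by group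

theorem inv_sup_of_commutator {x : G} {K T : Subgroup G} (hK : Inv x K)
    (hT : ∀ t ∈ T, x * t * x⁻¹ * t⁻¹ ∈ K) : Inv x (K ⊔ T) := by
  have h1 : K ⊔ T ≤ (K ⊔ T).comap (MulAut.conj x).toMonoidHom := by
    rw [sup_le_iff]
    constructor
    · intro y hy
      exact le_sup_left (a := K) (hK y hy)
    · intro y hy
      show x * y * x⁻¹ ∈ K ⊔ T
      have e1 : x * y * x⁻¹ = (x * y * x⁻¹ * y⁻¹) * y := by group
      rw [e1]
      exact mul_mem (le_sup_left (a := K) (hT y hy)) (le_sup_right (a := K) hy)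
  exact fun u hu => h1 hu

/-- (2) for a maximal bad pair `(U, w)`, some `e ∈ D ∩ N(U)`, `e ≠ w`, commutes with `w` -/
theorem BadPair.exists_commute [Finite G] (h : Setup G Ω z) {p : ℕ} (hd : Dag G Ω z p)
    {U : Subgroup G} {w : G} (hb : BadPair Ω z p U w)
    (hmax : ∀ (U' : Subgroup G) (w' : G), BadPair Ω z p U' w' → U ≤ U' → U' ≤ U) {x : Ω}
    (hx : x ∈ Fx Ω U) (hwx : w • x = x) :
    ∃ e ∈ normalizer (U : Set G), IsConj z e ∧ e • x = x ∧ Commute w e ∧ e ≠ w := by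
  have hp : Fact p.Prime := ⟨hd.prime⟩
  by_contra hcon
  push Not at hcon
  have hww := h.mul_self hb.conj
  have hwn : w ∈ normalizer (U : Set G) := hb.inv.mem_normalizer hww
  obtain ⟨y, hy, hyx⟩ := exists_fx_ne h hd hb.isP x
  have hwy : w • y ≠ y := fun hh => hyx (h.uniq hb.conj hh hwx)
  have hwyU : w • y ∈ Fx Ω U := smul_mem_Fx hwn hy
  have hwyx : w • y ≠ x := by
    intro hh
    apply hyx
    have h2 : w • (w • y) = w • x := congrArg (fun t => w • t) hh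
    rw [hwx, smul_smul, hww, one_smul] at h2
    exact h2
  set L : Subgroup G := normalizer (U : Set G) ⊓ MulAction.stabilizer G x with hL
  have hwL : w ∈ L := ⟨hwn, hwx⟩
  have hUL : U ≤ L := le_inf le_normalizer hx
  obtain ⟨K, hKL, hLK, hKo, hK⟩ := Cfsg.Agent.AschCrit.Dichotomy.commutator_mem_of_isolated
    (h.orderOf_eq hb.conj) (le_normalizer hwL : w ∈ normalizer (L : Set G)) (by
      intro g hg hc
      refine hcon _ (mul_mem (mul_mem hg.1 hwn) (inv_mem hg.1)) (conj_mem hb.conj g) ?_ hc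
      have hgx : g • x = x := hg.2
      have := (conj_mem_At g (⟨hb.conj, hwx⟩ : w ∈ At z x)).2
      rwa [hgx] at this)
  obtain ⟨T, hT, hUT⟩ := exists_isMaxP (p := p) hb.isP hUL
  have hodd : Odd (Nat.card (K ⊔ T : Subgroup G)) :=
    odd_sup hKo (odd_of_isPGroup hd.odd hT.1) (hT.2.1.trans hLK)
  have hinv : Inv w (K ⊔ T) :=
    inv_sup_of_commutator (Inv.of_mem_normalizer (hLK hwL)) (fun t ht => hK t (hT.2.1 ht))
  obtain ⟨P, hP, hiP, hUP⟩ := exists_isMaxP_ge hww hodd hinv (p := p) (U := U)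
    (hUT.trans le_sup_right) hb.isP hb.inv
  have hHL : K ⊔ T ≤ L := sup_le hKL hT.2.1
  have hxP : x ∈ Fx Ω P := fun u hu => (hHL (hP.2.1 hu)).2
  have hPU : P ≤ U := hmax P w (hb.exists_moved hUP hP.1 hiP hxP hwx) hUP
  have hPU' : P = U := le_antisymm hPU hUP
  have hTH : IsMaxP p (K ⊔ T) T :=
    ⟨hT.1, le_sup_right, fun R' h1 h2 h3 => hT.2.2 R' h1 (h2.trans hHL) h3⟩
  have hcard := hP.card_eq hTH
  have hUT' : U = T := eq_of_le_of_card_ge hUT (by rw [← hcard, hPU'])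
  -- a larger `p`-subgroup of `L`
  obtain ⟨R, hR, hUR⟩ := exists_isMaxP (p := p) hb.isP (le_stab2 hx hy)
  have hne : ¬ R ≤ U := by
    intro hRU
    rcases Dag.fx_pair h hd (Ne.symm hyx) hR (w • y) (Fx_anti hRU hwyU) with h1 | h1
    · exact hwyx h1
    · exact hwy h1
  obtain ⟨g, hgR, hgn, hgU⟩ := exists_mem_normalizer hR.1 hUR hne
  have h1 : R ⊓ normalizer (U : Set G) ≤ T := by
    refine hT.2.2 _ (hR.1.to_le inf_le_left) ?_ ?_
    · exact fun u hu => ⟨hu.2, (hR.2.1 hu.1).1⟩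
    · rw [← hUT']; exact le_inf hUR le_normalizer
  exact hgU (hUT' ▸ h1 ⟨hgR, hgn⟩)

/-- a bad pair lies below a maximal one -/
theorem BadPair.exists_maximal [Finite G] {p : ℕ} {U : Subgroup G} {w : G}
    (hb : BadPair Ω z p U w) : ∃ (U' : Subgroup G) (w' : G), BadPair Ω z p U' w' ∧
      ∀ (U'' : Subgroup G) (w'' : G), BadPair Ω z p U'' w'' → U' ≤ U'' → U'' ≤ U' := by
  obtain ⟨V, -, hV⟩ := Finite.exists_le_maximal
    (p := fun V : Subgroup G => ∃ w, BadPair Ω z p V w) (a := U) ⟨w, hb⟩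
  obtain ⟨w', hw'⟩ := hV.prop
  exact ⟨V, w', hw', fun U'' w'' h1 h2 => hV.le_of_ge ⟨w'', h1⟩ h2⟩

/-- (1) and (2): if there is a bad pair then there is a `p`-subgroup `U` such that `N(U)` contains elements
of `D` at two points and two different commuting elements of `D`, and no element of `D` centralises
`U` (and `U` is a maximal group in bad pairs). -/
theorem BadPair.exists_big [Finite G] (h : Setup G Ω z) {p : ℕ} (hd : Dag G Ω z p)
    {U₀ : Subgroup G} {w₀ : G} (hb₀ : BadPair Ω z p U₀ w₀) :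
    ∃ (U : Subgroup G) (w : G), BadPair Ω z p U w ∧ DSub Ω z (normalizer (U : Set G)) ∧
      (∀ d : G, IsConj z d → ∃ u ∈ U, ¬ Commute d u) ∧
      (∀ (U' : Subgroup G) (w' : G), BadPair Ω z p U' w' → U ≤ U' → U' ≤ U) := by
  obtain ⟨U, w, hb, hmax⟩ := hb₀.exists_maximal
  obtain ⟨x, hx, hwx⟩ := hb.fix
  have hwn : w ∈ normalizer (U : Set G) := hb.inv.mem_normalizer (h.mul_self hb.conj)
  have hmv := hb.exists_move h hd hmax hx hwx
  obtain ⟨n, hn, hnx⟩ := id hmv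
  obtain ⟨e, he, hez, -, hce, hne⟩ := hb.exists_commute h hd hmax hx hwx
  refine ⟨U, w, hb, ⟨⟨x, n • x, Ne.symm hnx, ⟨w, hwn, hb.conj, hwx⟩,
    ⟨n * w * n⁻¹, mul_mem (mul_mem hn hwn) (inv_mem hn), conj_mem_At n ⟨hb.conj, hwx⟩⟩⟩,
    w, e, hwn, he, hb.conj, hez, hce, Ne.symm hne⟩,
    fun d hdz => hb.not_centralized h hwx hmv hdz, hmax⟩

/-- (4) a `p`-group normalised by two commuting elements `w₁ ≠ w₂` of order two, not centralised by
`w₁`, contains an element of order `p` inverted by `w₁` and centralised by `w₂` or `w₁ w₂` -/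
theorem exists_inverted [Finite G] {p : ℕ} [hp : Fact p.Prime] (hpo : Odd p) {U : Subgroup G}
    (hU : IsPGroup p U) {w₁ w₂ : G} (h₁ : w₁ * w₁ = 1) (h₂ : w₂ * w₂ = 1) (hc : Commute w₁ w₂)
    (hn₁ : w₁ ∈ normalizer (U : Set G)) (hn₂ : w₂ ∈ normalizer (U : Set G))
    (hmv : ∃ u ∈ U, ¬ Commute w₁ u) :
    ∃ v : G, (v = w₂ ∨ v = w₁ * w₂) ∧ Commute w₁ v ∧ ∃ k ∈ U, orderOf k = p ∧ Commute v k ∧
      w₁ * k * w₁⁻¹ = k⁻¹ := by
  have hUo := odd_of_isPGroup hpo hU
  have h₁i : w₁⁻¹ = w₁ := inv_eq_of_mul_eq_one_right h₁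
  obtain ⟨v, hv, hcv, c, hcU, hvc, hcne⟩ : ∃ v : G, (v = w₂ ∨ v = w₁ * w₂) ∧ Commute w₁ v ∧
      ∃ c ∈ U, Commute v c ∧ ¬ Commute w₁ c := by
    by_contra hcon
    push Not at hcon
    obtain ⟨u, hu, hne⟩ := hmv
    apply hne
    have hle : U ≤ centralizer ({w₁} : Set G) := by
      refine Cfsg.Agent.Lib.KleinGen.le_of_klein U _ hUo w₁ w₂ h₁ h₂ hc.eq
        (fun u hu => (mem_normalizer_iff.mp hn₁ u).mp hu)
        (fun u hu => (mem_normalizer_iff.mp hn₂ u).mp hu) ?_ ?_ ?_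
      · rintro u ⟨-, hu⟩
        exact hu
      · rintro u ⟨huU, hu⟩
        have hu' := mem_centralizer_singleton_iff.mp hu
        rw [mem_centralizer_singleton_iff]
        exact (hcon w₂ (Or.inl rfl) hc u huU hu'.symm).symm
      · rintro u ⟨huU, hu⟩
        have hu' := mem_centralizer_singleton_iff.mp hu
        rw [mem_centralizer_singleton_iff]
        exact (hcon (w₁ * w₂) (Or.inr rfl) ((Commute.refl w₁).mul_right hc) u huU hu'.symm).symm
    have := hle hu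
    rw [mem_centralizer_singleton_iff] at this
    exact this.symm
  refine ⟨v, hv, hcv, ?_⟩
  have hvn : v ∈ normalizer (U : Set G) := by
    rcases hv with rfl | rfl
    · exact hn₂
    · exact mul_mem hn₁ hn₂
  set k₀ : G := c⁻¹ * (w₁ * c * w₁⁻¹) with hk₀
  have hk₀U : k₀ ∈ U := mul_mem (inv_mem hcU) ((mem_normalizer_iff.mp hn₁ c).mp hcU)
  have hk₀v : Commute v k₀ := by
    refine Commute.mul_right hvc.inv_right ?_
    exact Commute.mul_right (Commute.mul_right hcv.symm hvc) hcv.symm.inv_right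
  have hk₀i : w₁ * k₀ * w₁⁻¹ = k₀⁻¹ := by
    rw [hk₀]
    calc w₁ * (c⁻¹ * (w₁ * c * w₁⁻¹)) * w₁⁻¹ = w₁ * c⁻¹ * w₁ * c * (w₁ * w₁)⁻¹ := by group
      _ = w₁ * c⁻¹ * w₁⁻¹ * c := by rw [h₁, inv_one, mul_one, h₁i]
      _ = (c⁻¹ * (w₁ * c * w₁⁻¹))⁻¹ := by group
  have hk₀1 : k₀ ≠ 1 := by
    intro h1
    apply hcne
    have h2 : w₁ * c * w₁⁻¹ = c := by
      rw [hk₀] at h1
      exact (inv_mul_eq_one.mp h1).symm
    show w₁ * c = c * w₁
    calc w₁ * c = w₁ * c * w₁⁻¹ * w₁ := by group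
      _ = c * w₁ := by rw [h2]
  obtain ⟨m, hm⟩ := hU ⟨k₀, hk₀U⟩
  have hm' : k₀ ^ p ^ m = 1 := congrArg Subtype.val hm
  obtain ⟨j, -, hj⟩ := (Nat.dvd_prime_pow hp.out).mp (orderOf_dvd_of_pow_eq_one hm')
  have hj0 : j ≠ 0 := by
    rintro rfl
    rw [pow_zero, orderOf_eq_one_iff] at hj
    exact hk₀1 hj
  obtain ⟨i, rfl⟩ := Nat.exists_eq_succ_of_ne_zero hj0
  refine ⟨k₀ ^ p ^ i, pow_mem hk₀U _, ?_, hk₀v.pow_right _, ?_⟩
  · rw [orderOf_pow' _ (pow_pos hp.out.pos i).ne', hj, pow_succ, Nat.gcd_eq_right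
      (Dvd.intro _ rfl), Nat.mul_div_cancel_left _ (pow_pos hp.out.pos i)]
  · have h3 : ∀ n : ℕ, w₁ * k₀ ^ n * w₁⁻¹ = (k₀ ^ n)⁻¹ := by
      intro n
      rw [← conj_pow, hk₀i, inv_pow]
    exact h3 _

/-- F9: if `t ∈ D_g` inverts `k ≠ 1` of odd order and some `e ∈ D` centralises `k` then
`N(⟨k⟩) ≤ G_g` -/
theorem normalizer_zpowers_le [Finite G] (h : Setup G Ω z) {g : Ω} {t k e : G}
    (ht : t ∈ At z g) (hk : k ≠ 1) (hko : Odd (orderOf k)) (hinv : t * k * t⁻¹ = k⁻¹)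
    (he : IsConj z e) (hek : Commute e k) : ∀ n ∈ normalizer (zpowers k : Set G), n • g = g := by
  intro n hn
  by_contra hne
  have htn : t ∈ normalizer (zpowers k : Set G) := by
    refine Inv.mem_normalizer (h.mul_self ht.1) ?_
    rintro _ ⟨j, rfl⟩
    refine ⟨-j, ?_⟩
    show k ^ (-j) = t * k ^ j * t⁻¹
    rw [← conj_zpow, hinv, inv_zpow, zpow_neg]
  have hen : e ∈ normalizer (zpowers k : Set G) := by
    refine Inv.mem_normalizer (h.mul_self he) ?_
    rintro _ ⟨j, rfl⟩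
    refine ⟨j, ?_⟩
    show k ^ j = e * k ^ j * e⁻¹
    rw [(hek.zpow_right j).eq]; group
  obtain ⟨c, hc, hce⟩ := h.exists_conj_mem (normalizer (zpowers k : Set G)) (Ne.symm hne) ht
    (conj_mem_At n ht) htn (mul_mem (mul_mem hn htn) (inv_mem hn)) he ht.1 hen htn
  have hck : c⁻¹ * k * c ∈ zpowers k := by
    have := (mem_normalizer_iff.mp (inv_mem hc) k).mp (mem_zpowers k)
    rwa [inv_inv] at this
  have hek' : Commute e (c⁻¹ * k * c) := by
    obtain ⟨j, hj⟩ := hck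
    have hj' : k ^ j = c⁻¹ * k * c := hj
    rw [← hj']
    exact hek.zpow_right j
  have htk : t * k * t⁻¹ = k := by
    have h1 : t * k = k * t := by
      rw [← hce]
      calc c * e * c⁻¹ * k = c * (e * (c⁻¹ * k * c)) * c⁻¹ := by group
        _ = c * ((c⁻¹ * k * c) * e) * c⁻¹ := by rw [hek'.eq]
        _ = k * (c * e * c⁻¹) := by group
    rw [h1]; group
  have h2 : k * k = 1 := by
    rw [hinv] at htk
    calc k * k = k⁻¹ * k := by rw [htk]
      _ = 1 := by group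
  have h3 : orderOf k ∣ 2 := orderOf_dvd_of_pow_eq_one (by rw [pow_two]; exact h2)
  rcases (Nat.dvd_prime Nat.prime_two).mp h3 with h4 | h4
  · exact hk (orderOf_eq_one_iff.mp h4)
  · rw [h4] at hko
    exact (Nat.not_even_iff_odd.mpr hko) (by decide)

/-- (4), applied form: for all `x ≠ y` some `t ∈ D ∩ I(x,y)` inverts an element `k` of order `p` of
`G_{xy}`, centralised by an element of `D`, and `N(⟨k⟩)` fixes the fixed point `g` of `t`. -/
theorem exists_bad_elem [Finite G] (h : Setup G Ω z)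
    (hf : ∀ g : G, (∀ a : Ω, g • a = a) → g = 1) {p : ℕ} (hd : Dag G Ω z p) {U : Subgroup G}
    (hU : IsPGroup p U) {w₁ w₂ : G} (hw₁ : IsConj z w₁) (hw₂ : IsConj z w₂) (hne : w₁ ≠ w₂)
    (hc : Commute w₁ w₂) (hn₁ : w₁ ∈ normalizer (U : Set G)) (hn₂ : w₂ ∈ normalizer (U : Set G))
    (hmv : ∃ u ∈ U, ¬ Commute w₁ u) {x y : Ω} (hxy : x ≠ y) :
    ∃ t ∈ Sw z x y, ∃ (k : G) (g : Ω), orderOf k = p ∧ k ∈ stab2 G x y ∧ t * k * t⁻¹ = k⁻¹ ∧
      t • g = g ∧ k • g = g ∧ (∃ e : G, IsConj z e ∧ Commute e k) ∧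
      ∀ n ∈ normalizer (zpowers k : Set G), n • g = g := by
  have hp : Fact p.Prime := ⟨hd.prime⟩
  obtain ⟨v, hv, -, k, hkU, hkp, hvk, hki⟩ := exists_inverted hd.odd hU (h.mul_self hw₁)
    (h.mul_self hw₂) hc hn₁ hn₂ hmv
  have hvz : IsConj z v := by
    rcases hv with rfl | rfl
    · exact hw₂
    · exact mul_mem_class h hf hw₁ hw₂ hc hne
  obtain ⟨g, hg⟩ := h.ex hw₁
  obtain ⟨b, hb, hbg⟩ := exists_fx_ne h hd hU g
  have hwb : b ≠ w₁ • b := fun hh => hbg (h.uniq hw₁ hh.symm hg)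
  have hwbU : w₁ • b ∈ Fx Ω U := smul_mem_Fx hn₁ hb
  -- move `(b, w₁ b)` to `(x, y)`
  obtain ⟨c, hcb⟩ := h.trans b x
  obtain ⟨c', hc'x, hc'y⟩ := Dag.two_trans h hd (a := x) (b := c • w₁ • b) (c := y)
    (fun hh => hwb (smul_left_cancel c (hcb.trans hh))) hxy
  have e1 : (c' * c) • b = x := by rw [mul_smul, hcb, hc'x]
  have e2 : (c' * c) • (w₁ • b) = y := by rw [mul_smul, hc'y]
  set m := c' * c with hm
  have hko : Odd (orderOf k) := by rw [hkp]; exact hd.odd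
  have hk1 : k ≠ 1 := by
    rintro rfl
    rw [orderOf_one] at hkp
    exact hp.out.one_lt.ne hkp
  have hN := normalizer_zpowers_le h (g := g) ⟨hw₁, hg⟩ hk1 hko hki hvz hvk
  have hkn : k ∈ normalizer (zpowers k : Set G) := le_normalizer (mem_zpowers k)
  refine ⟨m * w₁ * m⁻¹, ?_, m * k * m⁻¹, m • g, ?_, ?_, ?_, ?_, ?_, ⟨m * v * m⁻¹, ?_, ?_⟩, ?_⟩
  · have := conj_mem_Sw m (⟨hw₁, rfl⟩ : w₁ ∈ Sw z b (w₁ • b))
    rwa [e1, e2] at this
  · rw [orderOf_conj, hkp]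
  · have := conj_mem_stab2 m (a := b) (b := w₁ • b) (j := k) ⟨hb k hkU, hwbU k hkU⟩
    rwa [e1, e2] at this
  · calc m * w₁ * m⁻¹ * (m * k * m⁻¹) * (m * w₁ * m⁻¹)⁻¹ = m * (w₁ * k * w₁⁻¹) * m⁻¹ := by group
      _ = (m * k * m⁻¹)⁻¹ := by rw [hki]; group
  · rw [mul_smul, mul_smul, inv_smul_smul, hg]
  · rw [mul_smul, mul_smul, inv_smul_smul, hN k hkn]
  · exact conj_mem hvz m
  · show m * v * m⁻¹ * (m * k * m⁻¹) = m * k * m⁻¹ * (m * v * m⁻¹)
    calc m * v * m⁻¹ * (m * k * m⁻¹) = m * (v * k) * m⁻¹ := by group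
      _ = m * (k * v) * m⁻¹ := by rw [hvk.eq]
      _ = _ := by group
  · intro n hn
    have hn' : m⁻¹ * n * m ∈ normalizer (zpowers k : Set G) := by
      have hz : ∀ r : G, r ∈ zpowers (m * k * m⁻¹) ↔ m⁻¹ * r * m ∈ zpowers k := by
        intro r
        constructor
        · rintro ⟨j, rfl⟩
          refine ⟨j, ?_⟩
          show k ^ j = m⁻¹ * (m * k * m⁻¹) ^ j * m
          rw [conj_zpow]; group
        · rintro ⟨j, hj⟩
          refine ⟨j, ?_⟩
          have hj' : k ^ j = m⁻¹ * r * m := hj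
          show (m * k * m⁻¹) ^ j = r
          rw [conj_zpow, hj']; group
      rw [mem_normalizer_iff] at hn ⊢
      intro r
      have h1 := hn (m * r * m⁻¹)
      have h2 : r ∈ zpowers k ↔ m * r * m⁻¹ ∈ zpowers (m * k * m⁻¹) := by
        rw [hz]
        have : m⁻¹ * (m * r * m⁻¹) * m = r := by group
        rw [this]
      have h3 : m⁻¹ * n * m * r * (m⁻¹ * n * m)⁻¹ ∈ zpowers k ↔
          n * (m * r * m⁻¹) * n⁻¹ ∈ zpowers (m * k * m⁻¹) := by
        rw [hz]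
        have : m⁻¹ * (n * (m * r * m⁻¹) * n⁻¹) * m = m⁻¹ * n * m * r * (m⁻¹ * n * m)⁻¹ := by group
        rw [this]
      rw [h2, h3]
      exact h1
    have h4 := hN _ hn'
    rw [mul_smul, mul_smul, inv_smul_eq_iff] at h4
    exact h4

end Cfsg.Agent.AschCrit.RGoodPair
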