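import Cfsg.Agent.AschCrit.RankOneCard
import Cfsg.Agent.S1119
import Cfsg.Agent.S1122

/-!
# The three cases of simple rank-one set-ups

`type_cases` : `PSL(2, q)`, Suzuki groups, or the unitary case in coordinates
(`exists_coord_of_torus`, the coordinates behind `UThreeMain.nonempty_mulEquiv_of_torus`).
-/

set_option autoImplicit false

open Cfsg

namespace Cfsg.Agent.AschCrit.RankOneCases

open MulAction Subgroup Cfsg.Agent Cfsg.Agent.SuzukiRankOne
  Cfsg.Agent.SuzukiRankOne.Assembly Cfsg.Agent.LieRecognition Cfsg.Agent.LieRecognition.HermHeis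

/-! ### The unitary case in coordinates -/

section UThree

open Matrix SLTwoRel SingerField UThreeReg UThreeAlg UThreeCoord UThreeMain

variable {G Ω : Type*} [Group G] [MulAction G Ω] {a : Ω} {t : G} {Q : Subgroup G}
  {F : Type} [Field F] [Fintype F] [CharP F 2] [MulDistribMulAction Fˣ Q] {κ : Fˣ →* G} {δ : F → Q}

/-- The coordinates behind `UThreeMain.nonempty_mulEquiv_of_torus`. -/
theorem exists_coord_of_torus [Finite G] [FaithfulSMul G Ω]
    (hS : Cfsg.IsRankOneSetup G Ω a t Q)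
    (h2 : ∃ x y : G, x ≠ 1 ∧ y ≠ 1 ∧ x ≠ y ∧ x * x = 1 ∧ y * y = 1 ∧ x * y = y * x)
    (T : Torus a t Q F κ δ) (hrs : t * δ 1 * t = δ 1 * t * δ 1)
    (hcard : Nat.card Q = Nat.card F ^ 3) (hsq : ∀ x : Q, x * x ∈ Set.range δ) :
    ∃ (L : Type) (_ : Field L) (_ : Fintype L) (_ : CharP L 2) (σ : L →+* L)
      (_ : Fact (∀ x, σ (σ x) = x)) (n : ℕ), 2 ≤ n ∧ Fintype.card L = (2 ^ n) ^ 2 ∧
      (∀ x, σ x = x ^ (2 ^ n)) ∧ ∃ φ : Q ≃* Heis σ,
        ∀ x : Q, x ≠ 1 → ∃ h ∈ MulAction.stabilizer G a, ∃ y : Q, t * x * t = h * t * y ∧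
          (φ y).a = (φ x).a / (φ x).b ∧ (φ y).b = ((φ x).b)⁻¹ := by
  classical
  have : Fact (Nat.Prime 2) := ⟨Nat.prime_two⟩
  obtain ⟨n, -, hn⟩ := FiniteField.card F 2
  have hn2 := two_le hS h2 T hn
  obtain ⟨sq, Tp, Bt, H, Hg⟩ := exists_coord hS h2 T hrs hcard hsq
  obtain ⟨L, iF, iFt, iC, σ, iσ, hcardL, hfrob, φ, hφa, hφb, hφ⟩ := exists_heis H n hn
  refine ⟨L, iF, iFt, iC, σ, iσ, n, hn2, hcardL, hfrob, φ, ?_⟩
  have B := blk_of_torus hS T hrs
  intro x hx1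
  by_cases hx : x ∈ Set.range δ
  · obtain ⟨c, rfl⟩ := hx
    have hc : c ≠ 0 := by
      rintro rfl
      exact hx1 H.zero
    obtain ⟨u, hu⟩ : ∃ u : Fˣ, (u : F) = c := ⟨Units.mk0 c hc, rfl⟩
    have hinv : ((u⁻¹ : Fˣ) : F) = c⁻¹ := by rw [Units.val_inv_eq_inv_val, hu]
    have h3 := B.rel.te u
    simp only [hu, hinv] at h3
    refine ⟨_, ?_, δ c⁻¹, h3, ?_, hφb c⟩
    · exact Subgroup.mul_mem _ (hS.le (δ c⁻¹).2) (B.k_mem _).1
    · rw [hφa, hφa, zero_div]
  · -- the general case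
    have hx1' : (x : G) ≠ 1 := fun h => hx1 (Subtype.ext h)
    have hw : t * (x : G) * t ∉ stabilizer G a := fun h =>
      hx1' (RankOneForm.eq_one_of_conj_mem hS x.2 h)
    obtain ⟨⟨w, f⟩, ⟨hwa, hfQ, hwf⟩, -⟩ := Cfsg.Agent.S1119.canonical hS _ hw
    simp only at hwa hfQ hwf
    obtain ⟨y, hy⟩ : ∃ y : Q, (y : G) = f := ⟨⟨f, hfQ⟩, rfl⟩
    rw [← hy] at hwf
    refine ⟨w, hwa, y, hwf, ?_⟩
    have hxi : x⁻¹ ∉ Set.range δ := H.inv_not_mem hx
    have h3 : t • ((x⁻¹ : Q) : G) • t • a = ((y⁻¹ : Q) : G) • t • a := by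
      have e2 : t • ((x⁻¹ : Q) : G) • t • a = (t * (x : G) * t)⁻¹ • a := by
        rw [_root_.mul_inv_rev, _root_.mul_inv_rev, RankOneBasic.t_inv hS, mul_smul, mul_smul,
          Subgroup.coe_inv]
      rw [e2, hwf, _root_.mul_inv_rev, _root_.mul_inv_rev, RankOneBasic.t_inv hS, mul_smul, mul_smul,
        Subgroup.coe_inv]
      congr 2
      rw [inv_smul_eq_iff]
      exact hwa.symm
    have hyi : y⁻¹ ∉ Set.range δ := by
      rintro ⟨z, hz⟩
      -- `t x⁻¹ t a` lies outside the block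
      have h4 : ((x⁻¹ : Q) : G) • t • a ∈ Del a t (fun x => ((δ x : Q) : G)) := by
        have h5 : t • ((x⁻¹ : Q) : G) • t • a ∈ Del a t (fun x => ((δ x : Q) : G)) := by
          rw [h3, ← hz]
          exact e_mem a t _ z
        have h6 := B.t_del hS h5
        rwa [RankOneBasic.t_smul_t_smul hS] at h6
      rcases h4 with h4 | ⟨z', h4⟩
      · exact RankOneBasic.smul_ne_of_mem (hS.le (x⁻¹).2) (RankOneBasic.t_smul_ne hS) h4
      · have h5 := RankOneBasic.eq_of_smul_eq_smul hS (x⁻¹).2 (δ z').2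
          (RankOneBasic.t_smul_ne hS) h4
        exact hxi ⟨z', Subtype.ext h5.symm⟩
    have hyR : y ∉ Set.range δ := by
      have h4 := H.inv_not_mem hyi
      rwa [inv_inv] at h4
    obtain ⟨h4, h5⟩ := Hg _ _ hxi hyi h3
    have hB : Bt y = Tp x + sq x • Bt x := by
      rw [← H.B_inv hyR, h5, H.T_inv hx]
    have hT : Tp y = Bt x + sq y • Bt y := by
      have h6 := H.T_inv hyi
      rw [inv_inv, H.sq_inv, H.B_inv hyR, h4, H.B_inv hx] at h6
      exact h6
    exact hφ x y hx hyR hB hT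

end UThree

variable {G Ω : Type*} [Group G] [Finite G] [MulAction G Ω] {a : Ω} {t : G} {Q : Subgroup G}

/-- **The three types.** -/
theorem type_cases [FaithfulSMul G Ω] [IsSimpleGroup G] (hS : IsRankOneSetup G Ω a t Q)
    (h2 : ∃ x y : G, x ≠ 1 ∧ y ≠ 1 ∧ x ≠ y ∧ x * x = 1 ∧ y * y = 1 ∧ x * y = y * x) :
    ((∀ x ∈ Q, x * x = 1) ∧
      Nat.card Q = Nat.card (involutionsIn (stabilizer G a : Set G)) + 1 ∧
      ∃ (F : Type) (_ : Field F) (_ : Fintype F), (∃ n : ℕ, 2 ≤ n ∧ Fintype.card F = 2 ^ n) ∧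
        Nonempty (G ≃* Matrix.ProjectiveSpecialLinearGroup (Fin 2) F)) ∨
    (Nat.card Q = (Nat.card (involutionsIn (stabilizer G a : Set G)) + 1) ^ 2 ∧
      (∀ x ∈ Q, (x * x) * (x * x) = 1) ∧ Lie.IsoSuzuki G) ∨
    (Nat.card Q = (Nat.card (involutionsIn (stabilizer G a : Set G)) + 1) ^ 3 ∧
      ∃ (L : Type) (_ : Field L) (_ : Fintype L) (_ : CharP L 2) (σ : L →+* L)
        (_ : Fact (∀ x, σ (σ x) = x)) (n : ℕ), 2 ≤ n ∧ Fintype.card L = (2 ^ n) ^ 2 ∧
        (∀ x, σ x = x ^ (2 ^ n)) ∧ ∃ φ : Q ≃* Heis σ,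
          ∀ x : Q, x ≠ 1 → ∃ h ∈ MulAction.stabilizer G a, ∃ y : Q, t * x * t = h * t * y ∧
            (φ y).a = (φ x).a / (φ x).b ∧ (φ y).b = ((φ x).b)⁻¹) := by
  obtain ⟨hcen, hclosed⟩ := S1130.result hS h2
  have hK := S1131.result hS h2
  obtain ⟨C, hC, hCc, -⟩ := id hK
  obtain ⟨⟨s, r⟩, ⟨hs, hr, hsr⟩, -⟩ := S1123.result hS
  simp only at hs hr hsr
  have hgen := Generate.closure_eq_top hS
  have hQ2 := M1.isPGroup_Q hS h2
  by_cases hall : ∀ x ∈ Q, x * x = 1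
  · refine Or.inl ⟨hall, ?_, PSLTwoCase.main hS h2 hgen hcen C hC hCc hall⟩
    have h1 : (Q : Set G) = insert 1 (involutionsIn (stabilizer G a : Set G)) := by
      ext g
      constructor
      · intro hg
        by_cases hg1 : g = 1
        · left; exact hg1
        · right; exact ⟨hS.le hg, hg1, hall g hg⟩
      · rintro (rfl | hg)
        · exact Q.one_mem
        · exact (hcen g hg).1
    have h3 : Nat.card Q = (Q : Set G).ncard := Nat.card_coe_set_eq _
    rw [h3, h1, Set.ncard_insert_of_notMem, ← Nat.card_coe_set_eq]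
    rintro ⟨-, h, -⟩
    exact h rfl
  right
  by_cases hrs : r = s
  · -- `r = s` : unitary groups
    right
    subst hrs
    have hinv : r⁻¹ = r := inv_eq_of_mul_eq_one_left hs.2.2
    rw [hinv] at hsr
    obtain ⟨F, iF, iFt, iFc, κ, iA, δ, T, hδ1⟩ :=
      SingerField.exists_torus hS hcen C hC hCc r hs
    obtain ⟨hsq, -, hcard⟩ := TranslationMain.main hS h2 T (by rw [hδ1]; exact hsr)
    have hcard' := hcard.resolve_left hall
    refine ⟨by rw [hcard', UThreeMain.card_field hS T], ?_⟩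
    refine exists_coord_of_torus hS h2 T (by rw [hδ1]; exact hsr) hcard' ?_
    intro x
    rw [UThreeMain.mem_range_iff hS T]
    by_cases h1 : (x : G) * x = 1
    · exact Or.inl h1
    · exact Or.inr ⟨hS.le (Q.mul_mem x.2 x.2), h1, hsq x x.2⟩
  · -- `r ≠ s` : Suzuki groups
    left
    have : Fact (Nat.Prime 2) := ⟨Nat.prime_two⟩
    have hnab : ¬ ∀ x ∈ Q, ∀ y ∈ Q, x * y = y * x := fun h =>
      hrs (AbelianCase.r_eq_s hS h2 C hC hQ2 h s r hs hr hsr)
    let S : Sylow 2 Q := default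
    have hST : (S : Subgroup Q) = ⊤ :=
      (S.is_maximal' (hQ2.of_equiv Subgroup.topEquiv.symm) le_top).symm
    have hSuz : IsSuzukiTwoGroup ↥(S : Subgroup Q) := by
      rcases S1132.result hS h2 S with h | h
      · exfalso
        apply hnab
        intro x hx y hy
        have hmem : ∀ x : Q, x ∈ (S : Subgroup Q) := fun x => by
          rw [hST]
          exact Subgroup.mem_top x
        have h3 := h.is_comm.comm (⟨⟨x, hx⟩, hmem _⟩ : (S : Subgroup Q)) ⟨⟨y, hy⟩, hmem _⟩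
        exact congrArg (fun z : (S : Subgroup Q) => ((z : Q) : G)) h3
      · exact h
    obtain ⟨h4, hcard, n, hn⟩ := of_suzuki hS hcen S hST hSuz
    have hr2 : r * r = s := OrderFive.sq_eq hS hcen hclosed hs hr hsr hrs (h4 r hr)
    have hcard' : Nat.card Q = (Nat.card (involutionsIn (stabilizer G a : Set G)) + 1) ^ 2 := by
      refine hcard.resolve_right ?_
      rw [hn]
      exact OrderFive.card_ne_cube hS hcen hclosed hC hs hr hsr hrs (h4 r hr) hn
    exact ⟨hcard', h4, SzCase.isoSuzuki hS h2 hK hs hr hsr hr2 hcard'⟩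

end Cfsg.Agent.AschCrit.RankOneCases
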