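import Cfsg.Agent.AschCrit.RankOneCases
import Cfsg.Agent.ClassicalGeometry.PSL2Basic
import Cfsg.Agent.S1119
import Cfsg.Agent.S1122
import Cfsg.Agent.S1124
import Cfsg.Agent.S1126
import Cfsg.Agent.S1163

/-!
# The three types of simple rank-one set-ups

`q = 2 ^ k`, `q - 1` the number of involutions of `G_a`, `|Q| = q ^ i`.

* `exists_conj` (T0) : `G_{ab}` is transitive on the involutions of `G_a`
* `one_iff` : `i = 1` if and only if `Q` has exponent two
* `i ≤ 2` : `G_{ab}` is cyclic of order `q - 1` (`card_stab2_eq`, `isCyclic_of_le_two`),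
  `C_{G_{ab}}(t) = 1` (`inf_centralizer_eq_bot_of_le_two`), only `1` fixes three points
  (`eq_one_of_le_two`)
* `type_two'` : `i = 2`: `k` odd, `Q` of exponent four

The third type is in `RankOneThree.lean`.
-/

set_option autoImplicit false

open Cfsg

namespace Cfsg.Agent.AschCrit.RankOneTypes

open MulAction Subgroup Cfsg.Agent Cfsg.Agent.SuzukiRankOne RankOneCases
  Cfsg.Agent.SuzukiRankOne.Assembly Cfsg.Agent.LieRecognition Cfsg.Agent.LieRecognition.HermHeis

variable {G Ω : Type*} [Group G] [Finite G] [MulAction G Ω] {a : Ω} {t : G} {Q : Subgroup G}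

/-! ### General facts -/

/-- (T0) `G_{ab}` is transitive on the involutions of `G_a`. -/
theorem exists_conj (hS : IsRankOneSetup G Ω a t Q) {s s' : G}
    (hs : s ∈ involutionsIn (stabilizer G a : Set G))
    (hs' : s' ∈ involutionsIn (stabilizer G a : Set G)) :
    ∃ d ∈ stabilizer G a ⊓ stabilizer G (t • a), d * s * d⁻¹ = s' := by
  obtain ⟨k, hk, h⟩ := (S1122.result hS).2 s hs s' hs'
  exact ⟨k⁻¹, inv_mem hk.1, by rw [inv_inv]; exact h⟩

theorem card_eq (hS : IsRankOneSetup G Ω a t Q) :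
    Nat.card G = Nat.card Q * Nat.card ↥(stabilizer G a ⊓ stabilizer G (t • a)) *
      (Nat.card Q + 1) :=
  (S1119.result hS).2.2.1

/-- `|G_{ab}| = |C_{G_{ab}}(t)| (q - 1)`. -/
theorem card_stab2 (hS : IsRankOneSetup G Ω a t Q) :
    Nat.card ↥(stabilizer G a ⊓ stabilizer G (t • a)) =
      Nat.card ↥((stabilizer G a ⊓ stabilizer G (t • a)) ⊓ centralizer ({t} : Set G)) *
        Nat.card (involutionsIn (stabilizer G a : Set G)) := by
  have ht : orderOf t = 2 := orderOf_eq_prime (by rw [pow_two, hS.mul_self]) hS.ne_one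
  have hinv := RankOneBasic.t_inv hS
  have hn : ∀ x ∈ stabilizer G a ⊓ stabilizer G (t • a), t * x * t⁻¹ ∈
      stabilizer G a ⊓ stabilizer G (t • a) := by
    intro x hx
    obtain ⟨h1, h2⟩ := Subgroup.mem_inf.mp hx
    rw [mem_stabilizer_iff] at h1 h2
    refine Subgroup.mem_inf.mpr ⟨?_, ?_⟩
    · rw [mem_stabilizer_iff, mul_smul, mul_smul, hinv, h2,
        RankOneBasic.t_smul_t_smul hS]
    · rw [mem_stabilizer_iff, mul_smul, mul_smul, inv_smul_smul, h1]
  rw [(S1124.result t ht _ hS.odd_card hn).2.1, (S1122.result hS).1]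

/-- If `|G_{ab}| = q - 1` then `C_{G_{ab}}(t) = 1`. -/
theorem inf_centralizer_eq_bot (hS : IsRankOneSetup G Ω a t Q)
    (hD : Nat.card ↥(stabilizer G a ⊓ stabilizer G (t • a)) =
      Nat.card (involutionsIn (stabilizer G a : Set G))) :
    (stabilizer G a ⊓ stabilizer G (t • a)) ⊓ centralizer ({t} : Set G) = ⊥ := by
  have h := card_stab2 hS
  have hpos : 0 < Nat.card ↥(stabilizer G a ⊓ stabilizer G (t • a)) := Nat.card_pos
  rw [← hD] at h
  have h1 : Nat.card ↥((stabilizer G a ⊓ stabilizer G (t • a)) ⊓ centralizer ({t} : Set G)) = 1 := by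
    have h2 : 1 * Nat.card ↥(stabilizer G a ⊓ stabilizer G (t • a)) =
        Nat.card ↥((stabilizer G a ⊓ stabilizer G (t • a)) ⊓ centralizer ({t} : Set G)) *
          Nat.card ↥(stabilizer G a ⊓ stabilizer G (t • a)) := by rw [one_mul]; exact h
    exact (Nat.eq_of_mul_eq_mul_right hpos h2).symm
  exact Subgroup.card_eq_one.mp h1

/-- If `C_{G_{ab}}(t) = 1` then only `1` fixes three points. -/
theorem eq_one_of_fix_three (hS : IsRankOneSetup G Ω a t Q)
    (hV : (stabilizer G a ⊓ stabilizer G (t • a)) ⊓ centralizer ({t} : Set G) = ⊥) {g : G}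
    {b c d : Ω} (hbc : b ≠ c) (hbd : b ≠ d) (hcd : c ≠ d) (hb : g • b = b) (hc : g • c = c)
    (hd : g • d = d) : g = 1 := by
  obtain ⟨h, h1, h2⟩ := RankOneBasic.exists_smul_pair hS hbc (RankOneBasic.t_smul_ne hS).symm
  have e : ∀ x : Ω, g • x = x → (h * g * h⁻¹) • (h • x) = h • x := by
    intro x hx
    rw [mul_smul, mul_smul, inv_smul_smul, hx]
  have hX0 : h * g * h⁻¹ ∈ stabilizer G a ⊓ stabilizer G (t • a) := by
    refine Subgroup.mem_inf.mpr ⟨?_, ?_⟩
    · rw [mem_stabilizer_iff]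
      have := e b hb
      rwa [h1] at this
    · rw [mem_stabilizer_iff]
      have := e c hc
      rwa [h2] at this
  have hX : ({h * g * h⁻¹} : Set G) ⊆
      ((stabilizer G a ⊓ stabilizer G (t • a) : Subgroup G) : Set G) := by
    rintro _ rfl
    exact hX0
  obtain ⟨k, hk, hkt⟩ := S1126.result hS _ hX ⟨h • b, h • c, h • d,
    fun hh => hbc (smul_left_cancel h hh), fun hh => hbd (smul_left_cancel h hh),
    fun hh => hcd (smul_left_cancel h hh), by
      rintro _ rfl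
      exact ⟨e b hb, e c hc, e d hd⟩⟩
  have h3 := hkt _ rfl
  have h4 : k * (h * g * h⁻¹) * k⁻¹ ∈
      (stabilizer G a ⊓ stabilizer G (t • a)) ⊓ centralizer ({t} : Set G) :=
    Subgroup.mem_inf.mpr ⟨Subgroup.mul_mem _ (Subgroup.mul_mem _ hk hX0) (Subgroup.inv_mem _ hk),
      mem_centralizer_singleton_iff.mpr h3⟩
  rw [hV, mem_bot] at h4
  have h5 : g = (k * h)⁻¹ * (k * (h * g * h⁻¹) * k⁻¹) * (k * h) := by group
  rw [h5, h4]
  group

/-- If `|G_{ab}| = q - 1` then `G_{ab}` is cyclic. -/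
theorem isCyclic_stab2 [FaithfulSMul G Ω] (hS : IsRankOneSetup G Ω a t Q)
    (h2 : ∃ x y : G, x ≠ 1 ∧ y ≠ 1 ∧ x ≠ y ∧ x * x = 1 ∧ y * y = 1 ∧ x * y = y * x)
    (hD : Nat.card ↥(stabilizer G a ⊓ stabilizer G (t • a)) =
      Nat.card (involutionsIn (stabilizer G a : Set G))) :
    IsCyclic ↥(stabilizer G a ⊓ stabilizer G (t • a)) := by
  obtain ⟨C, hC, hCc, -⟩ := S1131.result hS h2
  have h1 : C ≤ stabilizer G a ⊓ stabilizer G (t • a) := by
    intro x hx
    have hx' : x ∈ (C : Set G) := hx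
    rw [hC] at hx'
    exact hx'.1
  have h3 : Nat.card C = Nat.card (involutionsIn (stabilizer G a : Set G)) := by
    rw [← (S1122.result hS).1, ← hC]
    rfl
  have h4 : C = stabilizer G a ⊓ stabilizer G (t • a) :=
    Subgroup.eq_of_le_of_card_ge h1 (by rw [h3, hD])
  rw [← h4]
  exact hCc

theorem two_part {a b u v : ℕ} (hu : Odd u) (hv : Odd v) (h : 2 ^ a * u = 2 ^ b * v) :
    2 ^ a = 2 ^ b ∧ u = v := by
  have e : 2 ^ a = 2 ^ b := by
    apply Nat.dvd_antisymm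
    · exact (Nat.Coprime.pow_left a (Nat.coprime_two_left.mpr hv)).dvd_of_dvd_mul_right
        (h ▸ Dvd.intro _ rfl)
    · exact (Nat.Coprime.pow_left b (Nat.coprime_two_left.mpr hu)).dvd_of_dvd_mul_right
        (h ▸ Dvd.intro _ rfl)
  rw [e] at h
  exact ⟨e, Nat.eq_of_mul_eq_mul_left (by positivity) h⟩

/-- The order of `G_{ab}` from the order of `G`. -/
theorem card_stab2_mul (hS : IsRankOneSetup G Ω a t Q) {j e m : ℕ} (hj : Nat.card Q = 2 ^ j)
    (hG : Nat.card G = 2 ^ e * m) (hm : Odd m) :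
    2 ^ j = 2 ^ e ∧ Nat.card ↥(stabilizer G a ⊓ stabilizer G (t • a)) * (2 ^ j + 1) = m := by
  have hj1 : Even (2 ^ j) := by rw [← hj]; exact hS.even_card
  have h := card_eq hS
  rw [hj, hG, mul_assoc] at h
  obtain ⟨h1, h2⟩ := two_part (hS.odd_card.mul hj1.add_one) hm h.symm
  exact ⟨h1, h2⟩

theorem pow_two_inj {k i j : ℕ} (hk : 2 ≤ k) (h : (2 ^ k) ^ i = (2 ^ k) ^ j) : i = j := by
  have h1 : 2 ≤ 2 ^ k := by
    calc 2 ≤ 2 ^ 1 := by norm_num
      _ ≤ 2 ^ k := Nat.pow_le_pow_right (by norm_num) (by omega)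
  exact Nat.pow_right_injective h1 h

omit [Finite G] in
theorem one_le_of_card (hS : IsRankOneSetup G Ω a t Q) {k i : ℕ}
    (hi : Nat.card Q = (2 ^ k) ^ i) : 1 ≤ i := by
  by_contra h
  have h0 : i = 0 := by omega
  rw [h0, pow_zero] at hi
  have h1 := hS.even_card
  rw [hi] at h1
  exact absurd h1 (by decide)

/-! ### The type and the exponent of `Q` -/

section Types

variable [FaithfulSMul G Ω] [IsSimpleGroup G] (hS : IsRankOneSetup G Ω a t Q)
  (h2 : ∃ x y : G, x ≠ 1 ∧ y ≠ 1 ∧ x ≠ y ∧ x * x = 1 ∧ y * y = 1 ∧ x * y = y * x)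
  {k i : ℕ} (hk : 2 ≤ k)
  (hq : Nat.card (involutionsIn (stabilizer G a : Set G)) + 1 = 2 ^ k)
  (hi : Nat.card Q = (2 ^ k) ^ i)

include hS h2 hq hi

theorem one_iff (hk : 2 ≤ k) : i = 1 ↔ ∀ x ∈ Q, x * x = 1 := by
  have hcen := (S1130.result hS h2).1
  have h1 : (insert 1 (involutionsIn (stabilizer G a : Set G))).ncard = 2 ^ k := by
    rw [Set.ncard_insert_of_notMem, ← Nat.card_coe_set_eq, hq]
    rintro ⟨-, h, -⟩
    exact h rfl
  have h3 : Nat.card Q = (Q : Set G).ncard := Nat.card_coe_set_eq _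
  constructor
  · rintro rfl
    have h4 : insert 1 (involutionsIn (stabilizer G a : Set G)) ⊆ (Q : Set G) := by
      rintro x (rfl | hx)
      · exact Q.one_mem
      · exact (hcen x hx).1
    have h5 := Set.eq_of_subset_of_ncard_le h4 (by rw [h1, ← h3, hi, pow_one]) (Set.toFinite _)
    intro x hx
    have h6 : x ∈ insert 1 (involutionsIn (stabilizer G a : Set G)) := by
      rw [h5]
      exact hx
    rcases h6 with rfl | h6
    · exact mul_one 1
    · exact h6.2.2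
  · intro hall
    have h4 : (Q : Set G) ⊆ insert 1 (involutionsIn (stabilizer G a : Set G)) := by
      intro x hx
      by_cases hx1 : x = 1
      · left; exact hx1
      · right; exact ⟨hS.le hx, hx1, hall x hx⟩
    have h5 := Set.ncard_le_ncard h4 (Set.toFinite _)
    rw [h1, ← h3, hi] at h5
    have h6 : (2 ^ k) ^ i ≤ (2 ^ k) ^ 1 := by rwa [pow_one]
    have h7 := one_le_of_card hS hi
    have h8 : i ≤ 1 := (Nat.pow_le_pow_iff_right (Nat.one_lt_two_pow (by omega))).mp h6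
    omega

/-- (T2) `q` is an odd power of two, `q ≥ 8`, and `Q` has exponent four; the order of `G_{ab}`. -/
theorem type_two' (hk : 2 ≤ k) (hi2 : i = 2) :
    Odd k ∧ 3 ≤ k ∧ (∀ x ∈ Q, (x * x) * (x * x) = 1) ∧
      Nat.card ↥(stabilizer G a ⊓ stabilizer G (t • a)) = 2 ^ k - 1 := by
  rcases type_cases hS h2 with ⟨-, h, -⟩ | ⟨-, h4, hSz⟩ | ⟨h, -⟩
  · rw [hq, hi] at h
    have := pow_two_inj hk (h.trans (pow_one _).symm)
    omega
  · obtain ⟨F, _, _, m, hm, hF, ⟨e⟩⟩ := hSz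
    have hG : Nat.card G = 2 ^ ((2 * m + 1) * 2) * ((2 ^ (2 * m + 1) - 1) * ((2 ^ (2 * m + 1)) ^ 2 + 1)) := by
      rw [Nat.card_congr e.toEquiv, (S1163.result hm hF).1, pow_mul]
      ring
    have ho1 : Odd (2 ^ (2 * m + 1) - 1) :=
      Nat.Even.sub_odd Nat.one_le_two_pow ((Nat.even_pow' (by omega)).mpr even_two) odd_one
    have ho2 : Odd ((2 ^ (2 * m + 1)) ^ 2 + 1) :=
      ((Nat.even_pow' (by norm_num)).mpr ((Nat.even_pow' (by omega)).mpr even_two)).add_one
    have hQ : Nat.card Q = 2 ^ (k * 2) := by rw [hi, hi2, pow_mul]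
    obtain ⟨h5, h6⟩ := card_stab2_mul hS hQ hG (ho1.mul ho2)
    have h7 : k * 2 = (2 * m + 1) * 2 := Nat.pow_right_injective le_rfl h5
    have h8 : k = 2 * m + 1 := by omega
    refine ⟨⟨m, h8⟩, by omega, h4, ?_⟩
    rw [← h8, ← pow_mul] at h6
    exact Nat.eq_of_mul_eq_mul_right (by positivity) h6
  · rw [hq, hi] at h
    have := pow_two_inj hk h
    omega

theorem type_one' (hk : 2 ≤ k) (hi1 : i = 1) :
    Nat.card ↥(stabilizer G a ⊓ stabilizer G (t • a)) = 2 ^ k - 1 := by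
  rcases type_cases hS h2 with ⟨-, h, F, _, _, ⟨n, hn2, hn⟩, ⟨e⟩⟩ | ⟨h, -, -⟩ | ⟨h, -⟩
  · have hG : Nat.card G = 2 ^ n * ((2 ^ n) ^ 2 - 1) := by
      rw [Nat.card_congr e.toEquiv, ClassicalGeometry.PSL2Basic.card_PSL2_even F, hn]
      rw [hn]
      exact (Nat.even_pow' (by omega)).mpr even_two
    have hQ : Nat.card Q = 2 ^ k := by rw [hi, hi1, pow_one]
    obtain ⟨h5, h6⟩ := card_stab2_mul hS hQ hG
      (Nat.Even.sub_odd (Nat.one_le_pow _ _ (by positivity))
        ((Nat.even_pow' (by norm_num)).mpr ((Nat.even_pow' (by omega)).mpr even_two)) odd_one)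
    rw [← h5] at h6
    have h7 : (2 ^ k) ^ 2 - 1 = (2 ^ k - 1) * (2 ^ k + 1) := by
      have h8 : 1 ≤ 2 ^ k := Nat.one_le_two_pow
      obtain ⟨c, hc⟩ := Nat.exists_eq_add_of_le h8
      rw [hc]
      simp only [Nat.add_sub_cancel_left]
      have h9 : (1 + c) ^ 2 = 1 + c * (1 + c + 1) := by ring
      rw [h9, Nat.add_sub_cancel_left]
    rw [h7] at h6
    exact Nat.eq_of_mul_eq_mul_right (by positivity) h6
  · rw [hq, hi] at h
    have := pow_two_inj hk h
    omega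
  · rw [hq, hi] at h
    have := pow_two_inj hk h
    omega

/-- (T1), (T2) `|G_{ab}| = q - 1`. -/
theorem card_stab2_eq (hk : 2 ≤ k) (hi2 : i ≤ 2) :
    Nat.card ↥(stabilizer G a ⊓ stabilizer G (t • a)) = 2 ^ k - 1 := by
  have h1 := one_le_of_card hS hi
  rcases (show i = 1 ∨ i = 2 by omega) with h | h
  · exact type_one' hS h2 hq hi hk h
  · exact (type_two' hS h2 hq hi hk h).2.2.2

/-- (T1), (T2) `G_{ab}` is cyclic. -/
theorem isCyclic_of_le_two (hk : 2 ≤ k) (hi2 : i ≤ 2) :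
    IsCyclic ↥(stabilizer G a ⊓ stabilizer G (t • a)) := by
  refine isCyclic_stab2 hS h2 ?_
  rw [card_stab2_eq hS h2 hq hi hk hi2, ← hq, Nat.add_sub_cancel]

/-- (T1), (T2) `C_{G_{ab}}(t) = 1`. -/
theorem inf_centralizer_eq_bot_of_le_two (hk : 2 ≤ k) (hi2 : i ≤ 2) :
    (stabilizer G a ⊓ stabilizer G (t • a)) ⊓ centralizer ({t} : Set G) = ⊥ := by
  refine inf_centralizer_eq_bot hS ?_
  rw [card_stab2_eq hS h2 hq hi hk hi2, ← hq, Nat.add_sub_cancel]

/-- (T1), (T2) Only `1` fixes three points. -/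
theorem eq_one_of_le_two (hk : 2 ≤ k) (hi2 : i ≤ 2) {g : G} {b c d : Ω} (hbc : b ≠ c)
    (hbd : b ≠ d) (hcd : c ≠ d) (hb : g • b = b) (hc : g • c = c) (hd : g • d = d) : g = 1 :=
  eq_one_of_fix_three hS (inf_centralizer_eq_bot_of_le_two hS h2 hq hi hk hi2) hbc hbd hcd hb hc hd

end Types

end Cfsg.Agent.AschCrit.RankOneTypes
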