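import Mathlib
import Cfsg.Agent.AschCrit.IsolatedSwap
import Cfsg.Agent.AschCrit.NonIso
import Cfsg.Agent.S0058

/-!
# Aschbacher's criterion: noncyclic groups of bad involutions with the same fixed points

`W` is a noncyclic commutative 2-subgroup all of whose nontrivial elements have the fixed point set `F`
(`F` with at least two points). Then:

* `smul_mem_of_at` : the elements of `D_a`, `a ∈ F`, preserve `F`
* `at_le_setStab`, `setStab_ne_top` : `D_a ⊆ G_F`, `G_F < G`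
* `commute_of_pure` : if in `G_F` elements of `D` generating a 2-subgroup commute, then the same is true in `G`
-/

set_option autoImplicit false

open Subgroup

namespace Cfsg.Agent.AschCrit.RankT

open Cfsg.Agent.TwoFusion.StronglyEmbeddedBasic Cfsg.Agent.AschCrit.Basic
open Cfsg.Agent.AschCrit.Basic.Setup Cfsg.Agent.AschCrit.Closed Cfsg.Agent.AschCrit.IsolatedSwap
open Cfsg.Agent.AschCrit.NonIso

variable {G Ω : Type*} [Group G] [MulAction G Ω] {z : G}

/-- the set stabiliser of `F` -/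
def setStab (G : Type*) {Ω : Type*} [Group G] [MulAction G Ω] (F : Set Ω) : Subgroup G where
  carrier := {g | ∀ c : Ω, g • c ∈ F ↔ c ∈ F}
  one_mem' := fun c => by rw [one_smul]
  mul_mem' := by
    intro g k hg hk c
    rw [mul_smul, hg, hk]
  inv_mem' := by
    intro g hg c
    rw [← hg, smul_inv_smul]

theorem mem_setStab {F : Set Ω} {g : G} : g ∈ setStab G F ↔ ∀ c : Ω, g • c ∈ F ↔ c ∈ F := Iff.rfl

/-- whatever commutes with `w` preserves the fixed point set of `w` -/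
theorem mem_setStab_of_commute {F : Set Ω} {w g : G} (hw : ∀ c : Ω, w • c = c ↔ c ∈ F)
    (hg : Commute g w) : g ∈ setStab G F := by
  intro c
  rw [← hw, ← hw]
  constructor
  · intro h
    rw [← mul_smul, ← hg.eq, mul_smul] at h
    exact smul_left_cancel g h
  · intro h
    rw [← mul_smul, ← hg.eq, mul_smul, h]

/-- `O(G_{ab}) ≤ G_F` -/
theorem oc_le_setStab [Finite G] {F : Set Ω} (W : Subgroup G) (hWc : IsMulCommutative W)
    (hWn : ¬ IsCyclic W) (hW : IsPGroup 2 W) (hF : ∀ w ∈ W, w ≠ 1 → ∀ c : Ω, w • c = c ↔ c ∈ F)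
    {a b : Ω} (ha : a ∈ F) (hb : b ∈ F) : oc G a b ≤ setStab G F := by
  have hfix : ∀ c ∈ F, ∀ w ∈ W, w • c = c := by
    intro c hc w hw
    by_cases h1 : w = 1
    · rw [h1, one_smul]
    · exact (hF w hw h1 c).mpr hc
  have hn : W ≤ normalizer (oc G a b : Set G) := fun w hw =>
    mem_normalizer_oc (Or.inl ⟨hfix a ha w hw, hfix b hb w hw⟩)
  have hcop : (Nat.card W).Coprime (Nat.card (oc G a b)) := by
    obtain ⟨n, hn⟩ := IsPGroup.iff_card.mp hW
    rw [hn]
    exact Nat.Coprime.pow_left n (Nat.coprime_two_left.mpr (odd_oc a b))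
  have key := Cfsg.Agent.S0058.result W (oc G a b) hWn hn hcop
  rw [← key]
  refine iSup₂_le ?_
  rintro w ⟨hw, hw1⟩ x hx
  refine mem_setStab_of_commute (hF w hw hw1) ?_
  have := mem_centralizer_singleton_iff.mp hx.2
  exact this

/-- `D_a ⊆ G_F` for `a ∈ F` -/
theorem at_le_setStab [Finite G] (h : Setup G Ω z) {F : Set Ω} (W : Subgroup G)
    (hWc : IsMulCommutative W)
    (hWn : ¬ IsCyclic W) (hW : IsPGroup 2 W) (hF : ∀ w ∈ W, w ≠ 1 → ∀ c : Ω, w • c = c ↔ c ∈ F)
    {a b : Ω} (ha : a ∈ F) (hb : b ∈ F) (hab : a ≠ b) {d : G} (hd : d ∈ At z a) :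
    d ∈ setStab G F := by
  have hfix : ∀ c ∈ F, ∀ w ∈ W, w • c = c := by
    intro c hc w hw
    by_cases h1 : w = 1
    · rw [h1, one_smul]
    · exact (hF w hw h1 c).mpr hc
  obtain ⟨e, he, heW⟩ := h.exists_commute_of_fix W hW (hfix a ha)
  obtain ⟨w, hw, hw1⟩ : ∃ w ∈ W, w ≠ 1 := by
    by_contra hcon
    push Not at hcon
    apply hWn
    have : Subsingleton W := ⟨fun x y => Subtype.ext (by rw [hcon x x.2, hcon y y.2])⟩
    exact isCyclic_of_subsingleton
  have heF : e ∈ setStab G F := mem_setStab_of_commute (hF w hw hw1) (heW w hw)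
  obtain ⟨n, hn, -, hne⟩ := exists_centralizer_conj_at h hab (⊥ : Subgroup G)
    (IsPGroup.of_bot) (fun t ht => by rw [mem_bot.mp ht, one_smul])
    (fun t ht => by rw [mem_bot.mp ht, one_smul]) he hd
    (fun t ht => by rw [mem_bot.mp ht]; exact Commute.one_right e)
    (fun t ht => by rw [mem_bot.mp ht]; exact Commute.one_right d)
  rw [← hne]
  have hn' := oc_le_setStab W hWc hWn hW hF ha hb hn
  exact mul_mem (mul_mem hn' heF) (inv_mem hn')

/-- `G_F < G` -/
theorem setStab_ne_top (h : Setup G Ω z)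
    (hf : ∀ g : G, (∀ a : Ω, g • a = a) → g = 1) {F : Set Ω} {w : G} (hw1 : w ≠ 1)
    (hF : ∀ c : Ω, w • c = c ↔ c ∈ F) {a : Ω} (ha : a ∈ F) : setStab G F ≠ ⊤ := by
  intro htop
  apply hw1
  apply hf
  intro c
  obtain ⟨g, rfl⟩ := h.trans a c
  rw [hF]
  have : g ∈ setStab G F := by rw [htop]; trivial
  exact (this a).mpr ha

/-- Elements of `D` generating a 2-subgroup commute in `G` if they do so in `G_F`. -/
theorem commute_of_pure [Finite G] (h : Setup G Ω z) {F : Set Ω} (W : Subgroup G)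
    (hWc : IsMulCommutative W) (hWn : ¬ IsCyclic W) (hW : IsPGroup 2 W)
    (hF : ∀ w ∈ W, w ≠ 1 → ∀ c : Ω, w • c = c ↔ c ∈ F)
    {a b : Ω} (ha : a ∈ F) (hb : b ∈ F) (hab : a ≠ b)
    (hT : ∀ d ∈ setStab G F, ∀ e ∈ setStab G F, IsConj z d → IsConj z e →
      IsPGroup 2 (closure ({d, e} : Set G)) → Commute d e)
    {d e : G} (hd : IsConj z d) (he : IsConj z e) (hde : IsPGroup 2 (closure ({d, e} : Set G))) :
    Commute d e := by
  -- a common fixed point
  obtain ⟨c, hdc, hec⟩ : ∃ c : Ω, d • c = c ∧ e • c = c := by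
    have hfin := h.finite_points
    have hodd := h.odd_card_points
    have : Fact (Nat.Prime 2) := ⟨Nat.prime_two⟩
    have h2 : ¬ 2 ∣ Nat.card Ω := by
      rw [← even_iff_two_dvd, Nat.not_even_iff_odd]; exact hodd
    obtain ⟨c, hc⟩ := hde.nonempty_fixed_point_of_prime_not_dvd_card Ω h2
    exact ⟨c, hc ⟨d, subset_closure (by simp)⟩, hc ⟨e, subset_closure (by simp)⟩⟩
  obtain ⟨g, rfl⟩ := h.trans a c
  -- conjugate into `G_a`
  have hd' : g⁻¹ * d * g ∈ At z a := by
    have := conj_mem_At g⁻¹ (show d ∈ At z (g • a) from ⟨hd, hdc⟩)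
    rwa [inv_inv, inv_smul_smul] at this
  have he' : g⁻¹ * e * g ∈ At z a := by
    have := conj_mem_At g⁻¹ (show e ∈ At z (g • a) from ⟨he, hec⟩)
    rwa [inv_inv, inv_smul_smul] at this
  have hp : IsPGroup 2 (closure ({g⁻¹ * d * g, g⁻¹ * e * g} : Set G)) := by
    have h1 : closure ({g⁻¹ * d * g, g⁻¹ * e * g} : Set G) =
        (closure ({d, e} : Set G)).map (MulAut.conj g⁻¹).toMonoidHom := by
      rw [MonoidHom.map_closure]
      congr 1
      rw [Set.image_pair]
      simp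
    rw [h1]
    exact hde.map _
  have hcomm := hT _ (at_le_setStab h W hWc hWn hW hF ha hb hab hd') _
    (at_le_setStab h W hWc hWn hW hF ha hb hab he') hd'.1 he'.1 hp
  have h2 : Commute (g * (g⁻¹ * d * g) * g⁻¹) (g * (g⁻¹ * e * g) * g⁻¹) := by
    show g * (g⁻¹ * d * g) * g⁻¹ * (g * (g⁻¹ * e * g) * g⁻¹) =
      g * (g⁻¹ * e * g) * g⁻¹ * (g * (g⁻¹ * d * g) * g⁻¹)
    calc g * (g⁻¹ * d * g) * g⁻¹ * (g * (g⁻¹ * e * g) * g⁻¹)
        = g * ((g⁻¹ * d * g) * (g⁻¹ * e * g)) * g⁻¹ := by group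
      _ = g * ((g⁻¹ * e * g) * (g⁻¹ * d * g)) * g⁻¹ := by rw [hcomm.eq]
      _ = _ := by group
  have e1 : g * (g⁻¹ * d * g) * g⁻¹ = d := by group
  have e2 : g * (g⁻¹ * e * g) * g⁻¹ = e := by group
  rwa [e1, e2] at h2

end Cfsg.Agent.AschCrit.RankT
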